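import Mathlib
import Cfsg.Prelude.Def_Involutions
import Cfsg.Prelude.Def_TwoFusion
import Cfsg.Prelude.Def_CaseTheorems
import Cfsg.Prelude.Def_Transfer

/-! Basic facts on involutions and on the group generated by two involutions. -/

set_option autoImplicit false
set_option linter.unusedVariables false
set_option linter.unusedSectionVars false

namespace Cfsg.Agent.Inv

variable {G : Type*} [Group G]

theorem ord2_iff {t : G} : orderOf t = 2 ↔ t * t = 1 ∧ t ≠ 1 := by
  constructor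
  · intro h
    refine ⟨?_, ?_⟩
    · have := pow_orderOf_eq_one t
      rwa [h, pow_two] at this
    · rintro rfl
      simp at h
  · rintro ⟨h1, h2⟩
    exact orderOf_eq_prime (by rw [pow_two, h1]) h2

theorem sq_of_ord2 {t : G} (h : orderOf t = 2) : t * t = 1 := (ord2_iff.1 h).1

theorem ne_one_of_ord2 {t : G} (h : orderOf t = 2) : t ≠ 1 := (ord2_iff.1 h).2

theorem inv_of_ord2 {t : G} (h : orderOf t = 2) : t⁻¹ = t :=
  inv_eq_of_mul_eq_one_right (sq_of_ord2 h)

theorem mul_mul_of_ord2 {t : G} (h : orderOf t = 2) (g : G) : t * (t * g) = g := by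
  rw [← mul_assoc, sq_of_ord2 h, one_mul]

theorem orderOf_conj' (g x : G) : orderOf (g * x * g⁻¹) = orderOf x := by
  have := MulEquiv.orderOf_eq (MulAut.conj g) x
  simpa using this

theorem orderOf_conj'' (g x : G) : orderOf (g⁻¹ * x * g) = orderOf x := by
  simpa using orderOf_conj' g⁻¹ x

theorem orderOf_isConj {x y : G} (h : IsConj x y) : orderOf x = orderOf y := by
  obtain ⟨c, rfl⟩ := isConj_iff.1 h
  rw [orderOf_conj']

theorem isConj_conj (g x : G) : IsConj x (g * x * g⁻¹) := isConj_iff.2 ⟨g, rfl⟩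

theorem conj_zpow_inv {s a : G} (h : s * a * s⁻¹ = a⁻¹) (k : ℤ) :
    s * a ^ k * s⁻¹ = a ^ (-k) := by
  rw [← conj_zpow, h, inv_zpow, zpow_neg]

theorem conj_pow_inv {s a : G} (h : s * a * s⁻¹ = a⁻¹) (k : ℕ) :
    s * a ^ k * s⁻¹ = (a ^ k)⁻¹ := by
  rw [← conj_pow, h, inv_pow]

theorem mul_zpow_of_inverts {s a : G} (h : s * a * s⁻¹ = a⁻¹) (k : ℤ) :
    s * a ^ k = a ^ (-k) * s := by
  rw [← conj_zpow_inv h]; group

theorem zpow_mul_of_inverts {s a : G} (h : s * a * s⁻¹ = a⁻¹) (k : ℤ) :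
    a ^ k * s = s * a ^ (-k) := by
  rw [mul_zpow_of_inverts h, neg_neg]

theorem inverts_left {x y : G} (hx : x * x = 1) (hy : y * y = 1) :
    x * (x * y) * x⁻¹ = (x * y)⁻¹ := by
  rw [← mul_assoc, hx, one_mul, mul_inv_rev, inv_eq_of_mul_eq_one_right hy]

theorem inverts_right {x y : G} (hx : x * x = 1) (hy : y * y = 1) :
    y * (x * y) * y⁻¹ = (x * y)⁻¹ := by
  rw [mul_inv_rev, inv_eq_of_mul_eq_one_right hy, inv_eq_of_mul_eq_one_right hx]
  rw [mul_assoc, mul_assoc, hy, mul_one]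

/-- The union `A ∪ A s` as a subgroup, when `s` normalizes `A` and `s² ∈ A`. -/
def ext2 (A : Subgroup G) (s : G) (hn : ∀ a ∈ A, s * a * s⁻¹ ∈ A) (h2 : s * s ∈ A) :
    Subgroup G where
  carrier := {d | d ∈ A ∨ d * s⁻¹ ∈ A}
  one_mem' := Or.inl A.one_mem
  mul_mem' := by
    rintro a b (ha | ha) (hb | hb)
    · exact Or.inl (A.mul_mem ha hb)
    · right; rw [mul_assoc]; exact A.mul_mem ha hb
    · right
      have : a * b * s⁻¹ = (a * s⁻¹) * (s * b * s⁻¹) := by group
      rw [this]; exact A.mul_mem ha (hn _ hb)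
    · left
      have : a * b = (a * s⁻¹) * (s * (b * s⁻¹) * s⁻¹) * (s * s) := by group
      rw [this]; exact A.mul_mem (A.mul_mem ha (hn _ hb)) h2
  inv_mem' := by
    rintro a (ha | ha)
    · exact Or.inl (A.inv_mem ha)
    · right
      have : a⁻¹ * s⁻¹ = (s * s)⁻¹ * (s * (a * s⁻¹)⁻¹ * s⁻¹) := by group
      rw [this]; exact A.mul_mem (A.inv_mem h2) (hn _ (A.inv_mem ha))

theorem mem_ext2 {A : Subgroup G} {s : G} {hn : ∀ a ∈ A, s * a * s⁻¹ ∈ A} {h2 : s * s ∈ A}
    {d : G} : d ∈ ext2 A s hn h2 ↔ d ∈ A ∨ d * s⁻¹ ∈ A := Iff.rfl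

theorem ext2_eq_sup (A : Subgroup G) (s : G) (hn : ∀ a ∈ A, s * a * s⁻¹ ∈ A) (h2 : s * s ∈ A) :
    ext2 A s hn h2 = A ⊔ Subgroup.zpowers s := by
  apply le_antisymm
  · rintro d (hd | hd)
    · exact Subgroup.mem_sup_left hd
    · have : d = d * s⁻¹ * s := by group
      rw [this]
      exact Subgroup.mul_mem _ (Subgroup.mem_sup_left hd)
        (Subgroup.mem_sup_right (Subgroup.mem_zpowers s))
  · refine sup_le (fun d hd => Or.inl hd) ?_
    rw [Subgroup.zpowers_le]
    right; simp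

theorem mem_sup_zpowers_iff {A : Subgroup G} {s : G} (hn : ∀ a ∈ A, s * a * s⁻¹ ∈ A)
    (h2 : s * s ∈ A) {d : G} : d ∈ A ⊔ Subgroup.zpowers s ↔ d ∈ A ∨ d * s⁻¹ ∈ A := by
  rw [← ext2_eq_sup A s hn h2, mem_ext2]

theorem card_sup_zpowers [Finite G] {A : Subgroup G} {s : G} (hn : ∀ a ∈ A, s * a * s⁻¹ ∈ A)
    (h2 : s * s ∈ A) (hs : s ∉ A) : Nat.card ↥(A ⊔ Subgroup.zpowers s) = 2 * Nat.card A := by
  have hle : A ≤ A ⊔ Subgroup.zpowers s := le_sup_left
  have h : A.relIndex (A ⊔ Subgroup.zpowers s) = 2 := by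
    rw [Subgroup.relIndex, Subgroup.index_eq_two_iff]
    refine ⟨⟨s⁻¹, Subgroup.inv_mem _ (Subgroup.mem_sup_right (Subgroup.mem_zpowers s))⟩, ?_⟩
    rintro ⟨b, hb⟩
    simp only [Subgroup.mem_subgroupOf, Subgroup.coe_mul]
    rw [mem_sup_zpowers_iff hn h2] at hb
    rcases hb with hb | hb
    · refine Or.inr ⟨hb, fun h => hs ?_⟩
      have : s = (b * s⁻¹)⁻¹ * b := by group
      rw [this]; exact A.mul_mem (A.inv_mem h) hb
    · refine Or.inl ⟨hb, fun h => hs ?_⟩
      have : s = (b * s⁻¹)⁻¹ * b := by group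
      rw [this]; exact A.mul_mem (A.inv_mem hb) h
  have := Subgroup.card_mul_index (A.subgroupOf (A ⊔ Subgroup.zpowers s))
  rw [← Subgroup.relIndex, h, Nat.card_congr (Subgroup.subgroupOfEquivOfLe hle).toEquiv] at this
  omega

theorem mem_closure_pair_of_conj {a s : G} (hn : s * a * s⁻¹ ∈ Subgroup.zpowers a)
    (h2 : s * s ∈ Subgroup.zpowers a) {d : G} (hd : d ∈ Subgroup.closure ({a, s} : Set G)) :
    ∃ k : ℤ, d = a ^ k ∨ d = a ^ k * s := by
  have hn' : ∀ b ∈ Subgroup.zpowers a, s * b * s⁻¹ ∈ Subgroup.zpowers a := by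
    rintro _ ⟨k, rfl⟩
    simp only []
    rw [← conj_zpow]; exact Subgroup.zpow_mem _ hn k
  have : Subgroup.closure ({a, s} : Set G) ≤ ext2 (Subgroup.zpowers a) s hn' h2 := by
    rw [Subgroup.closure_le]
    rintro x (rfl | rfl)
    · exact Or.inl (Subgroup.mem_zpowers _)
    · right; simp
  rcases this hd with ⟨k, hk⟩ | ⟨k, hk⟩
  · exact ⟨k, Or.inl hk.symm⟩
  · refine ⟨k, Or.inr ?_⟩
    simp only [] at hk
    rw [hk]; group

theorem closure_pair_eq (x y : G) :
    Subgroup.closure ({x, y} : Set G) = Subgroup.closure ({x * y, x} : Set G) := by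
  apply le_antisymm
  · rw [Subgroup.closure_le]
    have h1 : x ∈ Subgroup.closure ({x * y, x} : Set G) := Subgroup.subset_closure (by simp)
    have h2 : x * y ∈ Subgroup.closure ({x * y, x} : Set G) := Subgroup.subset_closure (by simp)
    rintro z (rfl | rfl)
    · exact h1
    · have : z = x⁻¹ * (x * z) := by group
      rw [SetLike.mem_coe, this]
      exact Subgroup.mul_mem _ (Subgroup.inv_mem _ (by simpa using h1)) (by simpa using h2)
  · rw [Subgroup.closure_le]
    have h1 : x ∈ Subgroup.closure ({x, y} : Set G) := Subgroup.subset_closure (by simp)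
    have h2 : y ∈ Subgroup.closure ({x, y} : Set G) := Subgroup.subset_closure (by simp)
    rintro z (rfl | rfl)
    · exact Subgroup.mul_mem _ h1 h2
    · exact h1

theorem mem_closure_two_invol {x y : G} (hx : x * x = 1) (hy : y * y = 1) {d : G}
    (hd : d ∈ Subgroup.closure ({x, y} : Set G)) :
    ∃ k : ℤ, d = (x * y) ^ k ∨ d = (x * y) ^ k * x := by
  rw [closure_pair_eq] at hd
  refine mem_closure_pair_of_conj ?_ ?_ hd
  · rw [inverts_left hx hy]; exact Subgroup.inv_mem _ (Subgroup.mem_zpowers _)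
  · rw [hx]; exact Subgroup.one_mem _

theorem left_mem_closure_pair (x y : G) : x ∈ Subgroup.closure ({x, y} : Set G) :=
  Subgroup.subset_closure (by simp)

theorem right_mem_closure_pair (x y : G) : y ∈ Subgroup.closure ({x, y} : Set G) :=
  Subgroup.subset_closure (by simp)

/-- `a ^ i` for `i : ZMod n`. -/
def zpw (a : G) {n : ℕ} (i : ZMod n) : G := a ^ (i.cast : ℤ)

theorem zpw_intCast {a : G} {n : ℕ} (h : a ^ n = 1) (k : ℤ) : zpw a (k : ZMod n) = a ^ k := by
  unfold zpw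
  rw [ZMod.coe_intCast]
  conv_rhs => rw [← Int.emod_add_mul_ediv k n]
  rw [zpow_add, zpow_mul, zpow_natCast, h, one_zpow, mul_one]

theorem zpw_add {a : G} {n : ℕ} (h : a ^ n = 1) (i j : ZMod n) :
    zpw a (i + j) = zpw a i * zpw a j := by
  obtain ⟨i, rfl⟩ := ZMod.intCast_surjective i
  obtain ⟨j, rfl⟩ := ZMod.intCast_surjective j
  rw [← Int.cast_add, zpw_intCast h, zpw_intCast h, zpw_intCast h, zpow_add]

theorem zpw_eq_one {a : G} {n : ℕ} (h : orderOf a = n) (i : ZMod n) (hi : zpw a i = 1) : i = 0 := by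
  obtain ⟨i, rfl⟩ := ZMod.intCast_surjective i
  rw [zpw_intCast (h ▸ pow_orderOf_eq_one a), ← orderOf_dvd_iff_zpow_eq_one, h] at hi
  exact (ZMod.intCast_zmod_eq_zero_iff_dvd i n).2 hi

theorem zpw_mem (a : G) {n : ℕ} (i : ZMod n) : zpw a i ∈ Subgroup.zpowers a := ⟨_, rfl⟩

/-- The homomorphism out of the dihedral group given by elements satisfying its relations. -/
def dihedralHom {n : ℕ} (a s : G) (ha : a ^ n = 1) (hs : s * s = 1) (h : s * a * s⁻¹ = a⁻¹) :
    DihedralGroup n →* G :=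
  MonoidHom.mk' (fun x => match x with
    | .r i => zpw a i
    | .sr i => s * zpw a i) (by
      rintro (i | i) (j | j) <;>
      obtain ⟨i, rfl⟩ := ZMod.intCast_surjective i <;>
      obtain ⟨j, rfl⟩ := ZMod.intCast_surjective j <;>
      simp only [DihedralGroup.r_mul_r, DihedralGroup.r_mul_sr, DihedralGroup.sr_mul_r,
        DihedralGroup.sr_mul_sr, ← Int.cast_add, ← Int.cast_sub, zpw_intCast ha]
      · rw [zpow_add]
      · rw [← mul_assoc, zpow_mul_of_inverts h, mul_assoc, ← zpow_add]; congr 2; ring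
      · rw [mul_assoc, zpow_add]
      · rw [mul_assoc, ← mul_assoc (a ^ i), zpow_mul_of_inverts h, ← mul_assoc, ← mul_assoc, hs,
          one_mul, ← zpow_add]; congr 1; ring)

theorem dihedral_equiv {n : ℕ} {a s : G} (ha : orderOf a = n) (hs : s * s = 1)
    (h : s * a * s⁻¹ = a⁻¹) (hsa : s ∉ Subgroup.zpowers a) :
    Nonempty (↥(Subgroup.closure ({a, s} : Set G)) ≃* DihedralGroup n) := by
  have ha' : a ^ n = 1 := ha ▸ pow_orderOf_eq_one a
  let f := dihedralHom a s ha' hs h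
  have hinj : Function.Injective f := by
    rw [injective_iff_map_eq_one]
    rintro (i | i) hi
    · have : i = 0 := zpw_eq_one ha i hi
      rw [this]; rfl
    · exfalso
      apply hsa
      have hi' : s * zpw a i = 1 := hi
      rw [eq_inv_of_mul_eq_one_left hi']
      exact Subgroup.inv_mem _ (zpw_mem a i)
  have hr : f.range = Subgroup.closure ({a, s} : Set G) := by
    apply le_antisymm
    · rintro _ ⟨i | i, rfl⟩
      · exact Subgroup.zpow_mem _ (left_mem_closure_pair a s) _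
      · exact Subgroup.mul_mem _ (right_mem_closure_pair a s)
          (Subgroup.zpow_mem _ (left_mem_closure_pair a s) _)
    · rw [Subgroup.closure_le]
      rintro z (rfl | rfl)
      · refine ⟨.r ((1 : ℤ) : ZMod n), ?_⟩
        exact (zpw_intCast ha' 1).trans (zpow_one _)
      · refine ⟨.sr ((0 : ℤ) : ZMod n), ?_⟩
        show z * zpw a _ = z
        rw [zpw_intCast ha', zpow_zero, mul_one]
  exact ⟨((MonoidHom.ofInjective hinj).trans (MulEquiv.subgroupCongr hr)).symm⟩

/-- The homomorphism out of the generalized quaternion group given by elements satisfying its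
relations. -/
def quaternionHom {n : ℕ} (a s : G) (ha : a ^ (2 * n) = 1) (hs : s * s = a ^ n)
    (h : s * a * s⁻¹ = a⁻¹) : QuaternionGroup n →* G :=
  MonoidHom.mk' (fun x => match x with
    | .a i => zpw a i
    | .xa i => s * zpw a i) (by
      rintro (i | i) (j | j) <;>
      obtain ⟨i, rfl⟩ := ZMod.intCast_surjective i <;>
      obtain ⟨j, rfl⟩ := ZMod.intCast_surjective j <;>
      simp only [QuaternionGroup.a_mul_a, QuaternionGroup.a_mul_xa, QuaternionGroup.xa_mul_a,
        QuaternionGroup.xa_mul_xa, ← Int.cast_add, ← Int.cast_sub, zpw_intCast ha]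
      · rw [zpow_add]
      · rw [← mul_assoc, zpow_mul_of_inverts h, mul_assoc, ← zpow_add]; congr 2; ring
      · rw [mul_assoc, zpow_add]
      · have : ((n : ZMod (2 * n)) + (j : ZMod (2 * n)) - (i : ZMod (2 * n))) =
            (((n : ℤ) + j - i : ℤ) : ZMod (2 * n)) := by push_cast; ring
        rw [this, zpw_intCast ha]
        rw [mul_assoc, ← mul_assoc (a ^ i), zpow_mul_of_inverts h, ← mul_assoc, ← mul_assoc, hs,
          ← zpow_natCast, ← zpow_add, ← zpow_add]; congr 1; ring)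

theorem quaternion_equiv {n : ℕ} {a s : G} (ha : orderOf a = 2 * n) (hs : s * s = a ^ n)
    (h : s * a * s⁻¹ = a⁻¹) (hsa : s ∉ Subgroup.zpowers a) :
    Nonempty (↥(Subgroup.closure ({a, s} : Set G)) ≃* QuaternionGroup n) := by
  have ha' : a ^ (2 * n) = 1 := ha ▸ pow_orderOf_eq_one a
  let f := quaternionHom a s ha' hs h
  have hinj : Function.Injective f := by
    rw [injective_iff_map_eq_one]
    rintro (i | i) hi
    · have : i = 0 := zpw_eq_one ha i hi
      rw [this]; rfl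
    · exfalso
      apply hsa
      have hi' : s * zpw a i = 1 := hi
      rw [eq_inv_of_mul_eq_one_left hi']
      exact Subgroup.inv_mem _ (zpw_mem a i)
  have hr : f.range = Subgroup.closure ({a, s} : Set G) := by
    apply le_antisymm
    · rintro _ ⟨i | i, rfl⟩
      · exact Subgroup.zpow_mem _ (left_mem_closure_pair a s) _
      · exact Subgroup.mul_mem _ (right_mem_closure_pair a s)
          (Subgroup.zpow_mem _ (left_mem_closure_pair a s) _)
    · rw [Subgroup.closure_le]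
      rintro z (rfl | rfl)
      · refine ⟨.a ((1 : ℤ) : ZMod (2 * n)), ?_⟩
        exact (zpw_intCast ha' 1).trans (zpow_one _)
      · refine ⟨.xa ((0 : ℤ) : ZMod (2 * n)), ?_⟩
        show z * zpw a _ = z
        rw [zpw_intCast ha', zpow_zero, mul_one]
  exact ⟨((MonoidHom.ofInjective hinj).trans (MulEquiv.subgroupCongr hr)).symm⟩

/-- An involution `x` is not a power of `x * y` for a different involution `y`. -/
theorem not_mem_zpowers_mul {x y : G} (hx : orderOf x = 2) (hy : orderOf y = 2) (hxy : x ≠ y) :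
    x ∉ Subgroup.zpowers (x * y) := by
  rintro ⟨k, hk⟩
  simp only [] at hk
  have hx2 := sq_of_ord2 hx
  have hy2 := sq_of_ord2 hy
  have hc : Commute x (x * y) := by
    have : Commute ((x * y) ^ k) (x * y) := Commute.zpow_self _ _
    rwa [hk] at this
  have h1 := inverts_left hx2 hy2
  have h2 : (x * y) * (x * y) = 1 := by
    have : x * (x * y) * x⁻¹ = x * y := by rw [hc.eq]; group
    rw [this] at h1
    exact mul_eq_one_iff_eq_inv.2 h1
  have h3 : x * y ≠ 1 := by
    intro h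
    apply hxy
    rw [← inv_of_ord2 hy]; exact eq_inv_of_mul_eq_one_left h
  have h4 : orderOf (x * y) = 2 := ord2_iff.2 ⟨h2, h3⟩
  rcases Int.emod_two_eq_zero_or_one k with h | h
  · have : (x * y) ^ k = 1 := by
      rw [← orderOf_dvd_iff_zpow_eq_one, h4]; exact Int.dvd_of_emod_eq_zero h
    exact ne_one_of_ord2 hx (hk ▸ this)
  · have : (x * y) ^ k = x * y := by
      rw [← zpow_mod_orderOf, h4]; simp [h]
    rw [this] at hk
    exact ne_one_of_ord2 hy (by simpa using hk)

theorem s0206 {G : Type*} [Group G] [Finite G] (x y : G) (hx : orderOf x = 2) (hy : orderOf y = 2) (hxy : x ≠ y) : Nonempty (↥(Subgroup.closure ({x, y} : Set G)) ≃* DihedralGroup (orderOf (x * y))) := by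
  rw [closure_pair_eq]
  exact dihedral_equiv rfl (sq_of_ord2 hx) (inverts_left (sq_of_ord2 hx) (sq_of_ord2 hy))
    (not_mem_zpowers_mul hx hy hxy)

theorem s0207 {G : Type*} [Group G] [Finite G] (x y : G) (hx : orderOf x = 2) (hy : orderOf y = 2) (hxy : x ≠ y) (d : G) (hd : d ∈ Subgroup.closure ({x, y} : Set G)) (hd' : d ∉ Subgroup.zpowers (x * y)) : orderOf d = 2 := by
  obtain ⟨k, rfl | rfl⟩ := mem_closure_two_invol (sq_of_ord2 hx) (sq_of_ord2 hy) hd
  · exact absurd ⟨k, rfl⟩ hd'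
  · refine ord2_iff.2 ⟨?_, fun h => hd' (h ▸ Subgroup.one_mem _)⟩
    have h := inverts_left (sq_of_ord2 hx) (sq_of_ord2 hy)
    rw [mul_assoc, ← mul_assoc x, mul_zpow_of_inverts h, mul_assoc, sq_of_ord2 hx]
    group

theorem conj_by_zpow {x y : G} (hx : x * x = 1) (hy : y * y = 1) (k : ℤ) :
    (x * y) ^ k * x * ((x * y) ^ k)⁻¹ = (x * y) ^ (2 * k) * x := by
  have h := inverts_left hx hy
  rw [mul_assoc, ← zpow_neg, mul_zpow_of_inverts h, neg_neg, ← mul_assoc, ← zpow_add, two_mul]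

theorem conj_by_zpow_mul {x y : G} (hx : x * x = 1) (hy : y * y = 1) (k : ℤ) :
    ((x * y) ^ k * x) * x * ((x * y) ^ k * x)⁻¹ = (x * y) ^ (2 * k) * x := by
  rw [← conj_by_zpow hx hy]; group

theorem right_eq_zpow_mul {x y : G} (hx : x * x = 1) (hy : y * y = 1) :
    y = (x * y) ^ (-1 : ℤ) * x := by
  rw [zpow_neg, zpow_one, mul_inv_rev, inv_eq_of_mul_eq_one_right hy, mul_assoc, inv_mul_cancel,
    mul_one]

theorem exists_zpow_conj_of_odd {x y : G} (hx : x * x = 1) (hy : y * y = 1)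
    (hodd : Odd (orderOf (x * y))) : ∃ k : ℤ, (x * y) ^ k * x * ((x * y) ^ k)⁻¹ = y := by
  obtain ⟨m, hm⟩ := hodd
  refine ⟨m, ?_⟩
  rw [conj_by_zpow hx hy]
  conv_rhs => rw [right_eq_zpow_mul hx hy]
  congr 1
  rw [zpow_eq_zpow_iff_modEq, hm]
  refine Int.modEq_iff_dvd.2 ⟨-1, by push_cast; ring⟩

theorem isConj_of_odd {x y : G} (hx : x * x = 1) (hy : y * y = 1)
    (hodd : Odd (orderOf (x * y))) : IsConj x y := by
  obtain ⟨k, hk⟩ := exists_zpow_conj_of_odd hx hy hodd
  exact isConj_iff.2 ⟨_, hk⟩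

theorem s0208 {G : Type*} [Group G] [Finite G] (x y : G) (hx : orderOf x = 2) (hy : orderOf y = 2) (hodd : Odd (orderOf (x * y))) : ∃ d ∈ Subgroup.closure ({x, y} : Set G), d * x * d⁻¹ = y := by
  obtain ⟨k, hk⟩ := exists_zpow_conj_of_odd (sq_of_ord2 hx) (sq_of_ord2 hy) hodd
  exact ⟨_, Subgroup.zpow_mem _
    (Subgroup.mul_mem _ (left_mem_closure_pair x y) (right_mem_closure_pair x y)) k, hk⟩

theorem orderOf_pow_half [Finite G] {a : G} (h : Even (orderOf a)) :
    orderOf (a ^ (orderOf a / 2)) = 2 := by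
  obtain ⟨m, hm⟩ := h
  have hpos : 0 < orderOf a := orderOf_pos a
  have hm2 : orderOf a / 2 = m := by omega
  rw [orderOf_pow, hm2, hm, ← two_mul, Nat.gcd_mul_left_left]
  exact Nat.mul_div_cancel _ (by omega)

theorem commute_of_inverts {s b : G} (h : s * b * s⁻¹ = b⁻¹) (hb : b * b = 1) : Commute b s := by
  rw [inv_eq_of_mul_eq_one_right hb] at h
  show b * s = s * b
  conv_lhs => rw [← h]
  group

theorem s0209 {G : Type*} [Group G] [Finite G] (x y : G) (hx : orderOf x = 2) (hy : orderOf y = 2) (heven : Even (orderOf (x * y))) : orderOf ((x * y) ^ (orderOf (x * y) / 2)) = 2 ∧ Commute ((x * y) ^ (orderOf (x * y) / 2)) x ∧ Commute ((x * y) ^ (orderOf (x * y) / 2)) y := by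
  have h := orderOf_pow_half heven
  refine ⟨h, ?_, ?_⟩
  · exact commute_of_inverts (conj_pow_inv (inverts_left (sq_of_ord2 hx) (sq_of_ord2 hy)) _)
      (sq_of_ord2 h)
  · exact commute_of_inverts (conj_pow_inv (inverts_right (sq_of_ord2 hx) (sq_of_ord2 hy)) _)
      (sq_of_ord2 h)

theorem conj_left_in_closure {x y : G} (hx : x * x = 1) (hy : y * y = 1) {d : G}
    (hd : d ∈ Subgroup.closure ({x, y} : Set G)) :
    ∃ k : ℤ, d * x * d⁻¹ = (x * y) ^ (2 * k) * x := by
  obtain ⟨k, rfl | rfl⟩ := mem_closure_two_invol hx hy hd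
  · exact ⟨k, conj_by_zpow hx hy k⟩
  · exact ⟨k, conj_by_zpow_mul hx hy k⟩

theorem s0210 {G : Type*} [Group G] [Finite G] (x y : G) (hx : orderOf x = 2) (hy : orderOf y = 2) (heven : Even (orderOf (x * y))) (d : G) (hd : d ∈ Subgroup.closure ({x, y} : Set G)) : d * x * d⁻¹ ≠ y := by
  obtain ⟨k, hk⟩ := conj_left_in_closure (sq_of_ord2 hx) (sq_of_ord2 hy) hd
  rw [hk]
  intro h
  conv_rhs at h => rw [right_eq_zpow_mul (sq_of_ord2 hx) (sq_of_ord2 hy)]
  have h' := mul_right_cancel h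
  rw [zpow_eq_zpow_iff_modEq] at h'
  obtain ⟨m, hm⟩ := heven
  obtain ⟨c, hc⟩ := Int.modEq_iff_dvd.1 h'
  rw [hm] at hc
  push_cast at hc
  have : (m + m : ℤ) * c = 2 * (m * c) := by ring
  omega

theorem s0211 {G : Type*} [Group G] [Finite G] (x y : G) (hx : orderOf x = 2) (hy : orderOf y = 2) (heven : Even (orderOf (x * y))) : (∃ d ∈ Subgroup.closure ({x, y} : Set G), d * x * d⁻¹ = x * (x * y) ^ (orderOf (x * y) / 2)) ↔ 4 ∣ orderOf (x * y) := by
  have hc := (s0209 x y hx hy heven).2.1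
  rw [← hc.eq]
  obtain ⟨m, hm⟩ := heven
  have hm2 : orderOf (x * y) / 2 = m := by omega
  rw [hm2]
  constructor
  · rintro ⟨d, hd, h⟩
    obtain ⟨k, hk⟩ := conj_left_in_closure (sq_of_ord2 hx) (sq_of_ord2 hy) hd
    rw [hk] at h
    have h' := mul_right_cancel h
    rw [← zpow_natCast, zpow_eq_zpow_iff_modEq] at h'
    obtain ⟨c, hc⟩ := Int.modEq_iff_dvd.1 h'
    rw [hm] at hc ⊢
    push_cast at hc
    have : (m + m : ℤ) * c = 2 * (m * c) := by ring
    omega
  · rintro ⟨c, hc⟩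
    refine ⟨(x * y) ^ (c : ℤ), Subgroup.zpow_mem _
      (Subgroup.mul_mem _ (left_mem_closure_pair x y) (right_mem_closure_pair x y)) _, ?_⟩
    rw [conj_by_zpow (sq_of_ord2 hx) (sq_of_ord2 hy), ← zpow_natCast]
    congr 2
    omega

end Cfsg.Agent.Inv
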