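import Cfsg.Agent.Inv.Count
import Cfsg.Agent.PLoc.Cores

/-! Isolated involutions, and transfer with controlled fusion. -/

set_option autoImplicit false
set_option linter.unusedVariables false
set_option linter.unusedSectionVars false

namespace Cfsg.Agent.Inv

open Finset Cfsg.Agent.PLoc

variable {G : Type*} [Group G]

theorem isPGroup_closure_pair_of_commute {p : ℕ} {x y : G} (hx : ∃ k, x ^ p ^ k = 1)
    (hy : ∃ k, y ^ p ^ k = 1) (h : Commute x y) :
    IsPGroup p (Subgroup.closure ({x, y} : Set G)) := by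
  obtain ⟨k, hk⟩ := hx
  obtain ⟨l, hl⟩ := hy
  have : Subgroup.closure ({x, y} : Set G) = Subgroup.zpowers x ⊔ Subgroup.zpowers y := by
    rw [Subgroup.zpowers_eq_closure, Subgroup.zpowers_eq_closure, ← Subgroup.closure_union]; rfl
  rw [this]
  refine IsPGroup.to_sup_of_normal_right' (isPGroup_zpowers hk) (isPGroup_zpowers hl) ?_
  refine le_trans ?_ (Subgroup.centralizer_le_normalizer _)
  rw [centralizer_zpowers, Subgroup.zpowers_le, Subgroup.mem_centralizer_singleton_iff]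
  exact h

theorem pow_two_pow_one_of_ord2 {t : G} (h : orderOf t = 2) : t ^ 2 ^ 1 = 1 := by
  rw [pow_one, pow_two, sq_of_ord2 h]

theorem exists_conj_le_sylow [Finite G] {p : ℕ} [Fact p.Prime] (P : Sylow p G) {Q : Subgroup G}
    (hQ : IsPGroup p Q) : ∃ g : G, ∀ x ∈ Q, g * x * g⁻¹ ∈ P := by
  obtain ⟨g, -, hg⟩ := (isSylowOf_top P).exists_cj_le hQ le_top
  exact ⟨g, fun x hx => cj_le_iff'.1 hg x hx⟩

theorem exists_conj_mem_sylow [Finite G] {p : ℕ} [Fact p.Prime] (P : Sylow p G) {x : G} {k : ℕ}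
    (hx : x ^ p ^ k = 1) : ∃ g : G, g * x * g⁻¹ ∈ P := by
  obtain ⟨g, hg⟩ := exists_conj_le_sylow P (isPGroup_zpowers hx)
  exact ⟨g, hg x (Subgroup.mem_zpowers x)⟩

theorem exists_conj_mem_sylow_of_commute [Finite G] {p : ℕ} [Fact p.Prime] (P : Sylow p G)
    {x y : G} (hx : ∃ k, x ^ p ^ k = 1) (hy : ∃ k, y ^ p ^ k = 1) (h : Commute x y) :
    ∃ g : G, g * x * g⁻¹ ∈ P ∧ g * y * g⁻¹ ∈ P := by
  obtain ⟨g, hg⟩ := exists_conj_le_sylow P (isPGroup_closure_pair_of_commute hx hy h)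
  exact ⟨g, hg x (left_mem_closure_pair x y), hg y (right_mem_closure_pair x y)⟩

theorem isConj_mul_pow {x y : G} (hx : x * x = 1) (hy : y * y = 1) (m : ℕ) :
    (Even m → IsConj x (x * (x * y) ^ m)) ∧ (Odd m → IsConj y (x * (x * y) ^ m)) := by
  have h := inverts_left hx hy
  constructor
  · rintro ⟨j, rfl⟩
    refine isConj_iff.2 ⟨(x * y) ^ (-j : ℤ), ?_⟩
    rw [zpow_mul_of_inverts h, ← zpow_neg, neg_neg, mul_assoc, ← zpow_add, ← zpow_natCast]
    push_cast; rfl
  · rintro ⟨j, rfl⟩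
    refine isConj_iff.2 ⟨(x * y) ^ (-j : ℤ), ?_⟩
    have : y = x * (x * y) ^ (1 : ℤ) := by rw [zpow_one, ← mul_assoc, hx, one_mul]
    conv_lhs => arg 1; arg 2; rw [this]
    rw [← mul_assoc, zpow_mul_of_inverts h, ← zpow_neg, neg_neg, mul_assoc, mul_assoc,
      ← zpow_add, ← zpow_add, ← zpow_natCast]
    congr 2; push_cast; ring

theorem isolated_eq {z u : G} (hz : IsIsolatedInvolution z) (h : IsConj z u) (hc : Commute z u) :
    u = z := by
  obtain ⟨g, rfl⟩ := isConj_iff.1 h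
  exact hz.2 g hc

theorem isolated_of_isConj {z u : G} (hz : IsIsolatedInvolution z) (h : IsConj z u) :
    IsIsolatedInvolution u := by
  obtain ⟨c, rfl⟩ := isConj_iff.1 h
  refine ⟨by rw [orderOf_conj', hz.1], fun g hg => ?_⟩
  have h1 : Commute z ((c⁻¹ * g * c) * z * (c⁻¹ * g * c)⁻¹) := by
    have := hg.map (MulAut.conj c⁻¹)
    simpa [mul_assoc] using this
  have h2 := hz.2 _ h1
  calc g * (c * z * c⁻¹) * g⁻¹ = c * ((c⁻¹ * g * c) * z * (c⁻¹ * g * c)⁻¹) * c⁻¹ := by group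
    _ = _ := by rw [h2]

theorem isolated_odd_mul [Finite G] {z u : G} (hz : IsIsolatedInvolution z) (h : IsConj z u) :
    Odd (orderOf (z * u)) := by
  rw [← Nat.not_even_iff_odd]
  intro he
  have hu : orderOf u = 2 := orderOf_isConj h ▸ hz.1
  obtain ⟨h1, h2, -⟩ := s0209 z u hz.1 hu he
  have h3 : IsConj z (z * (z * u) ^ (orderOf (z * u) / 2)) := by
    rcases Nat.even_or_odd (orderOf (z * u) / 2) with h' | h'
    · exact (isConj_mul_pow (sq_of_ord2 hz.1) (sq_of_ord2 hu) _).1 h'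
    · exact h.trans ((isConj_mul_pow (sq_of_ord2 hz.1) (sq_of_ord2 hu) _).2 h')
  have := isolated_eq hz h3 ((Commute.refl z).mul_right h2.symm)
  exact ne_one_of_ord2 h1 (by simpa using this)

theorem isolated_odd_mul' [Finite G] {z u v : G} (hz : IsIsolatedInvolution z) (hu : IsConj z u)
    (hv : IsConj z v) : Odd (orderOf (u * v)) :=
  isolated_odd_mul (isolated_of_isConj hz hu) (hu.symm.trans hv)

theorem isolated_exists_zpow_conj [Finite G] {z u : G} (hz : IsIsolatedInvolution z)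
    (h : IsConj z u) : ∃ k : ℤ, (z * u) ^ k * z * ((z * u) ^ k)⁻¹ = u :=
  exists_zpow_conj_of_odd (sq_of_ord2 hz.1) (sq_of_ord2 (orderOf_isConj h ▸ hz.1))
    (isolated_odd_mul hz h)

theorem isolated_of_sylow [Finite G] (P : Sylow 2 G) {u : G} (hu : orderOf u = 2)
    (hiso : ∀ g : G, g * u * g⁻¹ ∈ P → g * u * g⁻¹ = u) : IsIsolatedInvolution u := by
  refine ⟨hu, fun g hg => ?_⟩
  obtain ⟨h, h1, h2⟩ := exists_conj_mem_sylow_of_commute P ⟨1, pow_two_pow_one_of_ord2 hu⟩
    ⟨1, pow_two_pow_one_of_ord2 ((orderOf_conj' g u).trans hu)⟩ hg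
  have h3 := hiso h h1
  have h4 := hiso (h * g) (by simpa [mul_assoc] using h2)
  have : h * (g * u * g⁻¹) * h⁻¹ = h * u * h⁻¹ := by
    rw [h3]; refine Eq.trans ?_ h4; group
  simpa using this

theorem isolated_eq_of_mem_pgroup [Finite G] {z u : G} (hz : IsIsolatedInvolution z)
    (h : IsConj z u) {P : Subgroup G} (hP : IsPGroup 2 P) (hzP : z ∈ P) (huP : u ∈ P) : u = z := by
  have h1 := eq_one_of_isPGroup_of_coprime hP (P.mul_mem hzP huP)
    (Nat.coprime_two_right.2 (isolated_odd_mul hz h))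
  rw [← inv_of_ord2 hz.1]
  exact eq_inv_of_mul_eq_one_right h1

theorem isolated_mod_four [Finite G] {t s : G} (ht : IsIsolatedInvolution t) (hs : orderOf s = 2)
    (hns : ¬ IsConj s t) : orderOf (s * t) % 4 = 2 := by
  have he : Even (orderOf (t * s)) := by
    by_contra h
    rw [Nat.not_even_iff_odd] at h
    exact hns (isConj_of_odd (sq_of_ord2 ht.1) (sq_of_ord2 hs) h).symm
  have hst : orderOf (s * t) = orderOf (t * s) := by
    rw [← orderOf_inv, mul_inv_rev, inv_of_ord2 hs, inv_of_ord2 ht.1]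
  obtain ⟨h1, h2, -⟩ := s0209 t s ht.1 hs he
  have h4 : ¬ Even (orderOf (t * s) / 2) := by
    intro h'
    have h3 := (isConj_mul_pow (sq_of_ord2 ht.1) (sq_of_ord2 hs) _).1 h'
    have := isolated_eq ht h3 ((Commute.refl t).mul_right h2.symm)
    exact ne_one_of_ord2 h1 (by simpa using this)
  rw [Nat.even_iff] at he h4
  omega

theorem s0216 {G : Type*} [Group G] [Finite G] (P : Sylow 2 G) (u : G) (hu : orderOf u = 2) (huP : u ∈ P) : (∀ g : G, g * u * g⁻¹ ∈ P → g * u * g⁻¹ = u) ↔ (∀ g : G, Odd (orderOf (u * g * u⁻¹ * g⁻¹))) := by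
  constructor
  · intro h g
    have := isolated_odd_mul (isolated_of_sylow P hu h) (isConj_conj g u)
    rw [inv_of_ord2 hu]
    simpa [mul_assoc] using this
  · intro h g hg
    have h1 : u * g * u⁻¹ * g⁻¹ = u * (g * u * g⁻¹)⁻¹ := by group
    have h2 := eq_one_of_isPGroup_of_coprime P.2 (x := u * g * u⁻¹ * g⁻¹)
      (by rw [h1]; exact (P : Subgroup G).mul_mem huP ((P : Subgroup G).inv_mem hg))
      (Nat.coprime_two_right.2 (h g))
    rw [h1] at h2
    exact (mul_inv_eq_one.1 h2).symm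

theorem s0229 {G : Type*} [Group G] [Finite G] (S : Sylow 2 G) (t : G) (ht : orderOf t = 2) (htS : t ∈ S) (hiso : ∀ g : G, g * t * g⁻¹ ∈ S → g * t * g⁻¹ = t) (s : G) (hs : orderOf s = 2) (hns : ¬ IsConj s t) : orderOf (s * t) % 4 = 2 :=
  isolated_mod_four (isolated_of_sylow S ht hiso) hs hns

theorem s1180 {G : Type*} [Group G] [Finite G] (z : G) (hz : Cfsg.IsIsolatedInvolution z) (H : Subgroup G) (hzH : z ∈ H) (g : G) (hg : g * z * g⁻¹ ∈ H) : ∃ h ∈ H, h * z * h⁻¹ = g * z * g⁻¹ := by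
  obtain ⟨k, hk⟩ := isolated_exists_zpow_conj hz (isConj_conj g z)
  exact ⟨_, H.zpow_mem (H.mul_mem hzH hg) k, hk⟩

theorem s1181 {G : Type*} [Group G] [Finite G] (z : G) (hz : Cfsg.IsIsolatedInvolution z) (N : Subgroup G) [N.Normal] (hzN : z ∉ N) : Subgroup.centralizer ({(QuotientGroup.mk z : G ⧸ N)} : Set (G ⧸ N)) = (Subgroup.centralizer ({z} : Set G)).map (QuotientGroup.mk' N) ∧ Cfsg.IsIsolatedInvolution (QuotientGroup.mk z : G ⧸ N) := by
  have hz2 : (QuotientGroup.mk z : G ⧸ N) * QuotientGroup.mk z = 1 := by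
    rw [← QuotientGroup.mk_mul, sq_of_ord2 hz.1, QuotientGroup.mk_one]
  refine ⟨le_antisymm ?_ ?_, ord2_iff.2 ⟨hz2, ?_⟩, ?_⟩
  · intro x hx
    obtain ⟨g, rfl⟩ := QuotientGroup.mk_surjective x
    rw [Subgroup.mem_centralizer_singleton_iff] at hx
    obtain ⟨k, hk⟩ := isolated_exists_zpow_conj hz (isConj_conj g z)
    have h1 : (QuotientGroup.mk (z * (g * z * g⁻¹)) : G ⧸ N) = 1 := by
      simp only [QuotientGroup.mk_mul, QuotientGroup.mk_inv]
      rw [hx, mul_inv_cancel_right, hz2]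
    refine ⟨((z * (g * z * g⁻¹)) ^ k)⁻¹ * g, ?_, ?_⟩
    · rw [SetLike.mem_coe, Subgroup.mem_centralizer_singleton_iff]
      generalize (z * (g * z * g⁻¹)) ^ k = c at hk
      calc c⁻¹ * g * z = c⁻¹ * (g * z * g⁻¹) * g := by group
        _ = _ := by rw [← hk]; group
    · rw [QuotientGroup.mk'_apply, QuotientGroup.mk_mul, QuotientGroup.mk_inv,
        QuotientGroup.mk_zpow, h1]
      simp
  · rintro _ ⟨c, hc, rfl⟩
    rw [SetLike.mem_coe, Subgroup.mem_centralizer_singleton_iff] at hc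
    rw [Subgroup.mem_centralizer_singleton_iff, QuotientGroup.mk'_apply, ← QuotientGroup.mk_mul,
      hc, QuotientGroup.mk_mul]
  · intro h
    exact hzN ((QuotientGroup.eq_one_iff z).1 h)
  · intro x hx
    obtain ⟨g, rfl⟩ := QuotientGroup.mk_surjective x
    have h1 : Odd (orderOf (QuotientGroup.mk' N (z * (g * z * g⁻¹)))) :=
      Odd.of_dvd_nat (isolated_odd_mul hz (isConj_conj g z)) (orderOf_map_dvd _ _)
    simp only [map_mul, map_inv, QuotientGroup.mk'_apply] at h1
    have h2 := eq_one_of_odd_of_sq h1 (by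
      rw [← pow_two, hx.mul_pow, conj_pow, pow_two, hz2]; simp)
    rw [← inv_eq_of_mul_eq_one_right hz2] 
    conv_lhs => rw [inv_eq_of_mul_eq_one_right hz2]
    exact eq_inv_of_mul_eq_one_right h2

theorem s1182 {G : Type*} [Group G] [Finite G] (z : G) (hz : Cfsg.IsIsolatedInvolution z) (H : Subgroup G) (hzH : z ∈ Subgroup.normalizer (H : Set G)) (x y : G) (hx : x ∈ H) (hy : y ∈ H) (hxz : Commute x z) (hyz : Commute y z) (h : G) (hh : h ∈ H) (hconj : h * x * h⁻¹ = y) : ∃ c ∈ H, Commute c z ∧ c * x * c⁻¹ = y := by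
  obtain ⟨k, hk⟩ := isolated_exists_zpow_conj hz (isConj_conj h z)
  have h1 : z * (h * z * h⁻¹) ∈ H := by
    have : z * (h * z * h⁻¹) = (z * h * z⁻¹) * h⁻¹ := by rw [inv_of_ord2 hz.1]; group
    rw [this]
    exact H.mul_mem (conj_mem_of_mem_normalizer hzH hh) (H.inv_mem hh)
  have h2 : Commute y ((z * (h * z * h⁻¹)) ^ k) := by
    apply Commute.zpow_right
    apply hyz.mul_right
    rw [← hconj]
    simpa using hxz.map (MulAut.conj h)
  have h3 := H.zpow_mem h1 k
  generalize (z * (h * z * h⁻¹)) ^ k = c at hk h2 h3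
  refine ⟨c⁻¹ * h, H.mul_mem (H.inv_mem h3) hh, ?_, ?_⟩
  · show c⁻¹ * h * z = z * (c⁻¹ * h)
    calc c⁻¹ * h * z = c⁻¹ * (h * z * h⁻¹) * h := by group
      _ = _ := by rw [← hk]; group
  · calc c⁻¹ * h * x * (c⁻¹ * h)⁻¹ = c⁻¹ * ((h * x * h⁻¹) * c) := by group
      _ = _ := by rw [hconj, h2.eq]; group

theorem isolated_not_commute_mul [Finite G] {z u v : G} (hz : IsIsolatedInvolution z)
    (hu : IsConj z u) (hv : IsConj z v) (hc : Commute (u * v) z) : u = v := by
  have hu2 : orderOf u = 2 := orderOf_isConj hu ▸ hz.1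
  have hv2 : orderOf v = 2 := orderOf_isConj hv ▸ hz.1
  have h1 := inverts_left (sq_of_ord2 hu2) (sq_of_ord2 hv2)
  have h2 : (z * u) * (u * v) * (z * u)⁻¹ = (u * v)⁻¹ := by
    calc (z * u) * (u * v) * (z * u)⁻¹ = z * (u * (u * v) * u⁻¹) * z⁻¹ := by group
      _ = _ := by rw [h1, ← hc.inv_left.eq]; group
  have h3 := conj_pow_of_inverts h2 (isolated_odd_mul hz hu)
  rw [pow_orderOf_eq_one] at h3
  have h4 := eq_one_of_odd_of_sq (isolated_odd_mul' hz hu hv)
    (mul_eq_one_iff_eq_inv.2 (by simpa using h3))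
  rw [← inv_of_ord2 hv2]
  exact eq_inv_of_mul_eq_one_left h4

theorem s1184 {G : Type*} [Group G] [Finite G] (z : G) (hz : Cfsg.IsIsolatedInvolution z) (g h : G) (hne : g * z * g⁻¹ ≠ h * z * h⁻¹) : ¬ Commute (g * z * g⁻¹ * (h * z * h⁻¹)) z :=
  fun hc => hne (isolated_not_commute_mul hz (isConj_conj g z) (isConj_conj h z) hc)

theorem eq_pow_sq_of_odd {k : G} (hk : Odd (orderOf k)) :
    k = (k * k) ^ ((orderOf (k * k) + 1) / 2) := by
  have h1 : orderOf (k * k) = orderOf k := by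
    rw [← pow_two]
    exact Nat.Coprime.orderOf_pow (Nat.coprime_two_right.2 hk)
  obtain ⟨m, hm⟩ := hk
  rw [h1, hm, show (2 * m + 1 + 1) / 2 = m + 1 by omega, ← pow_two, ← pow_mul,
    show 2 * (m + 1) = (2 * m + 1) + 1 by ring, ← hm, pow_succ, pow_orderOf_eq_one, one_mul]

theorem eq_of_sq_eq_of_odd {k l : G} (hk : Odd (orderOf k)) (hl : Odd (orderOf l))
    (h : k * k = l * l) : k = l := by
  rw [eq_pow_sq_of_odd hk, h, ← eq_pow_sq_of_odd hl]

theorem conj_eq_sq_mul_of_inverts {z k : G} (h : z * k * z⁻¹ = k⁻¹) :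
    k * z * k⁻¹ = k * k * z := by
  have : z * k⁻¹ * z⁻¹ = k := by
    calc z * k⁻¹ * z⁻¹ = (z * k * z⁻¹)⁻¹ := by group
      _ = k := by rw [h, inv_inv]
  calc k * z * k⁻¹ = k * (z * k⁻¹ * z⁻¹) * z := by group
    _ = _ := by rw [this]

theorem s1185 {G : Type*} [Group G] [Finite G] (z : G) (hz : Cfsg.IsIsolatedInvolution z) (g : G) : ∃! k : G, (Odd (orderOf k) ∧ z * k * z⁻¹ = k⁻¹) ∧ g⁻¹ * k ∈ Subgroup.centralizer ({z} : Set G) := by
  have key : ∀ k : G, g⁻¹ * k ∈ Subgroup.centralizer ({z} : Set G) ↔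
      k * z * k⁻¹ = g * z * g⁻¹ := by
    intro k
    rw [Subgroup.mem_centralizer_singleton_iff]
    constructor
    · intro h
      calc k * z * k⁻¹ = g * (g⁻¹ * k * z) * k⁻¹ := by group
        _ = _ := by rw [h]; group
    · intro h
      calc g⁻¹ * k * z = g⁻¹ * (k * z * k⁻¹) * k := by group
        _ = _ := by rw [h]; group
  simp only [key]
  obtain ⟨k, hk⟩ := isolated_exists_zpow_conj hz (isConj_conj g z)
  apply existsUnique_of_exists_of_unique
  · refine ⟨_, ⟨?_, ?_⟩, hk⟩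
    · exact Odd.of_dvd_nat (isolated_odd_mul hz (isConj_conj g z))
        (orderOf_dvd_of_mem_zpowers ⟨k, rfl⟩)
    · rw [conj_zpow_inv (inverts_left (sq_of_ord2 hz.1)
        (sq_of_ord2 ((orderOf_conj' g z).trans hz.1))), zpow_neg]
  · rintro a b ⟨⟨ha1, ha2⟩, ha3⟩ ⟨⟨hb1, hb2⟩, hb3⟩
    apply eq_of_sq_eq_of_odd ha1 hb1
    rw [conj_eq_sq_mul_of_inverts ha2, ← hb3, conj_eq_sq_mul_of_inverts hb2] at ha3
    exact mul_right_cancel ha3

theorem isConj_mul_of_inverts {z k : G} (hk : Odd (orderOf k)) (h : z * k * z⁻¹ = k⁻¹) :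
    IsConj z (k * z) := by
  obtain ⟨m, hm⟩ := hk
  refine isConj_iff.2 ⟨k ^ (m + 1), ?_⟩
  rw [conj_eq_sq_mul_of_inverts (conj_pow_inv h _), ← pow_add,
    show m + 1 + (m + 1) = (2 * m + 1) + 1 by ring, ← hm, pow_succ, pow_orderOf_eq_one, one_mul]

theorem isolated_card_inverted [Finite G] {z t : G} (hz : IsIsolatedInvolution z)
    (ht : Commute t z) :
    Nat.card {k : G // Odd (orderOf k) ∧ z * k * z⁻¹ = k⁻¹ ∧ Commute k t} =
      Nat.card {u : G // IsConj z u ∧ Commute u t} := by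
  refine Nat.card_congr ⟨fun k => ⟨k.1 * z, isConj_mul_of_inverts k.2.1 k.2.2.1,
    k.2.2.2.mul_left ht.symm⟩, fun u => ⟨u.1 * z, isolated_odd_mul' hz u.2.1 (IsConj.refl z), ?_,
      u.2.2.mul_left ht.symm⟩, ?_, ?_⟩
  · exact inverts_right (sq_of_ord2 (orderOf_isConj u.2.1 ▸ hz.1)) (sq_of_ord2 hz.1)
  · intro k; simp [mul_assoc, sq_of_ord2 hz.1]
  · intro k; simp [mul_assoc, sq_of_ord2 hz.1]

theorem isolated_card_class_eq [Finite G] {z s : G} (hz : IsIsolatedInvolution z)
    (hs : orderOf s = 2) (hsz : Commute s z) :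
    Nat.card {u : G // IsConj z u} = Nat.card {u : G // IsConj z u ∧ Commute u (s * z)} *
      Nat.card {u : G // IsConj z u ∧ Commute u s} := by
  classical
  have := Fintype.ofFinite G
  by_cases hsz' : s = z
  · subst hsz'
    have h1 : Nat.card {u : G // IsConj s u ∧ Commute u s} = 1 := by
      rw [Nat.card_eq_one_iff_exists]
      exact ⟨⟨s, IsConj.refl s, Commute.refl s⟩,
        fun u => Subtype.ext (isolated_eq hz u.2.1 u.2.2.symm)⟩
    rw [h1, mul_one, sq_of_ord2 hs]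
    simp
  have hnc : ∀ u, IsConj z u → ¬ IsConj s u := fun u hu h =>
    hsz' (isolated_eq hz (hu.trans h.symm) hsz.symm)
  have hord : ∀ u, IsConj z u → orderOf u = 2 := fun u hu => orderOf_isConj hu ▸ hz.1
  have hmod : ∀ u, IsConj z u → orderOf (s * u) % 4 = 2 := fun u hu =>
    isolated_mod_four (isolated_of_isConj hz hu) hs (hnc u hu)
  have hev : ∀ u, IsConj z u → Even (orderOf (s * u)) := fun u hu => by
    have := hmod u hu
    rw [Nat.even_iff]; omega
  rw [card_subtype_eq_filter, card_subtype_eq_filter (fun u => IsConj z u ∧ Commute u s),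
    Finset.card_eq_sum_card_fiberwise (f := fun u => s * (s * u) ^ (orderOf (s * u) / 2))
      (t := univ.filter (fun u => IsConj z u ∧ Commute u s)), mul_comm, ← smul_eq_mul,
    ← Finset.sum_const]
  · apply Finset.sum_congr rfl
    intro v hv
    simp only [mem_filter, mem_univ, true_and] at hv
    obtain ⟨c, hc, hcv⟩ : ∃ c, Commute c s ∧ c * z * c⁻¹ = v := by
      obtain ⟨k, hk⟩ := isolated_exists_zpow_conj hz hv.1
      exact ⟨_, (hsz.symm.mul_left hv.2).zpow_left k, hk⟩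
    have e1 : Nat.card {u : G // IsConj z u ∧ Commute u (s * z)} =
        Nat.card {u : G // IsConj z u ∧ Commute u (s * v)} := by
      refine Nat.card_congr (Equiv.subtypeEquiv (MulAut.conj c).toEquiv fun u => ?_)
      have e : s * v = c * (s * z) * c⁻¹ := by rw [← hcv, ← mul_assoc c, hc.eq]; group
      simp only [MulEquiv.toEquiv_eq_coe, EquivLike.coe_coe, MulAut.conj_apply]
      refine and_congr ⟨fun h => h.trans (isConj_conj c u),
        fun h => h.trans (isConj_conj c u).symm⟩ ?_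
      rw [e]
      exact ⟨fun h => by simpa using h.map (MulAut.conj c),
        fun h => by simpa [mul_assoc] using h.map (MulAut.conj c⁻¹)⟩
    rw [e1, card_subtype_eq_filter]
    congr 1
    ext u
    simp only [mem_filter, mem_univ, true_and]
    refine and_congr_right fun hu => ⟨?_, ?_⟩
    · rintro rfl
      rw [mul_mul_of_ord2 hs]
      exact (s0209 s u hs (hord u hu) (hev u hu)).2.2.symm
    · intro h
      have hw : orderOf (s * v) = 2 := by
        refine ord2_iff.2 ⟨?_, fun h => hnc v hv.1 ?_⟩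
        · rw [← pow_two, hv.2.symm.mul_pow, pow_two, pow_two, sq_of_ord2 hs,
            sq_of_ord2 (hord v hv.1), one_mul]
        · rw [eq_inv_of_mul_eq_one_left h, inv_of_ord2 (hord v hv.1)]
      have hmem : s * v ∈ Subgroup.zpowers (s * u) := by
        obtain ⟨m, hm⟩ := isolated_odd_mul' hz hv.1 hu
        have e : s * u = (s * v) * (v * u) := by
          rw [mul_assoc, mul_mul_of_ord2 (hord v hv.1)]
        have hc2 : Commute (s * v) (v * u) :=
          (hv.2.symm.mul_left (Commute.refl v)).mul_right h.symm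
        refine ⟨(orderOf (v * u) : ℕ), ?_⟩
        simp only [zpow_natCast]
        rw [e, hc2.mul_pow, pow_orderOf_eq_one, mul_one, hm, pow_succ, pow_mul, pow_two,
          sq_of_ord2 hw, one_pow, one_mul]
      rw [← (eq_pow_half_of_mem_zpowers hw hmem).2, mul_mul_of_ord2 hs]
  · intro u hu
    simp only [coe_filter, mem_univ, true_and, Set.mem_ofPred_eq] at hu ⊢
    refine ⟨hu.trans ((isConj_mul_pow (sq_of_ord2 hs) (sq_of_ord2 (hord u hu)) _).2 ?_), ?_⟩
    · have := hmod u hu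
      rw [Nat.odd_iff]; omega
    · exact (Commute.refl s).mul_left (s0209 s u hs (hord u hu) (hev u hu)).2.1

theorem s1186 {G : Type*} [Group G] [Finite G] (z : G) (hz : Cfsg.IsIsolatedInvolution z) (s : G) (hs : orderOf s = 2) (hsz : Commute s z) : Nat.card G = Nat.card (Subgroup.centralizer ({z} : Set G)) * Nat.card {k : G // Odd (orderOf k) ∧ z * k * z⁻¹ = k⁻¹ ∧ Commute k (s * z)} * Nat.card {k : G // Odd (orderOf k) ∧ z * k * z⁻¹ = k⁻¹ ∧ Commute k s} := by
  rw [isolated_card_inverted hz hsz, isolated_card_inverted hz (hsz.mul_left (Commute.refl z)),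
    mul_assoc, ← isolated_card_class_eq hz hs hsz, card_centralizer_mul_card_class]

/-- The centralizer of an isolated involution has odd index. -/
theorem isolated_odd_index [Finite G] {z : G} (hz : IsIsolatedInvolution z) :
    Odd (Subgroup.centralizer ({z} : Set G)).index := by
  obtain ⟨P, hP⟩ := (isPGroup_zpowers (pow_two_pow_one_of_ord2 hz.1)).exists_le_sylow
  have hzP : z ∈ (P : Subgroup G) := hP (Subgroup.mem_zpowers z)
  have h1 : (P : Subgroup G) ≤ Subgroup.centralizer ({z} : Set G) := by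
    intro x hx
    have := isolated_eq_of_mem_pgroup hz (isConj_conj x z) P.2 hzP
      ((P : Subgroup G).mul_mem ((P : Subgroup G).mul_mem hx hzP) ((P : Subgroup G).inv_mem hx))
    rw [Subgroup.mem_centralizer_singleton_iff]
    exact mul_inv_eq_iff_eq_mul.1 this
  refine Odd.of_dvd_nat ?_ (Subgroup.index_dvd_of_le h1)
  rw [← Nat.not_even_iff_odd, even_iff_two_dvd]
  exact P.not_dvd_index

/-! ### transfer with controlled fusion -/

theorem transfer_eq_pow_of_ctrl [Finite G] {H : Subgroup G} {A : Type*} [CommGroup A]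
    (φ : H →* A) (g : H)
    (hc : ∀ (m : ℕ) (a : G) (h : a⁻¹ * (g : G) ^ m * a ∈ H), φ ⟨_, h⟩ = φ g ^ m) :
    MonoidHom.transfer φ g = φ g ^ H.index := by
  have : Fintype (Quotient (MulAction.orbitRel (Subgroup.zpowers (g : G)) (G ⧸ H))) :=
    Fintype.ofFinite _
  rw [Subgroup.index_eq_sum_minimalPeriod H g, ← Finset.prod_pow_eq_pow_sum,
    MonoidHom.transfer_eq_prod_quotient_orbitRel_zpowers_quot]
  apply Finset.prod_congr rfl
  intros
  apply hc

open scoped IsMulCommutative in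
/-- If `H/K` is abelian and conjugation into `H` does not move powers of `g` modulo `K`, there is a
homomorphism to an abelian group that on `g` takes the value `g ^ [G : H]` modulo `K`. -/
theorem exists_normal_of_ctrl [Finite G] (H K : Subgroup G) (hKn : (K.subgroupOf H).Normal)
    (hab : ∀ x ∈ H, ∀ y ∈ H, x * y * x⁻¹ * y⁻¹ ∈ K) :
    ∃ N : Subgroup G, N.Normal ∧ commutator G ≤ N ∧ N.index ∣ K.relIndex H ∧
      ∀ g ∈ H, (∀ (m : ℕ) (a : G), a * g ^ m * a⁻¹ ∈ H → (a * g ^ m * a⁻¹) * (g ^ m)⁻¹ ∈ K) →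
        g ∈ N → g ^ H.index ∈ K := by
  have hcomm : IsMulCommutative (H ⧸ K.subgroupOf H) := by
    rw [Subgroup.Normal.quotient_commutative_iff_commutator_le, commutator, Subgroup.commutator_le]
    intro x _ y _
    exact hab x x.2 y y.2
  let V := MonoidHom.transfer (QuotientGroup.mk' (K.subgroupOf H))
  refine ⟨V.ker, inferInstance, Abelianization.commutator_subset_ker V, ?_, ?_⟩
  · rw [Subgroup.index_ker]
    exact Subgroup.card_subgroup_dvd_card _
  · intro g hg hctrl hN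
    have h1 := transfer_eq_pow_of_ctrl (QuotientGroup.mk' (K.subgroupOf H)) ⟨g, hg⟩ (by
      intro m a h
      rw [← map_pow, eq_comm, ← mul_inv_eq_one, mul_comm, ← map_inv, ← map_mul,
        QuotientGroup.mk'_apply, QuotientGroup.eq_one_iff, Subgroup.mem_subgroupOf]
      have := K.inv_mem (hctrl m a⁻¹ (by simpa using h))
      have h2 := hKn.conj_mem ⟨_, H.mul_mem (H.pow_mem hg m) (H.inv_mem h)⟩
        (by simpa [Subgroup.mem_subgroupOf] using this) ⟨_, H.inv_mem h⟩
      simpa [Subgroup.mem_subgroupOf, mul_assoc] using h2)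
    have h2 : V g = 1 := hN
    have h3 : (QuotientGroup.mk' (K.subgroupOf H)) (⟨g, hg⟩ ^ H.index) = 1 := by
      rw [map_pow, ← h1]; exact h2
    rw [QuotientGroup.mk'_apply, QuotientGroup.eq_one_iff, Subgroup.mem_subgroupOf] at h3
    exact h3

theorem s1241 {G : Type*} [Group G] [Finite G] {p : ℕ} [Fact p.Prime] (H K : Subgroup G) (hHK : K ≤ H) (hKn : (K.subgroupOf H).Normal) (hab : ∀ x ∈ H, ∀ y ∈ H, x * y * x⁻¹ * y⁻¹ ∈ K) (hidx : Nat.Coprime p H.index) (g : G) (hgH : g ∈ H) (hgK : g ∉ K) (hgp : ∃ k : ℕ, orderOf g = p ^ k) (hctrl : ∀ (m : ℤ) (a : G), a * g ^ m * a⁻¹ ∈ H → (a * g ^ m * a⁻¹) * (g ^ m)⁻¹ ∈ K) : g ∉ commutator G := by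
  obtain ⟨N, -, h1, -, h2⟩ := exists_normal_of_ctrl H K hKn hab
  intro hg
  obtain ⟨k, hk⟩ := hgp
  refine hgK (mem_of_pow_mem_of_coprime (h2 g hgH (fun m a h => ?_) (h1 hg)) ?_)
  · simpa using hctrl m a (by simpa using h)
  · rw [hk]; exact hidx.pow_left k

theorem s1242 {G : Type*} [Group G] [Finite G] {p : ℕ} [Fact p.Prime] (H : Subgroup G) (hidx : Nat.Coprime p H.index) (hfus : ∀ g ∈ H, (∃ k : ℕ, orderOf g = p ^ k) → ∀ a : G, a * g * a⁻¹ ∈ H → ∃ h ∈ H, h * g * h⁻¹ = a * g * a⁻¹) : (Cfsg.pResidual p G ⊔ commutator G) ⊓ H = (Cfsg.pResidual p ↥H ⊔ commutator ↥H).map H.subtype := by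
  rw [Subgroup.map_sup, map_pResidual_subtype, Subgroup.map_subtype_commutator]
  set K := pResOf p H ⊔ ⁅H, H⁆ with hK
  have hcomm : ∀ x ∈ H, ∀ y ∈ H, x * y * x⁻¹ * y⁻¹ ∈ K := fun x hx y hy =>
    Subgroup.mem_sup_right (Subgroup.commutator_mem_commutator hx hy)
  apply le_antisymm
  · have hKn : H ≤ Subgroup.normalizer (K : Set G) :=
      le_normalizer_sup (le_normalizer_pResOf H)
        (le_normalizer_commutator Subgroup.le_normalizer Subgroup.le_normalizer)
    obtain ⟨N, hN, h1, h3, h2⟩ := exists_normal_of_ctrl H K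
      (Subgroup.normal_subgroupOf_of_le_normalizer hKn) hcomm
    have h4 : pResidual p G ≤ N := by
      apply pResidual_le_of_index
      obtain ⟨k, hk⟩ := relIndex_pResOf (p := p) H
      have := h3.trans (Subgroup.relIndex_dvd_of_le_left H (le_sup_left : pResOf p H ≤ K))
      rw [hk] at this
      obtain ⟨j, -, hj⟩ := (Nat.dvd_prime_pow Fact.out).1 this
      exact ⟨j, hj⟩
    rintro x ⟨hx, hxH⟩
    have hxN : x ∈ N := sup_le h4 h1 hx
    obtain ⟨a, ha, b, hb, rfl, -, ⟨k, hk⟩, hb'⟩ := exists_p_part p x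
    have haH : a ∈ H := Subgroup.zpowers_le.2 hxH ha
    have hbH : b ∈ H := Subgroup.zpowers_le.2 hxH hb
    have haN : a ∈ N := Subgroup.zpowers_le.2 hxN ha
    refine K.mul_mem ?_ (Subgroup.mem_sup_left (mem_pResOf hbH hb'))
    obtain ⟨j, -, hj⟩ := (Nat.dvd_prime_pow Fact.out).1 (orderOf_dvd_of_pow_eq_one hk)
    refine mem_of_pow_mem_of_coprime (h2 a haH (fun m c h => ?_) haN) ?_
    · obtain ⟨i, -, hi⟩ := (Nat.dvd_prime_pow Fact.out).1
        (hj ▸ orderOf_pow_dvd (x := a) m)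
      obtain ⟨h', hh', e⟩ := hfus (a ^ m) (H.pow_mem haH m) ⟨i, hi⟩ c h
      rw [← e]
      exact hcomm _ hh' _ (H.pow_mem haH m)
    · rw [hj]; exact hidx.pow_left j
  · refine le_inf (sup_le_sup ?_ ?_) (sup_le (pResOf_le H) (Subgroup.commutator_le_self H))
    · rw [← pResOf_top]; exact pResOf_mono le_top
    · exact Subgroup.commutator_mono le_top le_top

theorem pResidual_eq_top_of_sup_commutator [Finite G] {p : ℕ} [Fact p.Prime]
    (h : pResidual p G ⊔ commutator G = ⊤) : pResidual p G = ⊤ := by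
  have hN : (pResidual p G).Normal := by rw [← pResOf_top]; infer_instance
  have h1 : IsPGroup p (G ⧸ pResidual p G) := isPGroup_quotient_pResidual
  have h2 : Group.IsNilpotent (G ⧸ pResidual p G) := h1.isNilpotent
  by_contra hne
  have : Nontrivial (G ⧸ pResidual p G) := QuotientGroup.nontrivial_iff.2 hne
  have h3 := Group.IsSolvable.commutator_lt_top_of_nontrivial (G ⧸ pResidual p G)
  apply h3.ne
  have h4 := congrArg (Subgroup.map (QuotientGroup.mk' (pResidual p G))) h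
  rw [Subgroup.map_sup, QuotientGroup.map_mk'_self, bot_sup_eq, commutator,
    Subgroup.map_commutator,
    Subgroup.map_top_of_surjective _ (QuotientGroup.mk'_surjective _)] at h4
  exact h4

theorem s1183 {G : Type*} [Group G] [Finite G] (z : G) (hz : Cfsg.IsIsolatedInvolution z) : Cfsg.pResidual 2 G = ⊤ ↔ Cfsg.pResidual 2 ↥(Subgroup.centralizer ({z} : Set G)) = ⊤ := by
  constructor
  · intro h
    apply pResidual_eq_top_of_sup_commutator
    have h1 := s1242 (p := 2) (Subgroup.centralizer ({z} : Set G))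
      (Nat.coprime_two_left.2 (isolated_odd_index hz)) (by
        intro g hg _ a ha
        obtain ⟨c, -, hc, e⟩ := s1182 z hz ⊤ (mem_normalizer_of_normal ⊤ z) g _ trivial trivial
          (Subgroup.mem_centralizer_singleton_iff.1 hg)
          (Subgroup.mem_centralizer_singleton_iff.1 ha) a trivial rfl
        exact ⟨c, Subgroup.mem_centralizer_singleton_iff.2 hc, e⟩)
    rw [h, top_sup_eq, top_inf_eq] at h1
    apply Subgroup.map_injective (Subgroup.subtype_injective _)
    rw [← h1, ← MonoidHom.range_eq_map, Subgroup.range_subtype]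
  · intro h
    have h1 : Subgroup.centralizer ({z} : Set G) ≤ pResidual 2 G := by
      have := map_pResidual_subtype (p := 2) (Subgroup.centralizer ({z} : Set G))
      rw [h, ← MonoidHom.range_eq_map, Subgroup.range_subtype] at this
      rw [this, ← pResOf_top]
      exact pResOf_mono le_top
    rw [eq_top_iff]
    intro g _
    obtain ⟨k, ⟨⟨hk, -⟩, hk'⟩, -⟩ := s1185 z hz g
    have : g = k * (g⁻¹ * k)⁻¹ := by group
    rw [this]
    exact Subgroup.mul_mem _ (mem_pResidual (Nat.coprime_two_right.2 hk))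
      (Subgroup.inv_mem _ (h1 hk'))

end Cfsg.Agent.Inv
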