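import Cfsg.Agent.Inv.WR

/-! Wreathed 2-groups: structure statements and fusion. -/

set_option autoImplicit false
set_option linter.unusedVariables false
set_option linter.unusedSectionVars false

namespace Cfsg.Agent.Inv

open Cfsg.Agent.PLoc Subgroup

variable {G : Type*} [Group G]

theorem WR.center_top [Finite G] {x y z : G} {l : ℕ} (h : WR ⊤ x y z l) :
    center G = zpowers (wu x y 1 1) := by
  have := h.center_eq
  rwa [top_inf_eq, coe_top, centralizer_univ] at this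

theorem s1195 {S : Type*} [Group S] [Finite S] (hS : Cfsg.IsWreathed S) : Nat.card {C : ConjClasses S // ∃ t : S, orderOf t = 2 ∧ ConjClasses.mk t = C} = 3 := by
  obtain ⟨x, y, z, l, h⟩ := exists_WR_top hS
  have key : ∀ a b : ℤ, ¬ IsConj (wu x y a b) z := by
    intro a b e
    obtain ⟨g, hg⟩ := isConj_iff.1 e
    exact h.z_not_mem (hg ▸ h.conj_mem_U trivial (h.umem_U a b))
  refine card_classes_three h.tord h.eord h.zord (fun e => ?_) (key _ _) (key _ _)
    fun t ht => h.invol_conj trivial ht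
  obtain ⟨g, hg⟩ := isConj_iff.1 e
  rw [h.Z_comm (h.cmem _) trivial, mul_inv_cancel_right] at hg
  exact h.e_ne_t hg.symm

theorem s1196 {S : Type*} [Group S] [Finite S] (hS : Cfsg.IsWreathed S) (n : ℕ) (hn : Nat.card S = 2 ^ (2 * n + 1)) : (∃! U : Subgroup S, IsMulCommutative U ∧ Nat.card U = 2 ^ (2 * n)) ∧ ∀ U : Subgroup S, IsMulCommutative U → Nat.card U = 2 ^ (2 * n) → Nonempty (U ≃* Multiplicative (ZMod (2 ^ n) × ZMod (2 ^ n))) := by
  obtain ⟨x, y, z, l, h⟩ := exists_WR_top hS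
  obtain ⟨e1, -⟩ := h.card_eq (n := n) (by rwa [card_top])
  have e2 : 2 ^ (2 * n) = (4 * l) * (4 * l) := by rw [e1]; ring
  rw [e2, ← e1]
  refine ⟨⟨_, ⟨h.U_comm, h.card_U⟩, fun U hU => h.eq_U le_top hU.1 hU.2⟩, fun U h1 h2 => ?_⟩
  rw [h.eq_U le_top h1 h2]
  exact h.equiv_U

theorem WR.commutator_top [Finite G] {x y z : G} {l : ℕ} (h : WR ⊤ x y z l) :
    _root_.commutator G = zpowers (wu x y 1 (-1)) := by
  refine le_antisymm (commutator_le.2 fun a ha b hb => h.commutator_mem_W ha hb) (zpowers_le.2 ?_)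
  have := commutator_mem_commutator (mem_top (wu x y 1 0)) (mem_top z)
  rwa [commutatorElement_def, h.conj_z, mul_inv_cancel_right] at this

theorem s1197 {S : Type*} [Group S] [Finite S] (hS : Cfsg.IsWreathed S) (n : ℕ) (hn : Nat.card S = 2 ^ (2 * n + 1)) : IsCyclic (Subgroup.center S) ∧ Nat.card (Subgroup.center S) = 2 ^ n ∧ IsCyclic (commutator S) ∧ Nat.card (commutator S) = 2 ^ n ∧ Nonempty (S ⧸ Subgroup.center S ≃* DihedralGroup (2 ^ n)) := by
  obtain ⟨x, y, z, l, h⟩ := exists_WR_top hS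
  obtain ⟨e1, -⟩ := h.card_eq (n := n) (by rwa [card_top])
  refine ⟨by rw [h.center_top]; infer_instance, by rw [h.center_top, Nat.card_zpowers, h.ord_of, e1],
    by rw [h.commutator_top]; infer_instance,
    by rw [h.commutator_top, Nat.card_zpowers, h.ord_of, e1], ?_⟩
  let π := QuotientGroup.mk' (center S)
  have hπ : ∀ g, π g = 1 ↔ g ∈ zpowers (wu x y 1 1) := fun g => by
    rw [← h.center_top]; exact QuotientGroup.eq_one_iff g
  have h1 : π y = (π x)⁻¹ := by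
    rw [eq_inv_iff_mul_eq_one, ← map_mul, ← h.comm.eq, hπ]
    simpa [wu] using h.cmem 1
  have h2 : orderOf (π x) = 2 ^ n := by
    rw [← e1]
    refine Nat.dvd_antisymm (h.ord ▸ orderOf_map_dvd π x) ?_
    have := pow_orderOf_eq_one (π x)
    rw [← map_pow, hπ, h.mem_Z] at this
    obtain ⟨a, ha⟩ := this
    rw [show x ^ orderOf (π x) = wu x y (orderOf (π x)) 0 by simp [wu], h.eq_iff] at ha
    obtain ⟨⟨i, hi⟩, ⟨j, hj⟩⟩ := ha
    exact Int.natCast_dvd_natCast.1 ⟨i - j, by push_cast; linarith⟩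
  obtain ⟨e⟩ := dihedral_equiv h2 (s := π z) (by rw [← map_mul, h.zsq, map_one])
    (by rw [← map_inv, ← map_mul, ← map_mul, h.conj, h1]) (by
      rintro ⟨k, hk⟩
      have : π (x ^ (-k) * z) = 1 := by rw [map_mul, ← hk]; simp
      exact h.o_not_mem (-k) 0 (h.Z_le_U (by simpa [wu] using (hπ _).1 this)))
  have h3 : closure {π x, π z} = ⊤ := by
    rw [eq_top_iff]
    intro q _
    obtain ⟨g, rfl⟩ := QuotientGroup.mk'_surjective _ q
    have a1 := left_mem_closure_pair (π x) (π z)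
    have a2 : ∀ a b : ℤ, π (wu x y a b) ∈ closure {π x, π z} := fun a b => by
      rw [wu, map_mul, map_zpow, map_zpow, h1]
      exact mul_mem (zpow_mem a1 a) (zpow_mem (inv_mem a1) b)
    obtain ⟨a, b, rfl | rfl⟩ := (h.mem g).1 trivial
    · exact a2 a b
    · rw [map_mul]; exact mul_mem (a2 a b) (right_mem_closure_pair _ _)
  rw [h3] at e
  exact ⟨topEquiv.symm.trans e⟩

namespace WR

variable [Finite G] {S : Subgroup G} {x y z : G} {l : ℕ}

theorem kf_T (h : WR S x y z l) : IsKleinFour (zpowers (wu x y (2 * l) 0) ⊔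
    zpowers (wu x y (2 * l) (2 * l)) : Subgroup G) :=
  kf_sup h.eord h.tord h.e_ne_t (h.u_comm _ _ _ _)

theorem T_le_U (h : WR S x y z l) : zpowers (wu x y (2 * l) 0) ⊔
    zpowers (wu x y (2 * l) (2 * l)) ≤ zpowers x ⊔ zpowers y :=
  sup_le (zpowers_le.2 (h.umem_U _ _)) (zpowers_le.2 (h.umem_U _ _))

theorem mem_T (h : WR S x y z l) {g : G} (hg : g ∈ zpowers x ⊔ zpowers y) (h2 : g * g = 1) :
    g ∈ zpowers (wu x y (2 * l) 0) ⊔ zpowers (wu x y (2 * l) (2 * l)) := by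
  by_cases h1 : g = 1
  · exact h1 ▸ one_mem _
  rcases h.invol_U hg (ord2_iff.2 ⟨h2, h1⟩) with rfl | rfl | rfl
  · exact mem_sup_right (mem_zpowers _)
  · exact mem_sup_left (mem_zpowers _)
  · rw [← h.e_mul_t]; exact mul_mem_sup (mem_zpowers _) (mem_zpowers _)

theorem normalizer_U_le (h : WR S x y z l) :
    normalizer ((zpowers x ⊔ zpowers y : Subgroup G) : Set G) ≤ normalizer ((zpowers (wu x y (2 * l) 0) ⊔
      zpowers (wu x y (2 * l) (2 * l)) : Subgroup G) : Set G) := fun g hg =>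
  mem_normalizer_of_conj_mem fun a ha => h.mem_T (conj_mem_of_mem_normalizer hg (h.T_le_U ha)) (by
    rw [show g * a * g⁻¹ * (g * a * g⁻¹) = g * (a * a) * g⁻¹ by group, kf_sq h.kf_T ha]; simp)

theorem S_le_normalizer_U (h : WR S x y z l) :
    S ≤ normalizer ((zpowers x ⊔ zpowers y : Subgroup G) : Set G) := fun g hg =>
  mem_normalizer_of_conj_mem fun a ha => h.conj_mem_U hg ha

theorem kf_other (h : WR S x y z l) {T : Subgroup G} (hT : IsKleinFour T) (hTS : T ≤ S)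
    (hne : T ≠ zpowers (wu x y (2 * l) 0) ⊔ zpowers (wu x y (2 * l) (2 * l))) :
    ∃ a : ℤ, T = zpowers (wu x y (2 * l) (2 * l)) ⊔ zpowers (wu x y a (-a) * z) := by
  obtain ⟨o, ho, ho'⟩ : ∃ o ∈ T, o ∉ zpowers x ⊔ zpowers y := by
    by_contra hc
    push Not at hc
    exact hne (eq_of_le_of_card_ge (fun g hg => h.mem_T (hc g hg) (kf_sq hT hg))
      (by rw [kf_card hT, kf_card h.kf_T]))
  have ho1 : o ≠ 1 := fun e => ho' (e ▸ one_mem _)
  obtain ⟨a, rfl⟩ := h.invol_o (hTS ho) ho' (kf_ord hT ho ho1)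
  refine ⟨a, kf_eq_sup hT ?_ ho (ne_one_of_ord2 h.tord) ho1 fun e => ho' (e ▸ h.umem_U _ _)⟩
  obtain ⟨b, hb, hb1, hba⟩ := kf_exists_ne hT (wu x y a (-a) * z)
  have key : ∀ c ∈ T, c ≠ 1 → c ∈ zpowers x ⊔ zpowers y → wu x y (2 * l) (2 * l) ∈ T := by
    intro c hc hc1 hcU
    rwa [← h.eq_t (h.mem_Z_of_comm hcU (hTS ho) ho' (kf_comm hT ho hc)) (kf_ord hT hc hc1)]
  by_cases h1 : b ∈ zpowers x ⊔ zpowers y
  · exact key b hb hb1 h1
  · exact key _ (mul_mem hb (inv_mem ho)) (fun e => hba (mul_inv_eq_one.1 e))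
      (mul_mem_of_relIndex_two h.relIndex_U (hTS hb) (inv_mem (hTS ho)) h1 (by rwa [inv_mem_iff]))

theorem invol_closure (h : WR ⊤ x y z l) : closure {t : G | orderOf t = 2} =
    (zpowers (wu x y 1 (-1)) ⊔ zpowers (wu x y (2 * l) 0)) ⊔ zpowers z := by
  refine le_antisymm ((closure_le _).2 fun t ht => ?_) (sup_le (sup_le ?_ ?_) ?_)
  · by_cases h1 : t ∈ zpowers x ⊔ zpowers y
    · exact mem_sup_left (sup_le le_sup_right (zpowers_le.2 (mem_sup_left h.t_mem_W))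
        (h.mem_T h1 (sq_of_ord2 ht)))
    · obtain ⟨a, rfl⟩ := h.invol_o trivial h1 ht
      exact mul_mem_sup (mem_sup_left (h.wmem a)) (mem_zpowers z)
  · rw [zpowers_le]
    have := mul_mem (subset_closure (k := {t : G | orderOf t = 2}) (h.oord 1))
      (inv_mem (subset_closure (k := {t : G | orderOf t = 2}) h.zord))
    rwa [mul_inv_cancel_right] at this
  · exact zpowers_le.2 (subset_closure h.eord)
  · exact zpowers_le.2 (subset_closure h.zord)

theorem e_not_mem_W (h : WR S x y z l) : wu x y (2 * l) 0 ∉ zpowers (wu x y 1 (-1)) := fun e =>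
  h.e_ne_t (invol_eq_of_isCyclic inferInstance e h.t_mem_W h.eord h.tord)

theorem le_of_mem (h : WR S x y z l) {N : Subgroup G} (hU : zpowers x ⊔ zpowers y ≤ N) {o : G}
    (ho : o ∈ S) (ho' : o ∉ zpowers x ⊔ zpowers y) (hoN : o ∈ N) : S ≤ N := by
  intro g hg
  by_cases h1 : g ∈ zpowers x ⊔ zpowers y
  · exact hU h1
  · exact (mul_mem_cancel_right hoN).1 (hU (mul_mem_of_relIndex_two h.relIndex_U hg ho h1 ho'))

end WR

theorem s1198 {S : Type*} [Group S] [Finite S] (hS : Cfsg.IsWreathed S) : ∃ T : Subgroup S, IsKleinFour T ∧ T.Normal ∧ (∃ T₀ : Subgroup S, IsKleinFour T₀ ∧ T₀ ≠ T) ∧ ∀ T₁ T₂ : Subgroup S, IsKleinFour T₁ → IsKleinFour T₂ → T₁ ≠ T → T₂ ≠ T → ∃ s : S, T₁.map (MulAut.conj s).toMonoidHom = T₂ := by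
  obtain ⟨x, y, z, l, h⟩ := exists_WR_top hS
  refine ⟨_, h.kf_T, normal_of_top_le_normalizer (h.S_le_normalizer_U.trans h.normalizer_U_le),
    ⟨_, kf_sup h.tord h.zord (fun e => h.z_not_mem (e ▸ h.umem_U _ _))
      (h.Z_comm (h.cmem _) trivial).symm,
      fun e => h.z_not_mem (h.T_le_U (e ▸ mem_sup_right (mem_zpowers z)))⟩, ?_⟩
  intro T₁ T₂ h₁ h₂ n₁ n₂
  obtain ⟨a, rfl⟩ := h.kf_other h₁ le_top n₁
  obtain ⟨b, rfl⟩ := h.kf_other h₂ le_top n₂
  refine ⟨wu x y (b - a) 0, ?_⟩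
  rw [cj_def, cj_sup, cj_zpowers, cj_zpowers, h.conj_o, h.u_comm, mul_inv_cancel_right]
  congr 4 <;> ring

theorem quaternion_facts {m : ℕ} (hm : 2 ≤ m) :
    (∀ g : QuaternionGroup m, (∀ k, k * g = g * k) → g * g = 1) ∧
    (∀ g : QuaternionGroup m, g * g = 1 → ∀ k, k * g = g * k) ∧
    ∃ a b : QuaternionGroup m, a * b ≠ b * a := by
  have h2 : (2 : ZMod (2 * m)) ≠ 0 := by
    intro h
    have := (ZMod.natCast_eq_zero_iff 2 (2 * m)).1 h
    have := Nat.le_of_dvd (by norm_num) this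
    omega
  have h3 : ((m : ℕ) : ZMod (2 * m)) ≠ 0 := by
    rw [Ne, ZMod.natCast_eq_zero_iff]
    intro h
    have := Nat.le_of_dvd (by omega) h
    omega
  refine ⟨?_, ?_, ⟨.a 1, .xa 0, fun h => h2 ?_⟩⟩
  · rintro (i | i) h
    · have := h (.xa 0)
      simp only [QuaternionGroup.xa_mul_a, QuaternionGroup.a_mul_xa, QuaternionGroup.xa.injEq] at this
      rw [QuaternionGroup.a_mul_a, QuaternionGroup.one_def]
      congr 1; linear_combination this
    · have := h (.a 1)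
      simp only [QuaternionGroup.xa_mul_a, QuaternionGroup.a_mul_xa, QuaternionGroup.xa.injEq] at this
      exact absurd (by linear_combination -this) h2
  · rintro (i | i) h
    · rw [QuaternionGroup.a_mul_a, QuaternionGroup.one_def, QuaternionGroup.a.injEq] at h
      rintro (j | j)
      · simp [add_comm]
      · simp only [QuaternionGroup.xa_mul_a, QuaternionGroup.a_mul_xa, QuaternionGroup.xa.injEq]
        linear_combination h
    · rw [QuaternionGroup.xa_mul_xa, QuaternionGroup.one_def, QuaternionGroup.a.injEq] at h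
      exact absurd (by linear_combination h) h3
  · simp only [QuaternionGroup.xa_mul_a, QuaternionGroup.a_mul_xa, QuaternionGroup.xa.injEq] at h
    linear_combination -h

theorem quaternion_facts' {Y : Subgroup G} {m : ℕ} (hm : 2 ≤ m) (e : Y ≃* QuaternionGroup m) :
    (∀ g ∈ Y, g ∈ centralizer (Y : Set G) → g * g = 1) ∧
    (∀ g ∈ Y, g * g = 1 → g ∈ centralizer (Y : Set G)) ∧ ¬ IsMulCommutative Y := by
  obtain ⟨h1, h2, a, b, h3⟩ := quaternion_facts hm
  refine ⟨fun g hg hc => ?_, fun g hg hc k hk => ?_, fun hc => h3 ?_⟩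
  · have := h1 (e ⟨g, hg⟩) fun k => by
      obtain ⟨k, rfl⟩ := e.surjective k
      rw [← map_mul, ← map_mul]; congr 1; exact Subtype.ext (hc k k.2)
    rw [← map_mul, map_eq_one_iff _ e.injective] at this
    exact congrArg Subtype.val this
  · have := h2 (e ⟨g, hg⟩) (by
      rw [← map_mul, map_eq_one_iff _ e.injective]; exact Subtype.ext hc) (e ⟨k, hk⟩)
    rw [← map_mul, ← map_mul] at this
    exact congrArg Subtype.val (e.injective this)
  · obtain ⟨a, rfl⟩ := e.surjective a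
    obtain ⟨b, rfl⟩ := e.surjective b
    rw [← map_mul, ← map_mul, hc.is_comm.comm]

theorem s1199 {S : Type*} [Group S] [Finite S] (hS : Cfsg.IsWreathed S) (n : ℕ) (hn : Nat.card S = 2 ^ (2 * n + 1)) : (∃! Y : Subgroup S, Nat.card Y = 2 ^ (n + 1) ∧ Nonempty (Y ≃* QuaternionGroup (2 ^ (n - 1)))) ∧ ∀ Y : Subgroup S, Nat.card Y = 2 ^ (n + 1) → Nonempty (Y ≃* QuaternionGroup (2 ^ (n - 1))) → Y.Normal := by
  obtain ⟨x, y, z, l, h⟩ := exists_WR_top hS
  obtain ⟨e1, e2⟩ := h.card_eq (n := n) (by rwa [card_top])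
  have hl := h.lpos
  rw [pow_succ', ← e1, ← e2]
  have key : ∀ Y : Subgroup S, Nat.card Y = 2 * (4 * l) → Nonempty (Y ≃* QuaternionGroup (2 * l)) →
      Y = closure {wu x y 1 (-1), wu x y 0 (2 * l - 0) * z} := by
    rintro Y hc ⟨e⟩
    obtain ⟨h1, h2, h3⟩ := quaternion_facts' (by omega) e
    have h4 : ∀ o ∈ Y, o ∉ zpowers x ⊔ zpowers y →
        o ∈ closure {wu x y 1 (-1), wu x y 0 (2 * l - 0) * z} := by
      intro o ho ho'
      have h5 := h.sq_mem_Z trivial ho'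
      obtain ⟨a, rfl⟩ := h.exists_s trivial ho' (h.eq_t h5 (ord2_iff.2
        ⟨h1 _ (mul_mem ho ho) (h.Z_le_centralizer le_top h5),
          fun e => ho' (h.Z_le_U (h.mem_Z_of_central le_top h3 trivial (h2 o ho e)))⟩))
      exact (h.mem_Y 0).2 ⟨a, Or.inr rfl⟩
    obtain ⟨o, ho, ho'⟩ := SetLike.not_le_iff_exists.1
      (fun e => h3 (isMulCommutative_of_le h.U_comm e))
    refine eq_of_le_of_card_ge (fun g hg => ?_) (by rw [hc, h.card_Y])
    by_cases h5 : g ∈ zpowers x ⊔ zpowers y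
    · exact (mul_mem_cancel_right (h4 o ho ho')).1
        (h4 _ (mul_mem hg ho) fun e => ho' ((mul_mem_cancel_left h5).1 e))
    · exact h4 g hg h5
  refine ⟨⟨_, ⟨h.card_Y, h.equiv_Y⟩, fun Y hY => key Y hY.1 hY.2⟩, fun Y h1 h2 => ?_⟩
  rw [key Y h1 h2]
  exact normal_of_commutator_le (h.commutator_top ▸ h.W_le_Y)

theorem s1200 {S : Type*} [Group S] [Finite S] (hS : Cfsg.IsWreathed S) (n : ℕ) (hn : Nat.card S = 2 ^ (2 * n + 1)) : Nat.card (Subgroup.closure {x : S | orderOf x = 2}) = 2 ^ (n + 2) ∧ ∃ s : S, Subgroup.closure {x : S | orderOf x = 2} ⊔ Subgroup.zpowers s = ⊤ := by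
  obtain ⟨x, y, z, l, h⟩ := exists_WR_top hS
  obtain ⟨e1, e2⟩ := h.card_eq (n := n) (by rwa [card_top])
  rw [h.invol_closure]
  constructor
  · have hN : (zpowers (wu x y 1 (-1)) ⊔ zpowers (wu x y (2 * l) 0)).Normal :=
      normal_of_commutator_le (h.commutator_top ▸ le_sup_left)
    have hW : (zpowers (wu x y 1 (-1))).Normal := normal_of_commutator_le h.commutator_top.le
    rw [card_sup_zpowers (fun a ha => hN.conj_mem a ha z) (by rw [h.zsq]; exact one_mem _)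
      (fun e => h.z_not_mem (sup_le h.W_le_U (zpowers_le.2 (h.umem_U _ _)) e)),
      card_sup_zpowers (fun a ha => hW.conj_mem a ha _)
        (by rw [sq_of_ord2 h.eord]; exact one_mem _) h.e_not_mem_W, Nat.card_zpowers, h.ord_of, e1]
    ring
  · refine ⟨x, top_le_iff.1 (h.le_of_mem (sup_le le_sup_right (zpowers_le.2 ?_)) trivial h.z_not_mem
      (mem_sup_left (mem_sup_right (mem_zpowers z))))⟩
    have := mul_mem_sup (mem_sup_left (T := zpowers z) (mem_sup_left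
      (T := zpowers (wu x y (2 * l) 0)) (h.wmem (-1)))) (mem_zpowers x)
    rwa [show wu x y (-1) (- -1) * x = y by simp [wu, mul_assoc, ← h.comm.eq]] at this

theorem s1201 {S : Type*} [Group S] [Finite S] (hS : Cfsg.IsWreathed S) (X : Subgroup S) (hX : ¬ IsMulCommutative X) : (Subgroup.center X).map X.subtype ≤ Subgroup.center S := by
  obtain ⟨x, y, z, l, h⟩ := exists_WR_top hS
  rw [map_center_subtype, h.center_top]
  exact fun g hg => h.mem_Z_of_central le_top hX trivial hg.2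

theorem s1202 {S : Type*} [Group S] [Finite S] (hS : Cfsg.IsWreathed S) (n : ℕ) (hn : Nat.card S = 2 ^ (2 * n + 1)) (X : Subgroup S) (hC : Subgroup.centralizer (X : Set S) ≤ X) (hA : ¬ IsPGroup 2 (MulAut X)) : X.relIndex (Subgroup.normalizer (X : Set S)) = 2 ∧ ((IsMulCommutative X ∧ Nat.card X = 2 ^ (2 * n)) ∨ ∃ Q : Subgroup S, Nonempty (Q ≃* QuaternionGroup 2) ∧ X = Q ⊔ Subgroup.center S) ∧ ∀ X' : Subgroup S, Subgroup.centralizer (X' : Set S) ≤ X' → ¬ IsPGroup 2 (MulAut X') → ¬ IsMulCommutative X → ¬ IsMulCommutative X' → ∃ s : S, X.map (MulAut.conj s).toMonoidHom = X' := by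
  obtain ⟨x, y, z, l, h⟩ := exists_WR_top hS
  obtain ⟨e1, e2⟩ := h.card_eq (n := n) (by rwa [card_top])
  have key : ∀ X : Subgroup S, centralizer (X : Set S) ≤ X → ¬ IsPGroup 2 (MulAut X) →
      X = zpowers x ⊔ zpowers y ∨
      ∃ Q ≤ (⊤ : Subgroup S), Nonempty (Q ≃* QuaternionGroup 2) ∧ X = Q ⊔ zpowers (wu x y 1 1) := by
    intro X h1 h2
    obtain ⟨φ, h3, h4⟩ := OddAut.exists_of_not_isPGroup h2
    exact h.classify le_top (by simpa using h1) h3 h4
  refine ⟨?_, ?_, fun X' h1 h2 h3 h4 => ?_⟩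
  · rcases key X hC hA with rfl | ⟨Q, -, ⟨e⟩, rfl⟩
    · rw [top_le_iff.1 h.S_le_normalizer_U, h.relIndex_U]
    · obtain ⟨t, hQ⟩ := exists_Q8 e
      refine relIndex_normalizer_eq_two h.isPGroup (h.V_ne hQ le_top) ?_
      have := hQ.relIndex_dvd_six (h.normalizer_V_le hQ le_top)
      rwa [show centralizer (Q : Set S) = zpowers (wu x y 1 1) from le_antisymm
        (fun g hg => h.mem_Z_of_central le_top hQ.not_comm trivial hg)
        (h.Z_le_centralizer le_top)] at this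
  · rcases key X hC hA with rfl | ⟨Q, -, e, rfl⟩
    · exact Or.inl ⟨h.U_comm, by rw [h.card_U, e1]; ring⟩
    · exact Or.inr ⟨Q, e, by rw [h.center_top]⟩
  · obtain ⟨Q, -, ⟨e⟩, rfl⟩ := (key X hC hA).resolve_left fun e => h3 (e ▸ h.U_comm)
    obtain ⟨Q', -, ⟨e'⟩, rfl⟩ := (key X' h1 h2).resolve_left fun e => h4 (e ▸ h.U_comm)
    obtain ⟨t, hQ⟩ := exists_Q8 e
    obtain ⟨t', hQ'⟩ := exists_Q8 e'
    obtain ⟨s, -, hs⟩ := h.q8_conj hQ le_top hQ' le_top
    exact ⟨s, hs⟩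

/-! ### fusion -/

def FusV (S Z : Subgroup G) : Prop :=
  ∃ Q ≤ S, Nonempty (Q ≃* QuaternionGroup 2) ∧ OddAct (Q ⊔ Z)

namespace WR

variable [Finite G] {P : Sylow 2 G} {S : Subgroup G} {x y z : G} {l : ℕ}

theorem fusV_iff (h : WR S x y z l) {Q : Subgroup G} (e : Q ≃* QuaternionGroup 2) (hQS : Q ≤ S) :
    FusV S (zpowers (wu x y 1 1)) ↔ OddAct (Q ⊔ zpowers (wu x y 1 1)) := by
  refine ⟨?_, fun h1 => ⟨Q, hQS, ⟨e⟩, h1⟩⟩
  rintro ⟨T', h1, ⟨e'⟩, h3⟩
  obtain ⟨t, ht⟩ := exists_Q8 e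
  obtain ⟨t', ht'⟩ := exists_Q8 e'
  obtain ⟨s, -, hs⟩ := h.q8_conj ht' h1 ht hQS
  exact hs ▸ h3.cj s

theorem mem_centralizer_U (h : WR S x y z l) {g : G}
    (hg : g ∈ normalizer ((zpowers x ⊔ zpowers y : Subgroup G) : Set G)) (hodd : Odd (orderOf g))
    (hc : g ∈ centralizer ((zpowers (wu x y (2 * l) 0) ⊔
      zpowers (wu x y (2 * l) (2 * l)) : Subgroup G) : Set G)) :
    g ∈ centralizer ((zpowers x ⊔ zpowers y : Subgroup G) : Set G) := fun a ha =>
  (mul_inv_eq_iff_eq_mul.1 (h.fix_invol_U (OddAut.of_conj hg hodd) le_rfl (h.umem_U _ _) (by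
    rw [← hc _ (mem_sup_right (mem_zpowers _)), mul_inv_cancel_right]) a ha)).symm

theorem normalizer_V_le_Z (h : WR S x y z l) {Q : Subgroup G} {t : G} (hQ : Q8 Q t) (hQS : Q ≤ S) :
    normalizer ((Q ⊔ zpowers (wu x y 1 1) : Subgroup G) : Set G) ≤
      normalizer (zpowers (wu x y 1 1) : Set G) := by
  have hV : Q ⊔ zpowers (wu x y 1 1) ≤ S := sup_le hQS (h.Z_le_U.trans h.U_le)
  have : (Q ⊔ zpowers (wu x y 1 1)) ⊓ centralizer ((Q ⊔ zpowers (wu x y 1 1) : Subgroup G) : Set G) =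
      zpowers (wu x y 1 1) := le_antisymm (fun g hg => h.mem_Z_of_central hV
        (fun e => hQ.not_comm (isMulCommutative_of_le e le_sup_left)) (hV hg.1) hg.2)
      (le_inf le_sup_right (h.Z_le_centralizer hV))
  conv_rhs => rw [← this]
  exact le_normalizer_inf le_rfl (normalizer_le_normalizer_centralizer _)

theorem odd_centralizes_Z (h : WR S x y z l) {Q : Subgroup G} {t : G} (hQ : Q8 Q t) (hQS : Q ≤ S)
    {g : G} (hg : g ∈ normalizer ((Q ⊔ zpowers (wu x y 1 1) : Subgroup G) : Set G))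
    (hodd : Odd (orderOf g)) : g ∈ centralizer (zpowers (wu x y 1 1) : Set G) :=
  mem_centralizer_of_isCyclic (h.isPGroup.to_le (h.Z_le_U.trans h.U_le)) inferInstance
    (h.normalizer_V_le_Z hQ hQS hg) hodd

theorem normalizer_V_le_centralizer (h : WR P x y z l) {Q : Subgroup G} {t : G} (hQ : Q8 Q t)
    (hQS : Q ≤ P) : normalizer ((Q ⊔ zpowers (wu x y 1 1) : Subgroup G) : Set G) ≤
      centralizer (zpowers (wu x y 1 1) : Set G) := by
  have hV : Q ⊔ zpowers (wu x y 1 1) ≤ P := sup_le hQS (h.Z_le_U.trans h.U_le)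
  obtain ⟨R, hR, h1⟩ := exists_isSylowOf_ge (P.2.to_le hV) le_normalizer
  rw [← hR.sup_pResOf]
  refine sup_le ?_ (pResOf_le_iff.2 fun g hg hc =>
    h.odd_centralizes_Z hQ hQS hg (Nat.coprime_two_right.1 hc))
  obtain ⟨k, -, hk⟩ := (isSylowOf_top P).exists_cj_le hR.isP le_top
  intro r hr c hc
  have h2 : k * c * k⁻¹ ∈ zpowers (wu x y 1 1) := by
    refine h.mem_Z_of_central ((cj_mono k h1).trans hk) (fun e => hQ.not_comm ?_)
      (hk (conj_mem_cj.2 (h1 (mem_sup_right hc)))) ?_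
    · have := isMulCommutative_cj k⁻¹ e
      rw [cj_inv_cj] at this
      exact isMulCommutative_of_le this le_sup_left
    · rw [← cj_centralizer, conj_mem_cj]; exact h.Z_le_centralizer hV hc
  have := h.Z_comm h2 (hk (conj_mem_cj.2 hr))
  apply (MulAut.conj k).injective
  simp only [map_mul, MulAut.conj_apply]
  first | exact this | exact this.symm | exact this.eq | exact this.symm.eq

theorem principle (h : WR P x y z l) {r : G → G → Prop} (hr : Equivalence r)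
    (hS : ∀ s ∈ (P : Subgroup G), ∀ a ∈ (P : Subgroup G), r a (s * a * s⁻¹))
    (hU : ∀ g ∈ normalizer ((zpowers x ⊔ zpowers y : Subgroup G) : Set G), Odd (orderOf g) →
      g ∉ centralizer ((zpowers x ⊔ zpowers y : Subgroup G) : Set G) →
      ∀ a ∈ zpowers x ⊔ zpowers y, r a (g * a * g⁻¹))
    (hV : ∀ Q ≤ (P : Subgroup G), Nonempty (Q ≃* QuaternionGroup 2) →
      ∀ g ∈ normalizer ((Q ⊔ zpowers (wu x y 1 1) : Subgroup G) : Set G), Odd (orderOf g) →
      g ∉ centralizer ((Q ⊔ zpowers (wu x y 1 1) : Subgroup G) : Set G) →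
      ∀ a ∈ Q ⊔ zpowers (wu x y 1 1), r a (g * a * g⁻¹))
    {a g : G} (ha : a ∈ (P : Subgroup G)) (hg : g * a * g⁻¹ ∈ (P : Subgroup G)) :
    r a (g * a * g⁻¹) := by
  refine fusion_principle P hr hS (fun T hT hc _ g hg ho hgc => ?_) ha hg
  have hodd := Nat.coprime_two_right.1 ho
  rcases h.classify hT hc (OddAut.of_conj hg hodd) (by
    by_contra h1
    push Not at h1
    exact hgc fun a ha => (mul_inv_eq_iff_eq_mul.1 (h1 a ha)).symm) with rfl | ⟨Q, h1, h2, rfl⟩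
  · exact hU g hg hodd hgc
  · exact hV Q h1 h2 g hg hodd hgc

theorem fix_Z (h : WR P x y z l) (hf : ¬ OddAct (zpowers x ⊔ zpowers y)) {c g : G}
    (hc : c ∈ zpowers (wu x y 1 1)) (hg : g * c * g⁻¹ ∈ (P : Subgroup G)) : g * c * g⁻¹ = c := by
  have key : ∀ s a : G, s ∈ centralizer (zpowers (wu x y 1 1) : Set G) →
      a ∈ zpowers (wu x y 1 1) ∨ s * a * s⁻¹ ∈ zpowers (wu x y 1 1) → a = s * a * s⁻¹ := by
    rintro s a hs (e | e)
    · rw [← hs a e, mul_inv_cancel_right]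
    · have := hs _ e
      rwa [inv_mul_cancel_right, mul_right_inj] at this
  refine (h.principle (equivalence_fix (· ∈ zpowers (wu x y 1 1))) ?_ ?_ ?_
    (h.U_le (h.Z_le_U hc)) hg (Or.inl hc)).symm
  · exact fun s hs a _ => key s a fun c hc => (h.Z_comm hc hs).symm
  · exact fun g h1 h2 h3 => absurd ⟨g, h1, h2, h3⟩ hf
  · rintro Q h1 ⟨e⟩ g h2 h3 - a -
    obtain ⟨t, hQ⟩ := exists_Q8 e
    exact key g a (h.odd_centralizes_Z hQ h1 h2 h3)

theorem commutator_mem_U (h : WR P x y z l) (hf : ¬ FusV P (zpowers (wu x y 1 1))) {a g : G}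
    (ha : a ∈ (P : Subgroup G)) (hg : g * a * g⁻¹ ∈ (P : Subgroup G)) :
    g * a * g⁻¹ * a⁻¹ ∈ zpowers x ⊔ zpowers y := by
  refine h.principle (equivalence_mul_inv_mem _) ?_ ?_ ?_ ha hg
  · exact fun s hs a ha => h.W_le_U (h.commutator_mem_W hs ha)
  · exact fun g h1 _ _ a ha => mul_mem (conj_mem_of_mem_normalizer h1 ha) (inv_mem ha)
  · exact fun Q h1 h2 g h3 h4 h5 => absurd ⟨Q, h1, h2, g, h3, h4, h5⟩ hf

theorem commutator_mem_Y (h : WR P x y z l) (hf : ¬ OddAct (zpowers x ⊔ zpowers y)) {a g : G}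
    (ha : a ∈ (P : Subgroup G)) (hg : g * a * g⁻¹ ∈ (P : Subgroup G)) :
    g * a * g⁻¹ * a⁻¹ ∈ closure {wu x y 1 (-1), wu x y 0 (2 * l - 0) * z} := by
  refine h.principle (equivalence_mul_inv_mem _) ?_ ?_ ?_ ha hg
  · exact fun s hs a ha => h.W_le_Y (h.commutator_mem_W hs ha)
  · exact fun g h1 h2 h3 => absurd ⟨g, h1, h2, h3⟩ hf
  · rintro Q h1 ⟨e⟩ g h2 h3 - a ha
    obtain ⟨t, hQ⟩ := exists_Q8 e
    rw [sup_comm] at ha
    obtain ⟨c, hc, q, hq, rfl⟩ := (mem_sup_of_le_normalizer_right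
      ((h.Z_le_centralizer h1).trans (centralizer_le_normalizer _))).1 ha
    apply h.q8_le_Y hQ h1
    have h4 := mul_mem (conj_mem_of_mem_normalizer (h.normalizer_V_le hQ h1 h2) hq) (inv_mem hq)
    have h5 : g * (c * q) * g⁻¹ * (c * q)⁻¹ = c * (g * q * g⁻¹ * q⁻¹) * c⁻¹ := by
      rw [← mul_assoc g, ← h.odd_centralizes_Z hQ h1 h2 h3 c hc]; group
    show g * (c * q) * g⁻¹ * (c * q)⁻¹ ∈ Q
    rwa [h5, ← h.Z_comm hc (h1 h4), mul_inv_cancel_right]

theorem isConj_t_e (h : WR S x y z l) (hf : OddAct (zpowers x ⊔ zpowers y)) :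
    IsConj (wu x y (2 * l) (2 * l)) (wu x y (2 * l) 0) := by
  obtain ⟨g, h1, h2, h3⟩ := hf
  obtain ⟨n, -, e⟩ := kf_conj_of_odd h.kf_T (h.normalizer_U_le h1) h2
    (fun e => h3 (h.mem_centralizer_U h1 h2 e)) (mem_sup_right (mem_zpowers _))
    (mem_sup_left (mem_zpowers _)) (ne_one_of_ord2 h.tord) (ne_one_of_ord2 h.eord)
  exact isConj_iff.2 ⟨n, e⟩

theorem U_le_pResidual (h : WR S x y z l) (hf : OddAct (zpowers x ⊔ zpowers y)) :
    zpowers x ⊔ zpowers y ≤ pResidual 2 G := by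
  obtain ⟨g, h1, h2, h3⟩ := hf
  have hp := h.isPGroup.to_le h.U_le
  obtain ⟨-, h5⟩ := fitting_decomp' h.U_comm (zpowers_le.2 h1) (coprime_card_of_isPGroup hp (by
    rw [Nat.card_zpowers]; exact Nat.coprime_two_right.2 h2))
  have h6 : (zpowers x ⊔ zpowers y) ⊓ centralizer (zpowers g : Set G) = ⊥ := by
    by_contra h6
    obtain ⟨s, hs, hs2⟩ := exists_involution_of_isPGroup (hp.to_le inf_le_left) h6
    exact h3 (h.mem_centralizer_U h1 h2 (mem_centralizer_of_sq_of_odd h2 (kf_sq_mem_centralizer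
      h.kf_T (h.mem_T hs.1 (sq_of_ord2 hs2)) (ne_one_of_ord2 hs2) (h.normalizer_U_le h1)
      (by rw [hs.2 g (mem_zpowers g), mul_inv_cancel_right]))))
  rw [h6, bot_sup_eq] at h5
  rw [← h5]
  exact (commutator_mono le_rfl (zpowers_le.2 (mem_pResidual (Nat.coprime_two_right.2 h2)))).trans
    (commutator_le_right _ _)

theorem fusV_exists (h : WR S x y z l) (hf : FusV S (zpowers (wu x y 1 1))) :
    ∃ g, Odd (orderOf g) ∧ g ∈ centralizer (zpowers (wu x y 1 1) : Set G) ∧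
      ∃ a : ℤ, g * wu x y l (-l) * g⁻¹ = wu x y a (2 * l - a) * z := by
  obtain ⟨Q, h1, ⟨e⟩, g, h3, h4, h5⟩ := hf
  obtain ⟨t, hQ⟩ := exists_Q8 e
  obtain ⟨rfl, h6, -⟩ := h.q8 hQ h1
  have h7 := h.odd_centralizes_Z hQ h1 h3 h4
  have h8 := h.normalizer_V_le hQ h1 h3
  have h9 := hQ.conj_not_mem h6 h.iord h8 h4 fun e => h5 (by rw [centralizer_sup']; exact ⟨e, h7⟩)
  have h10 := conj_mem_of_mem_normalizer h8 h6
  have h11 := hQ.conj_sq h8 h.isq
  refine ⟨g, h4, h7, h.exists_s (h1 h10) (fun e => ?_) h11⟩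
  have := hQ.inv _ h6 _ h10 h.isq h11 (fun e => h9 (by rw [e]; exact mem_zpowers _))
    (fun e => h9 (by rw [e]; exact inv_mem (mem_zpowers _)))
  rw [comm_of_mem h.U_comm e (h.umem_U _ _), mul_inv_cancel_right] at this
  exact ne_one_of_ord2 h.tord (h.isq ▸ mul_eq_one_iff_eq_inv.2 this)

theorem isConj_e_z (h : WR S x y z l) (hf : FusV S (zpowers (wu x y 1 1))) :
    IsConj (wu x y (2 * l) 0) z := by
  obtain ⟨g, -, h1, a, e⟩ := h.fusV_exists hf
  refine (isConj_iff.2 ⟨g, ?_⟩).trans (isConj_iff.2 ⟨_, h.conj_z (l + a)⟩).symm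
  have e1 : wu x y (2 * l) 0 = wu x y l l * wu x y l (-l) := by
    rw [wu_mul h.comm]; congr 1 <;> ring
  rw [e1, ← mul_assoc g, ← h1 _ (h.cmem l), mul_assoc, mul_assoc, ← mul_assoc g, e, ← mul_assoc,
    wu_mul h.comm, mul_left_inj, h.eq_iff]
  exact ⟨⟨0, by ring⟩, ⟨1, by ring⟩⟩

theorem Y_le_pResidual (h : WR S x y z l) (hf : FusV S (zpowers (wu x y 1 1))) :
    closure {wu x y 1 (-1), wu x y 0 (2 * l - 0) * z} ≤ pResidual 2 G := by
  obtain ⟨g, h1, -, a, e⟩ := h.fusV_exists hf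
  have := commutator_mem_pResidual (Nat.coprime_two_right.2 h1) (wu x y l (-l))
  rw [e, wu_inv h.comm, mul_assoc, h.z_mul, ← mul_assoc, wu_mul h.comm,
    show 2 * (l : ℤ) - a + -l = 2 * l - (a + - -l) by ring] at this
  rw [← h.Y_eq (a + - -l), closure_pair_eq_sup]
  exact sup_le (h.w_mem (fun s _ a ha => Normal.conj_mem inferInstance a ha s) (h.omem _ _)
    (h.o_not_mem _ _) this) (zpowers_le.2 this)

theorem invol_conj' (h : WR P x y z l) {t : G} (ht : orderOf t = 2) :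
    IsConj (wu x y (2 * l) (2 * l)) t ∨ IsConj (wu x y (2 * l) 0) t ∨ IsConj z t := by
  obtain ⟨u, hu, h1, h2⟩ := exists_isConj_mem_sylow P (k := 1) ht
  exact (h.invol_conj hu h2).imp (·.trans h1) (Or.imp (·.trans h1) (·.trans h1))

theorem not_isConj_t (h : WR P x y z l) (hf : ¬ OddAct (zpowers x ⊔ zpowers y)) {s : G}
    (hs : s ∈ (P : Subgroup G)) (hne : s ≠ wu x y (2 * l) (2 * l)) :
    ¬ IsConj (wu x y (2 * l) (2 * l)) s := by
  intro e
  obtain ⟨g, rfl⟩ := isConj_iff.1 e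
  exact hne (h.fix_Z hf (h.cmem _) hs)

theorem not_isConj_z (h : WR P x y z l) (hf : ¬ FusV P (zpowers (wu x y 1 1))) (a b : ℤ) :
    ¬ IsConj (wu x y a b) z := by
  intro e
  obtain ⟨g, hg⟩ := isConj_iff.1 e
  have := h.commutator_mem_U hf (h.umem a b) (hg ▸ h.zmem)
  rw [hg] at this
  exact h.z_not_mem ((mul_mem_cancel_right (inv_mem (h.umem_U a b))).1 this)

theorem isConj_t (h : WR P x y z l) (hU : OddAct (zpowers x ⊔ zpowers y))
    (hV : FusV P (zpowers (wu x y 1 1))) {t : G} (ht : orderOf t = 2) :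
    IsConj (wu x y (2 * l) (2 * l)) t := by
  rcases h.invol_conj' ht with e | e | e
  · exact e
  · exact (h.isConj_t_e hU).trans e
  · exact ((h.isConj_t_e hU).trans (h.isConj_e_z hV)).trans e

theorem no_index_two (h : WR P x y z l) (hU : OddAct (zpowers x ⊔ zpowers y))
    (hV : FusV P (zpowers (wu x y 1 1))) : ∀ H : Subgroup G, H.index ≠ 2 := by
  rw [no_index_two_iff, eq_top_iff, ← sylow_sup_pResidual P, sup_le_iff, and_iff_left le_rfl]
  exact h.le_of_mem (h.U_le_pResidual hU) (h.omem _ _) (h.o_not_mem _ _)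
    (h.Y_le_pResidual hV (right_mem_closure_pair _ _))

theorem exists_KY (h : WR P x y z l) (hU : ¬ OddAct (zpowers x ⊔ zpowers y)) :
    ∃ K : Subgroup G, K.Normal ∧ K ⊓ P = closure {wu x y 1 (-1), wu x y 0 (2 * l - 0) * z} ∧
      K.index = 4 * l := by
  obtain ⟨K, h1, h2, h3⟩ := exists_normal_inf_eq P h.Y_le fun a ha g hg =>
    h.commutator_mem_Y hU ha hg
  refine ⟨K, h1, h2, ?_⟩
  have := card_mul_relIndex h.Y_le
  rw [h.card_Y, h.card, ← h3] at this
  exact Nat.eq_of_mul_eq_mul_left (show 0 < 2 * (4 * l) by have := h.lpos; omega)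
    (by rw [this]; ring)

theorem exists_KU (h : WR P x y z l) (hV : ¬ FusV P (zpowers (wu x y 1 1))) :
    ∃ K : Subgroup G, K.Normal ∧ K ⊓ P = zpowers x ⊔ zpowers y ∧ K.index = 2 := by
  obtain ⟨K, h1, h2, h3⟩ := exists_normal_inf_eq P h.U_le fun a ha g hg =>
    h.commutator_mem_U hV ha hg
  exact ⟨K, h1, h2, h3.trans h.relIndex_U⟩

theorem weaklyClosed (h : WR P x y z l) (hU : ¬ OddAct (zpowers x ⊔ zpowers y)) {Z : Subgroup G}
    (hZ : Z ≤ (center (P : Subgroup G)).map (P : Subgroup G).subtype) :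
    IsWeaklyClosed Z (P : Subgroup G) := by
  refine ⟨hZ.trans (map_subtype_le _), fun g hg => ?_⟩
  rw [map_center_subtype, h.center_eq] at hZ
  rw [cj_def] at hg ⊢
  refine eq_of_le_of_card_ge (cj_le_iff'.2 fun a ha => ?_) (card_cj g Z).ge
  rwa [h.fix_Z hU (hZ ha) (cj_le_iff'.1 hg _ ha)]

theorem quaternion_case (h : WR P x y z l) (hU : ¬ OddAct (zpowers x ⊔ zpowers y))
    (hV : FusV P (zpowers (wu x y 1 1))) : ∃ K : Subgroup G, K.Normal ∧ K.index = 4 * l ∧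
      (∀ R : Sylow 2 ↥K, ∃ m : ℕ, 1 ≤ m ∧ Nonempty ((R : Subgroup ↥K) ≃* QuaternionGroup (2 ^ m))) ∧
      (∀ H : Subgroup ↥K, H.index ≠ 2) := by
  obtain ⟨K, h1, h2, h3⟩ := h.exists_KY hU
  obtain ⟨k, rfl⟩ := h.pw
  refine ⟨K, h1, h3, fun R => ?_, no_index_two_subgroup_iff.2
    (pResOf_eq_self_of_inf_le P ⟨k + 2, by rw [h3]; ring⟩ (h2 ▸ h.Y_le_pResidual hV))⟩
  obtain ⟨e⟩ := sylow_equiv_of_isSylowOf (isSylowOf_inf_normal P K) R
  obtain ⟨e2⟩ := h.equiv_Y
  rw [inf_comm, h2] at e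
  exact ⟨k + 1, by omega, ⟨by rw [pow_succ']; exact e.trans e2⟩⟩

theorem fus_of_no_index_two (h : WR P x y z l) (hG : ∀ H : Subgroup G, H.index ≠ 2) :
    OddAct (zpowers x ⊔ zpowers y) ∧ FusV P (zpowers (wu x y 1 1)) := by
  constructor
  · by_contra h1
    obtain ⟨K, h2, -, h3⟩ := h.exists_KY h1
    obtain ⟨k, rfl⟩ := h.pw
    have h4 : pResidual 2 G ≤ K := pResidual_le_of_index ⟨k + 2, by rw [h3]; ring⟩
    rw [no_index_two_iff.1 hG, top_le_iff] at h4
    rw [h4, index_top] at h3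
    omega
  · by_contra h1
    obtain ⟨K, -, -, h2⟩ := h.exists_KU h1
    exact hG K h2

theorem setup (h : WR P x y z l) {n : ℕ} (hn : Nat.card P = 2 ^ (2 * n + 1)) {U : Subgroup G}
    (hUS : U ≤ P) (hUab : IsMulCommutative U) (hUcard : Nat.card U = 2 ^ (2 * n)) :
    U = zpowers x ⊔ zpowers y ∧
      (center (P : Subgroup G)).map (P : Subgroup G).subtype = zpowers (wu x y 1 1) ∧
      4 * l = 2 ^ n := by
  obtain ⟨e1, -⟩ := h.card_eq hn
  exact ⟨h.eq_U hUS hUab (by rw [hUcard, e1]; ring), by rw [map_center_subtype, h.center_eq], e1⟩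

end WR

theorem s1208 {G : Type*} [Group G] [Finite G] (S : Sylow 2 G) (hS : Cfsg.IsWreathed (S : Subgroup G)) (n : ℕ) (hn : Nat.card S = 2 ^ (2 * n + 1)) (U : Subgroup G) (hUS : U ≤ S) (hUab : IsMulCommutative U) (hUcard : Nat.card U = 2 ^ (2 * n)) (Q : Subgroup G) (hQS : Q ≤ S) (eQ : Q ≃* QuaternionGroup 2) : ((Subgroup.centralizer (U : Set G)).relIndex (Subgroup.normalizer (U : Set G)) = 2 ∨ (Subgroup.centralizer (U : Set G)).relIndex (Subgroup.normalizer (U : Set G)) = 6) ∧ (((Q ⊔ ((Subgroup.center (S : Subgroup G)).map (S : Subgroup G).subtype)) ⊔ Subgroup.centralizer ((Q ⊔ ((Subgroup.center (S : Subgroup G)).map (S : Subgroup G).subtype) : Subgroup G) : Set G)).relIndex (Subgroup.normalizer ((Q ⊔ ((Subgroup.center (S : Subgroup G)).map (S : Subgroup G).subtype) : Subgroup G) : Set G)) = 2 ∨ ((Q ⊔ ((Subgroup.center (S : Subgroup G)).map (S : Subgroup G).subtype)) ⊔ Subgroup.centralizer ((Q ⊔ ((Subgroup.center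 (S : Subgroup G)).map (S : Subgroup G).subtype) : Subgroup G) : Set G)).relIndex (Subgroup.normalizer ((Q ⊔ ((Subgroup.center (S : Subgroup G)).map (S : Subgroup G).subtype) : Subgroup G) : Set G)) = 6) := by
  obtain ⟨x, y, z, l, h⟩ := exists_WR hS
  obtain ⟨rfl, e2, -⟩ := h.setup hn hUS hUab hUcard
  rw [e2]
  obtain ⟨t, hQ⟩ := exists_Q8 eQ
  have hCU : (S : Subgroup G) ⊓ centralizer ((zpowers (wu x y (2 * l) 0) ⊔
      zpowers (wu x y (2 * l) (2 * l)) : Subgroup G) : Set G) ≤ zpowers x ⊔ zpowers y := by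
    rintro g ⟨h1, h2⟩
    by_contra h3
    exact h.e_not_mem_Z (h.mem_Z_of_comm (h.umem_U _ _) h1 h3 (h2 _ (mem_sup_left (mem_zpowers _))).symm)
  constructor
  · refine eq_two_or_six ?_ ?_
    · have h1 := kf_relIndex_dvd_six h.kf_T h.normalizer_U_le
      rw [← inf_relIndex_right] at h1 ⊢
      convert h1 using 2
      refine le_antisymm (inf_le_inf_right _ (centralizer_anti h.T_le_U)) (le_inf ?_ inf_le_right)
      have h2 := (isSylowOf_sylow S h.S_le_normalizer_U).inf_of_le (N := centralizer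
        ((zpowers (wu x y (2 * l) 0) ⊔ zpowers (wu x y (2 * l) (2 * l)) : Subgroup G) : Set G) ⊓
        normalizer ((zpowers x ⊔ zpowers y : Subgroup G) : Set G)) inf_le_right
        (h.S_le_normalizer_U.trans (le_normalizer_inf
          (le_normalizer_centralizer h.normalizer_U_le) le_normalizer))
      rw [← h2.sup_pResOf]
      refine sup_le (fun g hg a ha => comm_of_mem h.U_comm ha (hCU ⟨hg.1, hg.2.1⟩))
        (pResOf_le_iff.2 fun g hg hc => h.mem_centralizer_U hg.2 (Nat.coprime_two_right.1 hc) hg.1)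
    · have := two_dvd_relIndex S (lt_of_le_of_ne hUS fun e => h.z_not_mem (e ▸ h.zmem))
        ((inf_le_inf_left _ (centralizer_anti h.T_le_U)).trans hCU)
      rwa [sup_eq_right.2 (fun a ha b hb => comm_of_mem hUab hb ha)] at this
  · have hV : Q ⊔ zpowers (wu x y 1 1) ≤ S := sup_le hQS (h.Z_le_U.trans h.U_le)
    refine eq_two_or_six ?_ (two_dvd_relIndex S (lt_of_le_of_ne hV (h.V_ne hQ hQS))
      fun g hg => mem_sup_right (h.mem_Z_of_central hV
        (fun e => hQ.not_comm (isMulCommutative_of_le e le_sup_left)) hg.1 hg.2))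
    have h1 := hQ.relIndex_dvd_six (h.normalizer_V_le hQ hQS)
    rw [← inf_relIndex_right] at h1 ⊢
    convert h1 using 2
    refine le_antisymm (inf_le_inf_right _ (sup_le (sup_le le_sup_left ((h.Z_le_centralizer hQS).trans
      le_sup_right)) ((centralizer_anti le_sup_left).trans le_sup_right))) (le_inf ?_ inf_le_right)
    rintro g ⟨h2, h3⟩
    obtain ⟨q, hq, c, hc, rfl⟩ := (mem_sup_of_le_normalizer_right
      (le_normalizer.trans (normalizer_le_normalizer_centralizer Q))).1 h2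
    refine mul_mem_sup (mem_sup_left hq) ?_
    rw [centralizer_sup']
    exact ⟨hc, h.normalizer_V_le_centralizer hQ hQS
      ((mul_mem_cancel_left (le_normalizer (mem_sup_left hq))).1 h3)⟩

theorem s1209 {G : Type*} [Group G] [Finite G] (S : Sylow 2 G) (hS : Cfsg.IsWreathed (S : Subgroup G)) (n : ℕ) (hn : Nat.card S = 2 ^ (2 * n + 1)) (U : Subgroup G) (hUS : U ≤ S) (hUab : IsMulCommutative U) (hUcard : Nat.card U = 2 ^ (2 * n)) (Q : Subgroup G) (hQS : Q ≤ S) (eQ : Q ≃* QuaternionGroup 2) (h₁ : (Subgroup.centralizer (U : Set G)).relIndex (Subgroup.normalizer (U : Set G)) = 6) (h₂ : ((Q ⊔ ((Subgroup.center (S : Subgroup G)).map (S : Subgroup G).subtype)) ⊔ Subgroup.centralizer ((Q ⊔ ((Subgroup.center (S : Subgroup G)).map (S : Subgroup G).subtype) : Subgroup G) : Set G)).relIndex (Subgroup.normalizer ((Q ⊔ ((Subgroup.center (S : Subgroup G)).map (S : Subgroup G).subtype) : Subgroup G) : Set G)) = 6) : (∀ H : Subgroup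 G, H.index ≠ 2) ∧ Nat.card {C : ConjClasses G // ∃ t : G, orderOf t = 2 ∧ ConjClasses.mk t = C} = 1 := by
  obtain ⟨x, y, z, l, h⟩ := exists_WR hS
  obtain ⟨rfl, e2, -⟩ := h.setup hn hUS hUab hUcard
  rw [e2] at h₂
  have hU := oddAct_of_six le_rfl h₁
  have hV := (h.fusV_iff eQ hQS).2 (oddAct_of_six le_sup_right h₂)
  exact ⟨h.no_index_two hU hV, card_classes_one h.tord fun t ht => h.isConj_t hU hV ht⟩

theorem s1210 {G : Type*} [Group G] [Finite G] (S : Sylow 2 G) (hS : Cfsg.IsWreathed (S : Subgroup G)) (n : ℕ) (hn : Nat.card S = 2 ^ (2 * n + 1)) (U : Subgroup G) (hUS : U ≤ S) (hUab : IsMulCommutative U) (hUcard : Nat.card U = 2 ^ (2 * n)) (Q : Subgroup G) (hQS : Q ≤ S) (eQ : Q ≃* QuaternionGroup 2) (h₁ : (Subgroup.centralizer (U : Set G)).relIndex (Subgroup.normalizer (U : Set G)) = 2) (h₂ : ((Q ⊔ ((Subgroup.center (S : Subgroup G)).map (S : Subgroup G).subtype)) ⊔ Subgroup.centralizer ((Q ⊔ ((Subgroup.center (S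 : Subgroup G)).map (S : Subgroup G).subtype) : Subgroup G) : Set G)).relIndex (Subgroup.normalizer ((Q ⊔ ((Subgroup.center (S : Subgroup G)).map (S : Subgroup G).subtype) : Subgroup G) : Set G)) = 6) : (∃ K : Subgroup G, K.Normal ∧ K.index = 2 ^ n ∧ (∀ P : Sylow 2 ↥K, ∃ m : ℕ, 1 ≤ m ∧ Nonempty ((P : Subgroup ↥K) ≃* QuaternionGroup (2 ^ m))) ∧ (∀ H : Subgroup ↥K, H.index ≠ 2)) ∧ (∀ Z₀ : Subgroup G, Z₀ ≤ ((Subgroup.center (S : Subgroup G)).map (S : Subgroup G).subtype) → Cfsg.IsWeaklyClosed Z₀ (S : Subgroup G)) ∧ Nat.card {C : ConjClasses G // ∃ t : G, orderOf t = 2 ∧ ConjClasses.mk t = C} = 2 := by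
  obtain ⟨x, y, z, l, h⟩ := exists_WR hS
  obtain ⟨rfl, e2, e3⟩ := h.setup hn hUS hUab hUcard
  rw [e2] at h₂
  have hU := not_oddAct_of_two h₁
  have hV := (h.fusV_iff eQ hQS).2 (oddAct_of_six le_sup_right h₂)
  refine ⟨e3 ▸ h.quaternion_case hU hV, fun Z hZ => h.weaklyClosed hU hZ,
    card_classes_two h.tord h.eord (h.not_isConj_t hU (h.umem _ _) h.e_ne_t) fun t ht => ?_⟩
  exact (h.invol_conj' ht).imp_right (Or.rec id (h.isConj_e_z hV).trans)

theorem s1211 {G : Type*} [Group G] [Finite G] (S : Sylow 2 G) (hS : Cfsg.IsWreathed (S : Subgroup G)) (n : ℕ) (hn : Nat.card S = 2 ^ (2 * n + 1)) (U : Subgroup G) (hUS : U ≤ S) (hUab : IsMulCommutative U) (hUcard : Nat.card U = 2 ^ (2 * n)) (Q : Subgroup G) (hQS : Q ≤ S) (eQ : Q ≃* QuaternionGroup 2) (h₁ : (Subgroup.centralizer (U : Set G)).relIndex (Subgroup.normalizer (U : Set G)) = 6) (h₂ : ((Q ⊔ ((Subgroup.center (S : Subgroup G)).map (S : Subgroup G).subtype)) ⊔ Subgroup.centralizer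 ((Q ⊔ ((Subgroup.center (S : Subgroup G)).map (S : Subgroup G).subtype) : Subgroup G) : Set G)).relIndex (Subgroup.normalizer ((Q ⊔ ((Subgroup.center (S : Subgroup G)).map (S : Subgroup G).subtype) : Subgroup G) : Set G)) = 2) : (∃ K : Subgroup G, K.Normal ∧ K.index = 2 ∧ U ≤ K ∧ (∀ H : Subgroup ↥K, H.index ≠ 2)) ∧ Nat.card {C : ConjClasses G // ∃ t : G, orderOf t = 2 ∧ ConjClasses.mk t = C} = 2 := by
  obtain ⟨x, y, z, l, h⟩ := exists_WR hS
  obtain ⟨rfl, e2, e3⟩ := h.setup hn hUS hUab hUcard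
  rw [e2] at h₂
  have hU := oddAct_of_six le_rfl h₁
  have hV := mt (h.fusV_iff eQ hQS).1
    (not_oddAct_of_two' (S.2.to_le (sup_le hQS (h.Z_le_U.trans h.U_le))) h₂)
  obtain ⟨K, h1, h2, h3⟩ := h.exists_KU hV
  refine ⟨⟨K, h1, h3, h2 ▸ inf_le_left, no_index_two_subgroup_iff.2
    (pResOf_eq_self_of_inf_le S ⟨1, h3⟩ (h2 ▸ h.U_le_pResidual hU))⟩,
    card_classes_two h.tord h.zord (h.not_isConj_z hV _ _) fun t ht => ?_⟩
  rcases h.invol_conj' ht with e | e | e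
  · exact Or.inl e
  · exact Or.inl ((h.isConj_t_e hU).trans e)
  · exact Or.inr e

theorem s1212 {G : Type*} [Group G] [Finite G] (S : Sylow 2 G) (hS : Cfsg.IsWreathed (S : Subgroup G)) (n : ℕ) (hn : Nat.card S = 2 ^ (2 * n + 1)) (U : Subgroup G) (hUS : U ≤ S) (hUab : IsMulCommutative U) (hUcard : Nat.card U = 2 ^ (2 * n)) (Q : Subgroup G) (hQS : Q ≤ S) (eQ : Q ≃* QuaternionGroup 2) (h₁ : (Subgroup.centralizer (U : Set G)).relIndex (Subgroup.normalizer (U : Set G)) = 2) (h₂ : ((Q ⊔ ((Subgroup.center (S : Subgroup G)).map (S : Subgroup G).subtype)) ⊔ Subgroup.centralizer ((Q ⊔ ((Subgroup.center (S : Subgroup G)).map (S : Subgroup G).subtype) : Subgroup G) : Set G)).relIndex (Subgroup.normalizer ((Q ⊔ ((Subgroup.center (S : Subgroup G)).map (S : Subgroup G).subtype) : Subgroup G) : Set G)) = 2) : Cfsg.HasNormalPComplement 2 G ∧ Nat.card {C : ConjClasses G // ∃ t : G, orderOf t = 2 ∧ ConjClasses.mk t = C} = 3 := by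
  obtain ⟨x, y, z, l, h⟩ := exists_WR hS
  obtain ⟨rfl, e2, e3⟩ := h.setup hn hUS hUab hUcard
  rw [e2] at h₂
  have hU := not_oddAct_of_two h₁
  have hV := mt (h.fusV_iff eQ hQS).1
    (not_oddAct_of_two' (S.2.to_le (sup_le hQS (h.Z_le_U.trans h.U_le))) h₂)
  refine ⟨hasNPC_iff_top.2 (npc_top_of_controlsFusion S fun a ha g hg => ?_),
    card_classes_three h.tord h.eord h.zord (h.not_isConj_t hU (h.umem _ _) h.e_ne_t)
      (h.not_isConj_z hV _ _) (h.not_isConj_z hV _ _) fun t ht => h.invol_conj' ht⟩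
  refine h.principle (r := fun a b => ∃ s ∈ (S : Subgroup G), s * a * s⁻¹ = b)
    ⟨fun a => ⟨1, one_mem _, by simp⟩, ?_, ?_⟩ (fun s hs a _ => ⟨s, hs, rfl⟩)
    (fun g h1 h2 h3 => absurd ⟨g, h1, h2, h3⟩ hU)
    (fun Q h1 h2 g h3 h4 h5 => absurd ⟨Q, h1, h2, g, h3, h4, h5⟩ hV) ha hg
  · rintro a _ ⟨s, hs, rfl⟩
    exact ⟨s⁻¹, inv_mem hs, by group⟩
  · rintro a _ _ ⟨s, hs, rfl⟩ ⟨s', hs', rfl⟩
    exact ⟨s' * s, mul_mem hs' hs, by group⟩

end Cfsg.Agent.Inv
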