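import Cfsg.Agent.Inv.Isolated

/-! Strongly embedded subgroups; strongly and weakly closed subgroups. -/

set_option autoImplicit false
set_option linter.unusedVariables false
set_option linter.unusedSectionVars false

namespace Cfsg.Agent.Inv

open Finset Cfsg.Agent.PLoc

variable {G : Type*} [Group G]

theorem se_iff [Finite G] {H : Subgroup G} : IsStronglyEmbedded H ↔ H ≠ ⊤ ∧ Even (Nat.card H) ∧
    ∀ t ∈ H, orderOf t = 2 → ∀ g : G, g * t * g⁻¹ ∈ H → g ∈ H := by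
  refine and_congr_right fun _ => and_congr_right fun _ => ⟨?_, ?_⟩
  · intro h t ht h2 g hg
    by_contra hgH
    exact odd_card_iff.1 (h g hgH) (g * t * g⁻¹) ⟨hg, conj_mem_cj.2 ht⟩
      ((orderOf_conj' g t).trans h2)
  · intro h g hg
    rw [odd_card_iff]
    rintro s ⟨hs, hs'⟩ h2
    have := h s hs h2 g⁻¹ (by simpa using mem_cj.1 hs')
    exact hg (by simpa using this)

theorem se_mem [Finite G] {H : Subgroup G} (hH : IsStronglyEmbedded H) {t g : G} (ht : t ∈ H)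
    (h2 : orderOf t = 2) (hg : g * t * g⁻¹ ∈ H) : g ∈ H := (se_iff.1 hH).2.2 t ht h2 g hg

theorem se_mem_of_commute [Finite G] {H : Subgroup G} (hH : IsStronglyEmbedded H) {t g : G}
    (ht : t ∈ H) (h2 : orderOf t = 2) (hg : Commute g t) : g ∈ H :=
  se_mem hH ht h2 (by rw [hg.eq, mul_inv_cancel_right]; exact ht)

theorem s0223 {G : Type*} [Group G] [Finite G] (H : Subgroup G) (hH : H ≠ ⊤) (heven : Even (Nat.card H)) : Cfsg.IsStronglyEmbedded H ↔ ((∀ t ∈ H, orderOf t = 2 → Subgroup.centralizer ({t} : Set G) ≤ H) ∧ (∀ t ∈ H, ∀ s ∈ H, orderOf t = 2 → orderOf s = 2 → IsConj t s → ∃ h ∈ H, h * t * h⁻¹ = s)) := by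
  constructor
  · intro h
    refine ⟨fun t ht h2 g hg => se_mem_of_commute h ht h2
      (Subgroup.mem_centralizer_singleton_iff.1 hg), fun t ht s hs h2 _ hc => ?_⟩
    obtain ⟨g, rfl⟩ := isConj_iff.1 hc
    exact ⟨g, se_mem h ht h2 hs, rfl⟩
  · rintro ⟨h1, h2⟩
    refine se_iff.2 ⟨hH, heven, fun t ht h g hg => ?_⟩
    obtain ⟨k, hk, e⟩ := h2 t ht _ hg h ((orderOf_conj' g t).trans h) (isConj_conj g t)
    have : k⁻¹ * g ∈ H := by
      apply h1 t ht h
      rw [Subgroup.mem_centralizer_singleton_iff]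
      calc k⁻¹ * g * t = k⁻¹ * (g * t * g⁻¹) * g := by group
        _ = _ := by rw [← e]; group
    simpa using H.mul_mem hk this

theorem smul_mk_eq_iff {H : Subgroup G} {t g k : G} :
    t • (QuotientGroup.mk g : G ⧸ H) = QuotientGroup.mk k ↔ k⁻¹ * t * g ∈ H := by
  rw [MulAction.Quotient.smul_mk, smul_eq_mul, eq_comm, QuotientGroup.eq, mul_assoc]

theorem s0224 {G : Type*} [Group G] [Finite G] (H : Subgroup G) (hH : H ≠ ⊤) (heven : Even (Nat.card H)) : Cfsg.IsStronglyEmbedded H ↔ ∀ t ∈ H, orderOf t = 2 → Nat.card {c : G ⧸ H // t • c = c} = 1 := by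
  constructor
  · intro h t ht h2
    rw [Nat.card_eq_one_iff_exists]
    refine ⟨⟨QuotientGroup.mk 1, smul_mk_eq_iff.2 (by simpa using ht)⟩, ?_⟩
    rintro ⟨c, hc⟩
    obtain ⟨g, rfl⟩ := QuotientGroup.mk_surjective c
    apply Subtype.ext
    have := se_mem h ht h2 (g := g⁻¹) (by simpa using smul_mk_eq_iff.1 hc)
    exact QuotientGroup.eq.2 (by simpa using this)
  · intro h
    refine se_iff.2 ⟨hH, heven, fun t ht h2 g hg => ?_⟩
    have := (Nat.card_eq_one_iff_unique.1 (h t ht h2)).1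
    have e := this.elim ⟨QuotientGroup.mk 1, smul_mk_eq_iff.2 (by simpa using ht)⟩
      ⟨QuotientGroup.mk g⁻¹, smul_mk_eq_iff.2 (by simpa using hg)⟩
    have := QuotientGroup.eq.1 (congrArg Subtype.val e)
    simpa using this

theorem mem_of_normalizer_le [Finite G] {p : ℕ} [Fact p.Prime] {H Q : Subgroup G} {g : G}
    (hQ : IsSylowOf p Q (H ⊓ cj g H)) (h1 : Subgroup.normalizer (Q : Set G) ≤ H)
    (h2 : Subgroup.normalizer (cj g⁻¹ Q : Set G) ≤ H) : g ∈ H := by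
  have h3 : Subgroup.normalizer (Q : Set G) ≤ cj g H := by
    rw [le_cj_iff, cj_normalizer]; exact h2
  have h4 : IsSylowOf p Q ⊤ := by
    apply isSylowOf_of_normalizer
    rw [top_inf_eq]
    exact hQ.of_le Subgroup.le_normalizer (le_inf h1 h3)
  have h5 : IsSylowOf p Q H := h4.of_le (hQ.le.trans inf_le_left) le_top
  have h6 : IsSylowOf p (cj g⁻¹ Q) H := by
    have := h4.cj g⁻¹
    rw [cj_top] at this
    exact this.of_le (le_cj_iff.1 (hQ.le.trans inf_le_right)) le_top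
  obtain ⟨h, hh, e⟩ := h5.exists_cj_eq h6
  have : g * h ∈ H := by
    apply h1
    rw [← cj_eq_self_iff, cj_mul, e, cj_cj_inv]
  simpa using H.mul_mem this (H.inv_mem hh)

theorem normalizer_le_of_sylow [Finite G] {p : ℕ} [Fact p.Prime] {H P : Subgroup G}
    (hP : IsSylowOf p P H) (Pr : Subgroup G → Prop) (hc : ∀ X g, Pr X → Pr (cj g X))
    (h : ∀ X, X ≤ P → Pr X → Subgroup.normalizer (X : Set G) ≤ H) {X : Subgroup G}
    (hX : IsPGroup p X) (hXH : X ≤ H) (hp : Pr X) : Subgroup.normalizer (X : Set G) ≤ H := by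
  obtain ⟨k, hk, e⟩ := hP.exists_cj_le hX hXH
  have := h _ e (hc X k hp)
  rw [← cj_normalizer, cj_le_iff, cj_eq_of_mem (H.inv_mem hk)] at this
  exact this

theorem exists_involution_of_isPGroup [Finite G] {X : Subgroup G} (hX : IsPGroup 2 X)
    (h : X ≠ ⊥) : ∃ t ∈ X, orderOf t = 2 := by
  apply exists_involution_mem
  rcases hX.card_eq_or_dvd with h1 | h1
  · exact absurd (Subgroup.card_eq_one.1 h1) h
  · exact even_iff_two_dvd.2 h1

theorem s0214 {G : Type*} [Group G] [Finite G] (H : Subgroup G) (hH : H ≠ ⊤) (P : Sylow 2 ↥H) (hP : (P : Subgroup ↥H) ≠ ⊥) : Cfsg.IsStronglyEmbedded H ↔ (∀ X : Subgroup ↥H, X ≤ (P : Subgroup ↥H) → X ≠ ⊥ → Subgroup.normalizer ((X.map H.subtype : Subgroup G) : Set G) ≤ H) := by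
  constructor
  · intro h X hX hX1 g hg
    obtain ⟨t, ht, h2⟩ := exists_involution_of_isPGroup (P.2.to_le hX) hX1
    refine se_mem h t.2 (by rw [Subgroup.orderOf_coe, h2]) ?_
    exact Subgroup.map_subtype_le X (conj_mem_of_mem_normalizer hg ⟨t, ht, rfl⟩)
  · intro h
    obtain ⟨t, ht, h2⟩ := exists_involution_of_isPGroup P.2 hP
    refine ⟨hH, even_card_of_mem (by rw [Subgroup.orderOf_coe, h2]) t.2, fun g hg => ?_⟩
    rw [← Nat.not_even_iff_odd]
    intro he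
    apply hg
    have key : ∀ X : Subgroup G, IsPGroup 2 X → X ≤ H → X ≠ ⊥ →
        Subgroup.normalizer (X : Set G) ≤ H := by
      intro X h1 h2 h3
      refine normalizer_le_of_sylow (isSylowOf_map_subtype P) (· ≠ ⊥)
        (fun X g hX => by rwa [Ne, cj_eq_bot_iff]) ?_ h1 h2 h3
      intro Y hY hY1
      have hYH : Y ≤ H := hY.trans (Subgroup.map_subtype_le _)
      have := h (Y.subgroupOf H) (fun y hy => by
        obtain ⟨z, hz, e⟩ := hY hy
        rwa [← show z = y from Subtype.ext e]) (by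
        rw [Ne, Subgroup.subgroupOf_eq_bot, disjoint_iff, inf_eq_left.2 hYH]; exact hY1)
      rwa [Subgroup.map_subgroupOf_eq_of_le hYH] at this
    obtain ⟨Q, hQ⟩ := exists_isSylowOf (p := 2) (H ⊓ cj g H)
    have hQ1 : Q ≠ ⊥ := by
      rw [Ne, hQ.eq_bot_iff, Nat.coprime_two_right, Nat.not_odd_iff_even]
      exact he
    exact mem_of_normalizer_le hQ (key Q hQ.isP (hQ.le.trans inf_le_left) hQ1)
      (key _ (isPGroup_cj _ hQ.isP) (le_cj_iff.1 (hQ.le.trans inf_le_right))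
        (by rwa [Ne, cj_eq_bot_iff]))

theorem pRankLE_iff {p k : ℕ} {X : Subgroup G} : PRankLE p k X ↔
    ∀ A : Subgroup G, A ≤ X → IsMulCommutative A → (∀ a ∈ A, a ^ p = 1) → Nat.card A ≤ p ^ k := by
  constructor
  · intro h A hA h1 h2
    rw [← card_subgroupOf_of_le hA]
    refine h _ (isMulCommutative_of_forall fun x hx y hy => Subtype.ext (comm_of_mem h1 hx hy))
      fun a ha => Subtype.ext (h2 a ha)
  · intro h A h1 h2
    rw [← Subgroup.card_subtype]
    refine h _ (Subgroup.map_subtype_le _) (isMulCommutative_of_forall ?_) ?_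
    · rintro _ ⟨x, hx, rfl⟩ _ ⟨y, hy, rfl⟩
      exact congrArg Subtype.val (comm_of_mem h1 hx hy)
    · rintro _ ⟨x, hx, rfl⟩
      exact congrArg Subtype.val (h2 x hx)

theorem pRankLE_mono {p k : ℕ} {X Y : Subgroup G} (h : X ≤ Y) (hY : PRankLE p k Y) :
    PRankLE p k X :=
  pRankLE_iff.2 fun A hA => pRankLE_iff.1 hY A (hA.trans h)

theorem pRankLE_cj {p k : ℕ} {X : Subgroup G} (g : G) (h : PRankLE p k X) :
    PRankLE p k (cj g X) := by
  rw [pRankLE_iff] at h ⊢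
  intro A hA h1 h2
  rw [← card_cj g⁻¹]
  refine h _ (le_cj_iff.1 hA) (isMulCommutative_cj _ h1) ?_
  rintro _ ⟨a, ha, rfl⟩
  rw [← map_pow, h2 a ha, map_one]

theorem pRankLE_of_sylow [Finite G] {p k : ℕ} [Fact p.Prime] {Q X : Subgroup G}
    (hQ : IsSylowOf p Q X) (h : PRankLE p k Q) : PRankLE p k X := by
  rw [pRankLE_iff]
  intro A hA h1 h2
  obtain ⟨x, hx, e⟩ := hQ.exists_cj_le (Q := A)
    (isPGroup_iff_forall.2 fun a ha => ⟨1, by rw [pow_one, h2 a ha]⟩) hA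
  exact pRankLE_iff.1 (pRankLE_cj x⁻¹ h) A (cj_le_iff.1 e) h1 h2

theorem s1231 {G : Type*} [Group G] [Finite G] {p : ℕ} [Fact p.Prime] (k : ℕ) (hk : 1 ≤ k) (H : Subgroup G) (P : Sylow p ↥H) (hP : ¬ Cfsg.PRankLE p (k - 1) ↥(P : Subgroup ↥H)) : (∀ X : Subgroup G, X ≤ (P : Subgroup ↥H).map H.subtype → ¬ Cfsg.PRankLE p (k - 1) ↥X → Subgroup.normalizer (X : Set G) ≤ H) ↔ (∀ g : G, g ∉ H → Cfsg.PRankLE p (k - 1) ↥(H ⊓ H.map (MulAut.conj g).toMonoidHom)) := by
  have hc : ∀ (X : Subgroup G) (g : G), ¬ PRankLE p (k - 1) X → ¬ PRankLE p (k - 1) (cj g X) := by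
    intro X g h h'
    have := pRankLE_cj g⁻¹ h'
    rw [cj_inv_cj] at this
    exact h this
  constructor
  · intro h g hg
    by_contra hr
    apply hg
    have key : ∀ X : Subgroup G, IsPGroup p X → X ≤ H → ¬ PRankLE p (k - 1) X →
        Subgroup.normalizer (X : Set G) ≤ H := fun X h1 h2 h3 =>
      normalizer_le_of_sylow (isSylowOf_map_subtype P) (fun X => ¬ PRankLE p (k - 1) X)
        hc h h1 h2 h3
    obtain ⟨Q, hQ⟩ := exists_isSylowOf (p := p) (H ⊓ cj g H)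
    have hQ1 : ¬ PRankLE p (k - 1) Q := fun h' => hr (pRankLE_of_sylow hQ h')
    exact mem_of_normalizer_le hQ (key Q hQ.isP (hQ.le.trans inf_le_left) hQ1)
      (key _ (isPGroup_cj _ hQ.isP) (le_cj_iff.1 (hQ.le.trans inf_le_right)) (hc _ _ hQ1))
  · intro h X hX hr g hg
    by_contra hgH
    apply hr
    have hXH : X ≤ H := hX.trans (Subgroup.map_subtype_le _)
    refine pRankLE_mono (le_inf hXH ?_) (h g hgH)
    rw [← cj_eq_self_iff.2 hg]
    exact cj_mono g hXH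

theorem se_odd_mul [Finite G] {H : Subgroup G} (hH : IsStronglyEmbedded H) {t u : G} (ht : t ∈ H)
    (h2 : orderOf t = 2) (hu : u ∉ H) (hu2 : orderOf u = 2) : Odd (orderOf (t * u)) := by
  rw [← Nat.not_even_iff_odd]
  intro he
  obtain ⟨h1, h3, h4⟩ := s0209 t u h2 hu2 he
  exact hu (se_mem_of_commute hH (se_mem_of_commute hH ht h2 h3) h1 h4.symm)

theorem exists_involution_conj_of_odd {x y : G} (hx : orderOf x = 2) (hy : orderOf y = 2)
    (hodd : Odd (orderOf (x * y))) (hne : x ≠ y) :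
    ∃ w ∈ Subgroup.closure ({x, y} : Set G), orderOf w = 2 ∧ w * x * w⁻¹ = y := by
  obtain ⟨k, hk⟩ := exists_zpow_conj_of_odd (sq_of_ord2 hx) (sq_of_ord2 hy) hodd
  have e : (x * y) ^ k * x * x * ((x * y) ^ k * x)⁻¹ = y := by
    refine Eq.trans ?_ hk; group
  refine ⟨(x * y) ^ k * x, Subgroup.mul_mem _ (Subgroup.zpow_mem _ (Subgroup.mul_mem _
    (left_mem_closure_pair x y) (right_mem_closure_pair x y)) k) (left_mem_closure_pair x y),
    ord2_iff.2 ⟨?_, ?_⟩, e⟩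
  · rw [mul_assoc, ← mul_assoc x, mul_zpow_of_inverts (inverts_left (sq_of_ord2 hx)
      (sq_of_ord2 hy)), mul_assoc, sq_of_ord2 hx]
    group
  · intro h
    rw [h] at e
    exact hne (by simpa using e)

theorem se_exists_involution_conj [Finite G] {H : Subgroup G} (hH : IsStronglyEmbedded H)
    {t u : G} (ht : t ∈ H) (h2 : orderOf t = 2) (hu : u ∉ H) (hu2 : orderOf u = 2) :
    ∃ w, orderOf w = 2 ∧ w * t * w⁻¹ = u := by
  obtain ⟨w, -, h⟩ := exists_involution_conj_of_odd h2 hu2 (se_odd_mul hH ht h2 hu hu2)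
    (fun h => hu (h ▸ ht))
  exact ⟨w, h⟩

theorem se_isConj [Finite G] {H : Subgroup G} (hH : IsStronglyEmbedded H) {a b : G}
    (ha : orderOf a = 2) (hb : orderOf b = 2) : IsConj a b := by
  obtain ⟨t, ht, h2⟩ := exists_involution_mem hH.2.1
  obtain ⟨g, hg⟩ : ∃ g, g ∉ H := by
    by_contra h
    push Not at h
    exact hH.1 (eq_top_iff.2 fun g _ => h g)
  have key : ∀ a, orderOf a = 2 → IsConj t a := by
    intro a ha
    by_cases h : a ∈ H
    · obtain ⟨w, -, hw⟩ := se_exists_involution_conj hH h ha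
        (fun h' => hg (se_mem hH ht h2 h')) ((orderOf_conj' g t).trans h2)
      exact (isConj_conj g t).trans (isConj_iff.2 ⟨w, hw⟩).symm
    · obtain ⟨w, -, hw⟩ := se_exists_involution_conj hH ht h2 h ha
      exact isConj_iff.2 ⟨w, hw⟩
  exact (key a ha).symm.trans (key b hb)

theorem se_exists_inverted [Finite G] {H : Subgroup G} (hH : IsStronglyEmbedded H) {u s t : G}
    (hu : orderOf u = 2) (huH : u ∉ H) (hs : orderOf s = 2) (hsH : s ∈ H) (ht : orderOf t = 2)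
    (htH : t ∈ H) : ∃ d ∈ H, u * d * u⁻¹ = d⁻¹ ∧ d * s * d⁻¹ = t := by
  obtain ⟨w, hw, e⟩ := se_exists_involution_conj hH hsH hs
    (fun h => huH (se_mem hH htH ht h)) ((orderOf_conj' u t).trans ht)
  have e2 : u * w * s * (u * w)⁻¹ = t := by
    calc u * w * s * (u * w)⁻¹ = u * (w * s * w⁻¹) * u⁻¹ := by group
      _ = (u * u) * t * (u * u)⁻¹ := by rw [e]; group
      _ = t := by rw [sq_of_ord2 hu]; group
  exact ⟨u * w, se_mem hH hsH hs (e2 ▸ htH), inverts_left (sq_of_ord2 hu) (sq_of_ord2 hw), e2⟩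

theorem mem_cj_of_inverts {H : Subgroup G} {u d : G} (hd : d ∈ H) (h : u * d * u⁻¹ = d⁻¹) :
    d ∈ cj u H := by
  have : d = u * d⁻¹ * u⁻¹ := by
    calc d = (u * d * u⁻¹)⁻¹ := by rw [h, inv_inv]
      _ = _ := by group
  rw [this, conj_mem_cj]
  exact H.inv_mem hd

theorem s1225 {G : Type*} [Group G] [Finite G] (H : Subgroup G) (hH : Cfsg.IsStronglyEmbedded H) (u : G) (hu : orderOf u = 2) (huH : u ∉ H) (s t : G) (hs : orderOf s = 2) (hsH : s ∈ H) (ht : orderOf t = 2) (htH : t ∈ H) : (∃ d ∈ (H ⊓ H.map (MulAut.conj u).toMonoidHom), d * s * d⁻¹ = t) ∧ ∀ a b : G, orderOf a = 2 → orderOf b = 2 → IsConj a b := by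
  refine ⟨?_, fun a b ha hb => se_isConj hH ha hb⟩
  obtain ⟨d, hd, h1, h2⟩ := se_exists_inverted hH hu huH hs hsH ht htH
  exact ⟨d, ⟨hd, mem_cj_of_inverts hd h1⟩, h2⟩

/-- an element centralized by `s` and inverted by `u`, with `su` of odd order, squares to 1 -/
theorem sq_eq_one_of_centralized_inverted {s u j : G} (hodd : Odd (orderOf (s * u)))
    (hs : Commute j s) (hu : u * j * u⁻¹ = j⁻¹) : j * j = 1 := by
  have h2 : (s * u) * j * (s * u)⁻¹ = j⁻¹ := by
    calc (s * u) * j * (s * u)⁻¹ = s * (u * j * u⁻¹) * s⁻¹ := by group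
      _ = _ := by rw [hu, ← hs.inv_left.eq]; group
  have h3 := conj_pow_of_inverts h2 hodd
  rw [pow_orderOf_eq_one] at h3
  exact mul_eq_one_iff_eq_inv.2 (by simpa using h3)

theorem se_eq_of_commute_mul [Finite G] {H : Subgroup G} (hH : IsStronglyEmbedded H) {s u v : G}
    (hs : orderOf s = 2) (hsH : s ∈ H) (hu : orderOf u = 2) (huH : u ∉ H) (hv : orderOf v = 2)
    (hc : Commute (u * v) s) : u = v := by
  have h1 := inverts_left (sq_of_ord2 hu) (sq_of_ord2 hv)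
  have h2 := sq_eq_one_of_centralized_inverted (se_odd_mul hH hsH hs huH hu) hc h1
  by_cases h3 : u * v = 1
  · rw [← inv_of_ord2 hv]; exact eq_inv_of_mul_eq_one_left h3
  · exact absurd (se_mem_of_commute hH (se_mem_of_commute hH hsH hs hc) (ord2_iff.2 ⟨h2, h3⟩)
      (commute_of_inverts h1 h2).symm) huH

theorem se_card_coset [Finite G] {H : Subgroup G} (hH : IsStronglyEmbedded H) {g : G}
    (hg : g ∉ H) : Nat.card {w : G // orderOf w = 2 ∧ g⁻¹ * w ∈ H} =
      Nat.card {t : G // orderOf t = 2 ∧ t ∈ H} := by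
  obtain ⟨s, hs, h2⟩ := exists_involution_mem hH.2.1
  refine Nat.card_congr (Equiv.ofBijective (fun w => ⟨(g⁻¹ * w.1) * s * (g⁻¹ * w.1)⁻¹,
    (orderOf_conj' _ s).trans h2, H.mul_mem (H.mul_mem w.2.2 hs) (H.inv_mem w.2.2)⟩) ⟨?_, ?_⟩)
  · rintro ⟨u, hu, hu'⟩ ⟨v, hv, hv'⟩ h
    have h' : (g⁻¹ * u) * s * (g⁻¹ * u)⁻¹ = (g⁻¹ * v) * s * (g⁻¹ * v)⁻¹ := congrArg Subtype.val h
    apply Subtype.ext
    refine se_eq_of_commute_mul hH h2 hs hu (fun h => hg ?_) hv ?_
    · simpa using H.mul_mem h (H.inv_mem hu')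
    · show u * v * s = s * (u * v)
      calc u * v * s = u * g * ((g⁻¹ * v) * s * (g⁻¹ * v)⁻¹) * g⁻¹ * v := by group
        _ = (u * u) * s * u⁻¹ * v := by rw [← h']; group
        _ = _ := by rw [sq_of_ord2 hu, inv_of_ord2 hu]; group
  · rintro ⟨t, ht, htH⟩
    obtain ⟨w, hw, e⟩ := se_exists_involution_conj hH hs h2
      (fun h => hg (se_mem hH htH ht h)) ((orderOf_conj' g t).trans ht)
    have e2 : (g⁻¹ * w) * s * (g⁻¹ * w)⁻¹ = t := by
      calc (g⁻¹ * w) * s * (g⁻¹ * w)⁻¹ = g⁻¹ * (w * s * w⁻¹) * g := by group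
        _ = t := by rw [e]; group
    exact ⟨⟨w, hw, se_mem hH hs h2 (e2 ▸ htH)⟩, Subtype.ext e2⟩

theorem s1224 {G : Type*} [Group G] [Finite G] (H : Subgroup G) (hH : Cfsg.IsStronglyEmbedded H) (x y : G ⧸ H) (hxy : x ≠ y) : Nat.card {i : G // orderOf i = 2 ∧ i • x = y} = Nat.card {t : G // orderOf t = 2 ∧ t ∈ H} := by
  obtain ⟨a, rfl⟩ := QuotientGroup.mk_surjective x
  obtain ⟨b, rfl⟩ := QuotientGroup.mk_surjective y
  rw [← se_card_coset hH (g := a⁻¹ * b) (fun h => hxy (QuotientGroup.eq.2 h))]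
  refine Nat.card_congr (Equiv.subtypeEquiv (MulAut.conj a⁻¹).toEquiv fun i => ?_)
  simp only [MulEquiv.toEquiv_eq_coe, EquivLike.coe_coe, MulAut.conj_apply, orderOf_conj',
    smul_mk_eq_iff]
  simp [mul_assoc]

theorem s0231 {G : Type*} [Group G] [Finite G] (T : Sylow 2 G) (hnn : ¬ (T : Subgroup G).Normal) (hTI : ∀ g : G, cj g (T : Subgroup G) ≠ T → cj g (T : Subgroup G) ⊓ T = ⊥) (s t : G) (hs : orderOf s = 2) (ht : orderOf t = 2) : IsConj s t := by
  have hin : ∀ u ∈ Subgroup.normalizer ((T : Subgroup G) : Set G), orderOf u = 2 →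
      u ∈ (T : Subgroup G) := fun u hu h2 =>
    (isSylowOf_top T).le_of_le_normalizer (isPGroup_zpowers (pow_two_pow_one_of_ord2 h2)) le_top
      (Subgroup.zpowers_le.2 hu) (Subgroup.mem_zpowers u)
  refine se_isConj (H := Subgroup.normalizer ((T : Subgroup G) : Set G))
    (se_iff.2 ⟨fun h => hnn (Subgroup.normalizer_eq_top_iff.1 h), ?_, ?_⟩) hs ht
  · obtain ⟨g, hg⟩ := exists_conj_mem_sylow T (pow_two_pow_one_of_ord2 hs)
    exact even_card_of_mem ((orderOf_conj' g s).trans hs) (Subgroup.le_normalizer hg)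
  · intro u hu h2 g hg
    rw [← cj_eq_self_iff]
    by_contra hne
    have : g * u * g⁻¹ ∈ cj g (T : Subgroup G) ⊓ T :=
      ⟨conj_mem_cj.2 (hin u hu h2), hin _ hg ((orderOf_conj' g u).trans h2)⟩
    rw [hTI g hne] at this
    exact ne_one_of_ord2 ((orderOf_conj' g u).trans h2) this

/-! ### strong and weak closure -/

theorem s1249 {G : Type*} [Group G] [Finite G] {p : ℕ} [Fact p.Prime] (P Q : Sylow p G) (A : Subgroup G) (hAQ : A ≤ Q) (hA : Cfsg.IsStronglyClosed A (P : Subgroup G)) : Cfsg.IsStronglyClosed A (Q : Subgroup G) := by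
  obtain ⟨h, -, e⟩ := (isSylowOf_top Q).exists_cj_eq (isSylowOf_top P)
  have h1 : h ∈ Subgroup.normalizer (A : Set G) :=
    mem_normalizer_of_conj_mem fun x hx => hA.2 x hx h (e ▸ conj_mem_cj.2 (hAQ hx))
  refine ⟨hAQ, fun x hx g hg => ?_⟩
  have h2 := hA.2 x hx (h * g) (by
    have : h * g * x * (h * g)⁻¹ = h * (g * x * g⁻¹) * h⁻¹ := by group
    rw [this, ← e]; exact conj_mem_cj.2 hg)
  simpa [mul_assoc] using conj_mem_of_mem_normalizer' h1 h2

theorem s1250 {G : Type*} [Group G] [Finite G] {p : ℕ} [Fact p.Prime] (S : Sylow p G) (A : Subgroup G) (hA : Cfsg.IsStronglyClosed A (S : Subgroup G)) (N : Subgroup G) [N.Normal] : Cfsg.IsStronglyClosed (A.map (QuotientGroup.mk' N)) ((S : Subgroup G).map (QuotientGroup.mk' N)) := by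
  refine ⟨Subgroup.map_mono hA.1, ?_⟩
  rintro _ ⟨a, ha, rfl⟩ g hg
  obtain ⟨g, rfl⟩ := QuotientGroup.mk'_surjective N g
  obtain ⟨s, hs, e⟩ := hg
  have hn : s⁻¹ * (g * a * g⁻¹) ∈ N := by
    rw [← QuotientGroup.eq]; simpa using e
  have h1 : g * a * g⁻¹ ∈ (S : Subgroup G) ⊔ N := by
    have := Subgroup.mul_mem_sup hs hn
    simpa using this
  have hS : IsSylowOf p (S : Subgroup G) ((S : Subgroup G) ⊔ N) :=
    (isSylowOf_top S).of_le le_sup_left le_top
  obtain ⟨k, hk⟩ := S.2 ⟨a, hA.1 ha⟩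
  have hk' : (g * a * g⁻¹) ^ p ^ k = 1 := by
    rw [conj_pow, show a ^ p ^ k = 1 from congrArg Subtype.val hk]; group
  obtain ⟨h, hh, e2⟩ := hS.exists_cj_le (isPGroup_zpowers hk') (Subgroup.zpowers_le.2 h1)
  have h3 : h * (g * a * g⁻¹) * h⁻¹ ∈ (S : Subgroup G) :=
    e2 (conj_mem_cj.2 (Subgroup.mem_zpowers _))
  have h4 : h * (g * a * g⁻¹) * h⁻¹ ∈ A := by
    have := hA.2 a ha (h * g) (by simpa [mul_assoc] using h3)
    simpa [mul_assoc] using this
  obtain ⟨s', hs', n, hn', rfl⟩ := Subgroup.mem_sup_of_normal_right.1 hh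
  have h5 := hA.2 _ h4 s'⁻¹ ((S : Subgroup G).mul_mem ((S : Subgroup G).mul_mem
    ((S : Subgroup G).inv_mem hs') h3) (by simpa using hs'))
  refine ⟨_, h5, ?_⟩
  have h6 : (QuotientGroup.mk n : G ⧸ N) = 1 := (QuotientGroup.eq_one_iff n).2 hn'
  simp [h6, mul_assoc]

theorem weaklyClosed_cj_eq [Finite G] {p : ℕ} [Fact p.Prime] {T : Sylow p G} {W P : Subgroup G}
    (hW : IsWeaklyClosed W (T : Subgroup G)) (hP : IsPGroup p P) {a b : G} (ha : cj a W ≤ P)
    (hb : cj b W ≤ P) : cj a W = cj b W := by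
  obtain ⟨k, -, hk⟩ := (isSylowOf_top T).exists_cj_le hP le_top
  have h1 : cj (k * a) W = W := hW.2 _ (by rw [cj_def, cj_mul]; exact (cj_mono k ha).trans hk)
  have h2 : cj (k * b) W = W := hW.2 _ (by rw [cj_def, cj_mul]; exact (cj_mono k hb).trans hk)
  apply cj_injective k
  rw [← cj_mul, ← cj_mul, h1, h2]

theorem s1243 {G : Type*} [Group G] [Finite G] {p : ℕ} [Fact p.Prime] (T : Sylow p G) (W : Subgroup G) (hW : Cfsg.IsWeaklyClosed W (T : Subgroup G)) (d g : G) (hd : d ∈ Subgroup.centralizer (W : Set G)) (hgd : g * d * g⁻¹ ∈ Subgroup.centralizer (W : Set G)) : ∃ h ∈ Subgroup.normalizer (W : Set G), h * d * h⁻¹ = g * d * g⁻¹ := by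
  have hWp : IsPGroup p W := T.2.to_le hW.1
  have h1 : W ≤ Subgroup.centralizer ({d} : Set G) := fun w hw =>
    Subgroup.mem_centralizer_singleton_iff.2 (hd w hw)
  have h2 : cj g⁻¹ W ≤ Subgroup.centralizer ({d} : Set G) := by
    rw [cj_le_iff, inv_inv, ← cj_def, ← centralizer_conj]
    exact fun w hw => Subgroup.mem_centralizer_singleton_iff.2 (hgd w hw)
  obtain ⟨P, hP, h3⟩ := exists_isSylowOf_ge (isPGroup_cj g⁻¹ hWp) h2
  obtain ⟨c, hc, h4⟩ := hP.exists_cj_le hWp h1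
  have h5 := weaklyClosed_cj_eq hW hP.isP h4 h3
  refine ⟨g * c, ?_, ?_⟩
  · rw [← cj_eq_self_iff, cj_mul, h5, cj_cj_inv]
  · rw [mul_assoc g, Subgroup.mem_centralizer_singleton_iff.1 hc]; group

theorem s1178 {G : Type*} [Group G] [Finite G] (S : Sylow 2 G) (A : Subgroup G) (hW : Cfsg.IsWeaklyClosed A (S : Subgroup G)) (g : G) (hc : ∀ a ∈ A, ∀ b ∈ A.map (MulAut.conj g).toMonoidHom, a * b = b * a) : A.map (MulAut.conj g).toMonoidHom = A := by
  have hA : IsPGroup 2 A := S.2.to_le hW.1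
  have h1 : IsPGroup 2 (A ⊔ cj g A : Subgroup G) :=
    IsPGroup.to_sup_of_normal_right' hA (isPGroup_cj g hA)
      (le_trans (show A ≤ Subgroup.centralizer (cj g A : Set G) from
        fun a ha b hb => (hc a ha b hb).symm) (Subgroup.centralizer_le_normalizer _))
  have := weaklyClosed_cj_eq hW h1 (a := g) (b := 1) le_sup_right (by rw [cj_one]; exact le_sup_left)
  rwa [cj_one] at this

theorem s1177 {G : Type*} [Group G] [Finite G] (A : Subgroup G) (hA : Cfsg.IsElementaryAbelian 2 A) (hA1 : A ≠ ⊥) (hTI : ∀ g : G, A.map (MulAut.conj g).toMonoidHom ⊓ A = ⊥ ∨ A.map (MulAut.conj g).toMonoidHom = A) (hb : ∀ g : G, (∀ a ∈ A, ∀ b ∈ A.map (MulAut.conj g).toMonoidHom, a * b = b * a) → A.map (MulAut.conj g).toMonoidHom = A) (a : G) (ha : a ∈ A) (ha1 : a ≠ 1) (g : G) (hg : A.map (MulAut.conj g).toMonoidHom ≤ Subgroup.centralizer ({a} : Set G)) : A.map (MulAut.conj g).toMonoidHom = A := by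
  simp only [cj_def] at *
  have hnorm : ∀ (h x y : G), y ∈ cj h A → y ≠ 1 → Commute x y →
      x ∈ Subgroup.normalizer (cj h A : Set G) := by
    intro h x y hy hy1 hc
    rw [← cj_eq_self_iff]
    rcases hTI (h⁻¹ * x * h) with h1 | h1
    · exfalso
      have : h⁻¹ * y * h ∈ cj (h⁻¹ * x * h) A ⊓ A := by
        refine ⟨mem_cj.2 ?_, mem_cj.1 hy⟩
        have : (h⁻¹ * x * h)⁻¹ * (h⁻¹ * y * h) * (h⁻¹ * x * h) = h⁻¹ * (x⁻¹ * (y * x)) * h := by
          group
        rw [this, ← hc.eq, inv_mul_cancel_left]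
        exact mem_cj.1 hy
      rw [h1, Subgroup.mem_bot] at this
      exact hy1 (by simpa [mul_assoc] using congrArg (fun z => h * z * h⁻¹) this)
    · rw [← cj_mul, show x * h = h * (h⁻¹ * x * h) by group, cj_mul, h1]
  rcases hTI g with hAB | hAB
  swap
  · exact hAB
  set B := cj g A with hB
  have hBA : ∀ b ∈ B, b ∈ Subgroup.normalizer (A : Set G) := by
    intro b hb
    have := hnorm 1 b a (by rwa [cj_one]) ha1 (Subgroup.mem_centralizer_singleton_iff.1 (hg hb))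
    rwa [cj_one] at this
  have hcent : ∀ x ∈ A, ∀ b ∈ B, b ≠ 1 → Commute x b → ∀ c ∈ B, Commute x c := by
    intro x hx b hb hb1 hc c hc'
    have h1 := hnorm g x b hb hb1 hc
    have : x * c * x⁻¹ * c⁻¹ ∈ B ⊓ A := by
      refine ⟨B.mul_mem (conj_mem_of_mem_normalizer h1 hc') (B.inv_mem hc'), ?_⟩
      have : x * c * x⁻¹ * c⁻¹ = x * (c * x⁻¹ * c⁻¹) := by group
      rw [SetLike.mem_coe, this]
      exact A.mul_mem hx (conj_mem_of_mem_normalizer (hBA c hc') (A.inv_mem hx))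
    rw [hAB, Subgroup.mem_bot] at this
    exact commutatorElement_eq_one_iff_commute.1 this
  apply hb
  intro x hx
  by_contra hcon
  have hx1 : ∀ b ∈ B, Commute x b → b = 1 := by
    intro b hb hc
    by_contra hb1
    exact hcon (hcent x hx b hb hb1 hc)
  have hsq : ∀ b ∈ B, b * b = 1 := by
    rintro _ ⟨y, hy, rfl⟩
    rw [← map_mul, ← pow_two, hA.2 y hy, map_one]
  have hmem : ∀ b ∈ B, x * (b * x * b⁻¹) ∈ A := fun b hb =>
    A.mul_mem hx (conj_mem_of_mem_normalizer (hBA b hb) hx)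
  have hcb : ∀ b ∈ B, ∀ c ∈ B, Commute (x * (b * x * b⁻¹)) c := by
    intro b hb
    by_cases hb1 : b = 1
    · intro c _
      subst hb1
      have : x * x = 1 := by rw [← pow_two, hA.2 x hx]
      simp [this]
    · refine hcent _ (hmem b hb) b hb hb1 ?_
      show x * (b * x * b⁻¹) * b = b * (x * (b * x * b⁻¹))
      have h1 := comm_of_mem hA.1 hx (conj_mem_of_mem_normalizer (hBA b hb) hx)
      calc x * (b * x * b⁻¹) * b = (b * x * b⁻¹) * x * b := by rw [h1]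
        _ = b * (x * (b⁻¹ * x * b)) := by group
        _ = _ := by rw [inv_eq_of_mul_eq_one_right (hsq b hb)]
  have hinj : Function.Injective (fun b : B => (⟨x * (b.1 * x * b.1⁻¹), hmem b.1 b.2⟩ : A)) := by
    intro b c h
    have h' : x * (b.1 * x * b.1⁻¹) = x * (c.1 * x * c.1⁻¹) := congrArg Subtype.val h
    have h2 := mul_left_cancel h'
    have h3 := hx1 (c.1⁻¹ * b.1) (B.mul_mem (B.inv_mem c.2) b.2) (by
      show x * (c.1⁻¹ * b.1) = c.1⁻¹ * b.1 * x
      calc x * (c.1⁻¹ * b.1) = c.1⁻¹ * (c.1 * x * c.1⁻¹) * b.1 := by group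
        _ = _ := by rw [← h2]; group)
    exact Subtype.ext (inv_mul_eq_one.1 h3).symm
  obtain ⟨b, hb⟩ := (hinj.bijective_of_nat_card_le (card_cj g A).ge).2 ⟨x, hx⟩
  have hb' : x * (b.1 * x * b.1⁻¹) = x := congrArg Subtype.val hb
  exact hcon (hb' ▸ hcb b.1 b.2)

theorem s1176 {G : Type*} [Group G] [Finite G] (x₀ : G) (hx₀ : orderOf x₀ = 2) (ha : ∀ x : G, IsConj x₀ x → IsPGroup 2 ↥(Subgroup.closure {y : G | IsConj x₀ y ∧ Commute y x}) ∧ ⁅⁅Subgroup.closure {y : G | IsConj x₀ y ∧ Commute y x}, Subgroup.closure {y : G | IsConj x₀ y ∧ Commute y x}⁆, Subgroup.closure {y : G | IsConj x₀ y ∧ Commute y x}⁆ = ⊥) (hb : ∀ x y : G, IsConj x₀ x → IsConj x₀ y → x ≠ y → Commute x y → IsConj x₀ (x * y)) (x y : G) (hx : IsConj x₀ x) (hy : IsConj x₀ y) (heven : Even (orderOf (x * y))) (hgt : 2 < orderOf (x * y)) : orderOf (x * y) = 4 := by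
  have hx2 : orderOf x = 2 := orderOf_isConj hx ▸ hx₀
  have hy2 : orderOf y = 2 := orderOf_isConj hy ▸ hx₀
  obtain ⟨h1, h2, h3⟩ := s0209 x y hx2 hy2 heven
  have h4 : IsConj x₀ (x * (x * y) ^ (orderOf (x * y) / 2)) := by
    rcases Nat.even_or_odd (orderOf (x * y) / 2) with h' | h'
    · exact hx.trans ((isConj_mul_pow (sq_of_ord2 hx2) (sq_of_ord2 hy2) _).1 h')
    · exact hy.trans ((isConj_mul_pow (sq_of_ord2 hx2) (sq_of_ord2 hy2) _).2 h')
  generalize (x * y) ^ (orderOf (x * y) / 2) = z at h1 h2 h3 h4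
  have h5 := hb x _ hx h4 (fun h => ne_one_of_ord2 h1 (by simpa using h))
    ((Commute.refl x).mul_right h2.symm)
  rw [mul_mul_of_ord2 hx2] at h5
  have hxV : x ∈ Subgroup.closure {y : G | IsConj x₀ y ∧ Commute y z} :=
    Subgroup.subset_closure ⟨hx, h2.symm⟩
  have hyV : y ∈ Subgroup.closure {y : G | IsConj x₀ y ∧ Commute y z} :=
    Subgroup.subset_closure ⟨hy, h3.symm⟩
  have h6 := Subgroup.commutator_mem_commutator (Subgroup.commutator_mem_commutator hxV hyV) hxV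
  rw [(ha z h5).2, Subgroup.mem_bot, commutatorElement_eq_one_iff_commute,
    commutatorElement_def, inv_of_ord2 hx2, inv_of_ord2 hy2] at h6
  have h7 := conj_pow_inv (inverts_left (sq_of_ord2 hx2) (sq_of_ord2 hy2)) 2
  have h8 : x * y * x * y = (x * y) ^ 2 := by rw [pow_two]; group
  rw [h8] at h6
  rw [← h6.eq, mul_inv_cancel_right] at h7
  have h9 : (x * y) ^ 4 = 1 := by
    rw [show 4 = 2 + 2 by rfl, pow_add]; exact mul_eq_one_iff_eq_inv.2 h7
  have h10 := orderOf_dvd_of_pow_eq_one h9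
  have := Nat.le_of_dvd (by norm_num) h10
  obtain ⟨c, hc⟩ := heven
  omega

end Cfsg.Agent.Inv
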