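import Cfsg.Agent.Inv.Zas2
import Cfsg.Agent.Class.Dick4

/-! Field coordinates for abelian groups with an irreducible abelian group of operators,
and the recognition of `PGL₂` and `PSL₂`. -/

set_option autoImplicit false
set_option linter.unusedVariables false
set_option linter.unusedSectionVars false

namespace Cfsg.Agent.Inv

open Subgroup MulAction Cfsg.Agent.PLoc
open scoped MatrixGroups IsMulCommutative

theorem exists_field_end {W : Type*} [AddCommGroup W] [Finite W] [Nontrivial W]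
    (S T : Set (AddMonoid.End W)) (h1 : 1 ∈ S) (hm : ∀ s ∈ S, ∀ t ∈ S, s * t ∈ S)
    (hc : ∀ s ∈ S, ∀ t ∈ T, s * t = t * s) (hST : S ⊆ T)
    (irr : ∀ U : AddSubgroup W, (∀ t ∈ T, ∀ u ∈ U, t u ∈ U) → U = ⊥ ∨ U = ⊤) :
    ∃ (F : Type) (_ : Field F) (_ : Fintype F) (φ : F →+* AddMonoid.End W),
      S ⊆ Set.range φ ∧ (∀ c, ∀ t ∈ T, φ c * t = t * φ c) ∧
      ∀ U : AddSubgroup F, (∀ c, φ c ∈ S → c ∈ U) → U = ⊤ := by
  classical
  have : Finite (AddMonoid.End W) := Finite.of_injective _ DFunLike.coe_injective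
  let R := Subring.closure S
  have : IsMulCommutative R := Subring.isMulCommutative_closure fun x hx y hy => hc x hx y (hST hy)
  have hcomm : ∀ r ∈ R, ∀ t ∈ T, r * t = t * r := fun r hr t ht =>
    (Subring.closure_le (t := Subring.centralizer T)).2 (fun s hs u hu => (hc s hs u hu).symm) hr
      t ht |>.symm
  have hinj : ∀ r ∈ R, r ≠ 0 → ∀ w, r w = 0 → w = 0 := by
    intro r hr h0 w hw
    rcases irr (AddMonoidHom.ker r) (fun t ht u hu => by
      change r u = 0 at hu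
      change (r * t) u = 0
      rw [hcomm r hr t ht]
      change t (r u) = 0
      rw [hu, map_zero]) with e | e
    · exact (AddSubgroup.eq_bot_iff_forall _).1 e w hw
    · exact absurd (DFunLike.ext r 0 fun w => (AddSubgroup.eq_top_iff' _).1 e w) h0
  have : Nontrivial (AddMonoid.End W) := by
    obtain ⟨w, hw⟩ := exists_ne (0 : W)
    exact ⟨1, 0, fun e => hw (DFunLike.congr_fun e w)⟩
  have : NoZeroDivisors R := ⟨fun {r s} h => or_iff_not_imp_left.2 fun h0 =>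
    Subtype.ext (AddMonoidHom.ext fun w => hinj r r.2 (fun e => h0 (Subtype.ext e)) _
      (DFunLike.congr_fun (congrArg Subtype.val h) w))⟩
  have : IsDomain R := NoZeroDivisors.to_isDomain R
  let _ : Field R := (Finite.isField_of_domain R).toField
  let e := (Finite.equivFin R).symm
  let _ : Field (Fin (Nat.card R)) := e.field
  refine ⟨Fin (Nat.card R), inferInstance, inferInstance, R.subtype.comp e.ringEquiv.toRingHom,
    fun s hs => ⟨e.symm ⟨s, Subring.subset_closure hs⟩, by simp⟩,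
    fun c t ht => hcomm _ (e c).2 t ht, fun U hU => eq_top_iff.2 fun c _ => ?_⟩
  have h2 : (R.subtype.comp e.ringEquiv.toRingHom) c ∈
      U.map (R.subtype.comp e.ringEquiv.toRingHom).toAddMonoidHom := by
    have h3 : Submonoid.closure S ≤ (⟨⟨S, fun {a b} ha hb => hm a ha b hb⟩, h1⟩ :
      Submonoid (AddMonoid.End W)) := Submonoid.closure_le.2 le_rfl
    refine (AddSubgroup.closure_le _).2 (fun s hs => ?_) (Subring.mem_closure_iff.1 (e c).2)
    exact ⟨e.symm ⟨s, Subring.subset_closure (h3 hs)⟩, hU _ (by simpa using h3 hs), by simp⟩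
  obtain ⟨d, hd, e1⟩ := h2
  obtain rfl : d = c := RingHom.injective (R.subtype.comp e.ringEquiv.toRingHom) e1
  exact hd

variable {G : Type*} [Group G]

theorem exists_field_grp [Finite G] {V S T : Subgroup G} (hV : IsMulCommutative V) (hV1 : V ≠ ⊥)
    (hST : S ≤ T) (hT : T ≤ normalizer (V : Set G)) (hc : S ≤ centralizer (T : Set G))
    (irr : ∀ U ≤ V, (∀ t ∈ T, ∀ u ∈ U, t * u * t⁻¹ ∈ U) → U = ⊥ ∨ U = V) :
    ∃ (F : Type) (_ : Field F) (_ : Fintype F) (act : F → G → G),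
      (∀ c, ∀ v ∈ V, act c v ∈ V) ∧ (∀ c, act c 1 = 1) ∧
      (∀ c d, ∀ v ∈ V, act (c + d) v = act c v * act d v) ∧
      (∀ c d, ∀ v ∈ V, act (c * d) v = act c (act d v)) ∧ (∀ v ∈ V, act 1 v = v) ∧
      (∀ s ∈ S, ∃ c, ∀ v ∈ V, s * v * s⁻¹ = act c v) ∧
      (∀ t ∈ T, ∀ c, ∀ v ∈ V, t * act c v * t⁻¹ = act c (t * v * t⁻¹)) ∧
      (∀ U : AddSubgroup F, (∀ c, (∃ s ∈ S, ∀ v ∈ V, s * v * s⁻¹ = act c v) → c ∈ U) → U = ⊤) ∧
      ∃ m, Nat.card V = Fintype.card F ^ m := by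
  classical
  have := (nontrivial_iff_ne_bot V).2 hV1
  let ρ : normalizer (V : Set G) → AddMonoid.End (Additive V) := fun g =>
    MonoidHom.toAdditive (V.normalizerMonoidHom g).toMonoidHom
  have hρ : ∀ g (v : V), (((ρ g (Additive.ofMul v)).toMul : V) : G) = g * v * (g : G)⁻¹ :=
    fun g v => rfl
  have hρm : ∀ g h, ρ (g * h) = ρ g * ρ h := fun g h => AddMonoidHom.ext fun v =>
    Additive.toMul.injective (Subtype.ext (by
      change (g * h : G) * v.toMul * (g * h : G)⁻¹ = g * (h * v.toMul * (h : G)⁻¹) * (g : G)⁻¹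
      group))
  obtain ⟨F, _, _, φ, h1, h2, h3⟩ := exists_field_end (W := Additive V)
    (ρ '' {g | (g : G) ∈ S}) (ρ '' {g | (g : G) ∈ T})
    ⟨1, one_mem S, AddMonoidHom.ext fun v => Additive.toMul.injective (Subtype.ext (by
      change (1 : G) * v.toMul * (1 : G)⁻¹ = v.toMul
      group))⟩
    (by rintro _ ⟨g, hg, rfl⟩ _ ⟨h, hh, rfl⟩; exact ⟨g * h, S.mul_mem hg hh, hρm g h⟩)
    (by
      rintro _ ⟨g, hg, rfl⟩ _ ⟨h, hh, rfl⟩
      rw [← hρm, ← hρm]
      congr 1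
      exact Subtype.ext (hc hg h hh).symm)
    (Set.image_mono fun g hg => hST hg) fun U hU => by
      rcases irr (U.toSubgroup'.map V.subtype) (map_subtype_le _) (by
        rintro t ht _ ⟨u, hu, rfl⟩
        exact ⟨_, hU _ ⟨⟨t, hT ht⟩, ht, rfl⟩ _ hu, rfl⟩) with e | e
      · left
        refine (AddSubgroup.eq_bot_iff_forall _).2 fun u hu => Additive.toMul.injective
          (Subtype.ext ((eq_bot_iff_forall _).1 e _ ⟨u.toMul, hu, rfl⟩))
      · right
        refine eq_top_iff.2 fun u _ => ?_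
        obtain ⟨v, hv, e1⟩ : (u.toMul : G) ∈ U.toSubgroup'.map V.subtype := by
          rw [e]; exact u.toMul.2
        obtain rfl : v = u.toMul := Subtype.ext e1
        exact hv
  let act : F → G → G := fun c v =>
    if h : v ∈ V then (((φ c (Additive.ofMul ⟨v, h⟩)).toMul : V) : G) else 1
  have ha : ∀ c (v : V), act c v = (((φ c (Additive.ofMul v)).toMul : V) : G) :=
    fun c v => dif_pos v.2
  refine ⟨F, inferInstance, inferInstance, act, fun c v hv => ?_, fun c => ?_, fun c d v hv => ?_,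
    fun c d v hv => ?_, fun v hv => ?_, fun s hs => ?_, fun t ht c v hv => ?_, fun U hU => h3 U ?_, ?_⟩
  · rw [ha c ⟨v, hv⟩]; exact Subtype.coe_prop _
  · simpa using ha c 1
  · rw [ha _ ⟨v, hv⟩, ha _ ⟨v, hv⟩, ha _ ⟨v, hv⟩, map_add]; rfl
  · rw [ha _ ⟨v, hv⟩, ha _ ⟨v, hv⟩, ha, map_mul]; rfl
  · rw [ha _ ⟨v, hv⟩, map_one]; rfl
  · obtain ⟨c, hc⟩ := h1 ⟨⟨s, hT (hST hs)⟩, hs, rfl⟩
    exact ⟨c, fun v hv => by rw [ha _ ⟨v, hv⟩, hc]; rfl⟩
  · have := DFunLike.congr_fun (h2 c _ ⟨⟨t, hT ht⟩, ht, rfl⟩) (Additive.ofMul ⟨v, hv⟩)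
    rw [ha _ ⟨v, hv⟩, ha _ ⟨_, conj_mem_of_mem_normalizer (hT ht) hv⟩]
    exact (congrArg (fun w : Additive V => ((w.toMul : V) : G)) this).symm
  · rintro c ⟨g, hg, e⟩
    exact hU c ⟨g, hg, fun v hv => by rw [ha _ ⟨v, hv⟩, ← e]; rfl⟩
  · let _ : Module F (Additive V) := Module.compHom _ φ
    have := Fintype.ofFinite (Additive V)
    exact ⟨_, (Nat.card_eq_fintype_card (α := Additive V)).trans Module.card_eq_pow_finrank⟩

/-- field coordinates -/
structure Crd (V S : Subgroup G) {F : Type} [Field F] (e : F → G) : Prop where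
  mem : ∀ x, e x ∈ V
  inj : Function.Injective e
  surj : ∀ v ∈ V, ∃ x, e x = v
  add : ∀ x y, e (x + y) = e x * e y
  smul : ∀ s ∈ S, ∃ c, ∀ x, s * e x * s⁻¹ = e (c * x)
  gen : ∀ U : AddSubgroup F, (∀ c, (∃ s ∈ S, ∀ x, s * e x * s⁻¹ = e (c * x)) → c ∈ U) → U = ⊤

theorem act_inj {F : Type} [Field F] {V : Subgroup G} {act : F → G → G} (h0 : ∀ c, act c 1 = 1)
    (h1 : ∀ c d, ∀ v ∈ V, act (c + d) v = act c v * act d v)
    (h2 : ∀ c d, ∀ v ∈ V, act (c * d) v = act c (act d v)) (h3 : ∀ v ∈ V, act 1 v = v) {v : G}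
    (hv : v ∈ V) (hv1 : v ≠ 1) : Function.Injective fun c => act c v := fun c d e => by
  by_contra h
  have e1 := h1 (c - d) d v hv
  rw [sub_add_cancel, show act c v = act d v from e, eq_comm, mul_eq_right] at e1
  have e2 := h2 (c - d)⁻¹ (c - d) v hv
  rw [inv_mul_cancel₀ (sub_ne_zero.2 h), h3 v hv, e1, h0] at e2
  exact hv1 e2

theorem exists_Crd [Finite G] {V S : Subgroup G} (hV : IsMulCommutative V)
    (hS : IsMulCommutative S) (hT : S ≤ normalizer (V : Set G))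
    (irr : ∀ U ≤ V, (∀ t ∈ S, ∀ u ∈ U, t * u * t⁻¹ ∈ U) → U = ⊥ ∨ U = V) {v : G} (hv : v ∈ V)
    (hv1 : v ≠ 1) : ∃ (F : Type) (_ : Field F) (_ : Fintype F) (e : F → G), Crd V S e ∧ e 1 = v := by
  obtain ⟨F, _, _, act, h1, h2, h3, h4, h5, h6, h7, h8, -⟩ := exists_field_grp hV
    (fun e => hv1 ((eq_bot_iff_forall _).1 e v hv)) le_rfl hT (le_centralizer S) irr
  have h0 : act 0 v = 1 := by simpa using h3 0 0 v hv
  let U : Subgroup G :=
    { carrier := Set.range fun c => act c v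
      one_mem' := ⟨0, h0⟩
      mul_mem' := by rintro _ _ ⟨c, rfl⟩ ⟨d, rfl⟩; exact ⟨c + d, h3 c d v hv⟩
      inv_mem' := by
        rintro _ ⟨c, rfl⟩
        exact ⟨-c, by rw [eq_inv_iff_mul_eq_one, ← h3 _ _ v hv, neg_add_cancel, h0]⟩ }
  have hU : U = V := (irr U (by rintro _ ⟨c, rfl⟩; exact h1 c v hv) (by
    rintro t ht _ ⟨c, rfl⟩
    obtain ⟨d, hd⟩ := h6 t ht
    exact ⟨d * c, by rw [hd _ (h1 c v hv), ← h4 _ _ v hv]⟩)).resolve_left fun e =>
      hv1 ((eq_bot_iff_forall _).1 e v ⟨1, h5 v hv⟩)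
  refine ⟨F, inferInstance, inferInstance, fun c => act c v, ⟨fun c => h1 c v hv,
    act_inj h2 h3 h4 h5 hv hv1, fun w hw => by rwa [← hU] at hw, fun c d => h3 c d v hv,
    fun s hs => ?_, fun U hU => h8 U fun c ⟨s, hs, e⟩ => hU c ⟨s, hs, fun x => ?_⟩⟩, h5 v hv⟩
  · obtain ⟨d, hd⟩ := h6 s hs
    exact ⟨d, fun c => by rw [hd _ (h1 c v hv), ← h4 _ _ v hv]⟩
  · rw [e _ (h1 x v hv), ← h4 _ _ v hv]

theorem exists_field_card [Finite G] {V S T : Subgroup G} (hV : IsMulCommutative V) (hV1 : V ≠ ⊥)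
    (hST : S ≤ T) (hT : T ≤ normalizer (V : Set G)) (hc : S ≤ centralizer (T : Set G))
    (irr : ∀ U ≤ V, (∀ t ∈ T, ∀ u ∈ U, t * u * t⁻¹ ∈ U) → U = ⊥ ∨ U = V)
    (hf : ∀ t ∈ T, t ≠ 1 → V ⊓ centralizer {t} = ⊥) :
    ∃ r m, 2 ≤ r ∧ Nat.card V = r ^ m ∧ Nat.card S ∣ r - 1 ∧ (m = 1 → IsMulCommutative T) := by
  obtain ⟨F, _, _, act, h1, h2, h3, h4, h5, h6, h7, h8, m, hm⟩ :=
    exists_field_grp hV hV1 hST hT hc irr
  obtain ⟨v, hv, hv1⟩ := exists_ne_one hV1
  have hi := act_inj h2 h3 h4 h5 hv hv1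
  have hf' : ∀ s ∈ T, ∀ t ∈ T, s * v * s⁻¹ = t * v * t⁻¹ → s = t := fun s hs t ht e => by
    by_contra h
    have : v ∈ V ⊓ centralizer {t⁻¹ * s} := mem_inf.2 ⟨hv, mem_centralizer_singleton_iff.2 (by
      calc v * (t⁻¹ * s) = t⁻¹ * (t * v * t⁻¹) * s := by group
        _ = _ := by rw [← e]; group)⟩
    rw [hf _ (mul_mem (inv_mem ht) hs) (by rwa [Ne, inv_mul_eq_one, eq_comm])] at this
    exact hv1 this
  refine ⟨Fintype.card F, m, Fintype.one_lt_card, hm, ?_, fun e => ?_⟩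
  · choose c hc using fun s : S => h6 s s.2
    let f : S →* F :=
      { toFun := c
        map_one' := hi (by simpa [h5 v hv] using (hc 1 v hv).symm)
        map_mul' := fun s t => hi (by
          simp only
          rw [h4 _ _ v hv, ← hc _ v hv, ← hc _ v hv,
            ← hc _ _ (conj_mem_of_mem_normalizer (hT (hST t.2)) hv)]
          simp [mul_assoc]) }
    classical
    rw [← Fintype.card_units, ← Nat.card_eq_fintype_card]
    refine card_dvd_of_injective f.toHomUnits fun s t e => Subtype.ext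
      (hf' _ (hST s.2) _ (hST t.2) ?_)
    rw [hc s v hv, hc t v hv, show c s = c t from congrArg Units.val e]
  · have hs : ∀ w ∈ V, ∃ c, act c v = w := by
      intro w hw
      have := (Nat.bijective_iff_injective_and_card (fun c => (⟨act c v, h1 c v hv⟩ : V))).2
        ⟨fun c d e => hi (congrArg Subtype.val e), by rw [hm, e, pow_one, Nat.card_eq_fintype_card]⟩
      obtain ⟨c, hc⟩ := this.2 ⟨w, hw⟩
      exact ⟨c, congrArg Subtype.val hc⟩
    refine isMulCommutative_of_forall fun s hs' t ht => hf' _ (mul_mem hs' ht) _ (mul_mem ht hs') ?_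
    obtain ⟨c, hc⟩ := hs _ (conj_mem_of_mem_normalizer (hT hs') hv)
    obtain ⟨d, hd⟩ := hs _ (conj_mem_of_mem_normalizer (hT ht) hv)
    calc s * t * v * (s * t)⁻¹ = s * (t * v * t⁻¹) * s⁻¹ := by group
      _ = t * (s * v * s⁻¹) * t⁻¹ := by
        rw [← hd, h7 s hs' d v hv, ← hc, h7 t ht c v hv, ← hd, ← h4 _ _ v hv, ← h4 _ _ v hv,
          mul_comm]
      _ = _ := by group

namespace Crd

variable {V S : Subgroup G} {F : Type} [Field F] {e : F → G} (C : Crd V S e)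
include C

theorem zero : e 0 = 1 := by simpa using C.add 0 0

theorem neg (x : F) : e (-x) = (e x)⁻¹ := by
  rw [eq_inv_iff_mul_eq_one, ← C.add, neg_add_cancel, C.zero]

theorem eq_one {x : F} : e x = 1 ↔ x = 0 := by rw [← C.zero, C.inj.eq_iff]

theorem card : Nat.card V = Nat.card F :=
  (Nat.card_congr (Equiv.ofBijective (fun x => (⟨e x, C.mem x⟩ : V))
    ⟨fun x y h => C.inj (congrArg Subtype.val h), fun v => (C.surj v v.2).imp fun _ h =>
      Subtype.ext h⟩)).symm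

theorem exists_add {t : G} (ht : t ∈ normalizer (V : Set G)) :
    ∃ f : F →+ F, Function.Injective f ∧ ∀ x, t * e x * t⁻¹ = e (f x) := by
  choose f hf using fun x => C.surj _ (conj_mem_of_mem_normalizer ht (C.mem x))
  refine ⟨AddMonoidHom.mk' f fun x y => C.inj ?_, fun x y h => C.inj ?_, fun x => (hf x).symm⟩
  · rw [C.add, hf, hf, hf, C.add]; group
  · have h1 : f x = f y := h
    simpa using (hf x).symm.trans ((congrArg e h1).trans (hf y))

theorem lin {t : G} (ht : t ∈ normalizer (V : Set G)) (hc : t ∈ centralizer (S : Set G)) :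
    ∃ c, ∀ x, t * e x * t⁻¹ = e (c * x) := by
  obtain ⟨f, -, hf⟩ := C.exists_add ht
  have := C.gen (f.eqLocus (AddMonoidHom.mulLeft (f 1))) (by
    rintro c ⟨s, hs, h⟩
    refine C.inj ?_
    change e (f c) = e (f 1 * c)
    rw [← hf, mul_comm (f 1), ← h, ← hf, ← mul_one c, ← h]
    calc _ = (t * s) * e 1 * (t * s)⁻¹ := by group
      _ = _ := by rw [← hc s hs]; group)
  exact ⟨f 1, fun x => by rw [hf]; exact congrArg e ((AddSubgroup.eq_top_iff' _).1 this x)⟩

theorem semilin [Finite F] {t : G} (ht : t ∈ normalizer (V : Set G))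
    (hc : t ∈ normalizer (S : Set G)) :
    ∃ (c : F) (τ : F ≃+* F), c ≠ 0 ∧ ∀ x, t * e x * t⁻¹ = e (c * τ x) := by
  obtain ⟨f, hi, hf⟩ := C.exists_add ht
  have h0 : f 1 ≠ 0 := by rw [Ne, map_eq_zero_iff f hi]; exact one_ne_zero
  have h1 : ∀ x y, f (x * y) * f 1 = f x * f y := by
    intro x y
    have := C.gen ((AddMonoidHom.mulRight (f 1)).comp (f.comp (AddMonoidHom.mulRight y))
      |>.eqLocus ((AddMonoidHom.mulRight (f y)).comp f)) (by
      rintro c ⟨s, hs, h⟩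
      obtain ⟨d, hd⟩ := C.smul _ (conj_mem_of_mem_normalizer hc hs)
      have key : ∀ y, f (c * y) = d * f y := fun y => C.inj (by
        rw [← hf, ← h, ← hd, ← hf]; group)
      change f (c * y) * f 1 = f c * f y
      rw [key, ← mul_one c, key]; ring)
    exact (AddSubgroup.eq_top_iff' _).1 this x
  let τ : F →+* F :=
    { toFun := fun x => f x / f 1
      map_one' := div_self h0
      map_mul' := fun x y => by rw [div_mul_div_comm, ← h1, mul_div_mul_right _ _ h0]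
      map_zero' := by simp
      map_add' := fun x y => by rw [map_add, add_div] }
  exact ⟨f 1, RingEquiv.ofBijective τ (Finite.injective_iff_bijective.1 τ.injective), h0,
    fun x => by rw [hf]; congr 1; change f x = f 1 * (f x / f 1); field_simp⟩

end Crd

theorem card_eq_pow_orderOf {F : Type*} [Field F] [Finite F] (τ : F ≃+* F) :
    Nat.card F = Nat.card {x // τ x = x} ^ orderOf τ := by
  classical
  have := Fintype.ofFinite F
  have : Finite (F ≃+* F) := Finite.of_injective _ DFunLike.coe_injective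
  have := Fintype.ofFinite (zpowers τ)
  have h1 := FixedPoints.finrank_eq_card (zpowers τ) F
  have := Fintype.ofFinite (FixedPoints.subfield (zpowers τ) F)
  rw [Nat.card_eq_fintype_card, Module.card_eq_pow_finrank (K := FixedPoints.subfield (zpowers τ) F),
    h1, ← Nat.card_eq_fintype_card (α := zpowers τ), Nat.card_zpowers,
    ← Nat.card_eq_fintype_card]
  congr 1
  exact Nat.card_congr (Equiv.subtypeEquivRight fun x => ⟨fun h => h ⟨τ, mem_zpowers τ⟩,
    fun h y => (zpowers_le (H := stabilizer (F ≃+* F) x)).2 h y.2⟩)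

theorem equiv_of_actions {Ω L X : Type*} [MulAction G Ω] [Group L] [MulAction L X] [Finite L]
    (J : Ω ≃ X) (hG : ∀ g : G, (∀ c : Ω, g • c = c) → g = 1)
    (hL : ∀ l : L, (∀ x : X, l • x = x) → l = 1)
    (h : ∀ g : G, ∃ l : L, ∀ c, J (g • c) = l • J c) (hc : Nat.card G = Nat.card L) :
    Nonempty (G ≃* L) := by
  choose f hf using h
  have hu : ∀ l m : L, (∀ c, l • J c = m • J c) → l = m := fun l m e => by
    rw [← inv_mul_eq_one]
    refine hL _ fun x => ?_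
    obtain ⟨c, rfl⟩ := J.surjective x
    rw [mul_smul, ← e, inv_smul_smul]
  let φ : G →* L := MonoidHom.mk' f fun g k => hu _ _ fun c => by
    rw [← hf, mul_smul, mul_smul, ← hf, ← hf]
  refine ⟨MulEquiv.ofBijective φ ((Nat.bijective_iff_injective_and_card _).2
    ⟨(injective_iff_map_eq_one φ).2 fun g hg => hG g fun c => J.injective ?_, hc⟩)⟩
  rw [hf, show f g = 1 from hg, one_smul]

variable {Ω : Type*} [MulAction G Ω] [Finite G]

namespace Z0

variable (Z : Z0 G Ω) {a b : Ω} (hab : a ≠ b) {S : Subgroup G} {F : Type} [Field F] {e : F → G}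
  (C : Crd (zk G a) S e)
include Z hab

theorem eq_top_of_mem {T : Subgroup G} (h1 : stabilizer G a ≤ T) {s : G} (hs : s ∈ T)
    (h2 : s • a = b) : T = ⊤ := by
  refine eq_top_iff.2 fun g _ => ?_
  by_cases hg : g • a = a
  · exact h1 hg
  obtain ⟨u, hu, e⟩ := Z.zk_trans hab.symm hg
  have : (u * s)⁻¹ * g ∈ stabilizer G a := by
    rw [mem_stabilizer_iff, mul_smul, inv_smul_eq_iff, mul_smul, h2, e]
  have h3 := mul_mem (mul_mem (h1 (Z.zk_le a hu)) hs) (h1 this)
  rwa [mul_inv_cancel_left] at h3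

include C

theorem crd_ne (x : F) : e x • b ≠ a := Z.zk_smul_ne (C.mem x) hab.symm

theorem crd_inj {x y : F} (h : e x • b = e y • b) : x = y :=
  C.inj (Z.zk_inj (C.mem x) (C.mem y) hab.symm h)

theorem crd_surj {c : Ω} (h : c ≠ a) : ∃ x, e x • b = c := by
  obtain ⟨u, hu, rfl⟩ := Z.zk_trans hab.symm h
  obtain ⟨x, rfl⟩ := C.surj u hu
  exact ⟨x, rfl⟩

theorem crd_add (x y : F) : e x • e y • b = e (x + y) • b := by rw [C.add, mul_smul]

theorem crd_zero : e 0 • b = b := by rw [C.zero, one_smul]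

theorem crd_smul {h : G} (hh : h ∈ St2 G a b) {x y : F} (h1 : h * e x * h⁻¹ = e y) :
    h • e x • b = e y • b := by
  rw [← h1, mul_smul, mul_smul, smul_eq_iff_inv.1 hh.2]

theorem exists_sigma {s : G} (h1 : s • a = b) (h2 : s • b = a) :
    ∃ σ : F → F, ∀ x, x ≠ 0 → σ x ≠ 0 ∧ s • e x • b = e (σ x) • b := by
  have : ∀ x, x ≠ 0 → ∃ y, y ≠ 0 ∧ s • e x • b = e y • b := fun x hx => by
    obtain ⟨y, hy⟩ := Z.crd_surj hab C (c := s • e x • b) fun h => hx (Z.crd_inj hab C (by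
      rw [Z.crd_zero hab C]; exact smul_left_cancel s (h.trans h2.symm)))
    refine ⟨y, ?_, hy.symm⟩
    rintro rfl
    rw [Z.crd_zero hab C] at hy
    exact Z.crd_ne hab C x (smul_left_cancel s (hy.symm.trans h1.symm))
  choose! σ hσ using this
  exact ⟨σ, hσ⟩

theorem bruhat {s : G} (h1 : s • a = b) (h2 : s • b = a) (hs : s * s = 1) {σ : F → F}
    (hσ : ∀ x, x ≠ 0 → σ x ≠ 0 ∧ s • e x • b = e (σ x) • b)
    (hl : ∀ h ∈ St2 G a b, ∃ c, ∀ x, h * e x * h⁻¹ = e (c * x)) :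
    ∃ h ∈ St2 G a b, ∃ μ, (∀ x, h * e x * h⁻¹ = e (μ * x)) ∧ σ 1 + μ * σ (-σ (-1)) = 0 ∧
      ∀ x, x ≠ 0 → x ≠ σ (-1) → σ (1 + σ x) = σ 1 + μ * σ (x - σ (-1)) := by
  have hss : ∀ c : Ω, s • s • c = c := fun c => by rw [← mul_smul, hs, one_smul]
  have e1 := hσ 1 one_ne_zero
  have e2 := hσ (-1) (neg_ne_zero.2 one_ne_zero)
  have hf : ∀ x, e x • a = a := fun x => Z.zk_fix (C.mem x)
  have hh : e (-σ 1) * (s * e 1 * s) * e (σ (-1)) * s ∈ St2 G a b := by
    simp only [mem_St2, mul_smul, h1, h2, hf, ← e2.2, hss, Z.crd_add hab C, add_neg_cancel,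
      Z.crd_zero hab C, e1.2, neg_add_cancel, and_self]
  obtain ⟨μ, hμ⟩ := hl _ hh
  have key : ∀ x, x ≠ σ (-1) → s • e 1 • s • e x • b = e (σ 1 + μ * σ (x - σ (-1))) • b := by
    intro x hx
    have := Z.crd_smul hab C hh (hμ (σ (x - σ (-1))))
    rw [← (hσ _ (sub_ne_zero.2 hx)).2] at this
    simp only [mul_smul, hss, Z.crd_add hab C, add_sub_cancel] at this
    rw [← Z.crd_add hab C, ← this, ← mul_smul (e (σ 1)), ← C.add, add_neg_cancel, C.zero, one_smul]
  refine ⟨_, hh, μ, hμ, Z.crd_inj hab C ?_, fun x hx hx' => Z.crd_inj hab C ?_⟩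
  · have := key 0 e2.1.symm
    rw [Z.crd_zero hab C, h2, hf, h1, zero_sub] at this
    rw [← this, Z.crd_zero hab C]
  · rw [← key x hx', (hσ x hx).2, Z.crd_add hab C, (hσ _ fun h => hx' ?_).2]
    refine Z.crd_inj hab C (smul_left_cancel s ?_)
    rw [(hσ x hx).2, ← e2.2, hss, eq_neg_of_add_eq_zero_right h]

theorem sigma_smul {s : G} {σ : F → F} (hσ : ∀ x, x ≠ 0 → σ x ≠ 0 ∧ s • e x • b = e (σ x) • b)
    {h : G} (hh : h ∈ St2 G a b) (hi : s * h * s⁻¹ = h⁻¹) {c : F}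
    (hc : ∀ x, h * e x * h⁻¹ = e (c * x)) {x : F} (hx : x ≠ 0) : c ≠ 0 ∧ c * σ (c * x) = σ x := by
  have hc0 : c ≠ 0 := by
    rintro rfl
    have := hc 1
    rw [zero_mul, C.zero, conj_eq_one_iff, C.eq_one] at this
    exact one_ne_zero this
  refine ⟨hc0, Z.crd_inj hab C ?_⟩
  rw [← Z.crd_smul hab C hh (hc _), ← (hσ _ (mul_ne_zero hc0 hx)).2, ← Z.crd_smul hab C hh (hc _),
    ← (hσ x hx).2, ← mul_smul s, mul_inv_eq_iff_eq_mul.1 hi, mul_smul, smul_inv_smul]

theorem sigma_sigma {s : G} (hs : s * s = 1) {σ : F → F}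
    (hσ : ∀ x, x ≠ 0 → σ x ≠ 0 ∧ s • e x • b = e (σ x) • b) {x : F} (hx : x ≠ 0) : σ (σ x) = x :=
  Z.crd_inj hab C (by rw [← (hσ _ (hσ x hx).1).2, ← (hσ x hx).2, ← mul_smul, hs, one_smul])

open _root_.Cfsg.Agent.Class in
theorem equiv_pgl_sub [Finite F] (L : Subgroup PGL(2, F))
    (h1 : ∀ y : F, Matrix.ProjGenLinGroup.mk (gl2 1 y 0 1 (by simp)) ∈ L)
    (h2 : ∀ h ∈ St2 G a b, ∃ (c : F) (hc : c ≠ 0), (∀ x, h * e x * h⁻¹ = e (c * x)) ∧
      Matrix.ProjGenLinGroup.mk (gl2 c 0 0 1 (by simpa using hc)) ∈ L)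
    {s : G} (s1 : s • a = b) (s2 : s • b = a) {α : F} (hα : α ≠ 0)
    (s3 : ∀ x, x ≠ 0 → s • e x • b = e (α / x) • b)
    (h3 : Matrix.ProjGenLinGroup.mk (gl2 0 α 1 0 (by simpa using hα)) ∈ L)
    (hc : Nat.card G = Nat.card L) : Nonempty (G ≃* L) := by
  classical
  have : Finite L := Nat.finite_of_card_ne_zero (hc ▸ Nat.card_pos.ne')
  let j : P1 F → Ω := fun x => if h : ∃ y, x = ppt y then e h.choose • b else a
  have j1 : j (pinf F) = a := dif_neg fun ⟨y, h⟩ => ppt_ne_pinf y h.symm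
  have j2 : ∀ y, j (ppt y) = e y • b := fun y => by
    have h : ∃ z, ppt y = ppt z := ⟨y, rfl⟩
    rw [show j (ppt y) = e h.choose • b from dif_pos h, ← ppt_inj.1 h.choose_spec]
  have hj : Function.Bijective j := by
    constructor
    · intro x y h
      rcases p1_cases x with rfl | ⟨x, rfl⟩ <;> rcases p1_cases y with rfl | ⟨y, rfl⟩
      · rfl
      · rw [j1, j2] at h; exact absurd h.symm (Z.crd_ne hab C y)
      · rw [j1, j2] at h; exact absurd h (Z.crd_ne hab C x)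
      · rw [j2, j2] at h; rw [Z.crd_inj hab C h]
    · intro c
      by_cases h : c = a
      · exact ⟨_, j1.trans h.symm⟩
      · obtain ⟨x, rfl⟩ := Z.crd_surj hab C h
        exact ⟨_, j2 x⟩
  let T : Subgroup G :=
    { carrier := {g | ∃ l ∈ L, ∀ x, g • j x = j (l • x)}
      one_mem' := ⟨1, one_mem _, fun x => by simp⟩
      mul_mem' := by
        rintro g k ⟨l, hl, e1⟩ ⟨m, hm, e2⟩
        exact ⟨l * m, mul_mem hl hm, fun x => by rw [mul_smul, e2, e1, mul_smul]⟩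
      inv_mem' := by
        rintro g ⟨l, hl, e1⟩
        exact ⟨l⁻¹, inv_mem hl, fun x => by rw [inv_smul_eq_iff, e1, smul_inv_smul]⟩ }
  have hT : T = ⊤ := Z.eq_top_of_mem hab (s := s) (by
    rw [← Z.zk_sup hab]
    refine sup_le (fun h hh => ?_) fun u hu => ?_
    · obtain ⟨c, hc, e1, e2⟩ := h2 h hh
      refine ⟨_, e2, fun x => ?_⟩
      rw [pgl_smul]
      rcases p1_cases x with rfl | ⟨x, rfl⟩
      · rw [smul_pinf_pinf.2 (by simp [gl2_coe]), j1, hh.1]
      · rw [smul_ppt_ppt (b := c * x).2 (by simp [gl2_coe]), j2, j2, Z.crd_smul hab C hh (e1 x)]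
    · obtain ⟨y, rfl⟩ := C.surj u hu
      refine ⟨_, h1 y, fun x => ?_⟩
      rw [pgl_smul]
      rcases p1_cases x with rfl | ⟨x, rfl⟩
      · rw [smul_pinf_pinf.2 (by simp [gl2_coe]), j1, Z.zk_fix hu]
      · rw [smul_ppt_ppt (b := y + x).2 (by simp [gl2_coe, add_comm]), j2, j2, Z.crd_add hab C])
    (by
      refine ⟨_, h3, fun x => ?_⟩
      rw [pgl_smul]
      rcases p1_cases x with rfl | ⟨x, rfl⟩
      · rw [smul_pinf_ppt (a := 0).2 (by simp [gl2_coe]), j1, j2, s1, Z.crd_zero hab C]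
      · by_cases hx : x = 0
        · rw [smul_ppt_pinf.2 (by simp [gl2_coe, hx]), j1, j2, hx, Z.crd_zero hab C, s2]
        · rw [smul_ppt_ppt (b := α / x).2 (by simp [gl2_coe]; field_simp), j2, j2, s3 x hx]) s1
  refine equiv_of_actions (Equiv.ofBijective j hj).symm (fun g => Z.faithful a)
    (fun l hl => Subtype.ext (pgl_three _ (pinf F) (ppt 0) (ppt 1) (ppt_ne_pinf _).symm
      (ppt_ne_pinf _).symm (by simp [ppt_inj]) (hl _) (hl _) (hl _))) (fun g => ?_) hc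
  obtain ⟨l, hl, e1⟩ := (eq_top_iff' _).1 hT g
  refine ⟨⟨l, hl⟩, fun c => ?_⟩
  obtain ⟨x, rfl⟩ := hj.2 c
  rw [e1, Equiv.symm_apply_eq]
  change _ = j (l • (Equiv.ofBijective j hj).symm (Equiv.ofBijective j hj x))
  rw [Equiv.symm_apply_apply]

end Z0

end Cfsg.Agent.Inv
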