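import Cfsg.Prelude.Def_LieRecognition
import Cfsg.Agent.Inv.Zas3
import Cfsg.Agent.Inv.Strong
import Cfsg.Agent.Comp.Hyper
import Cfsg.Agent.Core.KegelWielandt
import Cfsg.Agent.Core.ThompsonFPF

/-! The split rank one set-up in characteristic two: first consequences. -/

set_option autoImplicit false
set_option linter.unusedVariables false
set_option linter.unusedSectionVars false

namespace Cfsg.Agent.Inv

open Subgroup MulAction Cfsg.Agent.PLoc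
open scoped Pointwise

variable {G Ω : Type*} [Group G] [MulAction G Ω]

theorem sq_inj_of_odd {x y : G} (hx : Odd (orderOf x)) (hy : Odd (orderOf y)) (h : x * x = y * y) :
    x = y := by
  obtain ⟨m, hm⟩ := hx.mul hy
  have h1 : x ^ (2 * m + 1) = 1 := by rw [← hm, pow_mul, pow_orderOf_eq_one, one_pow]
  have h2 : y ^ (2 * m + 1) = 1 := by rw [← hm, mul_comm, pow_mul, pow_orderOf_eq_one, one_pow]
  rw [pow_succ, pow_mul, sq] at h1 h2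
  rw [h, ← h2] at h1
  exact mul_left_cancel h1

theorem exists_sqrt_of_odd {y : G} (hy : Odd (orderOf y)) : ∃ m : ℕ, y ^ m * y ^ m = y := by
  obtain ⟨m, hm⟩ := hy
  exact ⟨m + 1, by rw [← pow_add, show m + 1 + (m + 1) = orderOf y + 1 by omega, pow_succ,
    pow_orderOf_eq_one, one_mul]⟩

theorem exists_cent_mul_inv {t : G} (ht : t * t = 1) {X : Subgroup G} (hodd : Odd (Nat.card X))
    (hn : ∀ x ∈ X, t * x * t⁻¹ ∈ X) {x : G} (hx : x ∈ X) :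
    ∃ c ∈ X, ∃ k ∈ X, t * c * t⁻¹ = c ∧ t * k * t⁻¹ = k⁻¹ ∧ x = c * k := by
  have ti : t⁻¹ = t := inv_eq_of_mul_eq_one_right ht
  have hy : (t * x * t⁻¹)⁻¹ * x ∈ X := X.mul_mem (X.inv_mem (hn x hx)) hx
  set y := (t * x * t⁻¹)⁻¹ * x with hy'
  have h1 : t * y * t⁻¹ = y⁻¹ := by
    rw [hy', ti]
    calc t * ((t * x * t)⁻¹ * x) * t = (t * t⁻¹) * x⁻¹ * t⁻¹ * x * t := by group
      _ = _ := by rw [ti, ht]; group
  obtain ⟨m, hm⟩ := exists_sqrt_of_odd (odd_orderOf_of_mem hodd hy)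
  have h2 := conj_pow_inv h1 m
  refine ⟨x * (y ^ m)⁻¹, X.mul_mem hx (X.inv_mem (X.pow_mem hy m)), y ^ m, X.pow_mem hy m, ?_, h2,
    by group⟩
  calc t * (x * (y ^ m)⁻¹) * t⁻¹ = (t * x * t⁻¹) * (t * y ^ m * t⁻¹)⁻¹ := by group
    _ = x * y⁻¹ * y ^ m := by rw [h2, hy']; group
    _ = x * (y ^ m * y ^ m)⁻¹ * y ^ m := by rw [hm]
    _ = _ := by group

theorem cent_mul_inv_unique {t : G} {X : Subgroup G} (hodd : Odd (Nat.card X)) {c k c' k' : G}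
    (hk : k ∈ X) (hk' : k' ∈ X) (h1 : t * c * t⁻¹ = c) (h2 : t * k * t⁻¹ = k⁻¹)
    (h3 : t * c' * t⁻¹ = c') (h4 : t * k' * t⁻¹ = k'⁻¹) (h : c * k = c' * k') : c = c' ∧ k = k' := by
  have h5 : c * k⁻¹ = c' * k'⁻¹ := by
    calc c * k⁻¹ = t * (c * k) * t⁻¹ := by rw [← h2]; nth_rw 1 [← h1]; group
      _ = _ := by rw [h, ← h4]; nth_rw 2 [← h3]; group
  have h6 : k = k' := sq_inj_of_odd (odd_orderOf_of_mem hodd hk) (odd_orderOf_of_mem hodd hk') (by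
    calc k * k = (c * k⁻¹)⁻¹ * (c * k) := by group
      _ = _ := by rw [h, h5]; group)
  exact ⟨mul_right_cancel (h.trans (by rw [h6])), h6⟩

theorem mem_cent_iff_conj {t c : G} : c ∈ centralizer ({t} : Set G) ↔ t * c * t⁻¹ = c := by
  rw [mem_centralizer_singleton_iff, mul_inv_eq_iff_eq_mul, eq_comm]

theorem s1124 {M : Type*} [Group M] [Finite M]
    (t : M) (ht : orderOf t = 2) (X : Subgroup M) (hodd : Odd (Nat.card X))
    (hnorm : ∀ x ∈ X, t * x * t⁻¹ ∈ X) :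
    (∀ x ∈ X, ∃! p : M × M, p.1 ∈ X ⊓ Subgroup.centralizer {t} ∧ p.2 ∈ Cfsg.invertedBy X t ∧ x = p.1 * p.2) ∧
      Nat.card X = Nat.card ↥(X ⊓ Subgroup.centralizer {t}) * Nat.card (Cfsg.invertedBy X t) ∧
      ∀ x ∈ X, MulAut.conj x • Subgroup.closure (Cfsg.invertedBy X t) = Subgroup.closure (Cfsg.invertedBy X t) := by
  have h1 := fun x hx => exists_cent_mul_inv (sq_of_ord2 ht) hodd hnorm (x := x) hx
  refine ⟨fun x hx => ?_, ?_, fun x hx => ?_⟩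
  · obtain ⟨c, hc, k, hk, h2, h3, rfl⟩ := h1 x hx
    refine ⟨(c, k), ⟨⟨hc, mem_cent_iff_conj.2 h2⟩, ⟨hk, h3⟩, rfl⟩, fun p hp => ?_⟩
    exact Prod.ext_iff.2 (cent_mul_inv_unique hodd hp.2.1.1 hk (mem_cent_iff_conj.1 hp.1.2)
      hp.2.1.2 h2 h3 hp.2.2.symm)
  · rw [← Nat.card_prod]
    refine (Nat.card_eq_of_bijective (fun p : ↥(X ⊓ centralizer {t}) × invertedBy X t =>
      (⟨p.1 * p.2, X.mul_mem p.1.2.1 p.2.2.1⟩ : X)) ⟨fun p q h => ?_, fun x => ?_⟩).symm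
    · have := cent_mul_inv_unique hodd p.2.2.1 q.2.2.1 (mem_cent_iff_conj.1 p.1.2.2) p.2.2.2
        (mem_cent_iff_conj.1 q.1.2.2) q.2.2.2 (congrArg Subtype.val h)
      exact Prod.ext (Subtype.ext this.1) (Subtype.ext this.2)
    · obtain ⟨c, hc, k, hk, h2, h3, e⟩ := h1 x x.2
      exact ⟨(⟨c, hc, mem_cent_iff_conj.2 h2⟩, ⟨k, hk, h3⟩), Subtype.ext e.symm⟩
  · obtain ⟨c, hc, k, hk, h2, h3, rfl⟩ := h1 x hx
    change cj _ _ = _
    rw [cj_mul, cj_eq_of_mem (subset_closure (show k ∈ invertedBy X t from ⟨hk, h3⟩))]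
    refine eq_of_le_of_card_ge ?_ (card_cj _ _).ge
    rw [cj, MonoidHom.map_closure]
    refine closure_mono ?_
    rintro _ ⟨y, hy, rfl⟩
    refine ⟨X.mul_mem (X.mul_mem hc hy.1) (X.inv_mem hc), ?_⟩
    change t * (c * y * c⁻¹) * t⁻¹ = (c * y * c⁻¹)⁻¹
    calc t * (c * y * c⁻¹) * t⁻¹ = (t * c * t⁻¹) * (t * y * t⁻¹) * (t * c * t⁻¹)⁻¹ := by group
      _ = _ := by rw [h2, hy.2]; group

/-- a 2-element swapping two points, from any element swapping them -/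
theorem exists_swap_pow [Finite G] {g : G} {a b : Ω} (h1 : g • a = b) (h2 : g • b = a)
    (ho : Odd (Nat.card (St2 G a b))) : ∃ m : ℕ, g ^ m * g ^ m = 1 ∧ g ^ m • a = b ∧ g ^ m • b = a := by
  have h3 : g * g ∈ St2 G a b := ⟨by simp [mul_smul, h1, h2], by simp [mul_smul, h1, h2]⟩
  obtain ⟨k, hk⟩ := odd_orderOf_of_mem ho h3
  have h4 := (St2 G a b).pow_mem h3 k
  refine ⟨2 * k + 1, by rw [← mul_pow_of_commute' , ← hk, pow_orderOf_eq_one], ?_, ?_⟩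
  · rw [pow_succ, pow_mul, sq, mul_smul, h1]; exact h4.2
  · rw [pow_succ, pow_mul, sq, mul_smul, h2]; exact h4.1
where mul_pow_of_commute' {n : ℕ} : (g * g) ^ n = g ^ n * g ^ n := (Commute.refl g).mul_pow n

/-- the rank one set-up -/
def R1 (G Ω : Type*) [Group G] [MulAction G Ω] (a : Ω) (t : G) (Q : Subgroup G) : Prop :=
  IsRankOneSetup G Ω a t Q

namespace R1

variable {a : Ω} {t : G} {Q : Subgroup G} (S : R1 G Ω a t Q)
include S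

local notation "𝓗" => stabilizer G a
local notation "𝓓" => St2 G a (t • a)

theorem tt (c : Ω) : t • t • c = c := by rw [← mul_smul, S.mul_self, one_smul]
theorem ne : t • a ≠ a := S.not_mem
theorem ord : orderOf t = 2 := ord2_iff.2 ⟨S.mul_self, S.ne_one⟩
theorem tinv : t⁻¹ = t := inv_of_ord2 S.ord
theorem tr2 {b c d e : Ω} (h1 : b ≠ c) (h2 : d ≠ e) : ∃ g : G, g • b = d ∧ g • c = e :=
  tr2_of_mp S.two_transitive h1 h2
theorem tr1 (c : Ω) : ∃ g : G, g • a = c := by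
  by_cases h : c = a
  · exact ⟨1, by simp [h]⟩
  · exact (S.tr2 S.ne.symm h).imp fun _ h => h.1
theorem fix {u : G} (hu : u ∈ Q) : u • a = a := S.le hu
theorem conjQ {h u : G} (hh : h • a = a) (hu : u ∈ Q) : h * u * h⁻¹ ∈ Q := S.conj_mem h hh u hu
theorem conjQ' {h u : G} (hh : h • a = a) (hu : u ∈ Q) : h⁻¹ * u * h ∈ Q := by
  simpa using S.conjQ ((𝓗).inv_mem hh) hu
theorem conjD {d : G} (hd : d ∈ 𝓓) : t * d * t⁻¹ ∈ 𝓓 :=
  ⟨by simp [mul_smul, S.tinv, (mem_St2.1 hd).2, S.tt], by simp [mul_smul, (mem_St2.1 hd).1]⟩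
theorem oddD {d : G} (hd : d ∈ 𝓓) : Odd (orderOf d) := odd_orderOf_of_mem S.odd_card hd

variable [Finite G]

theorem norm : 𝓗 ≤ normalizer (Q : Set G) := fun h hh => mem_normalizer_of_conj_mem (S.conj_mem h hh)

theorem exists_mul {h : G} (hh : h • a = a) : ∃ u ∈ Q, ∃ d ∈ 𝓓, u * d = h :=
  (mem_sup_of_le_normalizer_left (inf_le_left.trans S.norm)).1 (S.sup_eq.ge hh)

theorem trans0 {c : Ω} (hc : c ≠ a) : ∃ u ∈ Q, u • t • a = c := by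
  obtain ⟨g, h1, h2⟩ := S.tr2 S.ne.symm hc.symm
  obtain ⟨u, hu, d, hd, rfl⟩ := S.exists_mul h1
  exact ⟨u, hu, by rwa [mul_smul, (mem_St2.1 hd).2] at h2⟩

theorem trans {c d : Ω} (hc : c ≠ a) (hd : d ≠ a) : ∃ u ∈ Q, u • c = d := by
  obtain ⟨u, hu, rfl⟩ := S.trans0 hc
  obtain ⟨v, hv, rfl⟩ := S.trans0 hd
  exact ⟨v * u⁻¹, Q.mul_mem hv (Q.inv_mem hu), by simp [mul_smul]⟩

theorem free {u : G} {c : Ω} (hu : u ∈ Q) (hc : c ≠ a) (h : u • c = c) : u = 1 := by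
  obtain ⟨v, hv, rfl⟩ := S.trans0 hc
  have : v⁻¹ * u * v ∈ Q ⊓ stabilizer G (t • a) :=
    ⟨S.conjQ' (S.fix hv) hu, by simp [mul_smul, h]⟩
  rw [S.inf_eq_bot, mem_bot] at this
  simpa using conj_eq_one_iff.1 (show v⁻¹ * u * v⁻¹⁻¹ = 1 by simpa using this)

theorem inj {u v : G} {c : Ω} (hu : u ∈ Q) (hv : v ∈ Q) (hc : c ≠ a) (h : u • c = v • c) : u = v := by
  have := S.free (Q.mul_mem (Q.inv_mem hv) hu) hc (by simp [mul_smul, h])
  rwa [inv_mul_eq_one, eq_comm] at this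

theorem smul_ne {h : G} {c : Ω} (hh : h • a = a) (hc : c ≠ a) : h • c ≠ a :=
  fun e => hc (smul_left_cancel h (e.trans hh.symm))

theorem fix_of_conj {g u : G} (hu : u ∈ Q) (h1 : u ≠ 1) (h : (g * u * g⁻¹) • a = a) : g • a = a := by
  by_contra h2
  exact h1 (S.free hu (fun e => h2 (by rw [inv_smul_eq_iff] at e; exact e.symm)) (conj_smul_fix.1 h))

theorem eq_one {u : G} (hu : u ∈ Q) (h : u ∈ 𝓓) : u = 1 := S.free hu S.ne h.2

theorem odd_St2 {c d : Ω} (h : c ≠ d) : Odd (Nat.card (St2 G c d)) := by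
  obtain ⟨g, rfl, h2⟩ := S.tr2 S.ne.symm h
  rw [← h2, ← cj_St2, card_cj]
  exact S.odd_card

theorem inv_fix {s : G} {c d : Ω} (hs : orderOf s = 2) (h1 : s • c = c) (h2 : s • d = d) : c = d :=
  by_contra fun h => odd_card_iff.1 (S.odd_St2 h) s ⟨h1, h2⟩ hs

theorem se : IsStronglyEmbedded 𝓗 := by
  refine se_iff.2 ⟨fun h => S.not_mem (h ▸ mem_top t), S.even_card.trans_dvd (card_dvd_of_le S.le),
    fun s hs h2 g hg => ?_⟩
  have := S.inv_fix h2 hs (conj_smul_fix.1 hg)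
  rw [eq_inv_smul_iff] at this
  exact this

theorem se' (c : Ω) : IsStronglyEmbedded (stabilizer G c) := by
  obtain ⟨g, rfl⟩ := S.tr1 c
  refine se_iff.2 ⟨fun h => S.ne (smul_left_cancel g ?_), ?_, fun s hs h2 g hg => ?_⟩
  · have : g * t * g⁻¹ ∈ stabilizer G (g • a) := h ▸ mem_top _
    simpa [mul_smul] using this
  · rw [← cj_stab, card_cj]; exact S.se.2.1
  have := S.inv_fix h2 hs (conj_smul_fix.1 hg)
  rw [eq_inv_smul_iff] at this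
  exact this

theorem inv_Q {s : G} (hs : s * s = 1) (h : s • a = a) : s ∈ Q := by
  obtain ⟨u, hu, d, hd, rfl⟩ := S.exists_mul h
  have h1 : d * d ∈ Q := by
    have := Q.inv_mem (Q.mul_mem hu (S.conjQ hd.1 hu))
    rwa [show (u * (d * u * d⁻¹))⁻¹ = d * d * (u * d * (u * d))⁻¹ by group, hs, inv_one,
      mul_one] at this
  rw [eq_one_of_odd_of_sq (S.oddD hd) (S.eq_one h1 ((𝓓).mul_mem hd hd)), mul_one]
  exact hu

theorem exists_inv : ∃ s ∈ Q, orderOf s = 2 := exists_involution_mem S.even_card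

theorem exists_fix {s : G} (hs : orderOf s = 2) : ∃ c : Ω, s • c = c := by
  obtain ⟨u, hu, h2⟩ := S.exists_inv
  obtain ⟨g, rfl⟩ := isConj_iff.1 (se_isConj S.se h2 hs)
  exact ⟨g • a, conj_smul_eq_iff.2 (S.fix hu)⟩

theorem fix_of_comm {s g : G} {c : Ω} (hs : orderOf s = 2) (h1 : s • c = c) (h : g * s = s * g) :
    g • c = c := S.inv_fix hs (by rw [← mul_smul, ← h, mul_smul, h1]) h1

theorem card_Ω : Nat.card Ω = Nat.card Q + 1 := by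
  rw [← Finite.card_option]
  refine (Nat.card_eq_of_bijective (fun x : Option Q => x.elim a fun u => (u : G) • t • a)
    ⟨?_, fun c => ?_⟩).symm
  · rintro (_ | u) (_ | v) h
    · rfl
    · exact absurd h.symm (S.smul_ne (S.fix v.2) S.ne)
    · exact absurd h (S.smul_ne (S.fix u.2) S.ne)
    · exact congrArg _ (Subtype.ext (S.inj u.2 v.2 S.ne h))
  · by_cases h : c = a
    · exact ⟨none, h.symm⟩
    · obtain ⟨u, hu, e⟩ := S.trans0 h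
      exact ⟨some ⟨u, hu⟩, e⟩

theorem card_H : Nat.card 𝓗 = Nat.card Q * Nat.card 𝓓 := by
  rw [mul_comm, ← card_sup_of_disjoint (inf_le_left.trans S.norm)
    (eq_bot_iff.2 fun u hu => S.eq_one hu.2 hu.1), sup_comm, S.sup_eq]

theorem index_H : (𝓗).index = Nat.card Q + 1 := by
  have : IsPretransitive G Ω := ⟨fun c d => by
    obtain ⟨g, rfl⟩ := S.tr1 c
    obtain ⟨h, rfl⟩ := S.tr1 d
    exact ⟨h * g⁻¹, by simp [mul_smul]⟩⟩
  rw [index_stabilizer_of_transitive, S.card_Ω]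

theorem card_G : Nat.card G = Nat.card Q * Nat.card 𝓓 * (Nat.card Q + 1) := by
  rw [← S.card_H, ← S.index_H, card_mul_index]

theorem bruhat {g : G} (hg : g • a ≠ a) : ∃ x, x • a = a ∧ ∃ y ∈ Q, g = x * t * y := by
  obtain ⟨u, hu, e⟩ := S.trans0 (c := g⁻¹ • a) fun e => hg (by rw [inv_smul_eq_iff] at e; exact e.symm)
  exact ⟨g * u * t, by simp [mul_smul, e], u⁻¹, Q.inv_mem hu, by simp [mul_assoc, S.mul_self]⟩

theorem bruhat_unique {x y x' y' : G} (hx : x • a = a) (hy : y ∈ Q) (hx' : x' • a = a) (hy' : y' ∈ Q)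
    (h : x * t * y = x' * t * y') : x = x' ∧ y = y' := by
  have h1 : y⁻¹ • t • a = y'⁻¹ • t • a := by
    have := congrArg (fun g => g⁻¹ • a) h
    simpa [mul_smul, S.tinv, smul_eq_iff_inv.1 hx, smul_eq_iff_inv.1 hx'] using this
  have h2 := inv_injective (S.inj (Q.inv_mem hy) (Q.inv_mem hy') S.ne h1)
  subst h2
  exact ⟨by simpa using h, rfl⟩

theorem bruhat_unique3 {g h f g' h' f' : G} (h1 : g ∈ Q) (h2 : h ∈ 𝓓) (h3 : f ∈ Q) (h4 : g' ∈ Q)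
    (h5 : h' ∈ 𝓓) (h6 : f' ∈ Q) (e : g * h * t * f = g' * h' * t * f') : h = h' ∧ f = f' := by
  obtain ⟨e1, e2⟩ := S.bruhat_unique ((𝓗).mul_mem (S.le h1) h2.1) h3 ((𝓗).mul_mem (S.le h4) h5.1) h6 e
  have : g'⁻¹ * g = 1 := S.eq_one (Q.mul_mem (Q.inv_mem h4) h1) (by
    rw [show g'⁻¹ * g = h' * h⁻¹ by rw [inv_mul_eq_iff_eq_mul, ← mul_assoc, ← e1]; simp]
    exact (𝓓).mul_mem h5 ((𝓓).inv_mem h2))
  rw [inv_mul_eq_one] at this
  subst this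
  exact ⟨mul_left_cancel e1, e2⟩

/-- an involution swapping the two base points -/
theorem swap_inv {w : G} (hw : w * w = 1) (h : w • a = t • a) :
    t * w ∈ 𝓓 ∧ t * (t * w) * t⁻¹ = (t * w)⁻¹ := by
  have h2 : w • t • a = a := by rw [← h, ← mul_smul, hw, one_smul]
  refine ⟨⟨by simp [mul_smul, h, S.tt], by simp [mul_smul, h2]⟩, inverts_left S.mul_self hw⟩

theorem ord_mul {k : G} (hk : k ∈ 𝓓) (h : t * k * t⁻¹ = k⁻¹) : orderOf (t * k) = 2 ∧ t * k ∉ 𝓗 := by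
  have h2 : t * k ∉ 𝓗 := fun e => S.not_mem (by simpa using (𝓗).mul_mem e ((𝓗).inv_mem hk.1))
  refine ⟨ord2_iff.2 ⟨?_, fun e => h2 (e ▸ one_mem _)⟩, h2⟩
  rw [← mul_assoc]; nth_rw 2 [← S.tinv]; rw [h, inv_mul_cancel]

theorem K_inj {k k' s : G} (hk : k ∈ 𝓓) (h : t * k * t⁻¹ = k⁻¹) (hk' : k' ∈ 𝓓)
    (h' : t * k' * t⁻¹ = k'⁻¹) (hs : orderOf s = 2) (hsa : s • a = a)
    (e : k * s * k⁻¹ = k' * s * k'⁻¹) : k = k' := by
  have h1 := S.ord_mul hk h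
  have h2 := S.ord_mul hk' h'
  refine mul_left_cancel (se_eq_of_commute_mul S.se hs hsa h1.1 h1.2 h2.1 ?_)
  rw [show t * k * (t * k') = (t * k * t⁻¹) * k' by rw [S.tinv]; group, h]
  change k⁻¹ * k' * s = s * (k⁻¹ * k')
  calc k⁻¹ * k' * s = k⁻¹ * (k' * s * k'⁻¹) * k' := by group
    _ = _ := by rw [← e]; group

theorem K_free {k s : G} (hk : k ∈ 𝓓) (h : t * k * t⁻¹ = k⁻¹) (hs : orderOf s = 2) (hsa : s • a = a)
    (e : k * s * k⁻¹ = s) : k = 1 := S.K_inj hk h (one_mem _) (by simp) hs hsa (by simpa using e)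

theorem K_trans {s s' : G} (hs : orderOf s = 2) (hsa : s • a = a) (hs' : orderOf s' = 2)
    (hsa' : s' • a = a) : ∃ k ∈ 𝓓, t * k * t⁻¹ = k⁻¹ ∧ k * s * k⁻¹ = s' := by
  obtain ⟨k, h1, h2, h3⟩ := se_exists_inverted S.se S.ord S.not_mem hs hsa hs' hsa'
  refine ⟨k, ⟨h1, ?_⟩, h2, h3⟩
  have := (𝓗).inv_mem h1
  rw [← h2, mem_stabilizer_iff, conj_smul_fix, S.tinv] at this
  exact this

theorem D_trans {c d : Ω} (hcd : c ≠ d) {s s' : G} (hs : orderOf s = 2) (hsa : s • c = c)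
    (hs' : orderOf s' = 2) (hsa' : s' • c = c) : ∃ k ∈ St2 G c d, k * s * k⁻¹ = s' := by
  obtain ⟨g, rfl, rfl⟩ := S.tr2 S.ne.symm hcd
  obtain ⟨k, h1, -, h2⟩ := S.K_trans (s := g⁻¹ * s * g) (s' := g⁻¹ * s' * g) (by rwa [orderOf_conj''])
    (by simp [mul_smul, hsa]) (by rwa [orderOf_conj'']) (by simp [mul_smul, hsa'])
  refine ⟨g * k * g⁻¹, ⟨conj_smul_eq_iff.2 h1.1, conj_smul_eq_iff.2 h1.2⟩, ?_⟩
  calc _ = g * (k * (g⁻¹ * s * g) * k⁻¹) * g⁻¹ := by group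
    _ = _ := by rw [h2]; group

theorem card_K : Nat.card (invertedBy 𝓓 t) = Nat.card (involutionsIn (𝓗 : Set G)) := by
  obtain ⟨s, hs, h2⟩ := S.exists_inv
  refine Nat.card_eq_of_bijective (fun k => ⟨k * s * (k : G)⁻¹, S.le (S.conjQ k.2.1.1 hs),
    ne_one_of_ord2 (by rwa [orderOf_conj']), sq_of_ord2 (by rwa [orderOf_conj'])⟩)
    ⟨fun k k' h => Subtype.ext (S.K_inj k.2.1 k.2.2 k'.2.1 k'.2.2 h2 (S.fix hs)
      (congrArg Subtype.val h)), fun s' => ?_⟩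
  obtain ⟨k, h3, h4, h5⟩ := S.K_trans h2 (S.fix hs) (ord2_iff.2 ⟨s'.2.2.2, s'.2.2.1⟩) s'.2.1
  exact ⟨⟨k, h3, h4⟩, Subtype.ext h5⟩

theorem struct : ∃ s r, orderOf s = 2 ∧ s • a = a ∧ r ∈ Q ∧ t * s * t = r⁻¹ * t * r := by
  obtain ⟨c, hc⟩ := S.exists_fix S.ord
  obtain ⟨r, hr, e⟩ := S.trans0 (c := c) fun e => S.ne (e ▸ hc)
  refine ⟨t⁻¹ * (r⁻¹ * t * r) * t, r, by rw [orderOf_conj'', orderOf_conj'', S.ord], ?_, hr, ?_⟩
  · simp only [mul_smul, e, hc]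
    rw [← e, inv_smul_smul, inv_smul_smul]
  · simp [mul_assoc, S.mul_self]

theorem struct_unique {s r s' r' : G} (hs : s • a = a) (hr : r ∈ Q) (e : t * s * t = r⁻¹ * t * r)
    (hs' : s' • a = a) (hr' : r' ∈ Q) (e' : t * s' * t = r'⁻¹ * t * r') : s = s' ∧ r = r' := by
  have key : ∀ s r : G, s • a = a → t * s * t = r⁻¹ * t * r → t • r • t • a = r • t • a :=
    fun s r h1 h2 => by
      have := congrArg (fun g => r • g • t • a) h2
      simpa [mul_smul, S.tt, h1] using this.symm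
  have h := S.inj hr hr' S.ne (S.inv_fix S.ord (key s r hs e) (key s' r' hs' e'))
  subst h
  exact ⟨by simpa using e.trans e'.symm, rfl⟩

theorem cent_eq {s r : G} (hs : orderOf s = 2) (hsa : s • a = a) (hr : r ∈ Q)
    (e : t * s * t = r⁻¹ * t * r) {d : G} (hd : d ∈ 𝓓) : t * d * t⁻¹ = d ↔ d * s * d⁻¹ = s := by
  have key : ∀ d ∈ 𝓓, t * d * t⁻¹ = d → d * s * d⁻¹ = s := fun d hd h => by
    have h2 : d * t * d⁻¹ = t := by rw [mul_inv_eq_iff_eq_mul] at h ⊢; exact h.symm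
    refine (S.struct_unique ((𝓗).mul_mem ((𝓗).mul_mem hd.1 hsa) ((𝓗).inv_mem hd.1)) (S.conjQ hd.1 hr) ?_
      hsa hr e).1
    calc t * (d * s * d⁻¹) * t = (d * t * d⁻¹) * (d * s * d⁻¹) * (d * t * d⁻¹) := by rw [h2]
      _ = d * (t * s * t) * d⁻¹ := by group
      _ = (d * r * d⁻¹)⁻¹ * (d * t * d⁻¹) * (d * r * d⁻¹) := by rw [e]; group
      _ = _ := by rw [h2]
  refine ⟨key d hd, fun h => ?_⟩
  obtain ⟨c, hc, k, hk, h1, h2, rfl⟩ :=
    exists_cent_mul_inv S.mul_self S.odd_card (fun x => S.conjD) hd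
  have h3 : k = 1 := S.K_free hk h2 hs hsa (by
    have := key c⁻¹ ((𝓓).inv_mem hc) (by rw [← conj_inv, h1])
    calc k * s * k⁻¹ = c⁻¹ * (c * k * s * (c * k)⁻¹) * c⁻¹⁻¹ := by group
      _ = s := by rw [h, this])
  rwa [h3, mul_one]

/-- the centralizer of a set moves fixed points as it may -/
theorem cent_trans1 {X : Set G} {c d e : Ω} (hc : ∀ x ∈ X, x • c = c) (hd : ∀ x ∈ X, x • d = d)
    (he : ∀ x ∈ X, x • e = e) (h1 : d ≠ c) (h2 : e ≠ c) :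
    ∃ g ∈ centralizer X, g • c = c ∧ g • d = e ∧ (c = a → g ∈ Q) := by
  obtain ⟨g, rfl, hg⟩ : ∃ g : G, g • a = c ∧ (c = a → g = 1) := by
    by_cases h : c = a
    · exact ⟨1, by simp [h], fun _ => rfl⟩
    · exact (S.tr1 c).imp fun _ h' => ⟨h', fun e => absurd e h⟩
  have n1 : g⁻¹ • d ≠ a := fun e => h1 (inv_smul_eq_iff.1 e)
  obtain ⟨u, hu, h3⟩ := S.trans n1 (d := g⁻¹ • e) fun e => h2 (inv_smul_eq_iff.1 e)
  refine ⟨g * u * g⁻¹, fun x hx => ?_, conj_smul_eq_iff.2 (S.fix hu), by simp [mul_smul, h3],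
    fun h => by simpa [hg h]⟩
  have h4 : (g⁻¹ * x * g) • a = a := by simp [mul_smul, hc x hx]
  have h5 := S.inj (S.conjQ h4 hu) hu n1 (by
    have := hd x hx
    rw [smul_eq_iff_inv] at this
    simp [mul_smul, this, h3, he x hx])
  calc x * (g * u * g⁻¹) = g * (g⁻¹ * x * g * u * (g⁻¹ * x * g)⁻¹) * g⁻¹ * x := by group
    _ = _ := by rw [h5]

theorem fix_smul {X : Set G} {g : G} (hg : g ∈ centralizer X) {c : Ω} (hc : ∀ x ∈ X, x • c = c) :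
    ∀ x ∈ X, x • g • c = g • c := fun x hx => by rw [← mul_smul, hg x hx, mul_smul, hc x hx]

theorem cent_trans2 {X : Set G}
    (h3 : ∃ b c d : Ω, b ≠ c ∧ b ≠ d ∧ c ≠ d ∧ ∀ x ∈ X, x • b = b ∧ x • c = c ∧ x • d = d)
    {b₁ b₂ c₁ c₂ : Ω} (h : ∀ x ∈ X, x • b₁ = b₁ ∧ x • b₂ = b₂ ∧ x • c₁ = c₁ ∧ x • c₂ = c₂)
    (h1 : b₁ ≠ b₂) (h2 : c₁ ≠ c₂) : ∃ g ∈ centralizer X, g • b₁ = c₁ ∧ g • b₂ = c₂ := by
  obtain ⟨p, hp, p1, p2⟩ : ∃ p : Ω, (∀ x ∈ X, x • p = p) ∧ b₁ ≠ p ∧ c₁ ≠ p := by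
    obtain ⟨b, c, d, e1, e2, e3, e⟩ := h3
    by_contra h4
    push Not at h4
    have h5 := h4 b fun x hx => (e x hx).1
    have h6 := h4 c fun x hx => (e x hx).2.1
    have h7 := h4 d fun x hx => (e x hx).2.2
    by_cases h8 : b₁ = b
    · exact e3 ((h6 (h8 ▸ e1)).symm.trans (h7 (h8 ▸ e2)))
    by_cases h9 : b₁ = c
    · exact e2 ((h5 h8).symm.trans (h7 (h9 ▸ e3)))
    · exact e1 ((h5 h8).symm.trans (h6 h9))
  obtain ⟨g, hg, -, e1, -⟩ := S.cent_trans1 hp (fun x hx => (h x hx).1) (fun x hx => (h x hx).2.2.1)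
    p1 p2
  obtain ⟨g', hg', e2, e3, -⟩ := S.cent_trans1 (fun x hx => (h x hx).2.2.1)
    (S.fix_smul hg fun x hx => (h x hx).2.1) (fun x hx => (h x hx).2.2.2)
    (fun e => h1 (smul_left_cancel g (e1.trans e.symm))) h2.symm
  exact ⟨g' * g, mul_mem hg' hg, by rw [mul_smul, e1, e2], by rw [mul_smul, e3]⟩

theorem exists_swap_cent {X : Set G} (hX : X ⊆ (𝓓 : Set G))
    (h3 : ∃ b c d : Ω, b ≠ c ∧ b ≠ d ∧ c ≠ d ∧ ∀ x ∈ X, x • b = b ∧ x • c = c ∧ x • d = d) :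
    ∃ w ∈ centralizer X, orderOf w = 2 ∧ w • a = t • a := by
  obtain ⟨g, hg, h1, h2⟩ := S.cent_trans2 h3 (fun x hx => ⟨(hX hx).1, (hX hx).2, (hX hx).2,
    (hX hx).1⟩) S.ne.symm S.ne
  obtain ⟨m, h4, h5, -⟩ := exists_swap_pow h1 h2 S.odd_card
  exact ⟨_, pow_mem hg m, ord2_iff.2 ⟨h4, fun e => S.ne (by rw [← h5, e, one_smul])⟩, h5⟩

theorem even_cent {X : Set G} (hX : X ⊆ (𝓓 : Set G))
    (h3 : ∃ b c d : Ω, b ≠ c ∧ b ≠ d ∧ c ≠ d ∧ ∀ x ∈ X, x • b = b ∧ x • c = c ∧ x • d = d) :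
    ∃ w ∈ centralizer X, orderOf w = 2 ∧ w ∈ Q := by
  obtain ⟨w, hw, h1, h2⟩ := S.exists_swap_cent hX h3
  obtain ⟨c, hc⟩ := S.exists_fix h1
  have h4 : w • t • a = a := by rw [← h2, ← mul_smul, sq_of_ord2 h1, one_smul]
  obtain ⟨g, hg, -, h5, -⟩ := S.cent_trans1 (fun x hx => (hX hx).2)
    (fun x hx => S.fix_of_comm h1 hc (hw x hx)) (fun x hx => (hX hx).1)
    (fun e => S.ne (by rw [← e, ← hc, e, h4])) S.ne.symm
  have h6 : orderOf (g * w * g⁻¹) = 2 := by rwa [orderOf_conj']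
  exact ⟨_, mul_mem (mul_mem hg hw) (inv_mem hg), h6, S.inv_Q (sq_of_ord2 h6)
    (h5 ▸ conj_smul_eq_iff.2 hc)⟩

theorem fpf {k : G} (hk : k ∈ 𝓓) (h : t * k * t⁻¹ = k⁻¹) (h1 : k ≠ 1) : Q ⊓ centralizer {k} = ⊥ := by
  refine eq_bot_iff.2 fun u hu => by_contra fun h2 => ?_
  have h3 := mem_centralizer_singleton_iff.1 hu.2
  obtain ⟨w, h4, h5, h6⟩ := S.even_cent (X := {k}) (by simpa using hk) ⟨a, t • a, u • t • a, S.ne.symm,
    (S.smul_ne (S.fix hu.1) S.ne).symm, fun e => h2 (S.free hu.1 S.ne e.symm), fun x hx => by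
      rw [Set.mem_singleton_iff.1 hx]
      exact ⟨hk.1, hk.2, by rw [← mul_smul, ← h3, mul_smul, (mem_St2.1 hk).2]⟩⟩
  exact h1 (S.K_free hk h h5 (S.fix h6) (mem_cent_iff_conj.1 h4))

theorem exists_four
    (h2 : ∃ x y : G, x ≠ 1 ∧ y ≠ 1 ∧ x ≠ y ∧ x * x = 1 ∧ y * y = 1 ∧ x * y = y * x) :
    ∃ x ∈ Q, ∃ y ∈ Q, orderOf x = 2 ∧ orderOf y = 2 ∧ x ≠ y ∧ x * y = y * x := by
  obtain ⟨x, y, h1, h2, h3, h4, h5, h6⟩ := h2
  have hx := ord2_iff.2 ⟨h4, h1⟩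
  have hy := ord2_iff.2 ⟨h5, h2⟩
  obtain ⟨c, hc⟩ := S.exists_fix hx
  have hc' := S.fix_of_comm hx hc h6.symm
  obtain ⟨g, rfl⟩ := S.tr1 c
  have hx' : orderOf (g⁻¹ * x * g) = 2 := by rwa [orderOf_conj'']
  have hy' : orderOf (g⁻¹ * y * g) = 2 := by rwa [orderOf_conj'']
  refine ⟨_, S.inv_Q (sq_of_ord2 hx') (by simp [mul_smul, hc]), _,
    S.inv_Q (sq_of_ord2 hy') (by simp [mul_smul, hc']), hx', hy', by simpa, ?_⟩
  calc g⁻¹ * x * g * (g⁻¹ * y * g) = g⁻¹ * (x * y) * g := by group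
    _ = _ := by rw [h6]; group

theorem nilp (h2 : ∃ x y : G, x ≠ 1 ∧ y ≠ 1 ∧ x ≠ y ∧ x * x = 1 ∧ y * y = 1 ∧ x * y = y * x) :
    Group.IsNilpotent Q := by
  obtain ⟨x, hx, y, hy, h3, h4, h5, -⟩ := S.exists_four h2
  obtain ⟨k, hk, h6, h7⟩ := S.K_trans h3 (S.fix hx) h4 (S.fix hy)
  have h8 : k ≠ 1 := fun e => h5 (by simpa [e] using h7)
  obtain ⟨p, hp, hd⟩ := Nat.exists_prime_and_dvd (mt orderOf_eq_one_iff.1 h8)
  have h9 : orderOf (k ^ (orderOf k / p)) = p := orderOf_pow_orderOf_div (orderOf_pos k).ne' hd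
  exact Core.isNilpotent_of_fpf_prime (S.norm ((𝓓).pow_mem hk _).1) (h9 ▸ hp)
    (S.fpf ((𝓓).pow_mem hk _) (conj_pow_inv h6 _) fun e => hp.one_lt.ne' (by rw [← h9, e, orderOf_one]))

theorem central (h2 : ∃ x y : G, x ≠ 1 ∧ y ≠ 1 ∧ x ≠ y ∧ x * x = 1 ∧ y * y = 1 ∧ x * y = y * x)
    {s x : G} (hs : s * s = 1) (hsa : s • a = a) (hx : x ∈ Q) : s * x = x * s := by
  by_cases h1 : s = 1
  · simp [h1]
  obtain ⟨z, hz, h3, h4⟩ := Core.exists_mem_center_orderOf (S.nilp h2) Nat.prime_two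
    S.even_card.two_dvd
  obtain ⟨k, hk, -, rfl⟩ := S.K_trans h4 (S.fix hz) (ord2_iff.2 ⟨hs, h1⟩) hsa
  have := h3 _ (S.conjQ' hk.1 hx)
  calc k * z * k⁻¹ * x = k * (z * (k⁻¹ * x * k)) * k⁻¹ := by group
    _ = _ := by rw [← this]; group

end R1

theorem s1118 {G Ω : Type*} [Group G] [Finite G] [MulAction G Ω] {a : Ω} {t : G} {Q : Subgroup G}
    (hS : Cfsg.IsRankOneSetup G Ω a t Q) :
    (∀ X : Set G, X ⊆ (Q : Set G) → (∃ x ∈ X, x ≠ 1) → Subgroup.normalizer X ≤ MulAction.stabilizer G a) ∧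
      Subgroup.normalizer (Q : Set G) = MulAction.stabilizer G a ∧
      Subgroup.normalizer (MulAction.stabilizer G a : Set G) = MulAction.stabilizer G a := by
  have S : R1 G Ω a t Q := hS
  obtain ⟨s, hs, h2⟩ := S.exists_inv
  have h1 : ∀ X : Set G, ∀ x ∈ X, x ∈ Q → x ≠ 1 → X ⊆ stabilizer G a →
      normalizer X ≤ stabilizer G a := fun X x hx h3 h4 h5 g hg =>
    S.fix_of_conj h3 h4 (h5 ((hg x).1 hx))
  exact ⟨fun X hX ⟨x, hx, h3⟩ => h1 X x hx (hX hx) h3 (hX.trans S.le),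
    le_antisymm (h1 _ s hs hs (ne_one_of_ord2 h2) S.le) S.norm,
    le_antisymm (h1 _ s (S.le hs) hs (ne_one_of_ord2 h2) subset_rfl) le_normalizer⟩

theorem s1119 {G Ω : Type*} [Group G] [Finite G] [MulAction G Ω] {a : Ω} {t : G} {Q : Subgroup G}
    (hS : Cfsg.IsRankOneSetup G Ω a t Q) :
    (∀ b c : Ω, b ≠ a → c ≠ a → ∃! x : Q, (x : G) • b = c) ∧
      Nat.card Ω = Nat.card Q + 1 ∧
      Nat.card G = Nat.card Q * Nat.card ↥(MulAction.stabilizer G a ⊓ MulAction.stabilizer G (t • a)) * (Nat.card Q + 1) ∧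
      (∃ P : Sylow 2 G, (P : Subgroup G) ≤ Q) ∧
      ∀ g : G, g ∉ MulAction.stabilizer G a → ∃! p : G × G, p.1 ∈ MulAction.stabilizer G a ∧ p.2 ∈ Q ∧ g = p.1 * t * p.2 := by
  have S : R1 G Ω a t Q := hS
  refine ⟨fun b c hb hc => ?_, S.card_Ω, S.card_G, ?_, fun g hg => ?_⟩
  · obtain ⟨u, hu, e⟩ := S.trans hb hc
    exact ⟨⟨u, hu⟩, e, fun v hv => Subtype.ext (S.inj v.2 hu hb (hv.trans e.symm))⟩
  · obtain ⟨P, hP⟩ := exists_isSylowOf (p := 2) Q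
    have h1 : Q.index = Nat.card (St2 G a (t • a)) * (Nat.card Q + 1) :=
      Nat.eq_of_mul_eq_mul_left (Nat.card_pos (α := Q)) (by rw [card_mul_index, S.card_G, mul_assoc])
    have h2 : ¬ 2 ∣ P.index := by
      rw [← relIndex_mul_index hP.le, h1]
      exact ((Nat.coprime_two_right.1 hP.coprime_relIndex).mul
        (S.odd_card.mul S.even_card.add_one)).not_two_dvd_nat
    exact ⟨hP.isP.toSylow h2, hP.le⟩
  · obtain ⟨x, hx, y, hy, e⟩ := S.bruhat hg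
    exact ⟨(x, y), ⟨hx, hy, e⟩, fun p hp =>
      Prod.ext_iff.2 (S.bruhat_unique hp.1 hp.2.1 hx hy (hp.2.2.symm.trans e))⟩

theorem s1120 {G Ω : Type*} [Group G] [Finite G] [MulAction G Ω] {a : Ω} {t : G} {Q : Subgroup G}
    (hS : Cfsg.IsRankOneSetup G Ω a t Q)
    (h2 : ∃ x y : G, x ≠ 1 ∧ y ≠ 1 ∧ x ≠ y ∧ x * x = 1 ∧ y * y = 1 ∧ x * y = y * x) :
    Cfsg.pPrimeCore 2 G = (MulAction.stabilizer G a).normalCore := by
  have S : R1 G Ω a t Q := hS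
  refine le_antisymm ((normal_le_normalCore).2 ?_) (Core.le_pPrimeCore inferInstance ?_)
  · obtain ⟨x, hx, y, hy, h3, h4, h5, h6⟩ := S.exists_four h2
    have hxy : y ∉ zpowers x := fun h => by
      rcases (mem_zpowers_ord2 (sq_of_ord2 h3)).1 h with e | e
      · exact ne_one_of_ord2 h4 e
      · exact h5 e.symm
    have hn : ∀ u ∈ zpowers x, y * u * y⁻¹ = u := fun u hu => by
      rcases (mem_zpowers_ord2 (sq_of_ord2 h3)).1 hu with rfl | rfl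
      · simp
      · rw [← h6, mul_inv_cancel_right]
    have hn' : ∀ u ∈ zpowers x, y * u * y⁻¹ ∈ zpowers x := fun u hu => (hn u hu).symm ▸ hu
    have hy2 : y * y ∈ zpowers x := by rw [sq_of_ord2 h4]; exact one_mem _
    have hc : IsMulCommutative ↥(zpowers x ⊔ zpowers y) := by
      rw [zpowers_eq_closure, zpowers_eq_closure, ← Subgroup.closure_union]
      refine ⟨⟨fun u v => ?_⟩⟩
      exact (closureCommGroupOfComm (k := {x} ∪ {y}) (by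
        rintro _ (rfl | rfl) _ (rfl | rfl) <;> simp [h6])).mul_comm u v
    have hsq : ∀ u ∈ zpowers x ⊔ zpowers y, u ^ 2 = 1 := fun u hu => by
      obtain ⟨v, hv, w, hw, rfl⟩ := (mem_sup_of_le_normalizer_left
        (zpowers_le.2 (mem_normalizer_of_conj_mem hn'))).1 hu
      rw [Commute.mul_pow (comm_of_mem hc (mem_sup_left hv) (mem_sup_right hw))]
      rcases (mem_zpowers_ord2 (sq_of_ord2 h3)).1 hv with rfl | rfl <;>
        rcases (mem_zpowers_ord2 (sq_of_ord2 h4)).1 hw with rfl | rfl <;>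
        simp [sq, sq_of_ord2 h3, sq_of_ord2 h4]
    refine Comp.le_of_elements (p := 2) ⟨hc, hsq⟩
      (by rw [card_sup_zpowers hn' hy2 hxy, Nat.card_zpowers, h3]; norm_num)
      (Core.pPrimeCore_coprime 2) (fun g _ => mem_normalizer_of_normal _ g) fun u hu h1 g hg => ?_
    exact S.fix_of_comm (ord2_iff.2 ⟨by rw [← sq, hsq u hu], h1⟩)
      (S.fix (sup_le (zpowers_le.2 hx) (zpowers_le.2 hy) hu)) (mem_centralizer_singleton_iff.1 hg.2)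
  · refine Nat.coprime_two_right.2 (S.odd_card.of_dvd_nat (card_dvd_of_le fun g hg =>
      ⟨normalCore_le _ hg, ?_⟩))
    have := hg t⁻¹
    rw [mem_stabilizer_iff, conj_smul_fix, inv_inv] at this
    exact this

theorem s1121 {G Ω : Type*} [Group G] [Finite G] [MulAction G Ω] {a : Ω} {t : G} {Q : Subgroup G}
    (hS : Cfsg.IsRankOneSetup G Ω a t Q) :
    (∀ s u : G, s ∈ MulAction.stabilizer G a → s ≠ 1 → s * s = 1 → u ∉ MulAction.stabilizer G a → u ≠ 1 → u * u = 1 → Odd (orderOf (s * u))) ∧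
      ∀ u v : G, u ≠ 1 → u * u = 1 → v ≠ 1 → v * v = 1 → ∃ g : G, g * u * g⁻¹ = v := by
  have S : R1 G Ω a t Q := hS
  exact ⟨fun s u h1 h2 h3 h4 h5 h6 => se_odd_mul S.se h1 (ord2_iff.2 ⟨h3, h2⟩) h4 (ord2_iff.2 ⟨h6, h5⟩),
    fun u v h1 h2 h3 h4 => isConj_iff.1 (se_isConj S.se (ord2_iff.2 ⟨h2, h1⟩) (ord2_iff.2 ⟨h4, h3⟩))⟩

theorem s1122 {G Ω : Type*} [Group G] [Finite G] [MulAction G Ω] {a : Ω} {t : G} {Q : Subgroup G}
    (hS : Cfsg.IsRankOneSetup G Ω a t Q) :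
    Nat.card (Cfsg.invertedBy (MulAction.stabilizer G a ⊓ MulAction.stabilizer G (t • a)) t) = Nat.card (Cfsg.involutionsIn (MulAction.stabilizer G a : Set G)) ∧
      ∀ s ∈ Cfsg.involutionsIn (MulAction.stabilizer G a : Set G), ∀ s' ∈ Cfsg.involutionsIn (MulAction.stabilizer G a : Set G),
        ∃ k ∈ Cfsg.invertedBy (MulAction.stabilizer G a ⊓ MulAction.stabilizer G (t • a)) t, k⁻¹ * s * k = s' := by
  have S : R1 G Ω a t Q := hS
  refine ⟨S.card_K, fun s hs s' hs' => ?_⟩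
  obtain ⟨k, h1, h2, h3⟩ := S.K_trans (ord2_iff.2 ⟨hs.2.2, hs.2.1⟩) hs.1
    (ord2_iff.2 ⟨hs'.2.2, hs'.2.1⟩) hs'.1
  exact ⟨k⁻¹, ⟨inv_mem h1, by rw [← conj_inv, h2]⟩, by simpa using h3⟩

theorem s1123 {G Ω : Type*} [Group G] [Finite G] [MulAction G Ω] {a : Ω} {t : G} {Q : Subgroup G}
    (hS : Cfsg.IsRankOneSetup G Ω a t Q) :
    ∃! p : G × G, p.1 ∈ Cfsg.involutionsIn (MulAction.stabilizer G a : Set G) ∧ p.2 ∈ Q ∧
      t * p.1 * t = p.2⁻¹ * t * p.2 := by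
  have S : R1 G Ω a t Q := hS
  obtain ⟨s, r, h1, h2, h3, h4⟩ := S.struct
  exact ⟨(s, r), ⟨⟨h2, ne_one_of_ord2 h1, sq_of_ord2 h1⟩, h3, h4⟩, fun p hp =>
    Prod.ext_iff.2 (S.struct_unique hp.1.1 hp.2.1 hp.2.2 h2 h3 h4)⟩

theorem s1125 {G Ω : Type*} [Group G] [Finite G] [MulAction G Ω] {a : Ω} {t : G} {Q : Subgroup G}
    (hS : Cfsg.IsRankOneSetup G Ω a t Q)
    (X : Set G) (hX : X ⊆ ((MulAction.stabilizer G a ⊓ MulAction.stabilizer G (t • a)) : Set G))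
    (h3 : ∃ b c d : Ω, b ≠ c ∧ b ≠ d ∧ c ≠ d ∧ ∀ x ∈ X, x • b = b ∧ x • c = c ∧ x • d = d) :
    (∀ b₁ b₂ c₁ c₂ : Ω, (∀ x ∈ X, x • b₁ = b₁ ∧ x • b₂ = b₂ ∧ x • c₁ = c₁ ∧ x • c₂ = c₂) →
        b₁ ≠ b₂ → c₁ ≠ c₂ → ∃ g ∈ Subgroup.centralizer X, g • b₁ = c₁ ∧ g • b₂ = c₂) ∧
      Even (Nat.card ↥(Subgroup.centralizer X ⊓ Q)) ∧
      (Subgroup.centralizer X ⊓ Q) ⊔ (Subgroup.centralizer X ⊓ (MulAction.stabilizer G a ⊓ MulAction.stabilizer G (t • a))) = Subgroup.centralizer X ⊓ MulAction.stabilizer G a := by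
  have S : R1 G Ω a t Q := hS
  refine ⟨fun b₁ b₂ c₁ c₂ => S.cent_trans2 h3, ?_,
    le_antisymm (sup_le (inf_le_inf_left _ S.le) (inf_le_inf_left _ inf_le_left)) fun g hg => ?_⟩
  · obtain ⟨w, h1, h2, h4⟩ := S.even_cent hX h3
    exact even_card_of_mem h2 ⟨h1, h4⟩
  · obtain ⟨u, hu, h1, h2, h4⟩ := S.cent_trans1 (fun x hx => (hX hx).1) (fun x hx => (hX hx).2)
      (S.fix_smul hg.1 fun x hx => (hX hx).2) S.ne (S.smul_ne hg.2 S.ne)
    rw [show g = u * (u⁻¹ * g) by simp]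
    exact mul_mem_sup ⟨hu, h4 rfl⟩ ⟨(centralizer X).mul_mem (inv_mem hu) hg.1,
      (stabilizer G a).mul_mem (inv_mem (S.le (h4 rfl))) hg.2,
      by simp [mul_smul, ← h2]⟩

theorem s1126 {G Ω : Type*} [Group G] [Finite G] [MulAction G Ω] {a : Ω} {t : G} {Q : Subgroup G}
    (hS : Cfsg.IsRankOneSetup G Ω a t Q)
    (X : Set G) (hX : X ⊆ ((MulAction.stabilizer G a ⊓ MulAction.stabilizer G (t • a)) : Set G))
    (h3 : ∃ b c d : Ω, b ≠ c ∧ b ≠ d ∧ c ≠ d ∧ ∀ x ∈ X, x • b = b ∧ x • c = c ∧ x • d = d) :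
    ∃ k ∈ (MulAction.stabilizer G a ⊓ MulAction.stabilizer G (t • a)), ∀ x ∈ X, (k * x * k⁻¹) * t = t * (k * x * k⁻¹) := by
  have S : R1 G Ω a t Q := hS
  obtain ⟨w, h1, h2, h4⟩ := S.exists_swap_cent hX h3
  have h5 := (S.swap_inv (sq_of_ord2 h2) h4).1
  obtain ⟨k, hk⟩ := exists_zpow_conj_of_odd S.mul_self (sq_of_ord2 h2) (S.oddD h5)
  refine ⟨((t * w) ^ k)⁻¹, inv_mem (zpow_mem h5 k), fun x hx => ?_⟩
  have := h1 x hx
  generalize (t * w) ^ k = d at hk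
  subst hk
  calc d⁻¹ * x * d⁻¹⁻¹ * t = d⁻¹ * (x * (d * t * d⁻¹)) * d := by group
    _ = _ := by rw [this]; group

theorem s1127 {G Ω : Type*} [Group G] [Finite G] [MulAction G Ω] {a : Ω} {t : G} {Q : Subgroup G}
    (hS : Cfsg.IsRankOneSetup G Ω a t Q) :
    (∀ s r : G, s ∈ Cfsg.involutionsIn (MulAction.stabilizer G a : Set G) → r ∈ Q → t * s * t = r⁻¹ * t * r →
        (MulAction.stabilizer G a ⊓ MulAction.stabilizer G (t • a)) ⊓ Subgroup.centralizer {t} = (MulAction.stabilizer G a ⊓ MulAction.stabilizer G (t • a)) ⊓ Subgroup.centralizer {s}) ∧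
      (MulAction.stabilizer G a ⊓ MulAction.stabilizer G (t • a)) ⊓ Subgroup.centralizer {t} ⊓ Subgroup.centralizer (Cfsg.invertedBy (MulAction.stabilizer G a ⊓ MulAction.stabilizer G (t • a)) t) =
        (MulAction.stabilizer G a ⊓ MulAction.stabilizer G (t • a)) ⊓ Subgroup.centralizer (Cfsg.involutionsIn (MulAction.stabilizer G a : Set G)) := by
  have S : R1 G Ω a t Q := hS
  refine ⟨fun s r hs hr e => Subgroup.ext fun d => and_congr_right fun hd => ?_, ?_⟩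
  · change d ∈ centralizer _ ↔ d ∈ centralizer _
    rw [mem_cent_iff_conj, S.cent_eq (ord2_iff.2 ⟨hs.2.2, hs.2.1⟩) hs.1 hr e hd,
      mem_centralizer_singleton_iff, mul_inv_eq_iff_eq_mul]
  obtain ⟨s, r, h1, h2, h3, h4⟩ := S.struct
  apply le_antisymm
  · refine fun d hd => ⟨hd.1.1, fun s' hs' => ?_⟩
    obtain ⟨k, k1, k2, rfl⟩ := S.K_trans h1 h2 (ord2_iff.2 ⟨hs'.2.2, hs'.2.1⟩) hs'.1
    have h5 := (S.cent_eq h1 h2 h3 h4 hd.1.1).1 (mem_cent_iff_conj.1 hd.1.2)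
    have h6 : k * d = d * k := hd.2 k ⟨k1, k2⟩
    have h7 : k⁻¹ * d = d * k⁻¹ := (Commute.inv_left h6).eq
    rw [mul_inv_eq_iff_eq_mul] at h5
    rw [mul_assoc, h7, ← mul_assoc, mul_assoc k, ← h5, ← mul_assoc, h6]; group
  · intro d hd
    have h5 : ∀ s', orderOf s' = 2 → s' • a = a → d * s' * d⁻¹ = s' := fun s' e1 e2 => by
      rw [← hd.2 s' ⟨e2, ne_one_of_ord2 e1, sq_of_ord2 e1⟩, mul_inv_cancel_right]
    have h6 := (S.cent_eq h1 h2 h3 h4 hd.1).2 (h5 s h1 h2)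
    refine ⟨⟨hd.1, mem_cent_iff_conj.2 h6⟩, fun k hk => (mul_inv_eq_iff_eq_mul.1 ?_).symm⟩
    have hD : d ∈ St2 G a (t • a) := hd.1
    refine S.K_inj (mul_mem (mul_mem hD hk.1) (inv_mem hD)) ?_ hk.1 hk.2 h1 h2 ?_
    · calc t * (d * k * d⁻¹) * t⁻¹ = (t * d * t⁻¹) * (t * k * t⁻¹) * (t * d * t⁻¹)⁻¹ := by group
        _ = _ := by rw [h6, hk.2]; group
    · have h7 := h5 _ (by rwa [orderOf_conj']) (S.fix (S.conjQ hk.1.1 (S.inv_Q (sq_of_ord2 h1) h2)))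
      calc _ = d * (k * (d⁻¹ * (d * s * d⁻¹) * d) * k⁻¹) * d⁻¹ := by rw [h5 s h1 h2]; group
        _ = _ := by rw [← h7]; group

theorem s1128 {G Ω : Type*} [Group G] [Finite G] [MulAction G Ω] [FaithfulSMul G Ω] {a : Ω} {t : G} {Q : Subgroup G}
    (hS : Cfsg.IsRankOneSetup G Ω a t Q)
    (h2 : ∃ x y : G, x ≠ 1 ∧ y ≠ 1 ∧ x ≠ y ∧ x * x = 1 ∧ y * y = 1 ∧ x * y = y * x)
    (x : G) (hx : x ∈ Cfsg.invertedBy (MulAction.stabilizer G a ⊓ MulAction.stabilizer G (t • a)) t) (hx1 : x ≠ 1) :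
    Q ⊓ Subgroup.centralizer {x} = ⊥ := by
  exact R1.fpf hS hx.1 hx.2 hx1

theorem s1129 {G Ω : Type*} [Group G] [Finite G] [MulAction G Ω] [FaithfulSMul G Ω] {a : Ω} {t : G} {Q : Subgroup G}
    (hS : Cfsg.IsRankOneSetup G Ω a t Q)
    (h2 : ∃ x y : G, x ≠ 1 ∧ y ≠ 1 ∧ x ≠ y ∧ x * x = 1 ∧ y * y = 1 ∧ x * y = y * x) :
    Group.IsNilpotent Q := by
  exact R1.nilp hS h2

theorem s1130 {G Ω : Type*} [Group G] [Finite G] [MulAction G Ω] [FaithfulSMul G Ω] {a : Ω} {t : G} {Q : Subgroup G}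
    (hS : Cfsg.IsRankOneSetup G Ω a t Q)
    (h2 : ∃ x y : G, x ≠ 1 ∧ y ≠ 1 ∧ x ≠ y ∧ x * x = 1 ∧ y * y = 1 ∧ x * y = y * x) :
    (∀ s ∈ Cfsg.involutionsIn (MulAction.stabilizer G a : Set G), s ∈ Q ∧ ∀ x ∈ Q, s * x = x * s) ∧
      ∀ s ∈ Cfsg.involutionsIn (MulAction.stabilizer G a : Set G), ∀ s' ∈ Cfsg.involutionsIn (MulAction.stabilizer G a : Set G),
        s * s' = 1 ∨ s * s' ∈ Cfsg.involutionsIn (MulAction.stabilizer G a : Set G) := by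
  have S : R1 G Ω a t Q := hS
  refine ⟨fun s hs => ⟨S.inv_Q hs.2.2 hs.1, fun x => S.central h2 hs.2.2 hs.1⟩, fun s hs s' hs' =>
    or_iff_not_imp_left.2 fun h => ⟨mul_mem hs.1 hs'.1, h, ?_⟩⟩
  rw [← Commute.mul_mul_mul_comm (S.central h2 hs.2.2 hs.1 (S.inv_Q hs'.2.2 hs'.1)), hs.2.2, hs'.2.2,
    one_mul]

theorem s1134 {G Ω : Type*} [Group G] [Finite G] [MulAction G Ω] [FaithfulSMul G Ω] {a : Ω} {t : G} {Q : Subgroup G}
    (hS : Cfsg.IsRankOneSetup G Ω a t Q)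
    (h2 : ∃ x y : G, x ≠ 1 ∧ y ≠ 1 ∧ x ≠ y ∧ x * x = 1 ∧ y * y = 1 ∧ x * y = y * x)
    (X : Set G) (hX : X ⊆ (((MulAction.stabilizer G a ⊓ MulAction.stabilizer G (t • a)) ⊓ Subgroup.centralizer {t} : Subgroup G) : Set G)) (g : G)
    (hY : (fun x => g * x * g⁻¹) '' X ⊆ (((MulAction.stabilizer G a ⊓ MulAction.stabilizer G (t • a)) ⊓ Subgroup.centralizer {t} : Subgroup G) : Set G)) :
    ∃ v ∈ (MulAction.stabilizer G a ⊓ MulAction.stabilizer G (t • a)) ⊓ Subgroup.centralizer {t}, (fun x => v * x * v⁻¹) '' X = (fun x => g * x * g⁻¹) '' X := by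
  have S : R1 G Ω a t Q := hS
  obtain ⟨s, r, h1, h2, h3, h4⟩ := S.struct
  have hs : s ∈ Q := S.inv_Q (sq_of_ord2 h1) h2
  have hV : ∀ x ∈ St2 G a (t • a) ⊓ centralizer {t}, x • s • t • a = s • t • a := fun x hx => by
    have := (S.cent_eq h1 h2 h3 h4 hx.1).1 (mem_cent_iff_conj.1 hx.2)
    rw [mul_inv_eq_iff_eq_mul] at this
    rw [← mul_smul, this, mul_smul, (mem_St2.1 hx.1).2]
  obtain ⟨c, hc, h5, h6⟩ := S.cent_trans2 (X := X) ⟨a, t • a, s • t • a, S.ne.symm,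
    (S.smul_ne h2 S.ne).symm, fun e => ne_one_of_ord2 h1 (S.free hs S.ne e.symm),
    fun x hx => ⟨(hX hx).1.1, (hX hx).1.2, hV x (hX hx)⟩⟩ (b₁ := a) (b₂ := t • a) (c₁ := g⁻¹ • a)
    (c₂ := g⁻¹ • t • a) (fun x hx => ⟨(hX hx).1.1, (hX hx).1.2,
      conj_smul_fix.1 (hY ⟨x, hx, rfl⟩).1.1, conj_smul_fix.1 (hY ⟨x, hx, rfl⟩).1.2⟩) S.ne.symm
    fun e => S.ne (smul_left_cancel _ e).symm
  obtain ⟨v, hv, k, hk, h7, h8, e⟩ := exists_cent_mul_inv S.mul_self S.odd_card (fun x => S.conjD)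
    (x := g * c) ⟨by simp [mul_smul, h5], by simp [mul_smul, h6]⟩
  have hv' : v ∈ St2 G a (t • a) ⊓ centralizer {t} := ⟨hv, mem_cent_iff_conj.2 h7⟩
  refine ⟨v, hv', Set.image_congr fun x hx => ?_⟩
  have h9 : g * x * g⁻¹ = v * (k * x * k⁻¹) * v⁻¹ := by
    calc g * x * g⁻¹ = g * c * x * (g * c)⁻¹ := by rw [mul_assoc g c, ← hc x hx]; group
      _ = _ := by rw [e]; group
  have h10 : k * x * k⁻¹ ∈ St2 G a (t • a) ⊓ centralizer {t} := by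
    have := mul_mem (mul_mem (inv_mem hv') (h9 ▸ hY ⟨x, hx, rfl⟩ : v * (k * x * k⁻¹) * v⁻¹ ∈ _)) hv'
    simpa [mul_assoc] using this
  have h11 := mem_cent_iff_conj.1 h10.2
  have h12 := mem_cent_iff_conj.1 (hX hx).2
  have h13 : Commute k x := commute_of_sq_commute_of_odd (S.oddD hk) (by
    calc k * k * x = k * (t * (k * x * k⁻¹) * t⁻¹) * k := by rw [h11]; group
      _ = k * (t * k * t⁻¹) * (t * x * t⁻¹) * (t * k * t⁻¹)⁻¹ * k := by group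
      _ = x * (k * k) := by rw [h8, h12]; group)
  rw [h9, h13.eq, mul_inv_cancel_right]

theorem s1135 {G Ω : Type*} [Group G] [Finite G] [MulAction G Ω] [FaithfulSMul G Ω] {a : Ω} {t : G} {Q : Subgroup G}
    (hS : Cfsg.IsRankOneSetup G Ω a t Q)
    (h2 : ∃ x y : G, x ≠ 1 ∧ y ≠ 1 ∧ x ≠ y ∧ x * x = 1 ∧ y * y = 1 ∧ x * y = y * x)
    (u v : G) (hu1 : u ≠ 1) (hu2 : u * u = 1) (hv1 : v ≠ 1) (hv2 : v * v = 1) (hx : (u * v) * (u * v) ≠ 1) :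
    (∃ g : G, ∃ u' ∈ Cfsg.involutionsIn (MulAction.stabilizer G a : Set G), g * (u * v) * g⁻¹ = u' * t) ∧
      Odd (Nat.card ↥(Subgroup.centralizer {u * v})) := by
  have S : R1 G Ω a t Q := hS
  have hu := ord2_iff.2 ⟨hu2, hu1⟩
  have hv := ord2_iff.2 ⟨hv2, hv1⟩
  obtain ⟨c, hc⟩ := S.exists_fix hu
  obtain ⟨d, hd⟩ := S.exists_fix hv
  have hcd : c ≠ d := fun e => hx (by
    subst e
    obtain ⟨g, rfl⟩ := S.tr1 c
    have h3 : g⁻¹ * u * g * (g⁻¹ * v * g) = g⁻¹ * v * g * (g⁻¹ * u * g) :=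
      S.central h2 (sq_of_ord2 (by rwa [orderOf_conj''])) (by simp [mul_smul, hc])
        (S.inv_Q (sq_of_ord2 (by rwa [orderOf_conj''])) (by simp [mul_smul, hd]))
    have h4 : Commute u v := by
      change u * v = v * u
      calc u * v = g * (g⁻¹ * u * g * (g⁻¹ * v * g)) * g⁻¹ := by group
        _ = _ := by rw [h3]; group
    rw [← h4.mul_mul_mul_comm, hu2, hv2, one_mul])
  refine ⟨?_, odd_card_iff.2 fun w hw h3 => ?_⟩
  · obtain ⟨c0, hc0⟩ := S.exists_fix S.ord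
    obtain ⟨g, h3, h4⟩ := S.tr2 hcd (d := a) (e := c0) fun e => S.ne (e ▸ hc0)
    obtain ⟨k, hk, h5⟩ := S.D_trans (c := c0) (d := a) (fun e => S.ne (e ▸ hc0))
      (s := g * v * g⁻¹) (by rwa [orderOf_conj']) (h4 ▸ conj_smul_eq_iff.2 hd) S.ord hc0
    have h6 : orderOf (k * g * u * (k * g)⁻¹) = 2 := by rwa [orderOf_conj']
    refine ⟨k * g, _, ⟨?_, ne_one_of_ord2 h6, sq_of_ord2 h6⟩, by rw [← h5]; group⟩
    have h7 : (k * g) • c = a := by rw [mul_smul, h3, (mem_St2.1 hk).2]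
    exact h7 ▸ conj_smul_eq_iff.2 hc
  · obtain ⟨e, he⟩ := S.exists_fix h3
    have h4 := mem_centralizer_singleton_iff.1 hw
    have h5 := S.fix_of_comm h3 he h4.symm
    have h6 : u • e ≠ e := fun h => hcd ((S.inv_fix hu hc h).trans (S.inv_fix hv (by
      rw [mul_smul] at h5
      exact smul_left_cancel u (h5.trans h.symm)) hd))
    exact hx (by rw [← se_eq_of_commute_mul (S.se' e) h3 he hu h6 hv h4.symm, hu2, one_mul])

theorem s1165 {G Ω : Type*} [Group G] [Finite G] [MulAction G Ω] {a : Ω} {t : G} {Q : Subgroup G}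
    (hS : Cfsg.IsRankOneSetup G Ω a t Q)
    (x g h f : G) (hx : x ∈ Q) (hx1 : x ≠ 1) (hg : g ∈ Q) (hh : h ∈ (MulAction.stabilizer G a ⊓ MulAction.stabilizer G (t • a))) (hf : f ∈ Q)
    (heq : t * x * t = g * h * t * f) :
    (∀ g₁ h₁ f₁ : G, g₁ ∈ Q → h₁ ∈ (MulAction.stabilizer G a ⊓ MulAction.stabilizer G (t • a)) → f₁ ∈ Q → t * x⁻¹ * t = g₁ * h₁ * t * f₁ →
        f₁ = g⁻¹ ∧ h₁ = t * h⁻¹ * t) ∧
      (∀ g₂ h₂ f₂ : G, g₂ ∈ Q → h₂ ∈ (MulAction.stabilizer G a ⊓ MulAction.stabilizer G (t • a)) → f₂ ∈ Q → t * f * t = g₂ * h₂ * t * f₂ →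
        f₂ = x ∧ h₂ = h⁻¹) ∧
      ∀ c ∈ (MulAction.stabilizer G a ⊓ MulAction.stabilizer G (t • a)), ∀ g₃ h₃ f₃ : G, g₃ ∈ Q → h₃ ∈ (MulAction.stabilizer G a ⊓ MulAction.stabilizer G (t • a)) → f₃ ∈ Q →
        t * (c⁻¹ * x * c) * t = g₃ * h₃ * t * f₃ →
          f₃ = (t * c * t)⁻¹ * f * (t * c * t) ∧ h₃ = (t * c * t)⁻¹ * h * c := by
  have S : R1 G Ω a t Q := hS
  have ti := S.tinv
  have tt := S.mul_self
  refine ⟨fun g₁ h₁ f₁ a1 a2 a3 e => ?_, fun g₂ h₂ f₂ a1 a2 a3 e => ?_,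
    fun c hc g₃ h₃ f₃ a1 a2 a3 e => ?_⟩
  · have h2 : t * h⁻¹ * t ∈ St2 G a (t • a) := by simpa [ti] using S.conjD (inv_mem hh)
    refine (S.bruhat_unique3 a1 a2 a3 (inv_mem hf) h2 (inv_mem hg) (e.symm.trans ?_)).symm
    calc t * x⁻¹ * t = (t * x * t)⁻¹ := by simp [mul_assoc, ti]
      _ = f⁻¹ * t⁻¹ * h⁻¹ * g⁻¹ := by rw [heq]; group
      _ = _ := by rw [ti, mul_assoc _ t g⁻¹]; simp [mul_assoc, ← mul_assoc t t, tt]
  · refine (S.bruhat_unique3 a1 a2 a3 (S.conjQ' hh.1 (inv_mem hg)) (inv_mem hh) hx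
      (e.symm.trans ?_)).symm
    calc t * f * t = h⁻¹ * g⁻¹ * (g * h * t * f) * t := by group
      _ = h⁻¹ * g⁻¹ * t * x * (t * t) := by rw [← heq]; group
      _ = _ := by rw [tt]; group
  · have h2 : t * c * t ∈ St2 G a (t • a) := by simpa [ti] using S.conjD hc
    refine (S.bruhat_unique3 a1 a2 a3 (S.conjQ' h2.1 hg) (mul_mem (mul_mem (inv_mem h2) hh) hc)
      (S.conjQ' h2.1 hf) (e.symm.trans ?_)).symm
    calc t * (c⁻¹ * x * c) * t = (t * c * t⁻¹)⁻¹ * (t * x * t⁻¹) * (t * c * t) := by group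
      _ = (t * c * t)⁻¹ * g * ((t * c * t) * (t * c * t)⁻¹) * h * (c * (t * t) * c⁻¹) * t * f *
          (t * c * t) := by
        rw [ti, heq, tt]; group
      _ = _ := by simp only [mul_inv_rev, ti]; group

theorem s1166 {G Ω : Type*} [Group G] [Finite G] [MulAction G Ω] {a : Ω} {t : G} {Q : Subgroup G}
    (hS : Cfsg.IsRankOneSetup G Ω a t Q)
    (x y gx hx fx gy hy fy : G) (hxQ : x ∈ Q) (hx1 : x ≠ 1) (hyQ : y ∈ Q) (hy1 : y ≠ 1) (hxy : x * y ≠ 1)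
    (hgx : gx ∈ Q) (hhx : hx ∈ (MulAction.stabilizer G a ⊓ MulAction.stabilizer G (t • a))) (hfx : fx ∈ Q) (ex : t * x * t = gx * hx * t * fx)
    (hgy : gy ∈ Q) (hhy : hy ∈ (MulAction.stabilizer G a ⊓ MulAction.stabilizer G (t • a))) (hfy : fy ∈ Q) (ey : t * y * t = gy * hy * t * fy) :
    fx * gy ≠ 1 ∧
      ∀ gz hz fz g' h' f' : G, gz ∈ Q → hz ∈ (MulAction.stabilizer G a ⊓ MulAction.stabilizer G (t • a)) → fz ∈ Q → t * (fx * gy) * t = gz * hz * t * fz →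
        g' ∈ Q → h' ∈ (MulAction.stabilizer G a ⊓ MulAction.stabilizer G (t • a)) → f' ∈ Q → t * (x * y) * t = g' * h' * t * f' →
          f' = (t * hy * t)⁻¹ * fz * (t * hy * t) * fy ∧ h' = hx * hz * hy := by
  have S : R1 G Ω a t Q := hS
  have ti := S.tinv
  have tt := S.mul_self
  have e0 : t * (x * y) * t = gx * hx * (t * (fx * gy) * t) * (t * hy * t) * fy := by
    calc t * (x * y) * t = (t * x * t) * (t * t)⁻¹ * (t * y * t) := by group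
      _ = gx * hx * (t * (fx * gy) * (t * t) * hy * t) * fy := by rw [ex, ey, tt]; group
      _ = _ := by group
  have h2 : t * hy * t ∈ St2 G a (t • a) := by simpa [ti] using S.conjD hhy
  refine ⟨fun h => hxy (S.free (mul_mem hxQ hyQ) S.ne ?_), fun gz hz fz g' h' f' a1 a2 a3 ez b1 b2 b3 e => ?_⟩
  · rw [h, mul_one t, tt, mul_one] at e0
    have h3 : t * (x * y) * t ∈ stabilizer G a := e0 ▸ mul_mem (mul_mem (mul_mem (S.le hgx) hhx.1)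
      h2.1) (S.le hfy)
    rw [mem_stabilizer_iff, mul_smul, mul_smul, smul_eq_iff_inv, ti] at h3
    exact h3.symm
  · refine (S.bruhat_unique3 b1 b2 b3 (mul_mem hgx (S.conjQ hhx.1 a1)) (mul_mem (mul_mem hhx a2) hhy)
      (mul_mem (S.conjQ' h2.1 a3) hfy) (e.symm.trans (e0.trans ?_))).symm
    calc _ = gx * hx * (gz * hz * (hy * (t * t) * hy⁻¹) * t * fz) * (t * hy * t) * fy := by
          rw [ez, tt]; group
      _ = _ := by simp only [mul_inv_rev, ti]; group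

end Cfsg.Agent.Inv
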