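import Cfsg.Agent.Inv.R1k
import Cfsg.Agent.Lie.Sz2

/-! The Suzuki case of the rank one set-up: identification with `Sz(q)`. -/

set_option autoImplicit false
set_option linter.unusedVariables false
set_option linter.unusedSectionVars false

namespace Cfsg.Agent.Inv

open Subgroup MulAction Cfsg.Agent.BG Cfsg.Agent.Lie
open scoped Pointwise commutatorElement MatrixGroups

section model
variable {F : Type*} [Field F]

/-- the model of a Suzuki 2-group of type A -/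
@[ext] structure SM (φ : F ≃+* F) where
  x : F
  y : F

variable {φ : F ≃+* F}

instance : Mul (SM φ) := ⟨fun a b => ⟨a.x + b.x, a.y + b.y + φ a.x * b.x⟩⟩
instance : One (SM φ) := ⟨⟨0, 0⟩⟩
instance : Inv (SM φ) := ⟨fun a => ⟨-a.x, φ a.x * a.x - a.y⟩⟩
@[simp] theorem SM.mul_x (a b : SM φ) : (a * b).x = a.x + b.x := rfl
@[simp] theorem SM.mul_y (a b : SM φ) : (a * b).y = a.y + b.y + φ a.x * b.x := rfl
@[simp] theorem SM.one_x : (1 : SM φ).x = 0 := rfl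
@[simp] theorem SM.one_y : (1 : SM φ).y = 0 := rfl
@[simp] theorem SM.inv_x (a : SM φ) : a⁻¹.x = -a.x := rfl
@[simp] theorem SM.inv_y (a : SM φ) : a⁻¹.y = φ a.x * a.x - a.y := rfl

instance : Group (SM φ) := Group.ofLeftAxioms (fun a b c => by ext <;> simp <;> ring)
  (fun a => by ext <;> simp) fun a => by ext <;> simp

instance [Finite F] : Finite (SM φ) :=
  Finite.of_injective (fun a => (a.x, a.y)) fun a b h => SM.ext (congrArg Prod.fst h) (congrArg Prod.snd h)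

/-- the diagonal automorphisms -/
def SM.aut (φ : F ≃+* F) {μ : F} (h : μ ≠ 0) : MulAut (SM φ) where
  toFun a := ⟨μ * a.x, φ μ * μ * a.y⟩
  invFun a := ⟨μ⁻¹ * a.x, (φ μ * μ)⁻¹ * a.y⟩
  left_inv a := by
    have : φ μ ≠ 0 := by simpa
    ext <;> simp <;> field_simp
  right_inv a := by
    have : φ μ ≠ 0 := by simpa
    ext <;> simp <;> field_simp
  map_mul' a b := by ext <;> simp <;> ring

theorem SM.aut_pow {μ : F} (h : μ ≠ 0) (i : ℕ) (a : SM φ) :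
    (SM.aut φ h ^ i) a = ⟨μ ^ i * a.x, (φ μ * μ) ^ i * a.y⟩ := by
  induction i with
  | zero => ext <;> simp
  | succ i ih => rw [pow_succ', MulAut.mul_apply, ih]; ext <;> simp [SM.aut] <;> ring

theorem SuzD.coordA {P : Type*} [Group P] [Finite P] {ξ : MulAut P} [Finite F] [CharP F 2]
    {Z : Subgroup P} {f : P → F} {l : F} (S : SuzD ξ Z f l) (hP : ¬ ∀ x y : P, x * y = y * x)
    (hc : Nat.card P = Nat.card F ^ 2) : ∃ (φ : F ≃+* F) (μ : F) (e : SM φ ≃* P), Prim μ ∧ φ ≠ 1 ∧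
      Function.Bijective (fun x => φ x * x) ∧ ∀ x y, ξ (e ⟨x, y⟩) = e ⟨μ * x, φ μ * μ * y⟩ := by
  obtain ⟨g, f', μ, φ, h1, h2, s1, s2, h3, -, h4⟩ := S.typeA hP hc
  have m0 := h1.ne_zero S.big
  let Z' : Subgroup (SM φ) := (MonoidHom.mk' (fun m => Multiplicative.ofAdd m.x) fun _ _ => rfl).ker
  have hZ : ∀ m, m ∈ Z' ↔ m.x = 0 := fun m => Iff.rfl
  have := Fintype.ofFinite F
  obtain ⟨e, e1, -⟩ := iso_of_quad (η := SM.aut φ m0) S.pow (MulEquiv.ext fun a => by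
      rw [SM.aut_pow, mul_pow, ← map_pow, Nat.card_eq_fintype_card, FiniteField.pow_card_sub_one_eq_one μ m0]
      simp) odd_card_sub_one (Z' := Z') (g' := SM.x) (f' := SM.y)
    s1 ⟨fun x _ y _ => rfl, fun x _ => (hZ x).symm, fun w => ⟨⟨w, 0⟩, trivial, rfl⟩, fun _ _ => rfl, le_top, ivt_top⟩
    s2 ⟨fun x _ y hy => by simp [(hZ y).1 hy], fun x hx => ⟨fun h => SM.ext hx h, fun h => by
        rw [mem_bot.1 h]; rfl⟩, fun w => ⟨⟨0, w⟩, rfl, rfl⟩, fun _ _ => h2 ▸ rfl, bot_le,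
        fun x h => by rw [hZ] at *; simp [SM.aut, h]⟩
    S.cent (fun z hz x => by ext <;> simp [(hZ z).1 hz, add_comm]) (S.sq_mem hP)
    (fun x => by simp [hZ, CharTwo.add_self_eq_zero]) fun x y h => by
      simp [h4, h, CharTwo.add_self_eq_zero]
  refine ⟨φ, μ, e.symm, h1, h3, Finite.surjective_iff_bijective.1 fun y => ?_, fun x y => e.injective ?_⟩
  · by_cases h : y = 0
    · exact ⟨0, by simp [h]⟩
    obtain ⟨i, rfl⟩ := S.prim y h
    exact ⟨μ ^ i, by simp [h2, mul_pow]⟩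
  · rw [e1]; simp [SM.aut]

theorem suz_poly {F : Type*} [Field F] [CharP F 2] {u v m n l : F} (h : m * n = 1 + u + v)
    (e1 : l * ((1 + u) * (1 + v)) * ((1 + u + m) * (1 + v + n)) = (u * v) ^ 2 * ((1 + m) * (1 + n)))
    (e2 : (l + 1) * (u * v) * ((u + m) * (v + n)) = ((1 + u) * (1 + v)) ^ 2 * ((1 + m) * (1 + n))) :
    ((1 + u + v) * m + 1 + v + u ^ 2) * ((1 + u + v) * n + 1 + u + v ^ 2) *
      (v * (1 + v) * (u * (1 + u)) + n * (1 + n) * (m * (1 + m))) = 0 := by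
  have e3 : (u * v) ^ 3 * ((1 + m) * (1 + n)) * ((u + m) * (v + n)) + ((1 + u) * (1 + v)) ^ 3 * ((1 + m) * (1 + n)) *
    ((1 + u + m) * (1 + v + n)) + (u * v) * ((1 + u) * (1 + v)) * ((u + m) * (v + n)) * ((1 + u + m) * (1 + v + n)) = 0 := by
    generalize (u * v) = A, (1 + u) * (1 + v) = B, (1 + u + m) * (1 + v + n) = C, (1 + m) * (1 + n) = D,
      (u + m) * (v + n) = E at *
    grind
  obtain rfl : v = m * n + 1 + u := by grind
  clear e1 e2 h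
  grind

theorem suz_alg {F : Type*} [Field F] [CharP F 2] {φ : F ≃+* F} (hN : Function.Bijective fun x => φ x * x) {y : F}
    (h : ∀ κ μ, κ ≠ 0 → κ ≠ 1 → φ μ * μ = 1 + κ + φ κ →
      ∃ c, φ c * c = y * (κ + φ κ) + κ ∧ c * (1 + κ) * (1 + κ + μ) = κ ^ 2 * (1 + μ)) :
    (∀ x, φ (φ x) = x ^ 2) ∨ ∀ x, φ (φ x) ^ 2 = x := by
  have key : ∀ x, φ (φ x) = x ^ 2 ∨ φ (φ x) ^ 2 = x := fun u => by
    by_cases h0 : u = 0
    · simp [h0]
    by_cases h1 : u = 1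
    · simp [h1]
    obtain ⟨m, hm⟩ := hN.2 (1 + u + φ u)
    obtain ⟨c, c1, c2⟩ := h u m h0 h1 hm
    obtain ⟨d, d1, d2⟩ := h (1 + u) m (by grind) (by grind) (by simp only [map_add, map_one]; grind)
    have c3 := congrArg φ c2
    have d3 := congrArg φ d2
    have m3 := congrArg φ hm
    have v0 : φ u ≠ 0 := by simpa
    have v1 : φ u ≠ 1 := by simpa
    simp only [map_add, map_one, map_mul, map_pow] at *
    have := suz_poly (u := u) (v := φ u) (m := m) (n := φ m) (l := φ c * c) (by grind)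
      (by linear_combination (φ c * (1 + φ u) * (1 + φ u + φ m)) * c2 + u ^ 2 * (1 + m) * c3) (by
      rw [show φ c * c + 1 = φ d * d by grind, show u + m = 1 + (1 + u) + m by grind,
        show φ u + φ m = 1 + (1 + φ u) + φ m by grind]
      nth_rw 1 [show u * φ u = (1 + (1 + u)) * (1 + (1 + φ u)) by grind]
      linear_combination (φ d * (1 + (1 + φ u)) * (1 + (1 + φ u) + φ m)) * d2 + (1 + u) ^ 2 * (1 + m) * d3)
    rcases mul_eq_zero.1 this with e | e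
    · rcases mul_eq_zero.1 e with e | e
      · left
        have e' := congrArg φ e
        simp only [map_add, map_one, map_mul, map_pow, map_zero] at e'
        generalize φ (φ u) = w, φ u = v, φ m = n at *
        clear this c1 c2 c3 d1 d2 d3 h hN m3
        grind
      · right
        have e' := congrArg φ.symm e
        simp only [map_add, map_one, map_mul, map_pow, map_zero, RingEquiv.symm_apply_apply] at e'
        have : φ.symm u = φ u ^ 2 := by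
          generalize φ.symm u = w, φ u = v, φ m = n at *
          clear this c1 c2 c3 d1 d2 d3 h hN m3
          grind
        rw [← map_pow, ← this, φ.apply_symm_apply]
    · have : u * (1 + u) = m * (1 + m) := hN.1 (by simpa using CharTwo.add_eq_zero.1 e)
      clear c1 d1 c3 d3 m3 e h hN
      grind
  by_contra hc
  push Not at hc
  obtain ⟨⟨x, hx⟩, y, hy⟩ := hc
  have := key x
  have := key y
  have := key (x + y)
  simp only [map_add] at this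
  grind

theorem fz_inv {F : Type*} [Field F] [CharP F 2] {θ : F →+* F} (hθ : ∀ x, θ (θ x) = x ^ 2) {x y : F}
    (h : Suz.fz θ x y ≠ 0) : Suz.fz θ x y * Suz.fz θ (y / Suz.fz θ x y) (x / Suz.fz θ x y) = 1 := by
  have h1 : θ (Suz.fz θ x y) ≠ 0 := by simpa
  have h2 : θ (Suz.fz θ x y) = θ x * θ y + x ^ 2 * θ x ^ 2 + y ^ 2 := by simp [Suz.fz, hθ]
  have h3 : Suz.fz θ x y = x * y + θ x * x ^ 2 + θ y := rfl
  generalize Suz.fz θ x y = f at *
  rw [Suz.fz, map_div₀, map_div₀]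
  field_simp
  generalize θ f = g, θ x = v, θ y = w at *
  clear hθ h h1
  grind

theorem iso_of_equivariant {G L Ω X : Type*} [Group G] [Group L] [MulAction G Ω] [MulAction L X]
    [FaithfulSMul G Ω] [Nontrivial G] [IsSimpleGroup L] (J : Ω → X) (hJ : Function.Injective J)
    (h1 : ∀ T : Subgroup G, (∀ g (l : L), (∀ c, l • J c = J (g • c)) → g ∈ T) → ∀ g, g ∈ T)
    (h2 : ∀ T : Subgroup L, (∀ (g : G) l, (∀ c, l • J c = J (g • c)) → l ∈ T) → ∀ l, l ∈ T) :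
    Nonempty (G ≃* L) := by
  let Γ : Subgroup (G × L) :=
    { carrier := {p | ∀ c, p.2 • J c = J (p.1 • c)}
      one_mem' := fun c => by simp
      mul_mem' := fun {p p'} hp hp' c => by simp [mul_smul, hp' c, hp _]
      inv_mem' := fun {p} hp c => by simp [inv_smul_eq_iff, hp _] }
  choose π hπ using fun l => show ∃ g : G, ∀ c, l • J c = J (g • c) from
    have ⟨p, hp, e⟩ := h2 (Γ.map (MonoidHom.snd _ _)) (fun g l h => ⟨(g, l), h, rfl⟩) l; ⟨p.1, e ▸ hp⟩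
  have a4 : ∀ (g : G) l, (∀ c, l • J c = J (g • c)) → π l = g := fun g l h =>
    eq_of_smul_eq_smul fun c => hJ ((hπ l c).symm.trans (h c))
  let π' : L →* G := MonoidHom.mk' π fun l l' => a4 _ _ fun c => by rw [mul_smul, mul_smul, hπ, hπ]
  have sj : Function.Surjective π' := fun g =>
    have ⟨p, hp, e⟩ := h1 (Γ.map (MonoidHom.fst _ _)) (fun g l h => ⟨(g, l), h, rfl⟩) g; ⟨p.2, (a4 _ _ hp).trans e⟩
  exact ⟨(MulEquiv.ofBijective π' ⟨(MonoidHom.ker_eq_bot_iff _).1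
    ((π'.normal_ker.eq_bot_or_eq_top).resolve_right fun e => by
      obtain ⟨g, hg⟩ := exists_ne (1 : G)
      obtain ⟨x, rfl⟩ := sj g
      exact hg (e.ge (mem_top x))), sj⟩).symm⟩

end model

variable {G Ω : Type*} [Group G] [MulAction G Ω] [Finite G]
variable {a : Ω} {t : G} {Q : Subgroup G}

local notation "𝓓" => St2 G a (t • a)

theorem R1.trt (S : R1 G Ω a t Q) {s r : G} (e : t * s * t = r⁻¹ * t * r) : t * r * t = r * t * s := by
  calc _ = r * (r⁻¹ * t * r) * t := by group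
    _ = r * t * s * (t * t) := by rw [← e]; group
    _ = _ := by rw [S.mul_self, mul_one]

theorem R1.trit (S : R1 G Ω a t Q) {s r : G} (e : t * s * t = r⁻¹ * t * r) (s2 : s * s = 1) :
    t * r⁻¹ * t = s * t * r⁻¹ := by
  simpa [S.tinv, inv_eq_of_mul_eq_one_left s2, mul_assoc] using congrArg Inv.inv (S.trt e)

theorem R1.rel4 (S : R1 G Ω a t Q) {s r c g h f : G} (hr : r ∈ Q) (e : t * s * t = r⁻¹ * t * r)
    (c1 : c ∈ 𝓓) (c2 : t * c * t⁻¹ = c⁻¹) (z1 : c * s * c⁻¹ * r = r * (c * s * c⁻¹)) (s2 : s * s = 1)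
    (hg : g ∈ Q) (hh : h ∈ 𝓓) (hf : f ∈ Q) (e3 : t * (c * s * c⁻¹ * r) * t = g * h * t * f) :
    g * (c * f * c⁻¹) = r := by
  have tt := S.mul_self
  have e1 := S.trt e
  have z2 : (c * s * c⁻¹)⁻¹ = c * s * c⁻¹ := by rw [conj_inv, inv_eq_of_mul_eq_one_left s2]
  have z3 : c * s * c⁻¹ * r⁻¹ = r⁻¹ * (c * s * c⁻¹) := by
    rw [eq_inv_mul_iff_mul_eq, ← mul_assoc, ← z1, mul_inv_cancel_right]
  have c3 : c * t * c = t := by rw [mul_assoc, mul_inv_eq_iff_eq_mul.1 c2, mul_inv_cancel_left]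
  have e4 : t * (c * s * c⁻¹ * r) * t = r * c * (t * (c * s * c⁻¹ * r) * t)⁻¹ * r * c := by
    calc _ = t * r * t * (t * (c * s * c⁻¹) * t) := by
          rw [z1, show ∀ z, t * r * t * (t * z * t) = t * r * (t * t) * z * t from fun z => by group, tt]
          group
      _ = r * (t * c⁻¹ * t⁻¹) * t * (c * s * c⁻¹ * r⁻¹) * t * r * c := by
          rw [S.tconj, e1, e, c2]; group
      _ = _ := by
          rw [← conj_inv, c2, inv_inv, z3, mul_inv_rev, mul_inv_rev, mul_inv_rev, S.tinv, z2]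
          group
  have e5 := (S.bruhat_unique3 hg hh hf (mul_mem hr (S.conjQ c1.1 (inv_mem hf)))
    (mul_mem (mul_mem c1 (S.conjD (inv_mem hh))) (inv_mem c1))
    (S.conjQ' c1.1 (mul_mem (inv_mem hg) hr)) (by
      rw [← e3, e4, e3, mul_inv_rev, mul_inv_rev, S.tinv]
      nth_rw 4 [← c3]
      rw [show f⁻¹ * (t * (g * h)⁻¹) = f⁻¹ * (t * h⁻¹ * (t * t) * g⁻¹) by rw [tt]; group]
      group)).2
  rw [e5]; group

theorem R1.rel5 (S : R1 G Ω a t Q) {s r c k l : G} (e : t * s * t = r⁻¹ * t * r) (s2 : s * s = 1)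
    (c2 : t * c * t⁻¹ = c⁻¹) (k2 : t * k * t⁻¹ = k⁻¹) (l2 : t * l * t⁻¹ = l⁻¹)
    (m2 : t * (k * l⁻¹) * t⁻¹ = (k * l⁻¹)⁻¹) (h : s * (k * l⁻¹ * s * (k * l⁻¹)⁻¹) = c * s * c⁻¹) :
    t * (k * r * k⁻¹ * (l * r⁻¹ * l⁻¹)) * t = k⁻¹ * r * k⁻¹⁻¹ * (k⁻¹ * c⁻¹ * r⁻¹ * (k⁻¹ * c⁻¹)⁻¹) *
      (k⁻¹ * c⁻¹ * (t * (c * l * k⁻¹ * l) * t⁻¹)) * t *
      ((c * l * k⁻¹ * l)⁻¹ * r * (c * l * k⁻¹ * l)⁻¹⁻¹ * (l⁻¹ * r⁻¹ * l⁻¹⁻¹)) := by
  have tt := S.mul_self
  have e1 := S.trt e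
  have e2 := S.trit e s2
  calc _ = t * (k * r * k⁻¹) * t * (t * (l * r⁻¹ * l⁻¹) * t) := by
        rw [show ∀ x y, t * x * t * (t * y * t) = t * x * (t * t) * y * t from fun x y => by group, tt]; group
    _ = k⁻¹ * r * (t * (s * (k * l⁻¹ * s * (k * l⁻¹)⁻¹)) * t) * (t⁻¹ * (k * l⁻¹) * t) * r⁻¹ * l := by
        rw [S.tconj, S.tconj, k2, l2, e1, e2]; group
    _ = _ := by
        rw [h, S.tconj, c2, e, show t⁻¹ * (k * l⁻¹) * t = (k * l⁻¹)⁻¹ by rw [← m2, S.tinv]]; group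

section coord
variable {F : Type} [Field F]

/-- `d` acts on the coordinates as the scalar `κ` -/
def SAct (φ : F ≃+* F) (u : F → F → G) (d : G) (κ : F) : Prop :=
  κ ≠ 0 ∧ ∀ x y, d * u x y * d⁻¹ = u (κ * x) (φ κ * κ * y)

variable {φ : F ≃+* F} {u : F → F → G}

theorem SAct.mul {d d' : G} {κ κ' : F} (h : SAct φ u d κ) (h' : SAct φ u d' κ') : SAct φ u (d * d') (κ * κ') :=
  ⟨mul_ne_zero h.1 h'.1, fun x y => by
    rw [show d * d' * u x y * (d * d')⁻¹ = d * (d' * u x y * d'⁻¹) * d⁻¹ by group, h'.2, h.2, map_mul]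
    congr 1 <;> ring⟩

theorem SAct.inv {d : G} {κ : F} (h : SAct φ u d κ) : SAct φ u d⁻¹ κ⁻¹ :=
  ⟨inv_ne_zero h.1, fun x y => by
    have := h.1
    have : φ κ ≠ 0 := by simpa
    rw [inv_inv, mul_assoc, inv_mul_eq_iff_eq_mul, ← eq_mul_inv_iff_mul_eq, mul_assoc, ← mul_assoc d, h.2, map_inv₀]
    congr 1 <;> field_simp⟩

/-- coordinates on `Q` -/
structure SCo (S : R1 G Ω a t Q) (φ : F ≃+* F) (u : F → F → G) : Prop where
  mem : ∀ x y, u x y ∈ Q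
  surj : ∀ q ∈ Q, ∃ x y, q = u x y
  inj : ∀ {x y x' y'}, u x y = u x' y' → x = x' ∧ y = y'
  mul : ∀ x y x' y', u x y * u x' y' = u (x + x') (y + y' + φ x * x')
  tD : ∀ d ∈ 𝓓, t * d * t⁻¹ = d⁻¹
  exK : ∀ κ ≠ 0, ∃ k ∈ 𝓓, SAct φ u k κ
  exD : ∀ d ∈ 𝓓, ∃ κ, SAct φ u d κ
  nrm : Function.Bijective fun x => φ x * x

variable [CharP F 2] {S : R1 G Ω a t Q} (X : SCo S φ u)
include X

theorem SCo.scale {c : F} (hc : c ≠ 0) : SCo S φ fun x y => u (c * x) (φ c * c * y) := by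
  have hc' : φ c * c ≠ 0 := by simpa
  have : ∀ d κ, SAct φ u d κ → SAct φ (fun x y => u (c * x) (φ c * c * y)) d κ := fun d κ h =>
    ⟨h.1, fun x y => by rw [h.2]; congr 1 <;> ring⟩
  refine ⟨fun _ _ => X.mem _ _, fun q hq => ?_, fun h => ⟨mul_left_cancel₀ hc (X.inj h).1,
    mul_left_cancel₀ hc' (X.inj h).2⟩, fun x y x' y' => ?_, X.tD,
    fun κ h => (X.exK κ h).imp fun _ h => ⟨h.1, this _ _ h.2⟩, fun d h => (X.exD d h).imp (this d), X.nrm⟩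
  · obtain ⟨x, y, rfl⟩ := X.surj q hq
    exact ⟨x / c, y / (φ c * c), by rw [mul_div_cancel₀ _ hc, mul_div_cancel₀ _ hc']⟩
  · rw [X.mul, map_mul]; congr 1 <;> ring

theorem SCo.swap : SCo S φ.symm fun x y => u (φ.symm x) (y + x * φ.symm x) := by
  have : ∀ d κ, SAct φ u d κ → SAct φ.symm (fun x y => u (φ.symm x) (y + x * φ.symm x)) d (φ κ) := fun d κ h =>
    ⟨by simpa using h.1, fun x y => by rw [h.2]; congr 1 <;> simp; ring⟩
  refine ⟨fun _ _ => X.mem _ _, fun q hq => ?_, fun h => ?_, fun x y x' y' => ?_, X.tD,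
    fun κ h => (X.exK (φ.symm κ) (by simpa)).imp fun _ h => ⟨h.1, by simpa using this _ _ h.2⟩,
    fun d h => (X.exD d h).elim fun _ h => ⟨_, this d _ h⟩, ?_⟩
  · obtain ⟨x, y, rfl⟩ := X.surj q hq
    exact ⟨φ x, y - φ x * x, by simp⟩
  · obtain rfl := φ.symm.injective (X.inj h).1
    exact ⟨rfl, add_right_cancel (X.inj h).2⟩
  · rw [X.mul]; congr 1 <;> simp; grind
  · convert X.nrm.comp φ.symm.bijective using 2 with x; simp [mul_comm]

theorem SCo.zero : u 0 0 = 1 := mul_eq_left.1 (by simp [X.mul] : u 0 0 * u 0 0 = u 0 0)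

theorem SCo.inv (x y : F) : (u x y)⁻¹ = u x (y + φ x * x) :=
  inv_eq_of_mul_eq_one_right (by rw [X.mul, ← X.zero]; congr 1 <;> grind)

theorem SCo.s_eq {s : G} {y : F} (hs : s ∈ Q) (e : t * s * t = (u 1 y)⁻¹ * t * u 1 y) : s = u 0 1 := by
  have s2 := ord2_iff.1 (S.ord_s e)
  obtain ⟨x, z, rfl⟩ := X.surj s hs
  obtain rfl : x = 0 := by simpa [CharTwo.add_self_eq_zero] using (X.inj ((X.mul ..).symm.trans (s2.1.trans X.zero.symm))).2
  have z0 : z ≠ 0 := fun h => s2.2 (h ▸ X.zero)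
  obtain ⟨κ, hκ⟩ := X.nrm.2 z⁻¹
  obtain ⟨c, c1, c2⟩ := X.exK κ (fun h => z0 (by simpa [h] using hκ.symm))
  have c3 : c * u 0 z * c⁻¹ = u 0 1 := by rw [c2.2, mul_zero, show φ κ * κ = _ from hκ, inv_mul_cancel₀ z0]
  have := S.rel4 (X.mem ..) e c1 (X.tD c c1) (by simp [c3, X.mul, add_comm]) s2.1 hs (one_mem _)
    (inv_mem (X.mem 1 y)) (by
      rw [c3, show u 0 1 * u 1 y = (u 1 y)⁻¹ by simp [X.mul, X.inv, add_comm], S.trit e s2.1, mul_one])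
  rw [X.inv, c2.2, X.mul] at this
  obtain rfl : κ = 1 := by simpa using (X.inj this).1
  rw [← c3, c2.2]; simp

theorem SCo.key {y κ μ : F} (e : t * u 0 1 * t = (u 1 y)⁻¹ * t * u 1 y) (h0 : κ ≠ 0) (h1 : κ ≠ 1)
    (hμ : φ μ * μ = 1 + κ + φ κ) :
    (∃ c, φ c * c = y * (κ + φ κ) + κ ∧ c * (1 + κ) * (1 + κ + μ) = κ ^ 2 * (1 + μ)) ∧
    t • u 1 (y + (y * (κ + φ κ) + κ)) • t • a =
      (u (1 + κ)⁻¹ (φ (1 + κ)⁻¹ * (1 + κ)⁻¹ * y) * u ((1 + κ)⁻¹ * (μ / κ)⁻¹)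
        (φ ((1 + κ)⁻¹ * (μ / κ)⁻¹) * ((1 + κ)⁻¹ * (μ / κ)⁻¹) * (y + 1))) • t • a := by
  have s2 := (ord2_iff.1 (S.ord_s e)).1
  have h2 : 1 + κ ≠ 0 := by grind
  have h3 : φ κ ≠ 0 := by simpa
  have m1 : μ ≠ 1 + κ := by rintro rfl; simp only [map_add, map_one] at hμ; grind
  have m0 : μ ≠ 0 := fun h => one_ne_zero (add_right_cancel (X.nrm.1 (a₁ := 1 + κ) (a₂ := 0 + κ) (by
    simp only [map_add, map_one, map_zero]; grind)))
  obtain ⟨k, k1, k2⟩ := X.exK _ h2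
  obtain ⟨l, l1, l2⟩ := X.exK _ h0
  obtain ⟨c, c1, c2⟩ := X.exK _ (div_ne_zero m0 h0)
  have e1 := S.rel5 e s2 (X.tD c c1) (X.tD k k1) (X.tD l l1) (X.tD _ (mul_mem k1 (inv_mem l1))) (by
    rw [(k2.mul l2.inv).2, c2.2, X.mul]; congr 1 <;> simp; field_simp; grind)
  have m2 := mul_mem (mul_mem (mul_mem c1 l1) (inv_mem k1)) l1
  have m3 := mul_mem (mul_mem (inv_mem k1) (inv_mem c1)) (S.conjD m2)
  rw [X.inv, map_one, mul_one, k2.2, l2.2, k2.inv.2, (k2.inv.mul c2.inv).2,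
    (((c2.mul l2).mul k2.inv).mul l2).inv.2, l2.inv.2, X.mul, show (1 + κ) * 1 + κ * 1 = 1 by grind,
    show φ (1 + κ) * (1 + κ) * y + φ κ * κ * (y + 1) + φ ((1 + κ) * 1) * (κ * 1) = y + (y * (κ + φ κ) + κ) by
      simp; grind] at e1
  simp only [mul_one] at e1
  have q2 : ∀ x y x' y', u x y * u x' y' ∈ Q := fun _ _ _ _ => mul_mem (X.mem ..) (X.mem ..)
  refine ⟨?_, (S.rel3 (X.mem ..) (q2 ..) m3 (q2 ..) e1).1⟩
  by_cases h : y * (κ + φ κ) + κ = 0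
  · rw [h, add_zero, S.trt e, ← mul_one (u 1 y)] at e1
    have := (S.bruhat_unique3 (X.mem ..) (one_mem _) (X.mem ..) (q2 ..) m3 (q2 ..) e1).2
    rw [X.mul] at this
    have := (X.inj this).1
    field_simp at this
    grind
  obtain ⟨γ, hγ⟩ := X.nrm.2 (y * (κ + φ κ) + κ)
  obtain ⟨d, d1, d2⟩ := X.exK γ (fun e => h (by simpa [e] using hγ.symm))
  have d3 : d * u 0 1 * d⁻¹ = u 0 (y * (κ + φ κ) + κ) := by rw [d2.2, mul_zero, mul_one, ← hγ]
  have := S.rel4 (X.mem ..) e d1 (X.tD d d1) (by simp [d3, X.mul, add_comm]) s2 (q2 ..) m3 (q2 ..) (by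
    rw [← e1, d3, X.mul]; simp [add_comm])
  rw [X.mul, X.mul, d2.2, X.mul] at this
  have := (X.inj this).1
  field_simp at this
  exact ⟨γ, hγ, by grind⟩

theorem SCo.norm (hr : ∀ s ∈ Q, ∀ r ∈ Q, t * s * t = r⁻¹ * t * r → r * r ≠ 1) :
    ∃ u y, SCo S φ u ∧ t * u 0 1 * t = (u 1 y)⁻¹ * t * u 1 y := by
  obtain ⟨s, hs, r, r1, e⟩ := S.struct'
  have r2 := hr s hs r r1 e
  obtain ⟨x, z, rfl⟩ := X.surj r r1
  have x0 : x ≠ 0 := by rintro rfl; simp [X.mul, CharTwo.add_self_eq_zero, X.zero] at r2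
  have : φ x * x ≠ 0 := by simpa
  rw [show u x z = u (x * 1) (φ x * x * (z / (φ x * x))) by rw [mul_one, mul_div_cancel₀ _ this]] at e
  exact ⟨_, _, X.scale x0, (X.scale x0).s_eq hs e ▸ e⟩

theorem SCo.tact {y k : F} (e : t * u 0 1 * t = (u 1 y)⁻¹ * t * u 1 y) (hθ : ∀ x, φ (φ x) = x ^ 2)
    (hk : k ≠ 0 ∧ k ≠ 1) {x z : F} (h : ¬ (x = 0 ∧ z = 0)) :
    t • u x z • t • a = u (z / Suz.fz (φ : F →+* F) x z) (x / Suz.fz (φ : F →+* F) x z) • t • a := by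
  have hμ : ∀ κ : F, κ ≠ 0 → κ ≠ 1 → 1 + κ + φ κ ≠ 0 ∧ 1 + φ κ + κ ^ 2 ≠ 0 ∧
      φ ((1 + φ κ + κ ^ 2) / (1 + κ + φ κ)) * ((1 + φ κ + κ ^ 2) / (1 + κ + φ κ)) = 1 + κ + φ κ := fun κ h0 h1 => by
    have h2 : 1 + κ + φ κ ≠ 0 := fun h => one_ne_zero (add_right_cancel (X.nrm.1 (a₁ := 1 + κ) (a₂ := 0 + κ) (by
      simp only [map_add, map_one, map_zero]; grind)))
    have h3 : 1 + φ κ + κ ^ 2 ≠ 0 := by simpa [hθ] using φ.injective.ne h2
    refine ⟨h2, h3, ?_⟩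
    simp [hθ]; field_simp; grind
  obtain rfl : y = 1 := by
    obtain ⟨h2, h3, h4⟩ := hμ k hk.1 hk.2
    obtain ⟨c, c1, c2⟩ := (X.key e hk.1 hk.2 h4).1
    have v0 : φ k ≠ 0 := by simpa using hk.1
    have v1 : φ k ≠ k := fun h => by have := hθ k; rw [h, h] at this; grind
    obtain rfl : c = k ^ 2 / φ k := by
      field_simp at c2 ⊢
      clear h4 c1 hμ
      grind
    simp [hθ] at c1
    field_simp [hk.1] at c1
    clear h4 c2 hμ
    grind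
  have s2 := (ord2_iff.1 (S.ord_s e)).1
  have i1 : (u 1 1)⁻¹ = u 1 0 := by rw [X.inv, map_one, mul_one, CharTwo.add_self_eq_zero]
  have eq : ∀ κ ≠ 0, ∀ x z x' z', t • u x z • t • a = u x' z' • t • a →
      t • u (κ * x) (φ κ * κ * z) • t • a = u (κ⁻¹ * x') (φ κ⁻¹ * κ⁻¹ * z') • t • a := fun κ h0 x z x' z' h => by
    obtain ⟨d, d1, d2⟩ := X.exK κ h0
    rw [← d2.2, ← d2.inv.2, inv_inv, mul_smul, mul_smul, mul_smul, mul_smul, show d⁻¹ • t • a = t • a from (inv_mem d1).2,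
      show d • t • a = t • a from d1.2, ← h, ← mul_smul t d, mul_inv_eq_iff_eq_mul.1 (X.tD d d1), mul_smul]
  have a1 : ∀ z, t • u 1 z • t • a = u (z / (z + 1 + φ z)) (1 / (z + 1 + φ z)) • t • a := fun z => by
    by_cases z0 : z = 0
    · simpa [z0, i1] using (S.rel3 (inv_mem (X.mem 1 1)) (X.mem 0 1) (one_mem _)
        (inv_mem (X.mem 1 1)) (by rw [S.trit e s2, mul_one])).1
    by_cases z1 : z = 1
    · simpa [z1, CharTwo.add_self_eq_zero] using (S.rel3 (X.mem ..) (X.mem ..) (one_mem _)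
        (X.mem ..) (by rw [S.trt e, mul_one])).1
    obtain ⟨κ, rfl⟩ : ∃ κ, 1 + φ κ = z := ⟨φ.symm (1 + z), by simp; grind⟩
    have h0 : κ ≠ 0 := by rintro rfl; simp at z1
    have h1 : κ ≠ 1 := by rintro rfl; simp [CharTwo.add_self_eq_zero] at z0
    obtain ⟨h2, h3, h4⟩ := hμ κ h0 h1
    have := (X.key e h0 h1 h4).2
    have h5 : 1 + κ ≠ 0 := by grind
    rw [show 1 + (1 * (κ + φ κ) + κ) = 1 + φ κ by grind, X.mul] at this
    rw [this, map_add, map_one, hθ, show 1 + φ κ + 1 + (1 + κ ^ 2) = 1 + φ κ + κ ^ 2 by grind]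
    congr 2 <;> simp [CharTwo.add_self_eq_zero] <;> field_simp <;> grind
  have f0 : Suz.fz (φ : F →+* F) x z ≠ 0 := fun e => h (Suz.fz_eq_zero hθ e)
  by_cases x0 : x = 0
  · obtain ⟨κ, rfl⟩ := X.nrm.2 z
    have h0 : κ ≠ 0 := fun e => h ⟨x0, by simp [e]⟩
    have : φ κ ≠ 0 := by simpa
    have := eq κ h0 0 1 1 0 (by simpa [i1] using (S.rel3 (X.mem 0 1) (inv_mem (X.mem 1 1))
      (one_mem _) (X.mem 1 1) (by rw [e, mul_one])).1)
    simp only [mul_zero, mul_one] at this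
    rw [x0, this]; congr 2 <;> simp [Suz.fz, hθ]; field_simp
  · have v0 : φ x ≠ 0 := by simpa
    have := eq x x0 _ _ _ _ (a1 (z / (φ x * x)))
    rw [mul_one, mul_div_cancel₀ _ (mul_ne_zero v0 x0)] at this
    rw [this, show z / (φ x * x) + 1 + φ (z / (φ x * x)) = Suz.fz (φ : F →+* F) x z / (φ x * x ^ 2) by
      simp [Suz.fz, hθ]; field_simp, map_inv₀]
    congr 2 <;> field_simp

theorem SCo.iso [Fintype F] [FaithfulSMul G Ω] {m : ℕ} (hm : 1 ≤ m) (hF : Fintype.card F = 2 ^ (2 * m + 1))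
    (hr : ∀ s ∈ Q, ∀ r ∈ Q, t * s * t = r⁻¹ * t * r → r * r ≠ 1) (hθ : ∀ x, φ (φ x) = x ^ 2) :
    Cfsg.Lie.IsoSuzuki G := by
  classical
  obtain ⟨u, y, X, e⟩ := X.norm hr
  obtain ⟨-, -, -, -, k, hk⟩ := Suz.exists_setup hm hF
  have hθ' : ∀ x, (φ : F →+* F) x = x ^ 2 ^ (m + 1) := fun x => by
    obtain ⟨j, hj⟩ := aut_eq_pow 2 φ
    have h1 : frobeniusEquiv F 2 ^ (2 * m + 1) = 1 := RingEquiv.ext fun x => by
      rw [RingAut.coe_pow, coe_frobeniusEquiv, iterate_frobenius, ← hF, FiniteField.pow_card]; rfl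
    have h2 : φ ^ 2 = frobeniusEquiv F 2 := RingEquiv.ext hθ
    have h3 : φ = frobeniusEquiv F 2 ^ (m + 1) := by
      rw [← h2, ← pow_mul, show 2 * (m + 1) = 2 * m + 1 + 1 by ring, pow_succ]
      nth_rw 2 [hj]
      rw [← pow_mul, mul_comm j, pow_mul, h1, one_pow, one_mul]
    rw [RingHom.coe_coe, h3, RingAut.coe_pow, coe_frobeniusEquiv, iterate_frobenius]
  refine ⟨F, inferInstance, inferInstance, m, hm, hF, ?_⟩
  obtain ⟨ε⟩ := Suz.sz_equiv (θ := φ) hθ hθ' hk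
  have := (Suz.szk (θ := φ) hθ hθ' hk).simple hF hm
  choose! A B hU using fun c (h : c ≠ a) => show ∃ x y, u x y • t • a = c from
    have ⟨q, hq, e⟩ := S.trans0 h; have ⟨x, y, e'⟩ := X.surj q hq; ⟨x, y, e' ▸ e⟩
  let J : Ω → Projectivization F (Fin 4 → F) := fun c => if c = a then .mk F ![1, 0, 0, 0] (by simp)
    else .mk F ![Suz.fz (φ : F →+* F) (A c) (B c), B c, A c, 1] (by simp)
  have Ja : J a = .mk F ![1, 0, 0, 0] (by simp) := if_pos rfl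
  have Ju : ∀ x y, J (u x y • t • a) = .mk F ![Suz.fz (φ : F →+* F) x y, y, x, 1] (by simp) := fun x y => by
    have h := S.smul_ne (S.fix (X.mem x y)) S.ne
    obtain ⟨h1, h2⟩ := X.inj (S.inj (X.mem ..) (X.mem ..) S.ne (hU _ h))
    simp only [J, if_neg h, h1, h2]
  have cs : ∀ c, c = a ∨ ∃ x y, c = u x y • t • a := fun c => (em _).imp id fun h => ⟨_, _, (hU c h).symm⟩
  have sm : ∀ (g : SL(4, F)) v hv w hw, (∃ c : F, c • w = g.1.mulVec v) →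
      g • Projectivization.mk F v hv = .mk F w hw := fun g v hv w hw h => by
    rw [Projectivization.smul_mk, Projectivization.mk_eq_mk_iff']; exact h
  have r1 : ∀ x y c, Suz.mU (φ : F →+* F) x y • J c = J (u x y • c) := fun x y c => by
    rcases cs c with rfl | ⟨x', y', rfl⟩
    · rw [S.fix (X.mem ..), Ja]
      exact sm _ _ _ _ _ ⟨1, by ext i; fin_cases i <;> simp [Matrix.mulVec, dotProduct, Fin.sum_univ_four]⟩
    · rw [← mul_smul (u x y), X.mul, Ju, Ju]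
      exact sm _ _ _ _ _ ⟨1, by
        ext i; fin_cases i <;> simp [Matrix.mulVec, dotProduct, Fin.sum_univ_four, Suz.fz, hθ] <;> grind⟩
  have r2 : ∀ d ∈ 𝓓, ∀ κ : Fˣ, SAct φ u d (φ κ) → ∀ c, Suz.mH (φ : F →+* F) κ • J c = J (d • c) := fun d hd κ h c => by
    have : φ κ ≠ 0 := by simp
    rcases cs c with rfl | ⟨x', y', rfl⟩
    · rw [show d • c = c from hd.1, Ja]
      exact sm _ _ _ _ _ ⟨κ * φ κ, by ext i; fin_cases i <;> simp [Matrix.mulVec, dotProduct, Fin.sum_univ_four]⟩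
    · rw [show d • u x' y' • t • a = (d * u x' y' * d⁻¹) • t • a by
        rw [mul_smul, mul_smul, show d⁻¹ • t • a = t • a from (inv_mem hd).2], h.2, Ju, Ju]
      exact sm _ _ _ _ _ ⟨(κ * φ κ)⁻¹, by
        ext i; fin_cases i <;> simp [Matrix.mulVec, dotProduct, Fin.sum_univ_four, Suz.fz, hθ] <;> field_simp⟩
  have Jb := Ju 0 0
  rw [X.zero, one_smul] at Jb
  have r3 : ∀ c, Suz.mN F • J c = J (t • c) := fun c => by
    rcases cs c with rfl | ⟨x, y, rfl⟩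
    · rw [Ja, Jb]
      exact sm _ _ _ _ _ ⟨1, by ext i; fin_cases i <;> simp [Matrix.mulVec, dotProduct, Fin.sum_univ_four, Suz.fz]⟩
    by_cases h : x = 0 ∧ y = 0
    · rw [h.1, h.2, X.zero, one_smul, S.tt, Ja, Jb]
      exact sm _ _ _ _ _ ⟨1, by ext i; fin_cases i <;> simp [Matrix.mulVec, dotProduct, Fin.sum_univ_four, Suz.fz]⟩
    have f0 : Suz.fz (φ : F →+* F) x y ≠ 0 := fun e => h (Suz.fz_eq_zero hθ e)
    rw [X.tact e hθ hk h, Ju, Ju]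
    refine sm _ _ _ _ _ ⟨Suz.fz (φ : F →+* F) x y, ?_⟩
    have := fz_inv (θ := (φ : F →+* F)) hθ f0
    ext i; fin_cases i <;> simp [Matrix.mulVec, dotProduct, Fin.sum_univ_four, mul_div_cancel₀ _ f0, this]
  have : Nontrivial G := ⟨t, 1, (ord2_iff.1 S.ord).2⟩
  refine (iso_of_equivariant (L := Cfsg.Sz F m) J (fun c d h => ?_) (fun T hT g => ?_) fun T hT l => ?_).elim
    fun f => ⟨f.trans ε⟩
  · rcases cs c with rfl | ⟨x, y, rfl⟩ <;> rcases cs d with rfl | ⟨x', y', rfl⟩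
    · rfl
    all_goals
      simp only [Ja, Ju] at h
      obtain ⟨c, h⟩ := (Projectivization.mk_eq_mk_iff F _ _ _ _).1 h
      have h3 := congrFun h 3
      simp [Units.smul_def] at h3
    · rw [show x = x' by simpa [h3] using (congrFun h 2).symm, show y = y' by simpa [h3] using (congrFun h 1).symm]
  · have q1 : ∀ q ∈ Q, q ∈ T := fun q hq => by
      obtain ⟨x, y, rfl⟩ := X.surj q hq
      exact hT _ ⟨_, (Suz.ss_mU hθ x y).mem hθ hθ'⟩ (r1 x y)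
    have q2 : ∀ g, g • a = a → g ∈ T := fun g hg => by
      obtain ⟨q, hq, d, hd, rfl⟩ := S.exists_mul hg
      obtain ⟨κ, h⟩ := X.exD d hd
      exact mul_mem (q1 q hq) (hT _ ⟨_, (Suz.ss_mH hθ (Units.mk0 (φ.symm κ) (by simpa using h.1))).mem hθ hθ'⟩
        (r2 d hd _ (by simpa)))
    by_cases hg : g • a = a
    · exact q2 g hg
    obtain ⟨x, hx, y, hy, rfl⟩ := S.bruhat hg
    exact mul_mem (mul_mem (q2 x hx) (hT _ ⟨_, Suz.ss_mN.mem hθ hθ'⟩ r3)) (q1 y hy)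
  · have q1 : ∀ l ∈ (Suz.szk (θ := φ) hθ hθ' hk).U, l ∈ T := fun l ⟨x, y, h⟩ =>
      hT (u x y) l fun c => by rw [← r1, ← h]; rfl
    have q2 : ∀ κ, (Suz.szk (θ := φ) hθ hθ' hk).h κ ∈ T := fun κ =>
      have ⟨d, d1, d2⟩ := X.exK (φ κ) (by simp); hT d _ (r2 d d1 κ d2)
    rcases (Suz.szk (θ := φ) hθ hθ' hk).bruhat l with ⟨x, hx, κ, rfl⟩ | ⟨x, hx, κ, y, hy, rfl⟩
    exacts [mul_mem (q1 x hx) (q2 κ), mul_mem (mul_mem (q1 x hx) (mul_mem (q2 κ) (hT t _ r3))) (q1 y hy)]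

end coord

theorem R1.exists_SCo (S : R1 G Ω a t Q) (h2 : Four G) (hQ : IsPGroup 2 Q) (hn : ¬ IsMulCommutative Q)
    (hc : #Q = #(S.Q0 h2) ^ 2) (hK : S.K h2 = 𝓓) : ∃ (n : ℕ) (φ : GaloisField 2 n ≃+* GaloisField 2 n)
      (u : _ → _ → G), Nat.card (GaloisField 2 n) = #(S.Q0 h2) ∧ SCo S φ u := by
  obtain ⟨⟨d, hd⟩, hg⟩ := (S.isCyclic_K h2).exists_monoid_generator
  let ξ : MulAut Q := Q.normalizerMonoidHom ⟨d, S.norm hd.1.1⟩
  have hξ : ∀ (i : ℕ) (x : Q), ((ξ ^ i) x : G) = d ^ i * x * (d ^ i)⁻¹ := fun i x => by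
    rw [← map_pow]; rfl
  have hg' : ∀ k ∈ S.K h2, ∃ i : ℕ, d ^ i = k := fun k hk => (hg ⟨k, hk⟩).imp fun i e => congrArg Subtype.val e
  have o2 : ∀ x : Q, x ≠ 1 → x * x = 1 → orderOf (x : G) = 2 := fun x h1 h2 =>
    ord2_iff.2 ⟨congrArg Subtype.val h2, fun e => h1 (Subtype.ext e)⟩
  obtain ⟨n, Z, f, l, -, D⟩ := suzD_of (ξ := ξ) hQ (by
    obtain ⟨x, hx, y, hy, a1, a2, a3, -⟩ := S.exists_four h2
    exact ⟨⟨x, hx⟩, ⟨y, hy⟩, by simpa, by simpa using (ord2_iff.1 a1).2, Subtype.ext (ord2_iff.1 a1).1,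
      by simpa using (ord2_iff.1 a2).2, Subtype.ext (ord2_iff.1 a2).1⟩) (fun x y a1 a2 a3 a4 => by
    obtain ⟨k, k1, k2, k3⟩ := S.K_trans (o2 x a1 a2) (S.fix x.2) (o2 y a3 a4) (S.fix y.2)
    obtain ⟨i, rfl⟩ := hg' k ⟨k1, k2⟩
    exact ⟨i, Subtype.ext ((hξ i x).trans k3)⟩) fun i x a1 a2 e => MulEquiv.ext fun y => Subtype.ext (by
      have := pow_mem hd i
      rw [hξ, S.K_free this.1 this.2 (o2 x a1 a2) (S.fix x.2) ((hξ i x).symm.trans (congrArg Subtype.val e))]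
      simp)
  have hn' : ¬ ∀ x y : Q, x * y = y * x := fun h => hn ⟨⟨h⟩⟩
  have hF : Nat.card (GaloisField 2 n) = #(S.Q0 h2) := by
    rw [← D.card_Z, ← D.center_eq hn', S.card_center h2 hQ hn]
  obtain ⟨φ, μ, e, h1, -, h3, h4⟩ := D.coordA hn' (hF ▸ hc)
  have h5 : ∀ i : ℕ, SAct φ (fun x y => (e ⟨x, y⟩ : G)) (d ^ i) (μ ^ i) := fun i => by
    induction i with
    | zero => exact ⟨by simp, by simp⟩
    | succ i ih =>
      rw [pow_succ, pow_succ]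
      exact ih.mul ⟨h1.ne_zero D.big, fun x y => congrArg Subtype.val (h4 x y)⟩
  refine ⟨n, φ, fun x y => e ⟨x, y⟩, hF, fun _ _ => (e _).2, fun q hq => ⟨_, _, congrArg Subtype.val
    (e.apply_symm_apply ⟨q, hq⟩).symm⟩, fun h => SM.mk.inj (e.injective (Subtype.ext h)),
    fun x y x' y' => congrArg Subtype.val (map_mul e _ _).symm, fun k hk => (hK.ge hk).2, fun κ h => ?_,
    fun k hk => ?_, h3⟩
  · obtain ⟨i, rfl⟩ := h1 κ h
    exact ⟨_, (pow_mem hd i).1, h5 i⟩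
  · obtain ⟨i, rfl⟩ := hg' k (hK.ge hk)
    exact ⟨_, h5 i⟩

theorem R1.suz_b (S : R1 G Ω a t Q) (h2 : Four G) [FaithfulSMul G Ω] [IsSimpleGroup G] (hQ : IsPGroup 2 Q)
    (hn : ¬ IsMulCommutative Q) (hc : #Q = #(S.Q0 h2) ^ 2) : Cfsg.Lie.IsoSuzuki G := by
  have hK := S.K_eq_b h2 hQ hn hc
  obtain ⟨n, φ, u, hF, X⟩ := S.exists_SCo h2 hQ hn hc hK
  have := S.finite
  obtain ⟨Z, e⟩ := S.zass h2 hK
  obtain ⟨_, ⟨m, rfl⟩, h1, -, h3, -⟩ := zas_suz Z S.ne.symm (e ▸ hQ) (e ▸ hn)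
  have := Fintype.ofFinite (GaloisField 2 n)
  rw [← hK, S.card_K' h2, ← hF, Nat.card_eq_fintype_card] at h3
  have hr := fun s hs r hr => S.r_notMem h2 hc (s := s) (r := r) hs hr
  obtain ⟨v, y, Y, e⟩ := X.norm hr
  rcases suz_alg X.nrm fun κ μ a1 a2 a3 => (Y.key e a1 a2 a3).1 with h | h
  · exact X.iso (by omega) h3 hr h
  · exact X.swap.iso (by omega) h3 hr fun x => by
      rw [RingEquiv.symm_apply_eq, RingEquiv.symm_apply_eq, map_pow, map_pow, h]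

theorem R1.simple_class' (S : R1 G Ω a t Q) (h2 : Four G) [FaithfulSMul G Ω] [IsSimpleGroup G] :
    (∃ (F : Type) (_ : Field F) (_ : Fintype F), (∃ n : ℕ, 2 ≤ n ∧ Fintype.card F = 2 ^ n) ∧
      Nonempty (G ≃* PSL(2, F))) ∨ Cfsg.Lie.IsoSuzuki G ∨
    ∃ (F : Type) (_ : Field F) (_ : Fintype F) (n : ℕ), 2 ≤ n ∧ Fintype.card F = (2 ^ n) ^ 2 ∧
      Nonempty (G ≃* Cfsg.PSU 3 F (2 ^ n)) := by
  obtain ⟨h1, h | ⟨h3, h | ⟨h, h4, h5⟩⟩⟩ := S.isTT h2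
  · exact Or.inl (S.psl_a h2 h)
  · exact Or.inr (Or.inl (S.suz_b h2 h1 h3 (S.n2_eq h2 ▸ h)))
  · exact Or.inr (Or.inr (S.psu_c h2 h1 h3 (S.n2_eq h2 ▸ h) h4 h5))

theorem s1136 {G Ω : Type*} [Group G] [Finite G] [MulAction G Ω] [FaithfulSMul G Ω] {a : Ω} {t : G} {Q : Subgroup G}
    (hS : Cfsg.IsRankOneSetup G Ω a t Q)
    (h2 : ∃ x y : G, x ≠ 1 ∧ y ≠ 1 ∧ x ≠ y ∧ x * x = 1 ∧ y * y = 1 ∧ x * y = y * x) :
    ∃ L : Subgroup G, L.Normal ∧ Odd L.index ∧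
      ((∃ (F : Type) (_ : Field F) (_ : Fintype F), (∃ n : ℕ, 2 ≤ n ∧ Fintype.card F = 2 ^ n) ∧
          Nonempty (L ≃* Matrix.ProjectiveSpecialLinearGroup (Fin 2) F)) ∨
        Cfsg.Lie.IsoSuzuki L ∨
        (∃ (F : Type) (_ : Field F) (_ : Fintype F) (n : ℕ), 2 ≤ n ∧ Fintype.card F = (2 ^ n) ^ 2 ∧
          Nonempty (L ≃* Cfsg.PSU 3 F (2 ^ n)))) := by
  have S : R1 G Ω a t Q := hS
  have t2 := ord2_iff.1 S.ord
  have ht : t ∈ normalClosure {t} := subset_normalClosure rfl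
  obtain ⟨-, hQ, -⟩ := S.le_of_normal h2 (ne_bot_of_mem ht t2.2)
  have T := S.sub ht (by rw [inf_eq_left.2 hQ]; exact S.even_card) fun g _ h =>
    (S.trans0 h).imp fun u hu => ⟨⟨hu.1, hQ hu.1⟩, hu.2⟩
  obtain ⟨x, hx, y, hy, a1, a2, a3, a4⟩ := S.exists_four h2
  have h3 := four_sub (hQ hx) (hQ hy) (ord2_iff.1 a1).2 (ord2_iff.1 a2).2 a3 (ord2_iff.1 a1).1 (ord2_iff.1 a2).1 a4
  have : FaithfulSMul (normalClosure {t}) (orbit (normalClosure {t}) a) := ⟨fun {g g'} h =>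
    Subtype.ext (eq_of_smul_eq_smul (α := Ω) fun c => congrArg Subtype.val (h ⟨c, by
      by_cases hc : c = a
      · exact hc ▸ mem_orbit_self _
      obtain ⟨u, hu, rfl⟩ := S.trans0 hc
      exact ⟨⟨u * t, mul_mem (hQ hu) ht⟩, mul_smul _ _ _⟩⟩))⟩
  have : Nontrivial (normalClosure {t}) := (nontrivial_iff_ne_bot _).2 (ne_bot_of_mem ht t2.2)
  have : IsSimpleGroup (normalClosure {t}) := ⟨fun N hN => or_iff_not_imp_left.2 fun h => by
    rw [eq_top_iff, ← map_le_map_iff_of_injective (subtype_injective _), ← MonoidHom.range_eq_map, range_subtype]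
    refine (closure_le _).2 fun z hz => ?_
    have hz' := conjugatesOfSet_subset_normalClosure hz
    obtain ⟨w, hw, hz1⟩ := Group.mem_conjugatesOfSet_iff.1 hz
    obtain ⟨c, rfl⟩ := isConj_iff.1 (Set.mem_singleton_iff.1 hw ▸ hz1 : IsConj t z)
    obtain ⟨g, e⟩ := (s1121 T).2 ⟨_, ht⟩ ⟨_, hz'⟩ (by simpa using t2.2) (Subtype.ext t2.1)
      (by simpa using t2.2) (Subtype.ext (by simp [mul_assoc, ← mul_assoc t, t2.1]))
    exact ⟨_, e ▸ hN.conj_mem _ (T.le_of_normal h3 h).1 g, rfl⟩⟩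
  refine ⟨normalClosure {t}, inferInstance, Odd.of_dvd_nat ?_ (index_dvd_of_le hQ), T.simple_class' h3⟩
  rw [Nat.eq_of_mul_eq_mul_left Nat.card_pos (Q.card_mul_index.trans (S.card_G.trans (mul_assoc ..)))]
  exact (S.odd_St2 S.ne.symm).mul S.even_card.add_one

end Cfsg.Agent.Inv
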