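import Cfsg.Agent.Inv.Strong
import Cfsg.Agent.PLoc.Transfer2

/-! Index two subgroups, four-groups, counting classes, and a few small applications. -/

set_option autoImplicit false
set_option linter.unusedVariables false
set_option linter.unusedSectionVars false

namespace Cfsg.Agent.Inv

open Finset Cfsg.Agent.PLoc

variable {G : Type*} [Group G]

/-! ### index two -/

theorem exists_index_two_of_pResidual [Finite G] (h : pResidual 2 G ≠ ⊤) :
    ∃ H : Subgroup G, H.index = 2 := by
  have h1 : (⊥ : Subgroup (G ⧸ pResidual 2 G)) ≠ ⊤ := by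
    intro h1
    apply h
    rw [eq_top_iff]
    intro g _
    have : (QuotientGroup.mk g : G ⧸ pResidual 2 G) ∈ (⊥ : Subgroup _) := h1 ▸ Subgroup.mem_top _
    exact (QuotientGroup.eq_one_iff g).1 this
  obtain ⟨M, -, -, hM⟩ := exists_index_prime_ge (p := 2) isPGroup_quotient_pResidual h1
  exact ⟨M.comap (QuotientGroup.mk' _),
    (M.index_comap_of_surjective (QuotientGroup.mk'_surjective _)).trans hM⟩

theorem no_index_two_iff [Finite G] : (∀ H : Subgroup G, H.index ≠ 2) ↔ pResidual 2 G = ⊤ := by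
  constructor
  · intro h
    by_contra h1
    obtain ⟨H, hH⟩ := exists_index_two_of_pResidual h1
    exact h H hH
  · intro h H hH
    have := Subgroup.normal_of_index_eq_two hH
    have h2 : pResidual 2 G ≤ H := pResidual_le_of_index ⟨1, by simpa using hH⟩
    rw [h, top_le_iff] at h2
    rw [h2, Subgroup.index_top] at hH
    omega

theorem exists_index_two_of_npc [Finite G] (heven : Even (Nat.card G))
    (h : NPC 2 (⊤ : Subgroup G)) : ∃ H : Subgroup G, H.index = 2 := by
  apply exists_index_two_of_pResidual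
  intro h1
  rw [npc_iff_coprime, pResOf_top, h1, Subgroup.card_top, Nat.coprime_two_right,
    ← Nat.not_even_iff_odd] at h
  exact h heven

theorem no_index_two_subgroup_iff [Finite G] {K : Subgroup G} :
    (∀ H : Subgroup K, H.index ≠ 2) ↔ pResOf 2 K = K := by
  rw [no_index_two_iff, ← map_pResidual_subtype]
  constructor
  · intro h; rw [h, ← MonoidHom.range_eq_map, Subgroup.range_subtype]
  · intro h
    apply Subgroup.map_injective K.subtype_injective
    rw [h, ← MonoidHom.range_eq_map, Subgroup.range_subtype]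

theorem s0218 (n : ℕ) : Nat.card {x : QuaternionGroup (2 ^ (n + 1)) // orderOf x = 2} = 1 := by
  have hm : 0 < 2 ^ (n + 1) := by positivity
  generalize 2 ^ (n + 1) = m at hm
  have : NeZero m := ⟨hm.ne'⟩
  have hne : ((m : ℕ) : ZMod (2 * m)) ≠ 0 := by
    rw [Ne, ZMod.natCast_eq_zero_iff]
    intro h
    have := Nat.le_of_dvd hm h
    omega
  have h2 : ((m : ℕ) : ZMod (2 * m)) + m = 0 := by
    rw [← Nat.cast_add, ← two_mul, ZMod.natCast_self]
  rw [Nat.card_eq_one_iff_exists]
  refine ⟨⟨QuaternionGroup.a m, ord2_iff.2 ⟨?_, ?_⟩⟩, ?_⟩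
  · rw [QuaternionGroup.a_mul_a, h2, QuaternionGroup.one_def]
  · rw [QuaternionGroup.one_def]
    intro h
    exact hne (QuaternionGroup.a.inj h)
  · rintro ⟨x, hx⟩
    apply Subtype.ext
    obtain ⟨h3, h4⟩ := ord2_iff.1 hx
    rcases x with i | i
    · rw [QuaternionGroup.a_mul_a, QuaternionGroup.one_def] at h3
      have h5 : -i = i := by
        have := QuaternionGroup.a.inj h3
        linear_combination -this
      rcases (ZMod.neg_eq_self_iff i).1 h5 with h6 | h6
      · exact absurd (by rw [h6, QuaternionGroup.one_def]) h4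
      · show QuaternionGroup.a i = QuaternionGroup.a m
        rw [← ZMod.natCast_zmod_val i, show i.val = m by omega]
    · rw [QuaternionGroup.xa_mul_xa, QuaternionGroup.one_def] at h3
      have := QuaternionGroup.a.inj h3
      exact absurd (by linear_combination this) hne

theorem npc_of_isCyclic [Finite G] (T : Sylow 2 G) (hT : IsCyclic (T : Subgroup G)) :
    NPC 2 (⊤ : Subgroup G) := by
  rcases Nat.even_or_odd (Nat.card G) with h | h
  · have h1 : (Nat.card G).minFac = 2 := (Nat.minFac_eq_two_iff _).2 (even_iff_two_dvd.1 h)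
    exact npc_of_isComplement' inferInstance (hT.isComplement' h1)
  · exact npc_of_coprime (by rw [Subgroup.card_top]; exact (Nat.coprime_two_right).2 h)

theorem s0219 {G : Type*} [Group G] [Finite G] (heven : Even (Nat.card G)) (T : Sylow 2 G) (hT : IsCyclic (T : Subgroup G)) : ∃ H : Subgroup G, H.index = 2 :=
  exists_index_two_of_npc heven (npc_of_isCyclic T hT)

theorem isCyclic_iff_zpowers {H : Subgroup G} : IsCyclic H ↔ ∃ a, H = Subgroup.zpowers a := by
  rw [Subgroup.isCyclic_iff_exists_zpowers_eq_top]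
  exact exists_congr fun a => eq_comm

theorem invol_eq_of_isCyclic [Finite G] {H : Subgroup G} (h : IsCyclic H) {s t : G} (hs : s ∈ H)
    (ht : t ∈ H) (h1 : orderOf s = 2) (h2 : orderOf t = 2) : s = t := by
  obtain ⟨a, rfl⟩ := isCyclic_iff_zpowers.1 h
  rw [(eq_pow_half_of_mem_zpowers h1 hs).2, (eq_pow_half_of_mem_zpowers h2 ht).2]

theorem isCyclic_map {G' : Type*} [Group G'] {H : Subgroup G} (h : IsCyclic H) (f : G →* G') :
    IsCyclic (H.map f) := by
  obtain ⟨a, rfl⟩ := isCyclic_iff_zpowers.1 h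
  rw [MonoidHom.map_zpowers]
  infer_instance

theorem s0220 {G : Type*} [Group G] [Finite G] (x : G) (hx : orderOf x = 2) (S : Sylow 2 ↥(Subgroup.centralizer ({x} : Set G))) (hS : IsCyclic (S : Subgroup ↥(Subgroup.centralizer ({x} : Set G)))) : ∃ H : Subgroup G, H.index = 2 := by
  have hT := isSylowOf_map_subtype S
  have hc := isCyclic_map hS (Subgroup.centralizer ({x} : Set G)).subtype
  generalize (S : Subgroup ↥(Subgroup.centralizer ({x} : Set G))).map
    (Subgroup.centralizer ({x} : Set G)).subtype = T at hT hc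
  have hxT : x ∈ T := by
    refine hT.le_of_le_normalizer (isPGroup_zpowers (pow_two_pow_one_of_ord2 hx))
      (Subgroup.zpowers_le.2 (Subgroup.mem_centralizer_singleton_iff.2 rfl))
      (Subgroup.zpowers_le.2 ?_) (Subgroup.mem_zpowers x)
    refine mem_normalizer_of_conj_mem fun y hy => ?_
    rw [← Subgroup.mem_centralizer_singleton_iff.1 (hT.le hy), mul_inv_cancel_right]
    exact hy
  have hN : Subgroup.normalizer (T : Set G) ≤ Subgroup.centralizer ({x} : Set G) := by
    intro g hg
    rw [Subgroup.mem_centralizer_singleton_iff]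
    have := invol_eq_of_isCyclic hc (conj_mem_of_mem_normalizer hg hxT) hxT
      ((orderOf_conj' g x).trans hx) hx
    exact mul_inv_eq_iff_eq_mul.1 this
  have h4 : IsSylowOf 2 T ⊤ := by
    apply isSylowOf_of_normalizer
    rw [top_inf_eq]
    exact hT.of_le Subgroup.le_normalizer hN
  obtain ⟨P, rfl⟩ := h4.exists_sylow_top
  exact s0219 (by simpa using even_card_of_mem hx (Subgroup.mem_top x)) P hc

/-! ### permutation representations -/

theorem exists_perm_embedding' [Finite G] (H : Subgroup G) (hH : H.normalCore = ⊥) {n : ℕ}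
    (hn : H.index = n) : ∃ f : G →* Equiv.Perm (Fin n), Function.Injective f := by
  subst hn
  have e : (G ⧸ H) ≃ Fin H.index := Finite.equivFinOfCardEq H.index_eq_card.symm
  refine ⟨e.permCongrHom.toMonoidHom.comp (MulAction.toPermHom G (G ⧸ H)), ?_⟩
  rw [MonoidHom.coe_comp]
  refine e.permCongrHom.injective.comp ?_
  rw [← MonoidHom.ker_eq_bot_iff, ← Subgroup.normalCore_eq_ker, hH]

theorem normalCore_eq_bot_of_prime_card {H : Subgroup G} (hp : (Nat.card H).Prime)
    (hn : ¬ H.Normal) : H.normalCore = ⊥ := by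
  have h1 := Subgroup.card_dvd_of_le H.normalCore_le
  have : Finite H := Nat.finite_of_card_ne_zero hp.ne_zero
  rcases (Nat.dvd_prime hp).1 h1 with h | h
  · exact Subgroup.card_eq_one.1 h
  · exact absurd (Subgroup.eq_of_le_of_card_ge H.normalCore_le h.ge ▸ H.normalCore_normal) hn

theorem equiv_alternating_of_injective [Finite G] {n : ℕ} (hn : 2 ≤ n)
    (f : G →* Equiv.Perm (Fin n)) (hf : Function.Injective f)
    (h : 2 * Nat.card G = n.factorial) : Nonempty (G ≃* alternatingGroup (Fin n)) := by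
  have h1 : Nat.card f.range = Nat.card G := (Nat.card_congr (MonoidHom.ofInjective hf).toEquiv).symm
  have h2 := f.range.card_mul_index
  rw [h1, Nat.card_perm, Nat.card_fin, ← h, mul_comm 2] at h2
  have h3 := Nat.eq_of_mul_eq_mul_left Nat.card_pos h2
  have h4 := Equiv.Perm.eq_alternatingGroup_of_index_eq_two h3
  exact ⟨(MonoidHom.ofInjective hf).trans (MulEquiv.subgroupCongr h4)⟩

theorem card_sylow_of_card [Finite G] {p k m : ℕ} [Fact p.Prime] (P : Sylow p G)
    (h : Nat.card G = p ^ k * m) (hm : ¬ p ∣ m) : Nat.card (P : Subgroup G) = p ^ k := by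
  have hp : p.Prime := Fact.out
  have hm0 : m ≠ 0 := by rintro rfl; exact hm (dvd_zero _)
  rw [P.card_eq_multiplicity, h, Nat.factorization_mul (pow_ne_zero _ hp.ne_zero) hm0,
    Finsupp.add_apply, Nat.factorization_eq_zero_of_not_dvd hm, hp.factorization_pow]
  simp

theorem isMulCommutative_of_card_sq {H : Subgroup G} {p : ℕ} [Fact p.Prime]
    (h : Nat.card H = p ^ 2) : IsMulCommutative H := IsPGroup.isMulCommutative_of_card_eq_prime_sq h

theorem card_le_of_imp {α : Type*} [Finite α] {p q : α → Prop} (h : ∀ x, p x → q x) :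
    Nat.card {x // p x} ≤ Nat.card {x // q x} :=
  Nat.card_le_card_of_injective (fun x => ⟨x.1, h x.1 x.2⟩)
    fun x y e => Subtype.ext (by simpa using e)

theorem card_lt_of_imp {α : Type*} [Finite α] {p q : α → Prop} (h : ∀ x, p x → q x) {b : α}
    (hq : q b) (hp : ¬ p b) : Nat.card {x // p x} < Nat.card {x // q x} :=
  Set.ncard_lt_ncard (s := {x | p x}) (t := {x | q x}) ⟨h, fun h' => hp (h' hq)⟩

theorem s0228 {G : Type*} [Group G] [Finite G] (hG : Nat.card G = 12) (hz : ∀ z : G, orderOf z = 2 → z ∉ Subgroup.center G) : Nonempty (G ≃* alternatingGroup (Fin 4)) := by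
  have : Fact (Nat.Prime 3) := ⟨Nat.prime_three⟩
  obtain ⟨a, ha⟩ := exists_prime_orderOf_dvd_card' (G := G) 3 (by rw [hG]; norm_num)
  have hP : Nat.card (Subgroup.zpowers a) = 3 := by rw [Nat.card_zpowers, ha]
  have hi : (Subgroup.zpowers a).index = 4 := by
    have := (Subgroup.zpowers a).card_mul_index
    rw [hP, hG] at this
    omega
  by_cases hn : (Subgroup.zpowers a).Normal
  · exfalso
    have h1 := card_centralizer_mul_card_class a
    have h2 : Nat.card {g : G // IsConj a g} < Nat.card (Subgroup.zpowers a) := by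
      refine card_lt_of_imp (fun g hg => ?_) (Subgroup.one_mem _) fun h => ?_
      · obtain ⟨c, hc⟩ := isConj_iff.1 hg
        exact hc ▸ hn.conj_mem a (Subgroup.mem_zpowers a) c
      · have := orderOf_isConj h
        rw [orderOf_one] at this
        omega
    have h3 : Even (Nat.card (Subgroup.centralizer ({a} : Set G))) := by
      rw [hP] at h2
      rw [hG] at h1
      rw [Nat.even_iff]
      interval_cases Nat.card {g : G // IsConj a g} <;> omega
    obtain ⟨t, ht, ht2⟩ := exists_involution_mem h3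
    obtain ⟨S, hS⟩ := (isPGroup_zpowers (pow_two_pow_one_of_ord2 ht2)).exists_le_sylow
    have hS4 : Nat.card (S : Subgroup G) = 2 ^ 2 := card_sylow_of_card S (m := 3) hG (by norm_num)
    have h4 : (S : Subgroup G) ≤ Subgroup.centralizer ({t} : Set G) := fun s hs =>
      Subgroup.mem_centralizer_singleton_iff.2 (comm_of_mem (isMulCommutative_of_card_sq hS4) hs
        (hS (Subgroup.mem_zpowers t)))
    have h5 : Subgroup.zpowers a ≤ Subgroup.centralizer ({t} : Set G) :=
      Subgroup.zpowers_le.2 (Subgroup.mem_centralizer_singleton_iff.2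
        (Subgroup.mem_centralizer_singleton_iff.1 ht).symm)
    have h6 := Subgroup.card_dvd_of_le h4
    have h7 := Subgroup.card_dvd_of_le h5
    have h8 : Subgroup.centralizer ({t} : Set G) = ⊤ := by
      apply Subgroup.eq_top_of_le_card
      refine Nat.le_of_dvd Nat.card_pos ?_
      rw [hG]; rw [hS4] at h6; rw [hP] at h7
      exact Nat.Coprime.mul_dvd_of_dvd_of_dvd (m := 4) (n := 3) (by norm_num) h6 h7
    apply hz t ht2
    rw [Subgroup.mem_center_iff]
    intro g
    exact Subgroup.mem_centralizer_singleton_iff.1 (h8 ▸ Subgroup.mem_top g)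
  · obtain ⟨f, hf⟩ := exists_perm_embedding' _
      (normalCore_eq_bot_of_prime_card (hP ▸ Nat.prime_three) hn) hi
    exact equiv_alternating_of_injective (by norm_num) f hf (by rw [hG]; rfl)

theorem normal_of_le_center {H : Subgroup G} (h : H ≤ Subgroup.center G) : H.Normal :=
  ⟨fun n hn g => by rw [Subgroup.mem_center_iff.1 (h hn) g, mul_inv_cancel_right]; exact hn⟩

universe u in
theorem s0232_aux (n : ℕ) : ∀ (G : Type u) [Group G] [Finite G], Nat.card G = n →
    Even (Nat.card G) → 2 < Nat.card G → ∃ H : Subgroup G, H ≠ ⊤ ∧ Nat.card G < (Nat.card H) ^ 3 := by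
  induction n using Nat.strong_induction_on with
  | _ n ih =>
  intro G _ _ hn heven hgt
  have idx : ∀ H : Subgroup G, H.index = 2 → H ≠ ⊤ ∧ Nat.card G < (Nat.card H) ^ 3 := by
    intro H hH
    refine ⟨by rintro rfl; simp at hH, ?_⟩
    have := H.card_mul_index
    rw [hH] at this
    have h2 : 2 ≤ Nat.card H := by omega
    rw [← this]
    nlinarith [Nat.mul_le_mul h2 h2]
  rcases Nat.even_or_odd (Nat.card (Subgroup.center G)) with hZ | hZ
  · obtain ⟨z, hz, hz2⟩ := exists_involution_mem hZ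
    have hle : Subgroup.zpowers z ≤ Subgroup.center G := Subgroup.zpowers_le.2 hz
    have hN : (Subgroup.zpowers z).Normal := normal_of_le_center hle
    have hc : Nat.card (Subgroup.zpowers z) = 2 := by rw [Nat.card_zpowers, hz2]
    have hq := Subgroup.card_eq_card_quotient_mul_card_subgroup (Subgroup.zpowers z)
    rw [hc] at hq
    rcases Nat.even_or_odd (Nat.card (G ⧸ Subgroup.zpowers z)) with h1 | h1
    · by_cases h2 : 2 < Nat.card (G ⧸ Subgroup.zpowers z)
      · obtain ⟨H, hH, hlt⟩ := ih _ (by omega) (G ⧸ Subgroup.zpowers z) rfl h1 h2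
        refine ⟨H.comap (QuotientGroup.mk' _), ?_, ?_⟩
        · intro h
          apply hH
          rw [← Subgroup.index_eq_one] at h ⊢
          rwa [H.index_comap_of_surjective (QuotientGroup.mk'_surjective _)] at h
        · have e1 := (H.comap (QuotientGroup.mk' _)).card_mul_index
          rw [H.index_comap_of_surjective (QuotientGroup.mk'_surjective _), hq,
            ← H.card_mul_index, mul_right_comm] at e1
          rw [Nat.eq_of_mul_eq_mul_right (index_pos' H) e1, mul_pow]
          omega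
      · refine ⟨_, (idx (Subgroup.zpowers z) ?_)⟩
        rw [Subgroup.index_eq_card]
        omega
    · obtain ⟨T⟩ : Nonempty (Sylow 2 G) := inferInstance
      have hT : Nat.card (T : Subgroup G) = 2 ^ 1 := card_sylow_of_card T
        (m := Nat.card (G ⧸ Subgroup.zpowers z)) (by omega) (Nat.two_dvd_ne_zero.2 (Nat.odd_iff.1 h1))
      obtain ⟨H, hH⟩ := s0219 heven T (isCyclic_of_prime_card (p := 2) hT)
      exact ⟨H, idx H hH⟩
  · obtain ⟨H, hH, h | h⟩ := s0233 heven hZ
    · exact ⟨H, idx H h⟩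
    obtain ⟨t, ht⟩ := exists_involution heven
    by_cases hc : Nat.card G < Nat.card (Subgroup.centralizer ({t} : Set G)) ^ 3
    · refine ⟨_, fun h1 => ?_, hc⟩
      refine odd_card_iff.1 hZ t (Subgroup.mem_center_iff.2 fun g => ?_) ht
      exact Subgroup.mem_centralizer_singleton_iff.1 (h1 ▸ Subgroup.mem_top g)
    refine ⟨H, hH, ?_⟩
    have h1 := card_le_centralizer_mul_invol ht
    have h2 := H.card_mul_index
    have h3 : 0 < Nat.card (Subgroup.centralizer ({t} : Set G)) := Nat.card_pos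
    generalize Nat.card (Subgroup.centralizer ({t} : Set G)) = c at *
    generalize Nat.card {t : G // orderOf t = 2} = m at *
    generalize Nat.card H = k at *
    generalize H.index = i at *
    generalize Nat.card G = g at *
    have h4 : 2 * i * m ^ 2 < (c * (c + 1)) * m ^ 2 := by
      calc 2 * i * m ^ 2 < g * (g + m) := h
        _ ≤ (c * m) * (c * m + m) := Nat.mul_le_mul h1 (by omega)
        _ = _ := by ring
    have h5 : 2 * i < c * (c + 1) := Nat.lt_of_mul_lt_mul_right h4
    have h6 : i < c * c := by nlinarith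
    by_contra h7
    have h8 : k ^ 3 * i ^ 3 < g * (c * c) ^ 3 := by
      refine Nat.mul_lt_mul_of_le_of_lt (by omega) (Nat.pow_lt_pow_left h6 (by norm_num)) ?_
      omega
    rw [← mul_pow, h2] at h8
    have h9 : (c * c) ^ 3 ≤ g * g := by
      calc (c * c) ^ 3 = c ^ 3 * c ^ 3 := by ring
        _ ≤ g * g := Nat.mul_le_mul (by omega) (by omega)
    have : g * (c * c) ^ 3 ≤ g ^ 3 := by
      calc g * (c * c) ^ 3 ≤ g * (g * g) := Nat.mul_le_mul_left _ h9
        _ = _ := by ring
    omega

theorem s0232 {G : Type*} [Group G] [Finite G] (heven : Even (Nat.card G)) (hgt : 2 < Nat.card G) : ∃ H : Subgroup G, H ≠ ⊤ ∧ Nat.card G < (Nat.card H) ^ 3 :=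
  s0232_aux _ G rfl heven hgt

theorem not_comm_of_simple [IsSimpleGroup G] (h : ¬ (Nat.card G).Prime) : ¬ IsMulCommutative G :=
  fun h1 => h (card_prime_of_comm h1)

theorem card_invol_alternating_five :
    Nat.card {t : alternatingGroup (Fin 5) // orderOf t = 2} = 15 := by
  have : Nat.card {t : alternatingGroup (Fin 5) // orderOf t = 2} =
      Nat.card {t : Equiv.Perm (Fin 5) // Equiv.Perm.sign t = 1 ∧ t * t = 1 ∧ t ≠ 1} := by
    refine Nat.card_congr ⟨fun t => ⟨t.1.1, t.1.2, ?_⟩, fun t => ⟨⟨t.1, t.2.1⟩, ?_⟩,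
      fun _ => rfl, fun _ => rfl⟩
    · rw [← ord2_iff, Subgroup.orderOf_coe]; exact t.2
    · rw [← Subgroup.orderOf_coe, ord2_iff]; exact t.2.2
  rw [this, card_subtype_eq_filter]
  decide +kernel

theorem index_sylow_of_card [Finite G] {p k m : ℕ} [Fact p.Prime] (P : Sylow p G)
    (h : Nat.card G = p ^ k * m) (hm : ¬ p ∣ m) : (P : Subgroup G).index = m := by
  have := (P : Subgroup G).card_mul_index
  rw [card_sylow_of_card P h hm, h] at this
  exact Nat.eq_of_mul_eq_mul_left (pow_pos (Fact.out : p.Prime).pos k) this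

theorem card_dvd_factorial_of_simple [Finite G] [IsSimpleGroup G] {p k m : ℕ} (hp : p.Prime)
    (h : Nat.card G = p ^ k * m) (hm : ¬ p ∣ m) (h1 : m ≠ 1) : Nat.card G ∣ m.factorial := by
  have : Fact p.Prime := ⟨hp⟩
  obtain ⟨P⟩ : Nonempty (Sylow p G) := inferInstance
  have h2 := index_sylow_of_card P h hm
  rw [← h2]
  exact card_dvd_factorial_index _ (by rw [Ne, ← Subgroup.index_eq_one, h2]; exact h1)

theorem four_dvd_card_of_simple [Finite G] [IsSimpleGroup G] (heven : Even (Nat.card G))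
    (h : Nat.card G ≠ 2) : 4 ∣ Nat.card G := by
  by_contra h4
  obtain ⟨m, hm⟩ := heven
  obtain ⟨T⟩ : Nonempty (Sylow 2 G) := inferInstance
  have hT : Nat.card (T : Subgroup G) = 2 ^ 1 := card_sylow_of_card T (m := m) (by omega) (by omega)
  obtain ⟨H, hH⟩ := s0219 ⟨m, hm⟩ T (isCyclic_of_prime_card (p := 2) hT)
  exact index_ne_two_of_simple h H hH

theorem not_isPGroup_of_simple [Finite G] [IsSimpleGroup G] (h : ¬ IsMulCommutative G) {p : ℕ}
    [Fact p.Prime] : ¬ IsPGroup p G := by
  intro hp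
  have := hp.center_nontrivial
  rw [center_eq_bot_of_simple h] at this
  exact not_subsingleton (⊥ : Subgroup G) inferInstance

theorem two_mul_card_dvd_factorial [Finite G] [IsSimpleGroup G] (hG : ¬ IsMulCommutative G)
    (H : Subgroup G) (hH : H ≠ ⊤) : 2 * Nat.card G ∣ H.index.factorial := by
  obtain ⟨f, hf⟩ := s0991 hG H hH
  have h1 := Subgroup.card_dvd_of_injective f hf
  have h2 : H.index ≠ 1 := by rwa [Ne, Subgroup.index_eq_one]
  have h3 := index_pos' H
  have : Nontrivial (Fin H.index) := Fin.nontrivial_iff_two_le.2 (by omega)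
  have h4 := two_mul_nat_card_alternatingGroup (α := Fin H.index)
  rw [Nat.card_perm, Nat.card_fin] at h4
  rw [← h4]
  exact Nat.mul_dvd_mul_left 2 h1

theorem s0234 {G : Type*} [Group G] [Finite G] [IsSimpleGroup G] (heven : Even (Nat.card G)) (hgt : 2 < Nat.card G) : 3 * Nat.card {t : G // orderOf t = 2} < Nat.card G := by
  have hG : ¬ IsMulCommutative G := not_comm_of_simple fun h => by
    have := h.even_iff.1 heven
    omega
  by_contra hcon
  obtain ⟨H, hH, h | h⟩ := s0233 heven (by rw [center_eq_bot_of_simple hG]; simp)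
  · exact index_ne_two_of_simple (by omega) H h
  have h1 : H.index < 6 := by
    have : 2 * H.index * Nat.card {t : G // orderOf t = 2} ^ 2 <
        12 * Nat.card {t : G // orderOf t = 2} ^ 2 := by
      calc _ < _ := h
        _ ≤ (3 * Nat.card {t : G // orderOf t = 2}) * (4 * Nat.card {t : G // orderOf t = 2}) :=
          Nat.mul_le_mul (by omega) (by omega)
        _ = _ := by ring
    have := Nat.lt_of_mul_lt_mul_right this
    omega
  have h4 := four_dvd_card_of_simple heven (by omega)
  have h2 := two_mul_card_dvd_factorial hG H hH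
  have h60 : Nat.card G = 60 := by
    have h2 : 2 * Nat.card G ∣ 120 :=
      h2.trans (Nat.factorial_dvd_factorial (n := 5) (by omega))
    have h3 := Nat.le_of_dvd (by norm_num) h2
    have a1 : Nat.card G ≠ 4 := fun e =>
      not_isPGroup_of_simple hG (IsPGroup.of_card (p := 2) (n := 2) e)
    have a3 : Nat.card G ≠ 12 := fun e => by
      have := card_dvd_factorial_of_simple Nat.prime_two (k := 2) (m := 3) e (by norm_num)
        (by norm_num)
      rw [e] at this; revert this; decide
    have a5 : Nat.card G ≠ 20 := fun e => by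
      have := card_dvd_factorial_of_simple Nat.prime_five (k := 1) (m := 4) e (by norm_num)
        (by norm_num)
      rw [e] at this; revert this; decide
    obtain ⟨c, hc⟩ := h4
    rw [hc] at h2 h3 a1 a3 a5 hgt ⊢
    have : c ≤ 15 := by omega
    interval_cases c <;> simp_all
  have h5 : H.index = 5 := by
    by_contra h5
    have := h2.trans (Nat.factorial_dvd_factorial (n := 4) (by omega))
    rw [h60] at this; revert this; decide
  obtain ⟨f, hf⟩ : ∃ f : G →* ↥(alternatingGroup (Fin 5)), Function.Injective f :=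
    h5 ▸ s0991 hG H hH
  have h6 : Nat.card {t : G // orderOf t = 2} ≤ 15 := by
    rw [← card_invol_alternating_five]
    exact Nat.card_le_card_of_injective
      (fun t => ⟨f t.1, (orderOf_injective f hf t.1).trans t.2⟩)
      fun x y e => Subtype.ext (hf (by simpa using e))
  omega

/-! ### Klein four-subgroups -/

theorem kf_sq {T : Subgroup G} (hT : IsKleinFour T) {x : G} (hx : x ∈ T) : x * x = 1 :=
  congrArg Subtype.val (IsKleinFour.mul_self (⟨x, hx⟩ : T))

theorem kf_ord {T : Subgroup G} (hT : IsKleinFour T) {x : G} (hx : x ∈ T) (h1 : x ≠ 1) :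
    orderOf x = 2 := ord2_iff.2 ⟨kf_sq hT hx, h1⟩

theorem kf_comm {T : Subgroup G} (hT : IsKleinFour T) {x y : G} (hx : x ∈ T) (hy : y ∈ T) :
    x * y = y * x := comm_of_mem IsKleinFour.isMulCommutative hx hy

theorem kf_card {T : Subgroup G} (hT : IsKleinFour T) : Nat.card T = 4 := hT.card_four

theorem kf_isPGroup {T : Subgroup G} (hT : IsKleinFour T) : IsPGroup 2 T :=
  IsPGroup.of_card (n := 2) hT.card_four

theorem kf_cases {T : Subgroup G} (hT : IsKleinFour T) {a b x : G} (ha : a ∈ T) (hb : b ∈ T)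
    (ha1 : a ≠ 1) (hb1 : b ≠ 1) (hab : a ≠ b) (hx : x ∈ T) :
    x = 1 ∨ x = a ∨ x = b ∨ x = a * b := by
  by_contra h
  push Not at h
  have := IsKleinFour.eq_mul_of_ne_all (G := T) (x := ⟨a, ha⟩) (y := ⟨b, hb⟩) (z := ⟨x, hx⟩)
    (by simpa using ha1) (by simpa using hb1) (by simpa using hab) (by simpa using h.1)
    (by simpa using h.2.1) (by simpa using h.2.2.1)
  exact h.2.2.2 (congrArg Subtype.val this)

theorem kf_exists_ne {T : Subgroup G} (hT : IsKleinFour T) (a : G) :
    ∃ b ∈ T, b ≠ 1 ∧ b ≠ a := by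
  classical
  by_contra h
  push Not at h
  have h1 : (T : Set G) ⊆ ↑({1, a} : Finset G) := by
    intro x hx
    by_cases h1 : x = 1
    · simp [h1]
    · simp [h x hx h1]
  have h2 := Set.ncard_le_ncard h1
  rw [Set.ncard_coe_finset] at h2
  have h3 : (T : Set G).ncard = 4 := hT.card_four
  have := Finset.card_le_two (a := (1 : G)) (b := a)
  omega

theorem kf_of_card {T : Subgroup G} (h : Nat.card T = 4) (hsq : ∀ x ∈ T, x * x = 1) :
    IsKleinFour T := by
  have : Finite T := Nat.finite_of_card_ne_zero (by omega)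
  have : Nontrivial T := Finite.one_lt_card_iff_nontrivial.1 (by omega)
  refine ⟨h, (Monoid.exponent_eq_prime_iff Nat.prime_two).2 fun g hg => ?_⟩
  exact ord2_iff.2 ⟨Subtype.ext (hsq g g.2), hg⟩

theorem mem_zpowers_ord2 {a x : G} (ha : a * a = 1) : x ∈ Subgroup.zpowers a ↔ x = 1 ∨ x = a := by
  constructor
  · rintro ⟨k, rfl⟩
    have h2 : a ^ (2 : ℤ) = 1 := by rw [zpow_two, ha]
    rcases Int.even_or_odd' k with ⟨j, rfl | rfl⟩
    · left; show a ^ (2 * j) = 1; rw [zpow_mul, h2, one_zpow]
    · right; show a ^ (2 * j + 1) = a; rw [zpow_add, zpow_mul, h2, one_zpow, one_mul, zpow_one]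
  · rintro (rfl | rfl)
    · exact Subgroup.one_mem _
    · exact Subgroup.mem_zpowers _

theorem mem_sup_ord2 {a b x : G} (ha : a * a = 1) (hb : b * b = 1) (hc : a * b = b * a) :
    x ∈ Subgroup.zpowers a ⊔ Subgroup.zpowers b ↔ x = 1 ∨ x = a ∨ x = b ∨ x = a * b := by
  rw [mem_sup_zpowers_iff (fun c hc' => by
    rcases (mem_zpowers_ord2 ha).1 hc' with rfl | rfl
    · simp
    · rw [← hc]; simp) (by rw [hb]; exact Subgroup.one_mem _), mem_zpowers_ord2 ha,
    mem_zpowers_ord2 ha, mul_inv_eq_one, mul_inv_eq_iff_eq_mul]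
  tauto

theorem kf_sup [Finite G] {a b : G} (ha : orderOf a = 2) (hb : orderOf b = 2) (hab : a ≠ b)
    (hc : a * b = b * a) : IsKleinFour (Subgroup.zpowers a ⊔ Subgroup.zpowers b : Subgroup G) := by
  apply kf_of_card
  · rw [card_sup_zpowers (fun c hc' => by
      rcases (mem_zpowers_ord2 (sq_of_ord2 ha)).1 hc' with rfl | rfl
      · simp
      · rw [← hc]; simp) (by rw [sq_of_ord2 hb]; exact Subgroup.one_mem _), Nat.card_zpowers, ha]
    rw [mem_zpowers_ord2 (sq_of_ord2 ha)]
    rintro (h | h)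
    · exact ne_one_of_ord2 hb h
    · exact hab h.symm
  · intro x hx
    rcases (mem_sup_ord2 (sq_of_ord2 ha) (sq_of_ord2 hb) hc).1 hx with rfl | rfl | rfl | rfl
    · simp
    · exact sq_of_ord2 ha
    · exact sq_of_ord2 hb
    · calc a * b * (a * b) = a * (b * a) * b := by group
        _ = (a * a) * (b * b) := by rw [← hc]; group
        _ = 1 := by rw [sq_of_ord2 ha, sq_of_ord2 hb, one_mul]

theorem kf_eq_sup {T : Subgroup G} (hT : IsKleinFour T) {a b : G} (ha : a ∈ T) (hb : b ∈ T)
    (ha1 : a ≠ 1) (hb1 : b ≠ 1) (hab : a ≠ b) : T = Subgroup.zpowers a ⊔ Subgroup.zpowers b := by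
  refine le_antisymm (fun x hx => ?_) (sup_le (Subgroup.zpowers_le.2 ha) (Subgroup.zpowers_le.2 hb))
  exact (mem_sup_ord2 (kf_sq hT ha) (kf_sq hT hb) (kf_comm hT ha hb)).2
    (kf_cases hT ha hb ha1 hb1 hab hx)

theorem kf_cj {T : Subgroup G} (hT : IsKleinFour T) (g : G) : IsKleinFour (cj g T) := by
  refine kf_of_card ((card_cj g T).trans hT.card_four) ?_
  rintro _ ⟨x, hx, rfl⟩
  rw [← map_mul, kf_sq hT hx, map_one]

theorem kf_mem_centralizer {T : Subgroup G} (hT : IsKleinFour T) {a b g : G} (ha : a ∈ T)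
    (hb : b ∈ T) (ha1 : a ≠ 1) (hb1 : b ≠ 1) (hab : a ≠ b) (h1 : a * g = g * a)
    (h2 : b * g = g * b) : g ∈ Subgroup.centralizer (T : Set G) := by
  intro x hx
  rcases kf_cases hT ha hb ha1 hb1 hab hx with rfl | rfl | rfl | rfl
  · simp
  · exact h1
  · exact h2
  · rw [mul_assoc, h2, ← mul_assoc, h1, mul_assoc]

/-- an element normalizing a four-group and fixing an involution: its square centralizes -/
theorem kf_sq_mem_centralizer {T : Subgroup G} (hT : IsKleinFour T) {a g : G} (ha : a ∈ T)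
    (ha1 : a ≠ 1) (hg : g ∈ Subgroup.normalizer (T : Set G)) (h1 : g * a * g⁻¹ = a) :
    g * g ∈ Subgroup.centralizer (T : Set G) := by
  obtain ⟨b, hb, hb1, hab⟩ := kf_exists_ne hT a
  have e1 : a * g = g * a := (mul_inv_eq_iff_eq_mul.1 h1).symm
  refine kf_mem_centralizer hT ha hb ha1 hb1 hab.symm
    (by rw [← mul_assoc, e1, mul_assoc, e1, mul_assoc]) ?_
  rcases kf_cases hT ha hb ha1 hb1 hab.symm (conj_mem_of_mem_normalizer hg hb) with h | h | h | h
  · exact absurd (by simpa using h) hb1
  · rw [← h1] at h; exact absurd (by simpa using h) hab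
  · have e2 := (mul_inv_eq_iff_eq_mul.1 h).symm
    rw [← mul_assoc, e2, mul_assoc, e2, mul_assoc]
  · symm
    rw [← mul_inv_eq_iff_eq_mul]
    calc g * g * b * (g * g)⁻¹ = g * (g * b * g⁻¹) * g⁻¹ := by group
      _ = g * (a * b) * g⁻¹ := by rw [h]
      _ = (g * a * g⁻¹) * (g * b * g⁻¹) := by group
      _ = b := by rw [h1, h, ← mul_assoc, kf_sq hT ha, one_mul]

theorem mem_centralizer_of_sq_of_odd {T : Set G} {g : G} (hg : Odd (orderOf g))
    (h : g * g ∈ Subgroup.centralizer T) : g ∈ Subgroup.centralizer T :=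
  fun x hx => (commute_of_sq_commute_of_odd hg (show Commute (g * g) x from (h x hx).symm)).symm

/-- an element of odd order acting nontrivially on a four-group fuses its involutions -/
theorem kf_conj_of_odd {T : Subgroup G} (hT : IsKleinFour T) {g : G}
    (hg : g ∈ Subgroup.normalizer (T : Set G)) (hodd : Odd (orderOf g))
    (hc : g ∉ Subgroup.centralizer (T : Set G)) {a b : G} (ha : a ∈ T) (hb : b ∈ T) (ha1 : a ≠ 1)
    (hb1 : b ≠ 1) : ∃ n ∈ Subgroup.zpowers g, n * a * n⁻¹ = b := by
  have key : ∀ c ∈ T, c ≠ 1 → g * c * g⁻¹ ≠ c := fun c hc' h1 h =>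
    hc (mem_centralizer_of_sq_of_odd hodd (kf_sq_mem_centralizer hT hc' h1 hg h))
  by_cases hab : a = b
  · exact ⟨1, Subgroup.one_mem _, by simp [hab]⟩
  rcases kf_cases hT ha hb ha1 hb1 hab (conj_mem_of_mem_normalizer hg ha) with h | h | h | h
  · exact absurd (by simpa using h) ha1
  · exact absurd h (key a ha ha1)
  · exact ⟨g, Subgroup.mem_zpowers g, h⟩
  · refine ⟨g⁻¹, Subgroup.inv_mem _ (Subgroup.mem_zpowers g), ?_⟩
    rcases kf_cases hT ha hb ha1 hb1 hab (conj_mem_of_mem_normalizer hg hb) with h' | h' | h' | h'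
    · exact absurd (by simpa using h') hb1
    · rw [← h']; group
    · exact absurd h' (key b hb hb1)
    · rw [← h'] at h; exact absurd (by simpa using h) hab

/-! ### counting conjugacy classes -/

theorem card_classes_one {P : G → Prop} {a : G} (ha : P a) (h : ∀ t, P t → IsConj a t) :
    Nat.card {C : ConjClasses G // ∃ t, P t ∧ ConjClasses.mk t = C} = 1 := by
  classical
  rw [Nat.subtype_card {ConjClasses.mk a}, Finset.card_singleton]
  intro C
  rw [Finset.mem_singleton]
  constructor
  · rintro rfl; exact ⟨a, ha, rfl⟩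
  · rintro ⟨t, ht, rfl⟩; exact (ConjClasses.mk_eq_mk_iff_isConj.2 (h t ht)).symm

theorem card_classes_two {P : G → Prop} {a b : G} (ha : P a) (hb : P b) (hab : ¬ IsConj a b)
    (h : ∀ t, P t → IsConj a t ∨ IsConj b t) :
    Nat.card {C : ConjClasses G // ∃ t, P t ∧ ConjClasses.mk t = C} = 2 := by
  classical
  rw [Nat.subtype_card {ConjClasses.mk a, ConjClasses.mk b},
    Finset.card_pair (by rwa [Ne, ConjClasses.mk_eq_mk_iff_isConj])]
  intro C
  rw [Finset.mem_insert, Finset.mem_singleton]
  constructor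
  · rintro (rfl | rfl)
    · exact ⟨a, ha, rfl⟩
    · exact ⟨b, hb, rfl⟩
  · rintro ⟨t, ht, rfl⟩
    exact (h t ht).imp (fun h => (ConjClasses.mk_eq_mk_iff_isConj.2 h).symm)
      (fun h => (ConjClasses.mk_eq_mk_iff_isConj.2 h).symm)

theorem card_classes_three {P : G → Prop} {a b c : G} (ha : P a) (hb : P b) (hc : P c)
    (hab : ¬ IsConj a b) (hac : ¬ IsConj a c) (hbc : ¬ IsConj b c)
    (h : ∀ t, P t → IsConj a t ∨ IsConj b t ∨ IsConj c t) :
    Nat.card {C : ConjClasses G // ∃ t, P t ∧ ConjClasses.mk t = C} = 3 := by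
  classical
  rw [Nat.subtype_card {ConjClasses.mk a, ConjClasses.mk b, ConjClasses.mk c},
    Finset.card_eq_three.2 ⟨_, _, _, by rwa [Ne, ConjClasses.mk_eq_mk_iff_isConj],
      by rwa [Ne, ConjClasses.mk_eq_mk_iff_isConj], by rwa [Ne, ConjClasses.mk_eq_mk_iff_isConj],
      rfl⟩]
  intro C
  rw [Finset.mem_insert, Finset.mem_insert, Finset.mem_singleton]
  constructor
  · rintro (rfl | rfl | rfl)
    · exact ⟨a, ha, rfl⟩
    · exact ⟨b, hb, rfl⟩
    · exact ⟨c, hc, rfl⟩
  · rintro ⟨t, ht, rfl⟩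
    exact (h t ht).imp (fun h => (ConjClasses.mk_eq_mk_iff_isConj.2 h).symm) (Or.imp
      (fun h => (ConjClasses.mk_eq_mk_iff_isConj.2 h).symm)
      (fun h => (ConjClasses.mk_eq_mk_iff_isConj.2 h).symm))

theorem exists_isConj_mem_sylow [Finite G] {p : ℕ} [Fact p.Prime] (P : Sylow p G) {x : G} {k : ℕ}
    (hx : orderOf x = p ^ k) : ∃ y ∈ (P : Subgroup G), IsConj y x ∧ orderOf y = p ^ k := by
  obtain ⟨g, hg⟩ := exists_conj_mem_sylow P (k := k) (hx ▸ pow_orderOf_eq_one x)
  exact ⟨_, hg, (isConj_conj g x).symm, (orderOf_conj' g x).trans hx⟩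

/-- if `K` is normal in `H` with `K` containing all `p'`-elements then the index is a power of `p` -/
theorem exists_coprime_not_mem [Finite G] {p : ℕ} [Fact p.Prime] {H K : Subgroup G}
    (h : ¬ ∃ k, K.relIndex H = p ^ k) : ∃ g ∈ H, (orderOf g).Coprime p ∧ g ∉ K := by
  by_contra h1
  push Not at h1
  apply h
  obtain ⟨k, hk⟩ := relIndex_pResOf (p := p) H
  have := Subgroup.relIndex_dvd_of_le_left H (pResOf_le_iff.2 h1)
  rw [hk] at this
  obtain ⟨j, -, hj⟩ := (Nat.dvd_prime_pow Fact.out).1 this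
  exact ⟨j, hj⟩

theorem mem_of_coprime_of_relIndex [Finite G] {p : ℕ} [Fact p.Prime] {H K : Subgroup G}
    (hN : H ≤ Subgroup.normalizer (K : Set G)) {k : ℕ} (h : K.relIndex H = p ^ k) {g : G}
    (hg : g ∈ H) (hc : (orderOf g).Coprime p) : g ∈ K :=
  pResOf_le_of_relIndex hN ⟨k, h⟩ (mem_pResOf hg hc)

theorem kf_sylow_cases [Finite G] (P : Sylow 2 G) (hP : IsKleinFour (P : Subgroup G)) :
    (Nat.card {C : ConjClasses G // ∃ t : G, orderOf t = 2 ∧ ConjClasses.mk t = C} = 1 ∧
      ¬ NPC 2 (⊤ : Subgroup G)) ∨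
    (Nat.card {C : ConjClasses G // ∃ t : G, orderOf t = 2 ∧ ConjClasses.mk t = C} = 3 ∧
      NPC 2 (⊤ : Subgroup G)) := by
  obtain ⟨a, ha, ha1, -⟩ := kf_exists_ne hP 1
  obtain ⟨b, hb, hb1, hab⟩ := kf_exists_ne hP a
  by_cases h : Subgroup.normalizer (P : Set G) ≤ Subgroup.centralizer (P : Set G)
  · right
    have key : ∀ x ∈ (P : Subgroup G), ∀ y ∈ (P : Subgroup G), IsConj x y → x = y := by
      intro x hx y hy hc
      obtain ⟨g, rfl⟩ := isConj_iff.1 hc
      obtain ⟨n, hn, e⟩ := controlsFusion_normalizer_of_comm P IsKleinFour.isMulCommutative x hx g hy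
      rw [← e, ← h hn x hx, mul_inv_cancel_right]
    have hab' := (P : Subgroup G).mul_mem ha hb
    refine ⟨card_classes_three (kf_ord hP ha ha1) (kf_ord hP hb hb1) (kf_ord hP hab' ?_)
      (fun h => hab (key _ ha _ hb h).symm) (fun h => hb1 (by simpa using key _ ha _ hab' h))
      (fun h => ha1 (by simpa using key _ hb _ hab' h)) ?_,
      (isSylowOf_top P).npc_of_burnside (by rw [top_inf_eq]; exact h)⟩
    · intro h
      apply hab
      rw [← inv_of_ord2 (kf_ord hP ha ha1)]
      exact eq_inv_of_mul_eq_one_right h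
    · intro t ht
      obtain ⟨y, hy, h1, h2⟩ := exists_isConj_mem_sylow P (k := 1) ht
      rcases kf_cases hP ha hb ha1 hb1 hab.symm hy with rfl | rfl | rfl | rfl
      · simp at h2
      all_goals tauto
  · left
    obtain ⟨g, hg, hodd, hc⟩ : ∃ g ∈ Subgroup.normalizer (P : Set G), (orderOf g).Coprime 2 ∧
        g ∉ Subgroup.centralizer (P : Set G) := by
      by_contra h1
      push Not at h1
      apply h
      rw [← (isSylowOf_sylow P (H := Subgroup.normalizer (P : Set G))
        Subgroup.le_normalizer).sup_pResOf]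
      exact sup_le (fun x hx y hy => kf_comm hP hy hx) (pResOf_le_iff.2 h1)
    refine ⟨card_classes_one (kf_ord hP ha ha1) fun t ht => ?_, fun hn => hc
      (hn.mem_centralizer P.2 le_top (Subgroup.mem_top g) hg hodd)⟩
    obtain ⟨y, hy, h1, h2⟩ := exists_isConj_mem_sylow P (k := 1) ht
    obtain ⟨n, -, e⟩ := kf_conj_of_odd hP hg (Nat.coprime_two_right.1 hodd) hc ha hy ha1
      (ne_one_of_ord2 h2)
    exact (isConj_iff.2 ⟨n, e⟩).trans h1

theorem s0202 {G : Type*} [Group G] [Finite G] (P : Sylow 2 G) (hP : IsKleinFour (P : Subgroup G)) : Nat.card {C : ConjClasses G // ∃ t : G, orderOf t = 2 ∧ ConjClasses.mk t = C} = 1 ∨ Nat.card {C : ConjClasses G // ∃ t : G, orderOf t = 2 ∧ ConjClasses.mk t = C} = 3 :=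
  (kf_sylow_cases P hP).imp And.left And.left

theorem s0203 {G : Type*} [Group G] [Finite G] (P : Sylow 2 G) (hP : IsKleinFour (P : Subgroup G)) : Nat.card {C : ConjClasses G // ∃ t : G, orderOf t = 2 ∧ ConjClasses.mk t = C} = 3 ↔ ∃ N : Subgroup G, N.Normal ∧ Subgroup.IsComplement' N (P : Subgroup G) := by
  rw [exists_complement_iff_npc]
  rcases kf_sylow_cases P hP with ⟨h1, h2⟩ | ⟨h1, h2⟩
  · rw [h1]; simp [h2]
  · simp [h1, h2]

end Cfsg.Agent.Inv
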