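import Cfsg.Agent.Inv.Small
import Cfsg.Agent.S0199

/-! General tools for 2-fusion: a fusion principle, transfer, quaternion subgroups of order 8,
automorphisms of odd order. -/

set_option autoImplicit false
set_option linter.unusedVariables false
set_option linter.unusedSectionVars false

namespace Cfsg.Agent.Inv

open Cfsg.Agent.PLoc Subgroup

variable {G : Type*} [Group G]

theorem s0200 {G : Type*} [Group G] [Finite G] (t : G) (ht : orderOf t = 2) (hO : ∀ N : Subgroup G, N.Normal → IsPGroup 2 N → t ∉ N) : ∃ h : G, h ≠ 1 ∧ Odd (orderOf h) ∧ t * h * t⁻¹ = h⁻¹ := by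
  by_contra hcon
  push Not at hcon
  obtain ⟨N, h1, h2, h3⟩ := Cfsg.Agent.S0199.result (p := 2) (zpowers t)
    (isPGroup_zpowers (pow_two_pow_one_of_ord2 ht)) (fun g => by
      rw [cj_def, cj_zpowers]
      have hu2 : orderOf (g * t * g⁻¹) = 2 := (orderOf_conj' g t).trans ht
      generalize g * t * g⁻¹ = u at hu2 ⊢
      obtain ⟨a, ha, b, ⟨k, hb⟩, e, -, ⟨m, hm⟩, hcop⟩ := exists_p_part 2 (t * u)
      have hb1 : b = 1 := by
        by_contra h
        apply hcon b h (Nat.coprime_two_right.1 hcop)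
        rw [← hb]
        simpa using conj_zpow_inv (inverts_left (sq_of_ord2 ht) (sq_of_ord2 hu2)) k
      rw [hb1, mul_one] at e
      rw [isPGroup_iff_forall]
      intro d hd
      have hd' : d ∈ closure ({t, u} : Set G) :=
        (sup_le (zpowers_le.2 (left_mem_closure_pair t u))
          (zpowers_le.2 (right_mem_closure_pair t u))) hd
      obtain ⟨j, rfl | rfl⟩ := mem_closure_two_invol (sq_of_ord2 ht) (sq_of_ord2 hu2) hd'
      · exact ⟨m, by rw [← zpow_natCast, ← zpow_mul, mul_comm, zpow_mul, zpow_natCast, e, hm,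
          one_zpow]⟩
      · refine ⟨1, ?_⟩
        rw [pow_one, pow_two, mul_assoc, ← mul_assoc t, mul_zpow_of_inverts
          (inverts_left (sq_of_ord2 ht) (sq_of_ord2 hu2)), mul_assoc, sq_of_ord2 ht]
        group)
  exact hO N h1 h2 (h3 (mem_zpowers t))

theorem map_center_subtype (H : Subgroup G) :
    (center H).map H.subtype = H ⊓ centralizer (H : Set G) := by
  ext x
  constructor
  · rintro ⟨y, hy, rfl⟩
    exact ⟨y.2, fun h hh => congrArg Subtype.val (mem_center_iff.1 hy ⟨h, hh⟩)⟩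
  · rintro ⟨h1, h2⟩
    exact ⟨⟨x, h1⟩, mem_center_iff.2 fun h => Subtype.ext (h2 h h.2), rfl⟩

theorem closure_pair_eq_sup (a b : G) : closure ({a, b} : Set G) = zpowers a ⊔ zpowers b := by
  rw [zpowers_eq_closure, zpowers_eq_closure, ← Subgroup.closure_union]; rfl

theorem commutator_mem_of_sq {N H : Subgroup G} (h : ∀ a ∈ H, a * a ∈ N) {a b : G} (ha : a ∈ H)
    (hb : b ∈ H) : a * b * a⁻¹ * b⁻¹ ∈ N := by
  have : a * b * a⁻¹ * b⁻¹ = (a * a) * ((a⁻¹ * b) * (a⁻¹ * b)) * (b * b)⁻¹ := by group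
  rw [this]
  exact N.mul_mem (N.mul_mem (h a ha) (h _ (H.mul_mem (H.inv_mem ha) hb))) (N.inv_mem (h b hb))

theorem sq_mem_of_index_two {H : Subgroup G} (h : H.index = 2) (a : G) : a * a ∈ H :=
  mul_self_mem_of_index_two h a

theorem mul_mem_of_relIndex_two {C T : Subgroup G} (h : C.relIndex T = 2) {a b : G} (ha : a ∈ T)
    (hb : b ∈ T) (ha' : a ∉ C) (hb' : b ∉ C) : a * b ∈ C := by
  have := (mul_mem_iff_of_index_two h (a := ⟨a, ha⟩) (b := ⟨b, hb⟩)).2
    (by simp [mem_subgroupOf, ha', hb'])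
  exact this

theorem relIndex_eq_two_of_card [Finite G] {C T : Subgroup G} (h : C ≤ T)
    (hc : Nat.card T = 2 * Nat.card C) : C.relIndex T = 2 := by
  have := card_mul_relIndex h
  rw [hc, mul_comm 2] at this
  exact Nat.eq_of_mul_eq_mul_left Nat.card_pos this

theorem dvd_relIndex_of_not_mem [Finite G] {p : ℕ} [Fact p.Prime] {H K : Subgroup G}
    (hN : H ≤ normalizer (K : Set G)) {g : G} (hg : g ∈ H) (hK : g ∉ K) {k : ℕ}
    (hp : g ^ p ^ k = 1) : p ∣ K.relIndex H := by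
  by_contra h
  apply hK
  refine mem_of_pow_mem_of_coprime (pow_relIndex_mem' hN hg) ?_
  obtain ⟨j, -, hj⟩ := (Nat.dvd_prime_pow Fact.out).1 (orderOf_dvd_of_pow_eq_one hp)
  rw [hj]
  exact ((Nat.Prime.coprime_iff_not_dvd Fact.out).2 h).pow_left j

theorem relIndex_centralizer_dvd_card_mulAut (T : Subgroup G) :
    (centralizer (T : Set G)).relIndex (normalizer (T : Set G)) ∣ Nat.card (MulAut T) := by
  have key := card_dvd_of_injective _ (QuotientGroup.kerLift_injective T.normalizerMonoidHom)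
  rwa [normalizerMonoidHom_ker, ← index, ← relIndex] at key

theorem mem_centralizer_of_isPGroup_mulAut [Finite G] {p : ℕ} [Fact p.Prime] {T : Subgroup G}
    (h : IsPGroup p (MulAut T)) {g : G} (hg : g ∈ normalizer (T : Set G))
    (hc : (orderOf g).Coprime p) : g ∈ centralizer (T : Set G) := by
  obtain ⟨k, hk⟩ := h.exists_card_eq
  have := relIndex_centralizer_dvd_card_mulAut T
  rw [hk] at this
  obtain ⟨j, -, hj⟩ := (Nat.dvd_prime_pow Fact.out).1 this
  exact mem_of_coprime_of_relIndex (normalizer_le_normalizer_centralizer T) hj hg hc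

theorem isPGroup_mulAut_of_isCyclic {T : Type*} [Group T] [Finite T] (hT : IsPGroup 2 T)
    (hc : IsCyclic T) : IsPGroup 2 (MulAut T) := by
  obtain ⟨k, hk⟩ := hT.exists_card_eq
  rcases k with _ | k
  · exact IsPGroup.of_card (n := 0) (by rw [hc.card_mulAut, hk]; simp)
  · exact IsPGroup.of_card (n := k) (by
      rw [hc.card_mulAut, hk, Nat.totient_prime_pow_succ Nat.prime_two]; simp)

theorem mem_centralizer_of_isCyclic [Finite G] {T : Subgroup G} (hT : IsPGroup 2 T)
    (hc : IsCyclic T) {g : G} (hg : g ∈ normalizer (T : Set G)) (hodd : Odd (orderOf g)) :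
    g ∈ centralizer (T : Set G) :=
  mem_centralizer_of_isPGroup_mulAut (isPGroup_mulAut_of_isCyclic hT hc) hg
    (Nat.coprime_two_right.2 hodd)

theorem mem_centralizer_of_series [Finite G] {p : ℕ} [Fact p.Prime] {C T : Subgroup G}
    (hC : IsPGroup p C) {g : G} (hc : (orderOf g).Coprime p) (h1 : g ∈ centralizer (C : Set G))
    (h2 : ∀ t ∈ T, g * t * g⁻¹ * t⁻¹ ∈ C) : g ∈ centralizer (T : Set G) := by
  intro t ht
  symm
  refine comm_of_commutator_comm (n := orderOf g) (by simp) (h1 _ (h2 t ht)).symm ?_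
  obtain ⟨k, hk⟩ := IsPGroup_orderOf hC (h2 t ht)
  rw [commutatorElement_def, hk]
  exact (hc.symm).pow_left k

theorem mem_centralizer_of_relIndex_two [Finite G] {C T : Subgroup G} (hC : IsPGroup 2 C)
    (h2 : C.relIndex T = 2) {g : G} (hg : g ∈ normalizer (T : Set G)) (hodd : Odd (orderOf g))
    (h1 : g ∈ centralizer (C : Set G)) : g ∈ centralizer (T : Set G) := by
  refine mem_centralizer_of_series hC (Nat.coprime_two_right.2 hodd) h1 fun t ht => ?_
  by_cases h : t ∈ C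
  · rw [← h1 t h]; simp
  · refine mul_mem_of_relIndex_two h2 (conj_mem_of_mem_normalizer hg ht) (T.inv_mem ht) ?_
      (by simpa using h)
    intro h'
    apply h
    have := h1 _ h'
    rw [inv_mul_cancel_right, mul_right_inj] at this
    rwa [this]

theorem relIndex_dvd_six [Finite G] {N K A₁ A₂ A₃ : Subgroup G}
    (hPr : ∀ n ∈ N, ∀ A, (A = A₁ ∨ A = A₂ ∨ A = A₃) → (cj n A = A₁ ∨ cj n A = A₂ ∨ cj n A = A₃))
    (hK : ∀ n ∈ N, n ∈ K ↔ cj n A₁ = A₁ ∧ cj n A₂ = A₂ ∧ cj n A₃ = A₃) : K.relIndex N ∣ 6 := by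
  classical
  let Ω := {A : Subgroup G // A = A₁ ∨ A = A₂ ∨ A = A₃}
  let φ : N →* Equiv.Perm Ω := MonoidHom.toHomPerm
    { toFun := fun n A => ⟨cj n A.1, hPr n n.2 A.1 A.2⟩
      map_one' := funext fun A => Subtype.ext (cj_one _)
      map_mul' := fun a b => funext fun A => Subtype.ext (cj_mul _ _ _) }
  have hφ : ∀ (n : N) (A : Ω), (φ n A).1 = cj (n : G) A.1 := fun _ _ => rfl
  have h1 : φ.ker = K.subgroupOf N := by
    ext n
    rw [MonoidHom.mem_ker, mem_subgroupOf, hK n n.2]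
    constructor
    · intro h
      exact ⟨by rw [← hφ n ⟨A₁, Or.inl rfl⟩, h]; rfl, by rw [← hφ n ⟨A₂, Or.inr (Or.inl rfl)⟩, h]; rfl,
        by rw [← hφ n ⟨A₃, Or.inr (Or.inr rfl)⟩, h]; rfl⟩
    · rintro ⟨h1, h2, h3⟩
      ext ⟨A, hA⟩ : 2
      rw [hφ]
      rcases hA with rfl | rfl | rfl <;> assumption
  have h2 : Nat.card Ω ≤ 3 := by
    rw [Nat.subtype_card {A₁, A₂, A₃} (by simp)]
    exact Finset.card_le_three
  rw [relIndex, ← h1, index_ker]
  refine (card_subgroup_dvd_card _).trans ?_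
  rw [Nat.card_perm]
  exact Nat.factorial_dvd_factorial h2

theorem kf_relIndex_dvd_six [Finite G] {T N : Subgroup G} (hT : IsKleinFour T)
    (hN : N ≤ normalizer (T : Set G)) : (centralizer (T : Set G)).relIndex N ∣ 6 := by
  obtain ⟨a, ha, ha1, -⟩ := kf_exists_ne hT 1
  obtain ⟨b, hb, hb1, hab⟩ := kf_exists_ne hT a
  have hab1 : a * b ≠ 1 := fun h => hab (by
    rw [← inv_of_ord2 (kf_ord hT ha ha1)]; exact eq_inv_of_mul_eq_one_right h)
  have key : ∀ n ∈ N, ∀ c ∈ T, c ≠ 1 → cj n (zpowers c) = zpowers a ∨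
      cj n (zpowers c) = zpowers b ∨ cj n (zpowers c) = zpowers (a * b) := by
    intro n hn c hc hc1
    rw [cj_zpowers]
    rcases kf_cases hT ha hb ha1 hb1 hab.symm (conj_mem_of_mem_normalizer (hN hn) hc)
      with h | h | h | h
    · exact absurd (by simpa using h) hc1
    all_goals simp [h]
  have key2 : ∀ n, ∀ c ∈ T, c ≠ 1 → cj n (zpowers c) = zpowers c → c * n = n * c := by
    intro n c hc hc1 h
    rw [cj_zpowers] at h
    rcases (mem_zpowers_ord2 (kf_sq hT hc)).1 (h ▸ mem_zpowers _) with h | h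
    · exact absurd (by simpa using h) hc1
    · exact (mul_inv_eq_iff_eq_mul.1 h).symm
  refine relIndex_dvd_six (A₁ := zpowers a) (A₂ := zpowers b) (A₃ := zpowers (a * b)) ?_ ?_
  · rintro n hn A (rfl | rfl | rfl)
    · exact key n hn a ha ha1
    · exact key n hn b hb hb1
    · exact key n hn _ (T.mul_mem ha hb) hab1
  · intro n hn
    constructor
    · intro h
      simp only [cj_zpowers, ← h a ha, ← h b hb, ← h _ (T.mul_mem ha hb), mul_inv_cancel_right,
        and_self]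
    · rintro ⟨h1, h2, -⟩
      exact kf_mem_centralizer hT ha hb ha1 hb1 hab.symm (key2 n a ha ha1 h1) (key2 n b hb hb1 h2)

/-! ### quaternion groups of order 8 -/

structure Q8 (Q : Subgroup G) (z : G) : Prop where
  card : Nat.card Q = 8
  zmem : z ∈ Q
  zord : orderOf z = 2
  zcomm : ∀ g ∈ Q, g * z = z * g
  cases : ∀ g ∈ Q, g = 1 ∨ g = z ∨ g * g = z
  conj : ∀ a ∈ Q, ∀ b ∈ Q, b * a * b⁻¹ = a ∨ b * a * b⁻¹ = a⁻¹
  inv : ∀ a ∈ Q, ∀ b ∈ Q, a * a = z → b * b = z → b ≠ a → b ≠ a⁻¹ → b * a * b⁻¹ = a⁻¹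
  ex : ∀ i ∈ Q, ∃ j ∈ Q, j * j = z ∧ j ≠ i ∧ j ≠ i⁻¹
  all : ∀ i ∈ Q, ∀ j ∈ Q, i * i = z → j * j = z → j ≠ i → j ≠ i⁻¹ → ∀ g ∈ Q,
    g = 1 ∨ g = z ∨ g = i ∨ g = i⁻¹ ∨ g = j ∨ g = j⁻¹ ∨ g = i * j ∨ g = (i * j)⁻¹

theorem exists_Q8 {Q : Subgroup G} (e : Q ≃* QuaternionGroup 2) : ∃ z, Q8 Q z := by
  let φ : QuaternionGroup 2 →* G := Q.subtype.comp e.symm.toMonoidHom
  have hφ : Function.Injective φ := Q.subtype_injective.comp e.symm.injective
  have hm : ∀ g ∈ Q, ∃ q, φ q = g := fun g hg => ⟨e ⟨g, hg⟩, by simp [φ]⟩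
  have hm' : ∀ q, φ q ∈ Q := fun q => (e.symm q).2
  refine ⟨φ (.a 2), ?_, hm' _, ?_, ?_, ?_, ?_, ?_, ?_, ?_⟩
  · rw [Nat.card_congr e.toEquiv, Nat.card_eq_fintype_card, QuaternionGroup.card]
  · rw [orderOf_injective φ hφ, ord2_iff]; decide
  · intro g hg
    obtain ⟨g, rfl⟩ := hm g hg
    simp only [← map_mul, hφ.eq_iff]
    clear hg; revert g; decide
  · intro g hg
    obtain ⟨g, rfl⟩ := hm g hg
    rw [← map_one φ]
    simp only [← map_mul, hφ.eq_iff]
    clear hg; revert g; decide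
  · intro a ha b hb
    obtain ⟨a, rfl⟩ := hm a ha
    obtain ⟨b, rfl⟩ := hm b hb
    simp only [← map_mul, ← map_inv, hφ.eq_iff]
    clear ha hb; revert a b; decide
  · intro a ha b hb
    obtain ⟨a, rfl⟩ := hm a ha
    obtain ⟨b, rfl⟩ := hm b hb
    simp only [← map_mul, ← map_inv, hφ.eq_iff, Ne]
    clear ha hb; revert a b; decide
  · intro a ha
    obtain ⟨a, rfl⟩ := hm a ha
    obtain ⟨j, hj⟩ : ∃ j : QuaternionGroup 2, j * j = .a 2 ∧ j ≠ a ∧ j ≠ a⁻¹ := by
      clear ha; revert a; decide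
    refine ⟨φ j, hm' j, ?_⟩
    simpa only [← map_mul, ← map_inv, hφ.eq_iff, Ne] using hj
  · intro a ha b hb h1 h2 h3 h4 g hg
    obtain ⟨a, rfl⟩ := hm a ha
    obtain ⟨b, rfl⟩ := hm b hb
    obtain ⟨g, rfl⟩ := hm g hg
    rw [← map_one φ]
    simp only [← map_mul, ← map_inv, hφ.eq_iff, Ne] at h1 h2 h3 h4 ⊢
    clear ha hb hg; revert a b g; decide

namespace Q8

variable {Q : Subgroup G} {z : G}

theorem isPGroup (h : Q8 Q z) : IsPGroup 2 Q := IsPGroup.of_card (n := 3) h.card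

theorem ord4 (h : Q8 Q z) {i : G} (hi : i * i = z) : orderOf i = 4 := by
  refine orderOf_eq_prime_pow (p := 2) (n := 1) ?_ ?_
  · rw [pow_one, pow_two, hi]; exact ne_one_of_ord2 h.zord
  · rw [show 2 ^ (1 + 1) = 2 * 2 by rfl, pow_mul, pow_two i, hi, pow_two, sq_of_ord2 h.zord]

theorem eq_z (h : Q8 Q z) {t : G} (ht : t ∈ Q) (h2 : orderOf t = 2) : t = z := by
  rcases h.cases t ht with h1 | h1 | h1
  · exact absurd h1 (ne_one_of_ord2 h2)
  · exact h1
  · rw [h.ord4 h1] at h2; omega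

theorem sq_eq (h : Q8 Q z) {t : G} (ht : t ∈ Q) (h4 : orderOf t = 4) : t * t = z := by
  rcases h.cases t ht with h1 | h1 | h1
  · simp [h1] at h4
  · rw [h1, h.zord] at h4; omega
  · exact h1

theorem conj_z (h : Q8 Q z) {n : G} (hn : n ∈ normalizer (Q : Set G)) : n * z * n⁻¹ = z :=
  h.eq_z (conj_mem_of_mem_normalizer hn h.zmem) ((orderOf_conj' n z).trans h.zord)

theorem conj_sq (h : Q8 Q z) {n i : G} (hn : n ∈ normalizer (Q : Set G)) (hi : i * i = z) :
    (n * i * n⁻¹) * (n * i * n⁻¹) = z := by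
  rw [← h.conj_z hn, ← hi]; group

theorem mul_sq (h : Q8 Q z) {i j : G} (hi : i ∈ Q) (hj : j ∈ Q) (h1 : i * i = z) (h2 : j * j = z)
    (h3 : j ≠ i) (h4 : j ≠ i⁻¹) : (i * j) * (i * j) = z := by
  calc (i * j) * (i * j) = i * (j * i * j⁻¹) * (j * j) := by group
    _ = z := by rw [h.inv i hi j hj h1 h2 h3 h4, h2]; group

theorem eq_or_of_mem_zpowers (h : Q8 Q z) {i j : G} (hi : i ∈ Q) (h1 : i * i = z) (h2 : j * j = z)
    (hj : j ∈ zpowers i) : j = i ∨ j = i⁻¹ := by
  by_contra hc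
  push Not at hc
  have h3 := h.inv i hi j (zpowers_le.2 hi hj) h1 h2 hc.1 hc.2
  obtain ⟨k, rfl⟩ := hj
  have h4 : i = i⁻¹ := by rw [← h3]; group
  exact ne_one_of_ord2 h.zord (h1 ▸ mul_eq_one_iff_eq_inv.2 h4)

theorem mem_centralizer (h : Q8 Q z) {i j g : G} (hi : i ∈ Q) (hj : j ∈ Q) (h1 : i * i = z)
    (h2 : j * j = z) (h3 : j ≠ i) (h4 : j ≠ i⁻¹) (e1 : Commute i g) (e2 : Commute j g) :
    g ∈ centralizer (Q : Set G) := by
  intro x hx
  show Commute x g
  rcases h.all i hi j hj h1 h2 h3 h4 x hx with rfl | rfl | rfl | rfl | rfl | rfl | rfl | rfl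
  · simp
  · rw [← h1]; exact e1.mul_left e1
  · exact e1
  · exact e1.inv_left
  · exact e2
  · exact e2.inv_left
  · exact e1.mul_left e2
  · exact (e1.mul_left e2).inv_left

theorem exists_pair (h : Q8 Q z) :
    ∃ i ∈ Q, ∃ j ∈ Q, i * i = z ∧ j * j = z ∧ j ≠ i ∧ j ≠ i⁻¹ := by
  obtain ⟨i, hi, h1, -⟩ := h.ex 1 Q.one_mem
  obtain ⟨j, hj, h2⟩ := h.ex i hi
  exact ⟨i, hi, j, hj, h1, h2⟩

theorem not_comm (h : Q8 Q z) : ¬ IsMulCommutative Q := by
  intro hc
  obtain ⟨i, hi, j, hj, h1, h2, h3, h4⟩ := h.exists_pair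
  have := h.inv i hi j hj h1 h2 h3 h4
  rw [comm_of_mem hc hj hi, mul_inv_cancel_right] at this
  exact ne_one_of_ord2 h.zord (h1 ▸ mul_eq_one_iff_eq_inv.2 this)

/-- an element normalizing two different cyclic subgroups of order 4 acts as an inner automorphism -/
theorem mem_sup_centralizer (h : Q8 Q z) {i j n : G} (hi : i ∈ Q) (hj : j ∈ Q) (h1 : i * i = z)
    (h2 : j * j = z) (h3 : j ≠ i) (h4 : j ≠ i⁻¹) (e1 : n * i * n⁻¹ = i ∨ n * i * n⁻¹ = i⁻¹)
    (e2 : n * j * n⁻¹ = j ∨ n * j * n⁻¹ = j⁻¹) : n ∈ Q ⊔ centralizer (Q : Set G) := by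
  have a1 := h.inv i hi j hj h1 h2 h3 h4
  have a2 := h.inv j hj i hi h2 h1 h3.symm (fun e => h4 (by rw [e, inv_inv]))
  have key : ∀ q ∈ Q, n * i * n⁻¹ = q * i * q⁻¹ → n * j * n⁻¹ = q * j * q⁻¹ →
      n ∈ Q ⊔ centralizer (Q : Set G) := by
    intro q hq b1 b2
    have c : ∀ x, n * x * n⁻¹ = q * x * q⁻¹ → Commute x (q⁻¹ * n) := by
      intro x hx
      show x * (q⁻¹ * n) = q⁻¹ * n * x
      calc x * (q⁻¹ * n) = q⁻¹ * (q * x * q⁻¹) * n := by group
        _ = _ := by rw [← hx]; group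
    have := mul_mem_sup hq (h.mem_centralizer hi hj h1 h2 h3 h4 (c i b1) (c j b2))
    simpa using this
  rcases e1 with e1 | e1 <;> rcases e2 with e2 | e2
  · exact key 1 Q.one_mem (by simpa using e1) (by simpa using e2)
  · exact key i hi (by rw [e1]; group) (by rw [e2, a2])
  · exact key j hj (by rw [e1, a1]) (by rw [e2]; group)
  · refine key (i * j) (Q.mul_mem hi hj) ?_ ?_
    · calc n * i * n⁻¹ = i * (j * i * j⁻¹) * i⁻¹ := by rw [e1, a1]; group
        _ = _ := by group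
    · calc n * j * n⁻¹ = i * j * i⁻¹ := by rw [e2, a2]
        _ = _ := by group

theorem relIndex_dvd_six [Finite G] (h : Q8 Q z) {N : Subgroup G}
    (hN : N ≤ normalizer (Q : Set G)) : (Q ⊔ centralizer (Q : Set G)).relIndex N ∣ 6 := by
  obtain ⟨i, hi, j, hj, h1, h2, h3, h4⟩ := h.exists_pair
  have key : ∀ n ∈ N, ∀ c ∈ Q, c * c = z → cj n (zpowers c) = zpowers i ∨
      cj n (zpowers c) = zpowers j ∨ cj n (zpowers c) = zpowers (i * j) := by
    intro n hn c hc hc1
    rw [cj_zpowers]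
    have h5 := h.ord4 (h.conj_sq (hN hn) hc1)
    rcases h.all i hi j hj h1 h2 h3 h4 _ (conj_mem_of_mem_normalizer (hN hn) hc)
      with e | e | e | e | e | e | e | e
    · simp [e] at h5
    · rw [e, h.zord] at h5; omega
    all_goals simp only [e, zpowers_inv, true_or, or_true]
  have key2 : ∀ n ∈ Q ⊔ centralizer (Q : Set G), ∀ c ∈ Q, cj n (zpowers c) = zpowers c := by
    intro n hn c hc
    obtain ⟨q, hq, d, hd, rfl⟩ := (mem_sup_of_le_normalizer_right
      (le_normalizer.trans (normalizer_le_normalizer_centralizer Q))).1 hn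
    rw [cj_mul, cj_zpowers, ← hd c hc, mul_inv_cancel_right, cj_zpowers]
    rcases h.conj c hc q hq with e | e <;> simp only [e, zpowers_inv]
  refine Inv.relIndex_dvd_six (A₁ := zpowers i) (A₂ := zpowers j) (A₃ := zpowers (i * j)) ?_ ?_
  · rintro n hn A (rfl | rfl | rfl)
    · exact key n hn i hi h1
    · exact key n hn j hj h2
    · exact key n hn _ (Q.mul_mem hi hj) (h.mul_sq hi hj h1 h2 h3 h4)
  · intro n hn
    refine ⟨fun h' => ⟨key2 n h' i hi, key2 n h' j hj, key2 n h' _ (Q.mul_mem hi hj)⟩, ?_⟩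
    rintro ⟨b1, b2, -⟩
    rw [cj_zpowers] at b1 b2
    exact h.mem_sup_centralizer hi hj h1 h2 h3 h4
      (h.eq_or_of_mem_zpowers hi h1 (h.conj_sq (hN hn) h1) (b1 ▸ mem_zpowers _))
      (h.eq_or_of_mem_zpowers hj h2 (h.conj_sq (hN hn) h2) (b2 ▸ mem_zpowers _))

end Q8

/-- an element of odd order in `Q C(Q)` centralizes the `p`-group `Q` -/
theorem mem_centralizer_of_mem_sup [Finite G] {p : ℕ} [Fact p.Prime] {Q : Subgroup G}
    (hQ : IsPGroup p Q) {g : G} (hg : g ∈ Q ⊔ centralizer (Q : Set G))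
    (hc : (orderOf g).Coprime p) : g ∈ centralizer (Q : Set G) := by
  obtain ⟨k, hk⟩ := relIndex_eq_pow_of_isPGroup hQ (centralizer (Q : Set G))
  have h1 := le_normalizer.trans (normalizer_le_normalizer_centralizer Q)
  rw [← relIndex_sup_of_le_normalizer h1] at hk
  exact mem_of_coprime_of_relIndex (sup_le h1 le_normalizer) hk hg hc

theorem nonempty_equiv_cj (g : G) (H : Subgroup G) : Nonempty (H ≃* cj g H) :=
  ⟨H.equivMapOfInjective _ (MulAut.conj g).injective⟩

theorem sylow_equiv_of_isSylowOf [Finite G] {p : ℕ} [Fact p.Prime] {R K : Subgroup G}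
    (h : IsSylowOf p R K) (P : Sylow p K) : Nonempty ((P : Subgroup K) ≃* R) := by
  obtain ⟨k, -, e⟩ := (isSylowOf_map_subtype P).exists_cj_eq h
  obtain ⟨e1⟩ := nonempty_equiv_cj k ((P : Subgroup K).map K.subtype)
  exact ⟨((P : Subgroup K).equivMapOfInjective _ K.subtype_injective).trans
    (e1.trans (MulEquiv.subgroupCongr e))⟩

/-! ### fusion and transfer -/

theorem fusion_principle [Finite G] {p : ℕ} [Fact p.Prime] (P : Sylow p G) {r : G → G → Prop}
    (hr : Equivalence r) (hS : ∀ s ∈ (P : Subgroup G), ∀ a ∈ (P : Subgroup G), r a (s * a * s⁻¹))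
    (hodd : ∀ T : Subgroup G, T ≤ P → (P : Subgroup G) ⊓ centralizer (T : Set G) ≤ T →
      IsSylowOf p ((P : Subgroup G) ⊓ normalizer (T : Set G)) (normalizer (T : Set G)) →
      ∀ g ∈ normalizer (T : Set G), (orderOf g).Coprime p → g ∉ centralizer (T : Set G) →
        ∀ a ∈ T, r a (g * a * g⁻¹))
    {a g : G} (ha : a ∈ (P : Subgroup G)) (hg : g * a * g⁻¹ ∈ (P : Subgroup G)) :
    r a (g * a * g⁻¹) := by
  have main : ∀ (n : ℕ) (B : Subgroup G) (g : G), Nat.card P - Nat.card B = n → B ≤ P →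
      cj g⁻¹ B ≤ P → ∀ a ∈ B, r a (g⁻¹ * a * g) := by
    intro n
    induction n using Nat.strong_induction_on with
    | _ n ih =>
    intro B g hn hB hg
    have loc : ∀ T : Subgroup G, T ≤ P → Nat.card B ≤ Nat.card T →
        IsSylowOf p ((P : Subgroup G) ⊓ normalizer (T : Set G)) (normalizer (T : Set G)) →
        ∀ x ∈ normalizer (T : Set G), ∀ a ∈ T, r a (x⁻¹ * a * x) := by
      intro T hT hc hSy x hx
      by_cases hcen : (P : Subgroup G) ⊓ centralizer (T : Set G) ≤ T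
      · let W : Subgroup G :=
          { carrier := {x | x ∈ normalizer (T : Set G) ∧ ∀ a ∈ T, r a (x * a * x⁻¹)}
            mul_mem' := by
              rintro x y ⟨h1, h2⟩ ⟨h3, h4⟩
              refine ⟨mul_mem h1 h3, fun a ha => hr.trans (h4 a ha) ?_⟩
              have := h2 _ (conj_mem_of_mem_normalizer h3 ha)
              simpa [mul_assoc] using this
            one_mem' := ⟨one_mem _, fun a _ => by simpa using hr.refl a⟩
            inv_mem' := by
              rintro x ⟨h1, h2⟩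
              refine ⟨inv_mem h1, fun a ha => hr.symm ?_⟩
              have := h2 _ (conj_mem_of_mem_normalizer' h1 ha)
              simpa [mul_assoc] using this }
        have hW : normalizer (T : Set G) ≤ W := by
          rw [← hSy.sup_pResOf]
          refine sup_le (fun s hs => ⟨hs.2, fun a ha => hS s hs.1 a (hT ha)⟩)
            (pResOf_le_iff.2 fun y hy hc => ⟨hy, fun a ha => ?_⟩)
          by_cases h : y ∈ centralizer (T : Set G)
          · rw [← h a ha, mul_inv_cancel_right]; exact hr.refl a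
          · exact hodd T hT hcen hSy y hy hc h a ha
        simpa using (hW (inv_mem hx)).2
      · have h1 := hSy.inf_of_le (centralizer_le_normalizer _)
          (inf_le_right.trans (normalizer_le_normalizer_centralizer T))
        rw [inf_assoc, inf_eq_right.2 (centralizer_le_normalizer _)] at h1
        obtain ⟨c, hc', y, hy, rfl⟩ := h1.frattini (normalizer_le_normalizer_centralizer T hx)
        have hyT : y ∈ normalizer (T : Set G) := by
          simpa using mul_mem (inv_mem (centralizer_le_normalizer _ hc')) hx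
        have hlt : T < T ⊔ ((P : Subgroup G) ⊓ centralizer (T : Set G)) :=
          left_lt_sup.2 hcen
        have hle : T ⊔ ((P : Subgroup G) ⊓ centralizer (T : Set G)) ≤ P := sup_le hT inf_le_left
        intro a ha
        have h2 := card_lt_of_lt hlt
        have h3 := card_le_of_le hle
        have := ih _ (by omega) _ y rfl hle (by
          rw [cj_eq_self_iff.2 (inv_mem (mem_normalizer_sup hyT hy))]; exact hle) a (hlt.le ha)
        have e : (c * y)⁻¹ * a * (c * y) = y⁻¹ * a * y := by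
          calc (c * y)⁻¹ * a * (c * y) = y⁻¹ * (c⁻¹ * (a * c)) * y := by group
            _ = _ := by rw [hc' a ha]; group
        rwa [e]
    have hch := alperin_chain P B g hB hg
    clear hB hg hn ih
    induction hch with
    | nil A => intro a _; simpa using hr.refl a
    | cons A Q x g ht hx hA _ ih =>
      intro a ha
      have h1 := loc _ inf_le_left (card_le_of_le hA) ⟨inf_le_right, P.2.to_inf_left, ht.1⟩ x hx a
        (hA ha)
      have h2 := ih (by rw [card_cj]; exact loc) (x⁻¹ * a * x) (by simpa [mul_assoc] using ha)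
      refine hr.trans h1 ?_
      simpa [mul_assoc] using h2
  simpa using main _ (zpowers a) g⁻¹ rfl (zpowers_le.2 ha)
    (by rw [inv_inv, cj_zpowers]; exact zpowers_le.2 hg) a (mem_zpowers a)

theorem equivalence_mul_inv_mem (M : Subgroup G) : Equivalence fun a b : G => b * a⁻¹ ∈ M :=
  ⟨fun a => by simp, fun h => by simpa using M.inv_mem h,
    fun h1 h2 => by simpa [mul_assoc] using M.mul_mem h2 h1⟩

theorem equivalence_fix (Z : G → Prop) : Equivalence fun a b : G => Z a ∨ Z b → a = b := by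
  refine ⟨fun _ _ => rfl, fun h h' => (h h'.symm).symm, fun {a b c} h1 h2 h => ?_⟩
  rcases h with h | h
  · have := h1 (Or.inl h); subst this; exact h2 (Or.inl h)
  · have := h2 (Or.inr h); subst this; exact h1 (Or.inr h)

theorem normal_of_commutator_le {N : Subgroup G} (h : _root_.commutator G ≤ N) : N.Normal :=
  ⟨fun n hn g => by
    have := mul_mem (h (commutator_mem_commutator (mem_top g) (mem_top n))) hn
    simpa [commutatorElement_def] using this⟩

theorem exists_normal_inf_eq [Finite G] {p : ℕ} [Fact p.Prime] (P : Sylow p G) {M : Subgroup G}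
    (hM : M ≤ P) (h : ∀ a ∈ (P : Subgroup G), ∀ g : G, g * a * g⁻¹ ∈ (P : Subgroup G) →
      g * a * g⁻¹ * a⁻¹ ∈ M) :
    ∃ K : Subgroup G, K.Normal ∧ K ⊓ P = M ∧ K.index = M.relIndex P := by
  have h1 : (P : Subgroup G).focalSubgroup ≤ M := by
    rw [focalSubgroup_def, closure_le]
    rintro _ ⟨h1, x, hx, u, rfl⟩
    have h2 : u * x⁻¹ * u⁻¹ ∈ (P : Subgroup G) := by
      have := mul_mem (inv_mem hx) h1
      simpa [commutatorElement_def, mul_assoc] using this
    have h3 := h x hx u (by simpa [mul_assoc] using inv_mem h2)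
    simpa [commutatorElement_def, mul_assoc] using inv_mem h3
  obtain ⟨k, hk⟩ := relIndex_eq_pow_of_isPGroup P.2 ⁅(P : Subgroup G), (P : Subgroup G)⁆
  obtain ⟨h2, h3, -⟩ := focal_kernel (P : Subgroup G) (by
    rw [hk]; exact ((Nat.Prime.coprime_iff_not_dvd Fact.out).2 P.not_dvd_index).symm.pow_right k)
  have h4 : _root_.commutator G ≤ (P : Subgroup G).transferFocal.ker := by
    open scoped IsMulCommutative in exact Abelianization.commutator_subset_ker _
  generalize (P : Subgroup G).transferFocal.ker = N at h2 h3 h4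
  have hN : N.Normal := normal_of_commutator_le h4
  have hK : (M ⊔ N).Normal := normal_of_commutator_le (h4.trans le_sup_right)
  have h5 : (M ⊔ N) ⊓ P = M := by
    rw [sup_inf_of_le_normalizer (fun g _ => mem_normalizer_of_normal N g) hM, h2,
      sup_eq_left.2 h1]
  refine ⟨M ⊔ N, hK, h5, ?_⟩
  have h6 : (P : Subgroup G) ⊔ (M ⊔ N) = ⊤ := by
    rw [eq_top_iff, ← h3]
    exact sup_le (le_sup_right.trans le_sup_right) le_sup_left
  conv_rhs => rw [← h5, inf_relIndex_right, ← relIndex_sup_right, h6, relIndex_top_right]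

/-- a normal subgroup of `p`-power index whose Sylow part lies in `O^p(G)` is `O^p(G)` -/
theorem pResOf_eq_self_of_inf_le [Finite G] {p : ℕ} [Fact p.Prime] (P : Sylow p G)
    {K : Subgroup G} [K.Normal] (hK : ∃ k, K.index = p ^ k) (h : K ⊓ P ≤ pResidual p G) :
    pResOf p K = K := by
  have h1 : pResidual p G ≤ pResOf p K := by
    rw [← pResOf_top, ← pResOf_pResOf]
    exact pResOf_mono (by rw [pResOf_top]; exact pResidual_le_of_index hK)
  have h2 := (isSylowOf_inf_normal P K).sup_pResOf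
  rw [inf_comm, sup_eq_right.2 (h.trans h1)] at h2
  exact h2

theorem commutator_mem_pResidual {p : ℕ} {g : G} (hg : (orderOf g).Coprime p) (a : G) :
    g * a * g⁻¹ * a⁻¹ ∈ pResidual p G := by
  have h1 := mem_pResidual hg
  have h2 := (pResidual_normal (p := p) (G := G)).conj_mem _ (inv_mem h1) a
  simpa [mul_assoc] using mul_mem h1 h2

theorem not_le_of_index_two [Finite G] (P : Sylow 2 G) {H : Subgroup G} (h : H.index = 2) :
    ¬ (P : Subgroup G) ≤ H := fun h1 => P.not_dvd_index (h.symm.dvd.trans (index_dvd_of_le h1))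

/-- subgroups of a 2-group with a cyclic subgroup of index 2 outside which all elements have
order 2 or 4 -/
theorem odd_centralizes_or [Finite G] {S X T : Subgroup G} (hS : IsPGroup 2 S) (hX : IsCyclic X)
    (hidx : X.relIndex S = 2)
    (hout : ∀ w ∈ S, w ∉ X → orderOf w = 2 ∨
      (orderOf w = 4 ∧ ∀ c ∈ X, orderOf c = 4 → w * c * w⁻¹ = c⁻¹))
    (hT : T ≤ S) {g : G} (hg : g ∈ normalizer (T : Set G)) (hodd : Odd (orderOf g)) :
    g ∈ centralizer (T : Set G) ∨ IsKleinFour T ∨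
      ((∃ w ∈ S, w ∉ X ∧ orderOf w = 4) ∧ Nonempty (T ≃* QuaternionGroup 2)) := by
  have hTp := hS.to_le hT
  by_cases h1 : T ≤ X
  · exact Or.inl (mem_centralizer_of_isCyclic hTp (isCyclic_of_le h1) hg hodd)
  obtain ⟨c, hc⟩ := isCyclic_iff_zpowers.1 (isCyclic_of_le (inf_le_right : T ⊓ X ≤ X))
  have hcm : c ∈ T ⊓ X := hc ▸ mem_zpowers c
  have hsup : ∀ w ∈ T, w ∉ X → (∀ a ∈ T ⊓ X, w * a * w⁻¹ ∈ T ⊓ X) ∧ w * w ∈ T ⊓ X ∧
      T = (T ⊓ X) ⊔ zpowers w := by
    intro w hw hwX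
    have a1 : ∀ a ∈ T ⊓ X, w * a * w⁻¹ ∈ T ⊓ X := by
      intro a ha
      refine ⟨T.mul_mem (T.mul_mem hw ha.1) (T.inv_mem hw), mul_mem_of_relIndex_two hidx
        (hT (mul_mem hw ha.1)) (hT (inv_mem hw)) (fun h => hwX ?_) (by simpa using hwX)⟩
      simpa using X.mul_mem h (X.inv_mem ha.2)
    have a2 : w * w ∈ T ⊓ X :=
      ⟨mul_mem hw hw, mul_mem_of_relIndex_two hidx (hT hw) (hT hw) hwX hwX⟩
    refine ⟨a1, a2, le_antisymm (fun t ht => ?_) (sup_le inf_le_left (zpowers_le.2 hw))⟩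
    rw [mem_sup_zpowers_iff a1 a2]
    by_cases h : t ∈ X
    · exact Or.inl ⟨ht, h⟩
    · exact Or.inr ⟨T.mul_mem ht (T.inv_mem hw), mul_mem_of_relIndex_two hidx (hT ht)
        (hT (inv_mem hw)) h (by simpa using hwX)⟩
  by_cases h2 : g * c * g⁻¹ ∈ X
  · left
    have hn : g ∈ normalizer ((T ⊓ X : Subgroup G) : Set G) := by
      apply mem_normalizer_of_cj_le
      conv_lhs => rw [hc, cj_zpowers]
      exact zpowers_le.2 ⟨conj_mem_of_mem_normalizer hg hcm.1, h2⟩
    obtain ⟨w, hw, hwX⟩ := SetLike.not_le_iff_exists.1 h1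
    obtain ⟨a1, a2, a3⟩ := hsup w hw hwX
    refine mem_centralizer_of_relIndex_two (hTp.to_le inf_le_left)
      (relIndex_eq_two_of_card inf_le_left ?_) hg hodd
      (mem_centralizer_of_isCyclic (hTp.to_le inf_le_left)
        (isCyclic_of_le (inf_le_right : T ⊓ X ≤ X)) hn hodd)
    conv_lhs => rw [a3]
    exact card_sup_zpowers a1 a2 fun h => hwX h.2
  · right
    have hw := conj_mem_of_mem_normalizer hg hcm.1
    obtain ⟨a1, a2, a3⟩ := hsup _ hw h2
    have hord := orderOf_conj' g c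
    generalize g * c * g⁻¹ = w at h2 hw a1 a2 a3 hord
    rw [hc] at a1 a2 a3
    rcases hout w (hT hw) h2 with h3 | ⟨h3, h4⟩
    · left
      have hc2 := hord ▸ h3
      rw [a3]
      refine kf_sup hc2 h3 (fun e => h2 (e ▸ hcm.2)) ?_
      rcases (mem_zpowers_ord2 (sq_of_ord2 hc2)).1 (a1 c (mem_zpowers c)) with e | e
      · exact absurd (by simpa using e) (ne_one_of_ord2 hc2)
      · exact (mul_inv_eq_iff_eq_mul.1 e).symm
    · right
      refine ⟨⟨w, hT hw, h2, h3⟩, ?_⟩
      have hc4 := hord ▸ h3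
      rw [a3, ← closure_pair_eq_sup]
      refine quaternion_equiv (n := 2) hc4 ?_ (h4 c hcm.2 hc4) fun e => h2 (zpowers_le.2 hcm.2 e)
      have := (eq_pow_half_of_mem_zpowers (z := w * w) (by
        rw [← pow_two, orderOf_pow, h3]; rfl) a2).2
      rwa [hc4] at this

end Cfsg.Agent.Inv
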