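import Cfsg.Agent.Inv.Basic

/-! Counting arguments with involutions: Brauer-Fowler, Thompson order formula. -/

set_option autoImplicit false
set_option linter.unusedVariables false
set_option linter.unusedSectionVars false

namespace Cfsg.Agent.Inv

open Finset

variable {G : Type*} [Group G]

theorem card_subtype_eq_filter {α : Type*} [Fintype α] (p : α → Prop) [DecidablePred p] :
    Nat.card {x // p x} = (univ.filter p).card :=
  Nat.subtype_card _ (by simp)

theorem card_subgroup_eq_filter [Fintype G] (H : Subgroup G) [DecidablePred (· ∈ H)] :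
    Nat.card H = (univ.filter (· ∈ H)).card :=
  Nat.subtype_card _ (by simp)

theorem card_class_eq_index (x : G) :
    Nat.card {g : G // IsConj x g} = (Subgroup.centralizer ({x} : Set G)).index := by
  rw [Subgroup.index_eq_card]
  symm
  refine Nat.card_congr (Equiv.ofBijective
    (Quotient.lift (fun g : G => (⟨g * x * g⁻¹, isConj_conj g x⟩ : {g : G // IsConj x g})) ?_)
    ⟨?_, ?_⟩)
  · intro a b hab
    have h : a⁻¹ * b ∈ Subgroup.centralizer ({x} : Set G) := QuotientGroup.leftRel_apply.1 hab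
    rw [Subgroup.mem_centralizer_singleton_iff] at h
    apply Subtype.ext
    show a * x * a⁻¹ = b * x * b⁻¹
    calc a * x * a⁻¹ = a * (x * (a⁻¹ * b)) * b⁻¹ := by group
      _ = _ := by rw [← h]; group
  · intro a b
    induction a using Quotient.inductionOn with | _ a =>
    induction b using Quotient.inductionOn with | _ b =>
    intro h
    have h' : a * x * a⁻¹ = b * x * b⁻¹ := congrArg Subtype.val h
    apply Quotient.sound
    apply QuotientGroup.leftRel_apply.2
    rw [Subgroup.mem_centralizer_singleton_iff]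
    calc a⁻¹ * b * x = a⁻¹ * (b * x * b⁻¹) * b := by group
      _ = _ := by rw [← h']; group
  · rintro ⟨g, hg⟩
    obtain ⟨c, rfl⟩ := isConj_iff.1 hg
    exact ⟨Quotient.mk _ c, rfl⟩

theorem card_centralizer_mul_card_class (x : G) :
    Nat.card (Subgroup.centralizer ({x} : Set G)) * Nat.card {g : G // IsConj x g} = Nat.card G := by
  rw [card_class_eq_index, Subgroup.card_mul_index]

theorem centralizer_conj (g x : G) : Subgroup.centralizer ({g * x * g⁻¹} : Set G) =
    (Subgroup.centralizer ({x} : Set G)).map (MulAut.conj g).toMonoidHom := by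
  ext y
  simp only [Subgroup.mem_centralizer_singleton_iff, Subgroup.mem_map]
  constructor
  · intro h
    refine ⟨g⁻¹ * y * g, ?_, by simp [mul_assoc]⟩
    calc g⁻¹ * y * g * x = g⁻¹ * (y * (g * x * g⁻¹)) * g := by group
      _ = _ := by rw [h]; group
  · rintro ⟨z, hz, rfl⟩
    simp only [MulEquiv.toMonoidHom_eq_coe, MonoidHom.coe_coe, MulAut.conj_apply]
    calc g * z * g⁻¹ * (g * x * g⁻¹) = g * (z * x) * g⁻¹ := by group
      _ = _ := by rw [hz]; group

theorem card_map_conj (H : Subgroup G) (g : G) :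
    Nat.card (H.map (MulAut.conj g).toMonoidHom) = Nat.card H :=
  Subgroup.card_map_of_injective (MulAut.conj g).injective

theorem card_centralizer_of_isConj {x y : G} (h : IsConj x y) :
    Nat.card (Subgroup.centralizer ({x} : Set G)) = Nat.card (Subgroup.centralizer ({y} : Set G)) := by
  obtain ⟨c, rfl⟩ := isConj_iff.1 h
  rw [centralizer_conj, card_map_conj]

theorem s0226 {G : Type*} [Group G] [Finite G] (heven : Even (Nat.card G)) : Odd (Nat.card {t : G // orderOf t = 2}) := by
  classical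
  have := Fintype.ofFinite G
  have h := Equiv.Perm.card_fixedPoints_modEq (f := (fun x : G => x⁻¹ : Function.End G))
    (p := 2) (n := 1) (by funext x; exact inv_inv x)
  have h2 : Fintype.card (Function.fixedPoints (fun x : G => x⁻¹ : Function.End G)) =
      Nat.card {t : G // orderOf t = 2} + 1 := by
    rw [card_subtype_eq_filter, Fintype.card_subtype]
    rw [← Finset.card_insert_of_notMem (a := (1 : G)) (by simp)]
    congr 1
    ext x
    simp only [Function.mem_fixedPoints_iff, mem_filter, mem_univ, true_and, mem_insert, ord2_iff]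
    constructor
    · intro h
      by_cases hx : x = 1
      · exact Or.inl hx
      · exact Or.inr ⟨by nth_rewrite 1 [← h]; simp, hx⟩
    · rintro (rfl | ⟨h, -⟩)
      · simp
      · exact inv_eq_of_mul_eq_one_right h
  rw [h2, ← Nat.card_eq_fintype_card] at h
  obtain ⟨m, hm⟩ := heven
  rw [Nat.odd_iff]
  unfold Nat.ModEq at h
  omega

theorem exists_involution [Finite G] (heven : Even (Nat.card G)) : ∃ t : G, orderOf t = 2 :=
  exists_prime_orderOf_dvd_card' 2 heven.two_dvd

theorem exists_involution_mem [Finite G] {H : Subgroup G} (heven : Even (Nat.card H)) :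
    ∃ t ∈ H, orderOf t = 2 := by
  obtain ⟨t, ht⟩ := exists_involution heven
  exact ⟨t, t.2, by rw [Subgroup.orderOf_coe, ht]⟩

theorem even_card_of_mem {H : Subgroup G} {t : G} (ht : orderOf t = 2) (h : t ∈ H) :
    Even (Nat.card H) := by
  have := Subgroup.orderOf_dvd_natCard H h
  rw [ht] at this
  exact even_iff_two_dvd.2 this

theorem odd_card_iff [Finite G] {H : Subgroup G} :
    Odd (Nat.card H) ↔ ∀ t ∈ H, orderOf t ≠ 2 := by
  rw [← Nat.not_even_iff_odd]
  constructor
  · intro h t ht h2; exact h (even_card_of_mem h2 ht)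
  · intro h he
    obtain ⟨t, ht, h2⟩ := exists_involution_mem he
    exact h t ht h2

theorem odd_orderOf_of_mem {H : Subgroup G} (hH : Odd (Nat.card H)) {x : G} (hx : x ∈ H) :
    Odd (orderOf x) := Odd.of_dvd_nat hH (Subgroup.orderOf_dvd_natCard H hx)

theorem s0235 {G : Type*} [Group G] [Finite G] (x : G) (hx : x ^ 2 ≠ 1) : Nat.card {p : G × G // orderOf p.1 = 2 ∧ orderOf p.2 = 2 ∧ p.1 * p.2 = x} = Nat.card {t : G // orderOf t = 2 ∧ t * x * t⁻¹ = x⁻¹} := by
  refine Nat.card_congr ⟨fun p => ⟨p.1.1, p.2.1, ?_⟩, fun t => ⟨(t.1, t.1 * x), t.2.1, ?_, ?_⟩, ?_, ?_⟩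
  · have h := inverts_left (sq_of_ord2 p.2.1) (sq_of_ord2 p.2.2.1)
    rwa [p.2.2.2] at h
  · refine ord2_iff.2 ⟨?_, ?_⟩
    · have := t.2.2
      rw [inv_of_ord2 t.2.1] at this
      show t.1 * x * (t.1 * x) = 1
      rw [← mul_assoc, this, inv_mul_cancel]
    · intro h
      apply hx
      have : x = t.1 := by
        rw [← inv_of_ord2 t.2.1]; exact eq_inv_of_mul_eq_one_right h
      rw [this, pow_two, sq_of_ord2 t.2.1]
  · exact mul_mul_of_ord2 t.2.1 x
  · rintro ⟨⟨u, v⟩, hu, hv, rfl⟩
    simp only [Subtype.mk.injEq, Prod.mk.injEq, true_and]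
    exact mul_mul_of_ord2 hu v
  · intro t; rfl

theorem s0236 {G : Type*} [Group G] [Finite G] (x : G) (hx : orderOf x = 2) : Nat.card {p : G × G // orderOf p.1 = 2 ∧ orderOf p.2 = 2 ∧ p.1 * p.2 = x} + 1 = Nat.card {t : G // orderOf t = 2 ∧ Commute t x} := by
  classical
  have := Fintype.ofFinite G
  have h1 : Nat.card {p : G × G // orderOf p.1 = 2 ∧ orderOf p.2 = 2 ∧ p.1 * p.2 = x} =
      Nat.card {t : G // (orderOf t = 2 ∧ Commute t x) ∧ t ≠ x} := by
    refine Nat.card_congr ⟨fun p => ⟨p.1.1, ⟨p.2.1, ?_⟩, ?_⟩,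
      fun t => ⟨(t.1, t.1 * x), t.2.1.1, ?_, ?_⟩, ?_, ?_⟩
    · have h := inverts_left (sq_of_ord2 p.2.1) (sq_of_ord2 p.2.2.1)
      rw [p.2.2.2] at h
      exact (commute_of_inverts h (sq_of_ord2 hx)).symm
    · intro h
      have h2 := p.2.2.2.trans h.symm
      exact ne_one_of_ord2 p.2.2.1 (by simpa using h2)
    · refine ord2_iff.2 ⟨?_, ?_⟩
      · show t.1 * x * (t.1 * x) = 1
        rw [mul_assoc, ← mul_assoc x, ← t.2.1.2.eq, mul_assoc, sq_of_ord2 hx, mul_one,
          sq_of_ord2 t.2.1.1]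
      · intro h
        apply t.2.2
        exact (eq_inv_of_mul_eq_one_left h).trans (inv_of_ord2 hx)
    · exact mul_mul_of_ord2 t.2.1.1 x
    · rintro ⟨⟨u, v⟩, hu, hv, rfl⟩
      simp only [Subtype.mk.injEq, Prod.mk.injEq, true_and]
      exact mul_mul_of_ord2 hu v
    · intro t; rfl
  rw [h1, card_subtype_eq_filter, card_subtype_eq_filter,
    ← Finset.card_insert_of_notMem (a := x) (by simp)]
  congr 1
  ext t
  simp only [mem_insert, mem_filter, mem_univ, true_and]
  constructor
  · rintro (rfl | h)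
    · exact ⟨hx, Commute.refl _⟩
    · exact h.1
  · intro h
    by_cases ht : t = x
    · exact Or.inl ht
    · exact Or.inr ⟨h, ht⟩

theorem card_conjugators {x y : G} (h : IsConj x y) :
    Nat.card {g : G // g * x * g⁻¹ = y} = Nat.card (Subgroup.centralizer ({x} : Set G)) := by
  obtain ⟨c, hc⟩ := isConj_iff.1 h
  refine Nat.card_congr ⟨fun g => ⟨c⁻¹ * g.1, ?_⟩, fun z => ⟨c * z.1, ?_⟩, ?_, ?_⟩
  · rw [Subgroup.mem_centralizer_singleton_iff]
    calc c⁻¹ * g.1 * x = c⁻¹ * (g.1 * x * g.1⁻¹) * g.1 := by group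
      _ = _ := by rw [g.2.trans hc.symm]; group
  · have := Subgroup.mem_centralizer_singleton_iff.1 z.2
    calc c * z.1 * x * (c * z.1)⁻¹ = c * (z.1 * x) * z.1⁻¹ * c⁻¹ := by group
      _ = _ := by rw [this, ← hc]; group
  · intro g; simp
  · intro g; simp

theorem s0237 {G : Type*} [Group G] [Finite G] (x : G) (hreal : IsConj x x⁻¹) : Nat.card {g : G // g * x * g⁻¹ = x⁻¹} = Nat.card (Subgroup.centralizer ({x} : Set G)) :=
  card_conjugators hreal

theorem s0238 {G : Type*} [Group G] [Finite G] (x : G) : Nat.card {p : G × G // orderOf p.1 = 2 ∧ orderOf p.2 = 2 ∧ p.1 * p.2 = x} ≤ Nat.card (Subgroup.centralizer ({x} : Set G)) ∧ (¬ IsConj x x⁻¹ → Nat.card {p : G × G // orderOf p.1 = 2 ∧ orderOf p.2 = 2 ∧ p.1 * p.2 = x} = 0) ∧ (orderOf x = 2 → Nat.card {p : G × G // orderOf p.1 = 2 ∧ orderOf p.2 = 2 ∧ p.1 * p.2 = x} + 2 ≤ Nat.card (Subgroup.centralizer ({x} : Set G))) := by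
  classical
  have key : ∀ p : {p : G × G // orderOf p.1 = 2 ∧ orderOf p.2 = 2 ∧ p.1 * p.2 = x},
      p.1.1 * x * p.1.1⁻¹ = x⁻¹ := by
    intro p
    have h := inverts_left (sq_of_ord2 p.2.1) (sq_of_ord2 p.2.2.1)
    rwa [p.2.2.2] at h
  have h0 : ¬ IsConj x x⁻¹ →
      Nat.card {p : G × G // orderOf p.1 = 2 ∧ orderOf p.2 = 2 ∧ p.1 * p.2 = x} = 0 := by
    intro h
    rw [Nat.card_eq_zero]
    left
    exact ⟨fun p => h (isConj_iff.2 ⟨_, key p⟩)⟩
  refine ⟨?_, h0, ?_⟩
  · by_cases h : IsConj x x⁻¹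
    · rw [← card_conjugators h]
      refine Nat.card_le_card_of_injective (fun p => ⟨p.1.1, key p⟩) ?_
      rintro ⟨⟨u, v⟩, hu, hv, h1⟩ ⟨⟨u', v'⟩, hu', hv', h2⟩ h
      simp only [Subtype.mk.injEq] at h
      subst h
      simp only [Subtype.mk.injEq, Prod.mk.injEq, true_and]
      exact mul_left_cancel (h1.trans h2.symm)
    · rw [h0 h]; exact Nat.zero_le _
  · intro hx
    have := Fintype.ofFinite G
    have h1 := s0236 x hx
    have h2 : Nat.card {t : G // orderOf t = 2 ∧ Commute t x} + 1 ≤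
        Nat.card (Subgroup.centralizer ({x} : Set G)) := by
      rw [card_subtype_eq_filter, card_subgroup_eq_filter,
        ← Finset.card_insert_of_notMem (a := (1 : G)) (by simp)]
      apply Finset.card_le_card
      intro t
      simp only [mem_insert, mem_filter, mem_univ, true_and,
        Subgroup.mem_centralizer_singleton_iff]
      rintro (rfl | h)
      · simp
      · exact h.2
    omega

theorem commute_of_sq_commute_of_odd {g x : G} (hg : Odd (orderOf g)) (h : Commute (g * g) x) :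
    Commute g x := by
  obtain ⟨m, hm⟩ := hg
  have : g = (g * g) ^ (m + 1) := by
    rw [← pow_two, ← pow_mul, show 2 * (m + 1) = (2 * m + 1) + 1 by ring, ← hm, pow_succ,
      pow_orderOf_eq_one, one_mul]
  rw [this]
  exact h.pow_left _

theorem commute_sq_of_inverts {g x : G} (h : g * x * g⁻¹ = x⁻¹) : Commute (g * g) x := by
  show g * g * x = x * (g * g)
  calc g * g * x = g * (g * x * g⁻¹) * g := by group
    _ = g * x⁻¹ * g := by rw [h]
    _ = (g * x * g⁻¹)⁻¹ * (g * g) := by group
    _ = _ := by rw [h, inv_inv]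

theorem eq_one_of_odd_of_sq {x : G} (hx : Odd (orderOf x)) (h : x * x = 1) : x = 1 := by
  by_contra h1
  rw [ord2_iff.2 ⟨h, h1⟩] at hx
  exact absurd hx (by decide)

theorem s0239 {G : Type*} [Group G] [Finite G] (x : G) (hx : x ≠ 1) (hreal : IsConj x x⁻¹) : Even (Nat.card G) := by
  by_contra h
  rw [Nat.not_even_iff_odd] at h
  obtain ⟨g, hg⟩ := isConj_iff.1 hreal
  have hc := commute_of_sq_commute_of_odd (Odd.of_dvd_nat h (orderOf_dvd_natCard g))
    (commute_sq_of_inverts hg)
  rw [hc.eq, mul_inv_cancel_right] at hg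
  exact hx (eq_one_of_odd_of_sq (Odd.of_dvd_nat h (orderOf_dvd_natCard x))
    (mul_eq_one_iff_eq_inv.2 hg))

theorem s0240 {G : Type*} [Group G] [Finite G] (H : Subgroup G) (hH : Nat.card G < Nat.card H * (Nat.card {t : G // orderOf t = 2} + 1)) : ∃ h : G, h ∈ H ∧ h ≠ 1 ∧ ∃ t : G, orderOf t = 2 ∧ t * h * t⁻¹ = h⁻¹ := by
  classical
  by_contra hcon
  push Not at hcon
  have h1 : Nat.card (G ⧸ H) < Nat.card (Option {t : G // orderOf t = 2}) := by
    rw [Finite.card_option, ← Subgroup.index_eq_card]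
    rw [← Subgroup.card_mul_index H] at hH
    exact lt_of_mul_lt_mul_left hH (Nat.zero_le _)
  have key : ∀ t : G, orderOf t = 2 → t ∉ H := by
    intro t ht h
    exact hcon t h (ne_one_of_ord2 ht) t ht (by simp [inv_of_ord2 ht, sq_of_ord2 ht])
  refine absurd (Nat.card_le_card_of_injective
    (fun o : Option {t : G // orderOf t = 2} => (o.elim (QuotientGroup.mk 1)
      (fun t => QuotientGroup.mk t.1) : G ⧸ H)) ?_) (not_le.2 h1)
  rintro (_ | u) (_ | v) h
  · rfl
  · exact absurd (by simpa using QuotientGroup.eq.1 h) (key _ v.2)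
  · exact absurd (by simpa using QuotientGroup.eq.1 h.symm) (key _ u.2)
  · have h' : u.1⁻¹ * v.1 ∈ H := QuotientGroup.eq.1 h
    by_contra hne
    rw [inv_of_ord2 u.2] at h'
    refine hcon _ h' ?_ u.1 u.2 (inverts_left (sq_of_ord2 u.2) (sq_of_ord2 v.2))
    intro h1
    apply hne
    congr 1
    apply Subtype.ext
    rw [← inv_of_ord2 v.2]; exact eq_inv_of_mul_eq_one_left h1

theorem conj_pow_of_inverts {g x : G} (h : g * x * g⁻¹ = x⁻¹) {m : ℕ} (hm : Odd m) :
    g ^ m * x * (g ^ m)⁻¹ = x⁻¹ := by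
  obtain ⟨k, rfl⟩ := hm
  have hc : Commute ((g * g) ^ k) x := (commute_sq_of_inverts h).pow_left k
  rw [pow_succ', pow_mul, pow_two, mul_assoc g, hc.eq, ← h]
  group

theorem s0241 {G : Type*} [Group G] [Finite G] (x : G) (hx : x ≠ 1) (hreal : IsConj x x⁻¹) (hodd : Odd (Nat.card (Subgroup.centralizer ({x} : Set G)))) : ∃ t : G, orderOf t = 2 ∧ t * x * t⁻¹ = x⁻¹ := by
  obtain ⟨g, hg⟩ := isConj_iff.1 hreal
  have h1 : Odd (orderOf (g * g)) := odd_orderOf_of_mem hodd
    (Subgroup.mem_centralizer_singleton_iff.2 (commute_sq_of_inverts hg))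
  have h2 := conj_pow_of_inverts hg h1
  refine ⟨_, ord2_iff.2 ⟨?_, ?_⟩, h2⟩
  · rw [← (Commute.refl g).mul_pow, pow_orderOf_eq_one]
  · intro h
    rw [h] at h2
    apply hx
    refine eq_one_of_odd_of_sq (odd_orderOf_of_mem hodd
      (Subgroup.mem_centralizer_singleton_iff.2 rfl)) ?_
    exact mul_eq_one_iff_eq_inv.2 (by simpa using h2)

theorem eq_pow_half_of_mem_zpowers [Finite G] {a z : G} (hz : orderOf z = 2)
    (h : z ∈ Subgroup.zpowers a) : Even (orderOf a) ∧ z = a ^ (orderOf a / 2) := by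
  have he : Even (orderOf a) := by
    have := orderOf_dvd_of_mem_zpowers h
    rw [hz] at this
    exact even_iff_two_dvd.2 this
  refine ⟨he, ?_⟩
  obtain ⟨k, rfl⟩ := h
  obtain ⟨m, hm⟩ := he
  have hm2 : orderOf a / 2 = m := by omega
  have h1 : a ^ (k + k) = 1 := by rw [zpow_add]; exact sq_of_ord2 hz
  have h2 : a ^ k ≠ 1 := ne_one_of_ord2 hz
  rw [← orderOf_dvd_iff_zpow_eq_one, hm] at h1
  rw [Ne, ← orderOf_dvd_iff_zpow_eq_one, hm] at h2
  obtain ⟨c, hc⟩ := h1
  show a ^ k = _
  rw [hm2, ← zpow_natCast, zpow_eq_zpow_iff_modEq, hm]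
  push_cast at hc h2 ⊢
  have hk : k = m * c := by linarith
  rcases Int.even_or_odd' c with ⟨d, rfl | rfl⟩
  · exact absurd ⟨d, by rw [hk]; ring⟩ h2
  · exact Int.modEq_iff_dvd.2 ⟨-d, by rw [hk]; ring⟩

theorem s0213 {G : Type*} [Group G] [Finite G] (x₁ x₂ : G) (h₁ : orderOf x₁ = 2) (h₂ : orderOf x₂ = 2) (hnc : ¬ IsConj x₁ x₂) (hall : ∀ t : G, orderOf t = 2 → IsConj x₁ t ∨ IsConj x₂ t) : Nat.card G = Nat.card (Subgroup.centralizer ({x₂} : Set G)) * Nat.card {p : G × G // IsConj x₁ p.1 ∧ IsConj x₂ p.2 ∧ x₁ ∈ Subgroup.zpowers (p.1 * p.2)} + Nat.card (Subgroup.centralizer ({x₁} : Set G)) * Nat.card {p : G × G // IsConj x₁ p.1 ∧ IsConj x₂ p.2 ∧ x₂ ∈ Subgroup.zpowers (p.1 * p.2)} := by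
  classical
  have := Fintype.ofFinite G
  set n : G → ℕ := fun z =>
    Nat.card {p : G × G // IsConj x₁ p.1 ∧ IsConj x₂ p.2 ∧ z ∈ Subgroup.zpowers (p.1 * p.2)}
    with hn
  have hinv : ∀ z w : G, IsConj z w → n z = n w := by
    have aux : ∀ z g : G, n z ≤ n (g * z * g⁻¹) := by
      intro z g
      refine Nat.card_le_card_of_injective (fun p => ⟨(g * p.1.1 * g⁻¹, g * p.1.2 * g⁻¹),
        p.2.1.trans (isConj_conj _ _), p.2.2.1.trans (isConj_conj _ _), ?_⟩) ?_
      · obtain ⟨⟨u, v⟩, -, -, k, hk⟩ := p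
        refine ⟨k, ?_⟩
        simp only [] at hk ⊢
        rw [← hk, ← conj_zpow]; congr 1; group
      · rintro ⟨⟨u, v⟩, h1⟩ ⟨⟨u', v'⟩, h2⟩ h
        simpa using h
    intro z w h
    obtain ⟨c, rfl⟩ := isConj_iff.1 h
    refine le_antisymm (aux _ _) ?_
    have := aux (c * z * c⁻¹) c⁻¹
    simpa [mul_assoc] using this
  have heven : ∀ u v : G, IsConj x₁ u → IsConj x₂ v → Even (orderOf (u * v)) := by
    intro u v hu hv
    by_contra h
    rw [Nat.not_even_iff_odd] at h
    have := isConj_of_odd (sq_of_ord2 (orderOf_isConj hu ▸ h₁))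
      (sq_of_ord2 (orderOf_isConj hv ▸ h₂)) h
    exact hnc (hu.trans (this.trans hv.symm))
  set A := univ.filter (fun g : G => IsConj x₁ g) with hA
  set B := univ.filter (fun g : G => IsConj x₂ g) with hB
  have hcount : (A ×ˢ B).card = ∑ z ∈ A ∪ B, n z := by
    rw [Finset.card_eq_sum_card_fiberwise
      (f := fun p : G × G => (p.1 * p.2) ^ (orderOf (p.1 * p.2) / 2)) (t := A ∪ B)]
    · apply Finset.sum_congr rfl
      intro z hz
      have hz2 : orderOf z = 2 := by
        simp only [hA, hB, mem_union, mem_filter, mem_univ, true_and] at hz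
        rcases hz with hz | hz
        · exact orderOf_isConj hz ▸ h₁
        · exact orderOf_isConj hz ▸ h₂
      simp only [hn]
      rw [card_subtype_eq_filter]
      congr 1
      ext p
      simp only [hA, hB, mem_filter, mem_product, mem_univ, true_and, and_assoc]
      refine and_congr_right fun hu => and_congr_right fun hv => ⟨?_, ?_⟩
      · rintro rfl; exact Subgroup.npow_mem_zpowers _ _
      · intro h; exact (eq_pow_half_of_mem_zpowers hz2 h).2.symm
    · rintro ⟨u, v⟩ hp
      simp only [hA, hB, coe_product, coe_filter, mem_univ, true_and, Set.mem_prod,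
        Set.mem_setOf_eq, coe_union, Set.mem_union] at hp ⊢
      exact hall _ (orderOf_pow_half (heven u v hp.1 hp.2))
  have hdisj : Disjoint A B := by
    rw [Finset.disjoint_left]
    intro z h1 h2
    simp only [hA, hB, mem_filter, mem_univ, true_and] at h1 h2
    exact hnc (h1.trans h2.symm)
  rw [Finset.sum_union hdisj, Finset.card_product,
    Finset.sum_congr rfl (g := fun _ => n x₁)
      (fun z hz => (hinv _ _ (by simpa [hA] using hz)).symm),
    Finset.sum_congr rfl (s₁ := B) (g := fun _ => n x₂)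
      (fun z hz => (hinv _ _ (by simpa [hB] using hz)).symm)] at hcount
  simp only [sum_const, smul_eq_mul] at hcount
  have e1 := card_centralizer_mul_card_class x₁
  have e2 := card_centralizer_mul_card_class x₂
  rw [card_subtype_eq_filter (fun g => IsConj x₁ g), ← hA] at e1
  rw [card_subtype_eq_filter (fun g => IsConj x₂ g), ← hB] at e2
  have hpos : 0 < Nat.card G := Nat.card_pos
  show Nat.card G = _ * n x₁ + _ * n x₂
  set c1 := Nat.card (Subgroup.centralizer ({x₁} : Set G))
  set c2 := Nat.card (Subgroup.centralizer ({x₂} : Set G))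
  apply Nat.eq_of_mul_eq_mul_left hpos
  calc Nat.card G * Nat.card G = (c1 * A.card) * (c2 * B.card) := by rw [e1, e2]
    _ = c1 * c2 * (A.card * B.card) := by ring
    _ = (c1 * A.card) * (c2 * n x₁) + (c2 * B.card) * (c1 * n x₂) := by rw [hcount]; ring
    _ = _ := by rw [e1, e2]; ring

theorem s0230 {G : Type*} [Group G] [Finite G] (s t : G) (hs : orderOf s = 2) (ht : orderOf t = 2) (hnc : ¬ IsConj s t) (hmax : ∀ u : G, orderOf u = 2 → Nat.card (Subgroup.centralizer ({u} : Set G)) ≤ Nat.card (Subgroup.centralizer ({t} : Set G))) : Nat.card G < Nat.card (Subgroup.centralizer ({t} : Set G)) ^ 3 := by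
  classical
  have := Fintype.ofFinite G
  set m := Nat.card (Subgroup.centralizer ({t} : Set G)) with hm
  have hmpos : 0 < m := Nat.card_pos
  set A := univ.filter (fun g : G => IsConj s g) with hA
  have heven : ∀ u ∈ A, Even (orderOf (u * t)) := by
    intro u hu
    simp only [hA, mem_filter, mem_univ, true_and] at hu
    by_contra h
    rw [Nat.not_even_iff_odd] at h
    exact hnc (hu.trans (isConj_of_odd (sq_of_ord2 (orderOf_isConj hu ▸ hs)) (sq_of_ord2 ht) h))
  have hord : ∀ u ∈ A, orderOf u = 2 := by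
    intro u hu
    simp only [hA, mem_filter, mem_univ, true_and] at hu
    exact orderOf_isConj hu ▸ hs
  have h1 : A.card ≤ m * (A.image (fun u => (u * t) ^ (orderOf (u * t) / 2))).card := by
    apply Finset.card_le_mul_card_image
    intro z hz
    obtain ⟨u, hu, rfl⟩ := Finset.mem_image.1 hz
    refine le_trans ?_ (hmax _ (orderOf_pow_half (heven u hu)))
    rw [card_subgroup_eq_filter]
    apply Finset.card_le_card
    intro v hv
    simp only [mem_filter, mem_univ, true_and, Subgroup.mem_centralizer_singleton_iff] at hv ⊢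
    rw [← hv.2]
    exact (s0209 v t (hord v hv.1) ht (heven v hv.1)).2.1.symm
  have h2 : (A.image (fun u => (u * t) ^ (orderOf (u * t) / 2))).card < m := by
    rw [hm, card_subgroup_eq_filter]
    apply Finset.card_lt_card
    rw [Finset.ssubset_iff_of_subset]
    · refine ⟨1, by simp, ?_⟩
      intro h
      obtain ⟨u, hu, h⟩ := Finset.mem_image.1 h
      exact ne_one_of_ord2 (orderOf_pow_half (heven u hu)) h
    · intro z hz
      obtain ⟨u, hu, rfl⟩ := Finset.mem_image.1 hz
      simp only [mem_filter, mem_univ, true_and, Subgroup.mem_centralizer_singleton_iff]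
      exact (s0209 u t (hord u hu) ht (heven u hu)).2.2
  have e1 := card_centralizer_mul_card_class s
  rw [card_subtype_eq_filter (fun g => IsConj s g), ← hA] at e1
  have h3 := hmax s hs
  calc Nat.card G = _ := e1.symm
    _ ≤ m * (m * (A.image (fun u => (u * t) ^ (orderOf (u * t) / 2))).card) :=
      Nat.mul_le_mul h3 h1
    _ < m * (m * m) := by gcongr
    _ = m ^ 3 := by ring

/-- The extended centralizer of `x`. -/
theorem exists_ext_centralizer [Finite G] {x g : G} (hg : g * x * g⁻¹ = x⁻¹) (hx : x * x ≠ 1) :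
    ∃ K : Subgroup G, 2 * K.index = (Subgroup.centralizer ({x} : Set G)).index := by
  set C := Subgroup.centralizer ({x} : Set G) with hC
  have hn : ∀ a ∈ C, g * a * g⁻¹ ∈ C := by
    intro a ha
    rw [hC, Subgroup.mem_centralizer_singleton_iff] at ha ⊢
    have hc : Commute a x := ha
    have h1 : x = g * x⁻¹ * g⁻¹ := by
      calc x = (g * x * g⁻¹)⁻¹ := by rw [hg, inv_inv]
        _ = _ := by group
    have h2 := hc.inv_right.eq
    calc g * a * g⁻¹ * x = g * a * g⁻¹ * (g * x⁻¹ * g⁻¹) := by rw [← h1]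
      _ = g * (a * x⁻¹) * g⁻¹ := by group
      _ = (g * x⁻¹ * g⁻¹) * (g * a * g⁻¹) := by rw [h2]; group
      _ = _ := by rw [← h1]
  have h2 : g * g ∈ C := Subgroup.mem_centralizer_singleton_iff.2 (commute_sq_of_inverts hg)
  have h3 : g ∉ C := by
    intro h
    rw [hC, Subgroup.mem_centralizer_singleton_iff] at h
    rw [h, mul_inv_cancel_right] at hg
    exact hx (mul_eq_one_iff_eq_inv.2 hg)
  refine ⟨C ⊔ Subgroup.zpowers g, ?_⟩
  have h4 := card_sup_zpowers hn h2 h3
  have h5 := Subgroup.card_mul_index C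
  have h6 := Subgroup.card_mul_index (C ⊔ Subgroup.zpowers g)
  have hpos : 0 < Nat.card C := Nat.card_pos
  apply Nat.eq_of_mul_eq_mul_left hpos
  rw [h5, ← h6, h4]; ring

theorem s0233 {G : Type*} [Group G] [Finite G] (heven : Even (Nat.card G)) (hZ : Odd (Nat.card (Subgroup.center G))) : ∃ H : Subgroup G, H ≠ ⊤ ∧ (H.index = 2 ∨ 2 * H.index * (Nat.card {t : G // orderOf t = 2}) ^ 2 < Nat.card G * (Nat.card G + Nat.card {t : G // orderOf t = 2})) := by
  classical
  have := Fintype.ofFinite G
  obtain ⟨t0, ht0⟩ := exists_involution heven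
  have hbot : (⊥ : Subgroup G) ≠ ⊤ := by
    intro h
    have : t0 ∈ (⊥ : Subgroup G) := h ▸ Subgroup.mem_top t0
    exact ne_one_of_ord2 ht0 (Subgroup.mem_bot.1 this)
  obtain ⟨H, hH, hmin⟩ := Set.exists_min_image {H : Subgroup G | H ≠ ⊤} Subgroup.index
    (Set.toFinite _) ⟨⊥, hbot⟩
  by_cases h2 : ∃ K : Subgroup G, K.index = 2
  · obtain ⟨K, hK⟩ := h2
    refine ⟨K, ?_, Or.inl hK⟩
    rintro rfl
    simp at hK
  push Not at h2
  refine ⟨H, hH, Or.inr ?_⟩
  set j := H.index with hj
  set c : G → ℕ := fun x =>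
    Nat.card {p : G × G // orderOf p.1 = 2 ∧ orderOf p.2 = 2 ∧ p.1 * p.2 = x} with hc
  set I := univ.filter (fun t : G => orderOf t = 2) with hI
  rw [card_subtype_eq_filter, ← hI]
  have hsum : I.card ^ 2 = ∑ x : G, c x := by
    rw [pow_two, ← Finset.card_product, Finset.card_eq_sum_card_fiberwise
      (f := fun p : G × G => p.1 * p.2) (t := univ) (by simp)]
    apply Finset.sum_congr rfl
    intro x _
    simp only [hc]
    rw [card_subtype_eq_filter]
    congr 1
    ext p
    simp [hI, and_assoc]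
  have hc1 : c 1 ≤ I.card := by
    simp only [hc, hI]
    rw [← card_subtype_eq_filter]
    refine Nat.card_le_card_of_injective (fun p => ⟨p.1.1, p.2.1⟩) ?_
    rintro ⟨⟨u, v⟩, hu, hv, h1⟩ ⟨⟨u', v'⟩, hu', hv', h2⟩ h
    simp only [Subtype.mk.injEq] at h
    subst h
    simp only [Subtype.mk.injEq, Prod.mk.injEq, true_and]
    exact mul_left_cancel (h1.trans h2.symm)
  have hinvol : ∀ x : G, orderOf x = 2 → j * (c x + 2) ≤ Nat.card G := by
    intro x hx
    have h1 : j ≤ (Subgroup.centralizer ({x} : Set G)).index := by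
      apply hmin
      intro h
      refine odd_card_iff.1 hZ x ?_ hx
      rw [Subgroup.mem_center_iff]
      intro g
      exact Subgroup.mem_centralizer_singleton_iff.1 (h ▸ Subgroup.mem_top g)
    rw [← Subgroup.card_mul_index (Subgroup.centralizer ({x} : Set G)), mul_comm]
    exact Nat.mul_le_mul ((s0238 x).2.2 hx) h1
  have hother : ∀ x : G, x * x ≠ 1 → 2 * j * c x ≤ Nat.card G := by
    intro x hx
    by_cases hr : IsConj x x⁻¹
    · obtain ⟨g, hg⟩ := isConj_iff.1 hr
      obtain ⟨K, hK⟩ := exists_ext_centralizer hg hx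
      have h1 : j ≤ K.index := by
        apply hmin
        rintro rfl
        exact h2 _ (by simpa using hK.symm)
      rw [← Subgroup.card_mul_index (Subgroup.centralizer ({x} : Set G)), mul_comm, ← hK]
      exact Nat.mul_le_mul (s0238 x).1 (by omega)
    · have : c x = 0 := (s0238 x).2.1 hr
      rw [this]; simp
  have hbound : ∀ x : G, 2 * j * c x + (if x ∈ I then 4 * j else 0) +
      (if x = 1 then Nat.card G else 0) ≤
      Nat.card G + (if x ∈ I then Nat.card G else 0) + (if x = 1 then 2 * j * I.card else 0) := by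
    intro x
    by_cases hx1 : x = 1
    · subst hx1
      have : (1 : G) ∉ I := by simp [hI]
      simp only [this, if_false, if_true]
      have := Nat.mul_le_mul_left (2 * j) hc1
      omega
    · by_cases hxI : x ∈ I
      · simp only [hxI, hx1, if_true, if_false]
        have := hinvol x (by simpa [hI] using hxI)
        nlinarith
      · simp only [hxI, hx1, if_false]
        have := hother x (fun h => hxI (by simp [hI, ord2_iff, h, hx1]))
        omega
  have htot := Finset.sum_le_sum (fun x (_ : x ∈ (univ : Finset G)) => hbound x)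
  simp only [Finset.sum_add_distrib, ← Finset.mul_sum, ← hsum, Finset.sum_ite_mem,
    Finset.univ_inter, sum_const, smul_eq_mul, Finset.sum_ite_eq', mem_univ, if_true,
    Finset.card_univ, ← Nat.card_eq_fintype_card] at htot
  have hpos : 0 < Nat.card G := Nat.card_pos
  nlinarith

theorem exists_perm_embedding [Finite G] [IsSimpleGroup G] (H : Subgroup G) (hH : H ≠ ⊤) :
    ∃ f : G →* Equiv.Perm (Fin H.index), Function.Injective f := by
  have e : (G ⧸ H) ≃ Fin H.index := Finite.equivFinOfCardEq H.index_eq_card.symm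
  refine ⟨e.permCongrHom.toMonoidHom.comp (MulAction.toPermHom G (G ⧸ H)), ?_⟩
  rw [MonoidHom.coe_comp]
  refine e.permCongrHom.injective.comp ?_
  rw [← MonoidHom.ker_eq_bot_iff, ← Subgroup.normalCore_eq_ker]
  refine (Subgroup.normalCore_normal H).eq_bot_or_eq_top.resolve_right ?_
  intro h
  exact hH (top_le_iff.1 (h ▸ H.normalCore_le))

theorem card_dvd_factorial_index [Finite G] [IsSimpleGroup G] (H : Subgroup G) (hH : H ≠ ⊤) :
    Nat.card G ∣ H.index.factorial := by
  obtain ⟨f, hf⟩ := exists_perm_embedding H hH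
  have := Subgroup.card_dvd_of_injective f hf
  rwa [Nat.card_perm, Nat.card_fin] at this

theorem s0991 {G : Type*} [Group G] [Finite G] [IsSimpleGroup G] (hG : ¬ IsMulCommutative G) (H : Subgroup G) (hH : H ≠ ⊤) : ∃ f : G →* ↥(alternatingGroup (Fin H.index)), Function.Injective f := by
  obtain ⟨f, hf⟩ := exists_perm_embedding H hH
  have hk : (Equiv.Perm.sign.comp f).ker = ⊤ := by
    refine (MonoidHom.normal_ker _).eq_bot_or_eq_top.resolve_left ?_
    intro h
    rw [MonoidHom.ker_eq_bot_iff] at h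
    apply hG
    exact ⟨⟨fun a b => h (by rw [map_mul, map_mul, mul_comm])⟩⟩
  refine ⟨f.codRestrict _ (fun g => ?_), ?_⟩
  · rw [Equiv.Perm.mem_alternatingGroup]
    have : g ∈ (Equiv.Perm.sign.comp f).ker := hk ▸ Subgroup.mem_top g
    exact this
  · intro a b h
    exact hf (congrArg Subtype.val h)

theorem card_prime_of_comm [IsSimpleGroup G] (h : IsMulCommutative G) : (Nat.card G).Prime := by
  let _ : CommGroup G := { (inferInstance : Group G) with mul_comm := h.is_comm.comm }
  exact IsSimpleGroup.prime_card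

theorem center_eq_bot_of_simple [IsSimpleGroup G] (h : ¬ IsMulCommutative G) :
    Subgroup.center G = ⊥ := by
  refine (inferInstance : (Subgroup.center G).Normal).eq_bot_or_eq_top.resolve_right ?_
  intro h1
  apply h
  refine ⟨⟨fun a b => ?_⟩⟩
  have : b ∈ Subgroup.center G := h1 ▸ Subgroup.mem_top b
  exact Subgroup.mem_center_iff.1 this a

theorem index_ne_two_of_simple [IsSimpleGroup G] (h : Nat.card G ≠ 2) (H : Subgroup G) :
    H.index ≠ 2 := by
  intro h2
  rcases (Subgroup.normal_of_index_eq_two h2).eq_bot_or_eq_top with rfl | rfl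
  · exact h (by simpa using h2)
  · simp at h2

theorem card_le_centralizer_mul_invol [Finite G] {t : G} (ht : orderOf t = 2) :
    Nat.card G ≤ Nat.card (Subgroup.centralizer ({t} : Set G)) *
      Nat.card {t : G // orderOf t = 2} := by
  rw [← card_centralizer_mul_card_class t]
  apply Nat.mul_le_mul_left
  refine Nat.card_le_card_of_injective (fun g => ⟨g.1, orderOf_isConj g.2 ▸ ht⟩) ?_
  intro a b h
  exact Subtype.ext (by simpa using h)

theorem s0212 {G : Type*} [Group G] [Finite G] [IsSimpleGroup G] (t : G) (ht : orderOf t = 2) : Nat.card G ≤ Nat.factorial (2 * (Nat.card (Subgroup.centralizer ({t} : Set G))) ^ 2) := by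
  have heven : Even (Nat.card G) := even_iff_two_dvd.2 (ht ▸ orderOf_dvd_natCard t)
  set m := Nat.card (Subgroup.centralizer ({t} : Set G)) with hm
  have hmpos : 0 < m := Nat.card_pos
  by_cases h2 : Nat.card G = 2
  · rw [h2]
    exact le_trans (by nlinarith) (Nat.self_le_factorial _)
  have hnc : ¬ IsMulCommutative G := fun h =>
    h2 ((card_prime_of_comm h).even_iff.1 heven)
  obtain ⟨H, hH, h | h⟩ := s0233 heven (by rw [center_eq_bot_of_simple hnc]; simp)
  · exact absurd h (index_ne_two_of_simple h2 H)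
  refine le_trans (Nat.le_of_dvd (Nat.factorial_pos _) (card_dvd_factorial_index H hH))
    (Nat.factorial_le ?_)
  have h1 := card_le_centralizer_mul_invol ht
  rw [← hm] at h1
  set n := Nat.card {t : G // orderOf t = 2}
  by_contra hlt
  push Not at hlt
  have : Nat.card G * (Nat.card G + n) ≤ (m * n) * (m * n + n) := by gcongr
  have h3 : m * n + n ≤ 2 * m * n := by nlinarith
  have h4 : (m * n) * (m * n + n) ≤ (m * n) * (2 * m * n) := by gcongr
  have h5 : 2 * m ^ 2 * n ^ 2 ≤ H.index * n ^ 2 := by gcongr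
  nlinarith

end Cfsg.Agent.Inv
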