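import Cfsg.Agent.Inv.Suz3
import Cfsg.Prelude.Def_LieRecognition

/-! Higman's theorem on Suzuki 2-groups: the final statements. -/

set_option autoImplicit false
set_option linter.unusedVariables false
set_option linter.unusedSectionVars false

namespace Cfsg.Agent.Inv

open Subgroup Cfsg.Agent.PLoc
open scoped commutatorElement

variable {P : Type*} [Group P] [Finite P] {ξ : MulAut P} {F : Type*} [Field F] [Finite F] [CharP F 2]

theorem exists_invol_pow (hP : IsPGroup 2 P) {x : P} (hx : x ≠ 1) :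
    ∃ k : ℕ, x ^ k ≠ 1 ∧ x ^ k * x ^ k = 1 := by
  classical
  have h6 := hP x
  obtain ⟨k, hk⟩ := Nat.exists_eq_succ_of_ne_zero (n := Nat.find h6) fun e => hx (by
    simpa [e] using Nat.find_spec h6)
  exact ⟨_, Nat.find_min h6 (m := k) (by omega), by
    rw [← pow_add, ← two_mul, ← pow_succ', ← Nat.succ_eq_add_one, ← hk]; exact Nat.find_spec h6⟩

theorem suzD_of (hP : IsPGroup 2 P)
    (h2 : ∃ x y : P, x ≠ y ∧ x ≠ 1 ∧ x * x = 1 ∧ y ≠ 1 ∧ y * y = 1)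
    (tr : ∀ x y : P, x ≠ 1 → x * x = 1 → y ≠ 1 → y * y = 1 → ∃ i : ℕ, (ξ ^ i) x = y)
    (fr : ∀ (i : ℕ) (x : P), x ≠ 1 → x * x = 1 → (ξ ^ i) x = x → ξ ^ i = 1) :
    ∃ (n : ℕ) (Z : Subgroup P) (f : P → GaloisField 2 n) (l : GaloisField 2 n),
      n ≠ 0 ∧ SuzD ξ Z f l := by
  obtain ⟨x, y, hxy, hx, hx2, hy, hy2⟩ := h2
  have : Nontrivial P := ⟨x, y, hxy⟩
  have := hP.center_nontrivial
  obtain ⟨⟨c, hc⟩, hc1⟩ := exists_ne (1 : center P)
  obtain ⟨k, z1, z2⟩ := exists_invol_pow hP (x := c) (by simpa using hc1)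
  have hz : c ^ k ∈ center P := pow_mem hc k
  generalize c ^ k = z at z1 z2 hz
  have cen : ∀ w : P, w * w = 1 → ∀ v, w * v = v * w := fun w hw v => by
    by_cases h : w = 1
    · simp [h]
    obtain ⟨i, rfl⟩ := tr z w z1 z2 h hw
    rw [← (ξ ^ i).apply_symm_apply v, ← map_mul, ← map_mul, mem_center_iff.1 hz]
  let Z : Subgroup P :=
    { carrier := {w | w * w = 1}
      one_mem' := mul_one 1
      mul_mem' := fun {a b} ha hb => by
        change a * b * (a * b) = 1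
        rw [mul_assoc, ← mul_assoc b, ← cen a ha b, mul_assoc a, hb, mul_one, ha]
      inv_mem' := fun {a} ha => by
        change a⁻¹ * a⁻¹ = 1
        rw [← mul_inv_rev, ha, inv_one] }
  have hZ : Ivt ξ Z := fun w hw => by
    change ξ w * ξ w = 1
    rw [← map_mul, hw, map_one]
  obtain ⟨n, hn⟩ := (hP.to_subgroup Z).exists_card_eq
  have e1 : orderOf ξ + 1 = Nat.card Z := by
    classical
    rw [← Nat.card_zpowers, ← Finite.card_option]
    refine Nat.card_congr (Equiv.ofBijective (fun o => o.elim 1 fun k => ⟨(k : MulAut P) z, by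
      change _ * _ = 1
      rw [← map_mul, z2, map_one]⟩) ⟨?_, fun ⟨w, hw⟩ => ?_⟩)
    · rintro (_ | k) (_ | k') e
      · rfl
      · exact absurd (congrArg Subtype.val e).symm (by simpa using z1)
      · exact absurd (congrArg Subtype.val e) (by simpa using z1)
      · obtain ⟨i, hi⟩ := mem_powers_iff_mem_zpowers.2 (k'⁻¹ * k).2
        have hi' : ξ ^ i = (k' : MulAut P)⁻¹ * k := hi
        have := fr i z z1 z2 (by
          rw [hi', MulAut.mul_apply, show (k : MulAut P) z = (k' : MulAut P) z from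
            congrArg Subtype.val e, MulAut.inv_apply_self])
        rw [hi', inv_mul_eq_one] at this
        rw [Subtype.ext this]
    · by_cases h : w = 1
      · exact ⟨none, Subtype.ext h.symm⟩
      obtain ⟨i, rfl⟩ := tr z w z1 z2 h hw
      exact ⟨some ⟨_, npow_mem_zpowers ξ i⟩, rfl⟩
  have := Fintype.ofFinite Z
  have e2 : 2 < Nat.card Z := Nat.card_eq_fintype_card (α := Z) ▸ Fintype.two_lt_card_iff.2 ⟨1, ⟨x, hx2⟩, ⟨y, hy2⟩,
    fun e => hx (congrArg Subtype.val e).symm, fun e => hy (congrArg Subtype.val e).symm,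
    fun e => hxy (congrArg Subtype.val e)⟩
  have n0 : n ≠ 0 := by rintro rfl; omega
  have e3 : Nat.card (GaloisField 2 n) = Nat.card Z := by rw [GaloisField.card 2 n n0, hn]
  have e4 : Nat.card (GaloisField 2 n) - 1 = orderOf ξ := by omega
  have S : SuzA ξ (GaloisField 2 n) := ⟨hP, e3 ▸ e2, e4 ▸ pow_orderOf_eq_one ξ, fun i w hw =>
    or_iff_not_imp_left.2 fun h => by
      obtain ⟨k, h1, h2⟩ := exists_invol_pow hP h
      rw [e4, orderOf_dvd_iff_pow_eq_one]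
      exact fr i _ h1 h2 (by rw [map_pow, hw])⟩
  obtain ⟨f, l, h1, h2⟩ := S.coord bot_le hZ ivt_bot (fun a _ b hb => by simp [mem_bot.1 hb])
    (fun a ha => mem_bot.2 ha) (fun h => z1 (mem_bot.1 (h z2))) fun B b1 _ b2 =>
      or_iff_not_imp_left.2 fun h w hw => by
        obtain ⟨b, hb, b3⟩ := SetLike.not_le_iff_exists.1 h
        by_cases h : w = 1
        · exact h ▸ one_mem _
        obtain ⟨i, rfl⟩ := tr b w (mt mem_bot.2 b3) (b2 hb) h hw
        exact b1.pow i b hb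
  exact ⟨n, Z, f, l, n0, S, fun _ => Iff.rfl, cen, h1, h2⟩

theorem suzD_of_suzuki {P : Type*} [Group P] (h : IsSuzukiTwoGroup P) :
    ∃ (ξ : MulAut P) (n : ℕ) (Z : Subgroup P) (f : P → GaloisField 2 n) (l : GaloisField 2 n),
      n ≠ 0 ∧ SuzD ξ Z f l := by
  obtain ⟨_, hP, -, h2, K, hK, h3⟩ := h
  obtain ⟨ξ, hξ⟩ := hK.exists_monoid_generator
  refine ⟨ξ, suzD_of hP h2 (fun x y a b c d => ?_) fun i x a b c => ?_⟩
  · obtain ⟨k, hk, -⟩ := h3 x y a b c d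
    obtain ⟨i, rfl⟩ := hξ k
    exact ⟨i, hk⟩
  · exact congrArg Subtype.val ((h3 x x a b a b).unique (y₁ := ξ ^ i) (y₂ := 1) c rfl)

theorem compl_of_pow {m : ℕ} (hm : ξ ^ m = 1) (ho : Odd m) {X Y B : Subgroup P} (hYB : Y ≤ B)
    (hBX : B ≤ X) (hX : Ivt ξ X) (hY : Ivt ξ Y)
    (hB : Ivt ξ B) (hn : ∀ x ∈ X, ∀ y ∈ Y, x * y * x⁻¹ ∈ Y) (hsq : ∀ x ∈ X, x * x ∈ Y) :
    ∃ U, Ivt ξ U ∧ Y ≤ U ∧ U ≤ X ∧ (∀ x ∈ B, x ∈ U → x ∈ Y) ∧
      ∀ x ∈ X, ∃ b ∈ B, ∃ u ∈ U, x = b * u := by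
  obtain ⟨W, _, _, π, T, h, h2⟩ := exists_sec (hYB.trans hBX) hX hY hn hsq
  obtain ⟨V, h3, h4⟩ := add_compl T h2 (m := m) (AddMonoidHom.ext fun w => by
    obtain ⟨x, hx, rfl⟩ := h.surj w
    have := h.act_pow m x hx
    rw [hm, ← AddMonoid.End.coe_pow] at this
    exact this.symm) ho (h.im B) (by
    rintro _ ⟨x, hx, rfl⟩; exact ⟨_, ⟨hB x hx.1, hX x hx.2⟩, h.act x hx.2⟩)
  refine ⟨h.pre V, fun x hx => ⟨hX x hx.1, h.act x hx.1 ▸ h3 _ hx.2⟩,
    fun y hy => ⟨h.le hy, h.of_mem hy ▸ zero_mem _⟩, fun _ h => h.1, fun x hx hx' => (h.ker x hx'.1).1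
      (AddSubgroup.disjoint_def.1 h4.disjoint ⟨x, ⟨hx, hx'.1⟩, rfl⟩ hx'.2), fun x hx => ?_⟩
  obtain ⟨_, ⟨b, hb, rfl⟩, v, hv, e⟩ := AddSubgroup.mem_sup.1 (h4.sup_eq_top.ge (AddSubgroup.mem_top (π x)))
  refine ⟨b, hb.1, b⁻¹ * x, ⟨mul_mem (inv_mem hb.2) hx, ?_⟩, by simp⟩
  rwa [h.add _ (inv_mem hb.2) _ hx, h.inv hb.2, ← e, neg_add_cancel_left]

/-- a central extension of elementary abelian 2-groups is determined by its squaring map -/
theorem iso_of_quad {M : Type*} [Group M] [Finite M] {η : MulAut M} {m : ℕ} (h1 : ξ ^ m = 1)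
    (h2 : η ^ m = 1) (ho : Odd m) {W V : Type*} [AddCommGroup W] [AddCommGroup V]
    {Z : Subgroup P} {Z' : Subgroup M} {g : P → W} {g' : M → W} {f : P → V} {f' : M → V}
    {T : W → W} {T' : V → V} (s1 : Sec ξ ⊤ Z g T) (s2 : Sec η ⊤ Z' g' T) (s3 : Sec ξ Z ⊥ f T')
    (s4 : Sec η Z' ⊥ f' T') (c1 : ∀ z ∈ Z, ∀ x, z * x = x * z) (c2 : ∀ z ∈ Z', ∀ x, z * x = x * z)
    (q1 : ∀ x, x * x ∈ Z) (q2 : ∀ x, x * x ∈ Z') (hq : ∀ x y, g x = g' y → f (x * x) = f' (y * y)) :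
    ∃ e : P ≃* M, (∀ x, e (ξ x) = η (e x)) ∧ (∀ x, g' (e x) = g x) ∧ ∀ z ∈ Z, f' (e z) = f z := by
  let R : Subgroup (P × M) :=
    { carrier := {p | g p.1 = g' p.2}
      one_mem' := s1.one.trans s2.one.symm
      mul_mem' := fun {a b} ha hb => (s1.add _ trivial _ trivial).trans
        (by rw [show g a.1 = _ from ha, show g b.1 = _ from hb]; exact (s2.add _ trivial _ trivial).symm)
      inv_mem' := fun {a} ha => (s1.inv trivial).trans
        (by rw [show g a.1 = _ from ha]; exact (s2.inv trivial).symm) }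
  let D : Subgroup (P × M) :=
    { carrier := {p | p ∈ Z.prod Z' ∧ f p.1 = f' p.2}
      one_mem' := ⟨one_mem _, s3.one.trans s4.one.symm⟩
      mul_mem' := fun {a b} ha hb => ⟨mul_mem ha.1 hb.1, (s3.add _ ha.1.1 _ hb.1.1).trans
        (by rw [ha.2, hb.2]; exact (s4.add _ ha.1.2 _ hb.1.2).symm)⟩
      inv_mem' := fun {a} ha => ⟨inv_mem ha.1, (s3.inv ha.1.1).trans
        (by rw [ha.2]; exact (s4.inv ha.1.2).symm)⟩ }
  let ζ : MulAut (P × M) := MulEquiv.prodCongr ξ η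
  have hζ : ∀ (i : ℕ) p, (ζ ^ i) p = ((ξ ^ i) p.1, (η ^ i) p.2) := fun i => by
    induction i with
    | zero => exact fun _ => rfl
    | succ i ih => intro p; simp only [pow_succ', MulAut.mul_apply, ih]; rfl
  have i1 : Ivt ζ (Z.prod Z') := fun p hp => ⟨s3.ivt _ hp.1, s4.ivt _ hp.2⟩
  obtain ⟨U, u1, u2, u3, u4, u5⟩ := compl_of_pow (ξ := ζ) (m := m) (X := R) (Y := D) (B := Z.prod Z')
    (MulEquiv.ext fun p => by rw [hζ, h1, h2]; rfl) ho (fun _ h => h.1)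
    (fun p hp => (s1.of_mem hp.1).trans (s2.of_mem hp.2).symm)
    (fun p hp => (s1.act _ trivial).trans (by rw [show g p.1 = _ from hp]; exact (s2.act _ trivial).symm))
    (fun p hp => ⟨i1 p hp.1, (s3.act _ hp.1.1).trans (by rw [hp.2]; exact (s4.act _ hp.1.2).symm)⟩) i1
    (fun x _ y hy => by
      rwa [show x * y * x⁻¹ = y from Prod.ext (by simp [← c1 _ hy.1.1]) (by simp [← c2 _ hy.1.2])])
    fun p hp => ⟨⟨q1 _, q2 _⟩, hq _ _ hp⟩
  have b1 : Function.Bijective ((MonoidHom.fst P M).comp U.subtype) := by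
    refine ⟨(injective_iff_map_eq_one _).2 fun ⟨⟨x, y⟩, hp⟩ e => ?_, fun x => ?_⟩
    · obtain rfl : x = 1 := e
      have h3 : y ∈ Z' := (s2.ker y trivial).1 ((u3 hp).symm.trans s1.one)
      obtain rfl : y = 1 := mem_bot.1 ((s4.ker y h3).1 ((u4 _ ⟨one_mem _, h3⟩ hp).2.symm.trans s3.one))
      rfl
    · obtain ⟨y, -, hy⟩ := s2.surj (g x)
      obtain ⟨b, hb, u, hu, e⟩ := u5 (x, y) hy.symm
      obtain ⟨z, hz, e2⟩ := s4.surj (f b.1)
      exact ⟨⟨(b.1, z) * u, mul_mem (u2 ⟨⟨hb.1, hz⟩, e2.symm⟩) hu⟩, (congrArg Prod.fst e).symm⟩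
  have b2 : Function.Bijective ((MonoidHom.snd P M).comp U.subtype) := by
    refine ⟨(injective_iff_map_eq_one _).2 fun ⟨⟨x, y⟩, hp⟩ e => ?_, fun y => ?_⟩
    · obtain rfl : y = 1 := e
      have h3 : x ∈ Z := (s1.ker x trivial).1 ((u3 hp).trans s2.one)
      obtain rfl : x = 1 := mem_bot.1 ((s3.ker x h3).1 ((u4 _ ⟨h3, one_mem _⟩ hp).2.trans s4.one))
      rfl
    · obtain ⟨x, -, hx⟩ := s1.surj (g' y)
      obtain ⟨b, hb, u, hu, e⟩ := u5 (x, y) hx
      obtain ⟨z, hz, e2⟩ := s3.surj (f' b.2)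
      exact ⟨⟨(z, b.2) * u, mul_mem (u2 ⟨⟨hz, hb.2⟩, e2⟩) hu⟩, (congrArg Prod.snd e).symm⟩
  let e := (MulEquiv.ofBijective _ b1).symm.trans (MulEquiv.ofBijective _ b2)
  have he : ∀ p ∈ U, e p.1 = p.2 := fun p hp => congrArg (MulEquiv.ofBijective _ b2)
    ((MulEquiv.ofBijective _ b1).symm_apply_apply ⟨p, hp⟩)
  have he' : ∀ x, (x, e x) ∈ U := fun x => by
    obtain ⟨p, rfl⟩ := b1.2 x
    have := he p p.2
    change ((p : P × M).1, e (p : P × M).1) ∈ U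
    rw [this]; exact p.2
  refine ⟨e, fun x => he _ (u1 _ (he' x)), fun x => (u3 (he' x)).symm, fun z hz => ?_⟩
  exact (u4 _ ⟨hz, (s2.ker _ trivial).1 ((u3 (he' z)).symm.trans (s1.of_mem hz))⟩ (he' z)).2.symm

theorem Sec.triv {W : Type*} [AddCommGroup W] {X Y : Subgroup P} {π : P → W} {T : W → W}
    (h : Sec ξ X Y π T) : Sec 1 X Y π id :=
  ⟨h.add, h.ker, h.surj, fun _ _ => rfl, h.le, fun _ h => h⟩

theorem Sec.comp {W V : Type*} [AddCommGroup W] [AddCommGroup V] {X Y : Subgroup P} {π : P → W}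
    {T : W → W} (h : Sec ξ X Y π T) (e : W ≃+ V) {T' : V → V} (he : ∀ w, e (T w) = T' (e w)) :
    Sec ξ X Y (fun x => e (π x)) T' :=
  ⟨fun x hx y hy => by rw [h.add x hx y hy, map_add], fun x hx => by rw [← h.ker x hx]; simp,
    fun w => have ⟨x, hx, e1⟩ := h.surj (e.symm w); ⟨x, hx, by simp [e1]⟩,
    fun x hx => by rw [h.act x hx, he], h.le, h.ivt⟩

theorem odd_of_norm_inj {φ : F ≃+* F} (h : ∀ x, φ x * x = 1 → x = 1) : Odd (orderOf φ) := by
  by_contra h1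
  obtain ⟨k, hk⟩ := Nat.not_odd_iff_even.1 h1
  have h2 : ∃ z, ∑ i : Fin (orderOf φ), (φ ^ (i : ℕ)) z ≠ 0 := by
    by_contra! h2
    have := Fintype.linearIndependent_iff.1 ((aut_li (F := F)).comp
      (fun i : Fin (orderOf φ) => φ ^ (i : ℕ)) fun i j e =>
        Fin.ext (pow_injOn_Iio_orderOf i.2 j.2 e)) (fun _ => 1) (funext fun z => by
          simpa [Finset.sum_apply] using h2 z) ⟨0, orderOf_pos φ⟩
    exact one_ne_zero this
  obtain ⟨z, hz⟩ := h2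
  let y := ∑ i ∈ Finset.range k, (φ ^ (2 * i)) z
  have e1 : ∀ k, ∑ i ∈ Finset.range (k + k), (φ ^ i) z =
      ∑ i ∈ Finset.range k, (φ ^ (2 * i)) z + φ (∑ i ∈ Finset.range k, (φ ^ (2 * i)) z) := fun k => by
    induction k with
    | zero => simp
    | succ k ih =>
      rw [show k + 1 + (k + 1) = k + k + 1 + 1 by ring, Finset.sum_range_succ, Finset.sum_range_succ,
        ih, Finset.sum_range_succ, map_add, pow_succ', two_mul, RingAut.mul_apply]
      ring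
  rw [Fin.sum_univ_eq_sum_range (fun i => (φ ^ i) z), hk, e1] at hz
  have e2 : φ (φ y) = y := by
    have := Finset.sum_range_succ_comm (fun i => (φ ^ (2 * i)) z) k
    rw [Finset.sum_range_succ', two_mul k, ← hk, pow_orderOf_eq_one] at this
    simp only [mul_add, mul_one, pow_succ', RingAut.mul_apply, mul_zero, pow_zero] at this
    simp only [y, map_sum]
    exact add_right_cancel (this.trans (add_comm _ _))
  change y + φ y ≠ 0 at hz
  have y0 : y ≠ 0 := fun e => hz (by simp [e])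
  have y1 : φ y ≠ 0 := by simpa using y0
  have := h (y / φ y) (by rw [map_div₀, e2]; field_simp)
  rw [div_eq_one_iff_eq y1] at this
  exact hz (by rw [← this, CharTwo.add_self_eq_zero])

namespace SuzD

variable {Z : Subgroup P} {f : P → F} {l : F} (S : SuzD ξ Z f l)
include S

theorem trans {z w : P} (hz : z ∈ Z) (h1 : z ≠ 1) (hw : w ∈ Z) (h2 : w ≠ 1) :
    ∃ i : ℕ, (ξ ^ i) z = w := by
  have a1 : f z ≠ 0 := fun e => h1 (mem_bot.1 ((S.sec.ker z hz).1 e))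
  have a2 : f w ≠ 0 := fun e => h2 (mem_bot.1 ((S.sec.ker w hw).1 e))
  obtain ⟨i, hi⟩ := S.prim (f w * (f z)⁻¹) (by simp [a1, a2])
  refine ⟨i, (inv_mul_eq_one.1 (mem_bot.1 ((S.sec.eq_iff (S.sec.ivt.pow i z hz) hw).1 ?_)))⟩
  rw [S.sec.act_pow i z hz, mul_left_iterate, hi]
  simp [a1]

theorem center_eq (hP : ¬ ∀ x y : P, x * y = y * x) : center P = Z := by
  have h1 : Z ≤ center P := fun z hz => mem_center_iff.2 fun x => (S.cent z hz x).symm
  refine le_antisymm (fun a ha => (S.mem a).2 (by_contra fun h => hP ?_)) h1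
  suffices ∀ x, x ∈ center P from fun x y => mem_center_iff.1 (this y) x
  intro x
  by_cases hx : x * x = 1
  · exact h1 ((S.mem x).2 hx)
  obtain ⟨i, hi⟩ := S.trans (S.sq_mem hP a) h (S.sq_mem hP x) hx
  have hb : (ξ ^ i) a ∈ center P := mem_center_iff.2 fun v => by
    rw [← (ξ ^ i).apply_symm_apply v, ← map_mul, ← map_mul, mem_center_iff.1 ha]
  rw [map_mul] at hi
  generalize (ξ ^ i) a = b at hi hb
  rw [← mul_inv_cancel_right x b⁻¹]
  refine mul_mem (h1 ((S.mem _).2 ?_)) (inv_mem (inv_mem hb))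
  rw [mul_assoc, ← mem_center_iff.1 (inv_mem hb), ← mul_assoc, ← mul_assoc, ← hi]
  group

theorem comm_mem (h : ∀ x : P, x * x ∈ Z) (x y : P) : ⁅x, y⁆ ∈ Z :=
  have := S.Z_normal
  comm_mem_of_sq (h x) (h y) (h _)

theorem f_sq (h : ∀ x : P, x * x ∈ Z) (x y : P) :
    f (x * y * (x * y)) = f (x * x) + f (y * y) + f ⁅y, x⁆ := by
  simpa [gx] using S.g_sq S.HA_Z (h x) (h y) (S.comm_mem h y x)

theorem f_r (h : ∀ x : P, x * x ∈ Z) (x y z : P) : f ⁅x, y * z⁆ = f ⁅x, y⁆ + f ⁅x, z⁆ := by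
  simpa [gx] using S.g_r S.HA_Z (S.comm_mem h x y) (S.comm_mem h x z)

theorem card_le (h : ∀ x : P, x * x ∈ Z) : Nat.card P ≤ Nat.card F ^ 3 := by
  obtain ⟨W, _, _, π, T, s, h2⟩ := exists_sec le_top ivt_top S.sec.ivt
    (fun x _ y hy => S.Z_normal.conj_mem y hy x) fun x _ => h x
  obtain ⟨q, hq⟩ := s.descend (Q := fun x => f (x * x)) fun x hx y hy => by
    rw [S.f_sq h, commutatorElement_eq_one_iff_mul_comm.2 (S.cent y hy x), (S.mem y).1 hy, S.sec.one,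
      add_zero, add_zero]
  have := cw_quad h2 (Q := q) (by rw [← s.one, ← hq 1 trivial, mul_one, S.sec.one]) (fun x y z => by
    obtain ⟨x, -, rfl⟩ := s.surj x
    obtain ⟨y, -, rfl⟩ := s.surj y
    obtain ⟨z, -, rfl⟩ := s.surj z
    simp only [← s.add _ trivial _ trivial, ← hq _ trivial]
    rw [S.f_sq h (x * y), S.f_sq h x z, S.f_sq h y z, S.f_r h]
    linear_combination (f (x * y * (x * y)) + 2 * f (z * z) + f ⁅z, x⁆ + f ⁅z, y⁆ + f (x * x) +
      f (y * y)) * CharTwo.two_eq_zero (R := F)) fun w hw => by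
    obtain ⟨x, -, rfl⟩ := s.surj w
    exact s.of_mem ((S.mem x).2 (mem_bot.1 ((S.sec.ker _ (h x)).1 ((hq x trivial).trans hw))))
  rw [← card_top, s.card, S.card_Z, pow_succ']
  exact Nat.mul_le_mul_left _ this

/-- the two layers of a Suzuki 2-group -/
theorem layers (h : ∀ x : P, x * x ∈ Z) (hne : Z ≠ ⊤) : ∃ (C : Subgroup P) (g : P → F) (μ : F),
    Cov ξ Z C g μ ∧ (C = ⊤ ∨ ∃ (g' : P → F) (μ' : F), Cov ξ C ⊤ g' μ') := by
  have := S.Z_normal
  obtain ⟨C, -, g, μ, hC⟩ := S.toSuzA.exists_cov' S.sec.ivt ivt_top le_top (mt top_le_iff.1 hne)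
    (fun c _ => S.comm_mem h c) fun c _ => h c
  refine ⟨C, g, μ, hC, or_iff_not_imp_left.2 fun h1 => ?_⟩
  have := hC.normal
  obtain ⟨C', -, g', μ', hC'⟩ := S.toSuzA.exists_cov' hC.sec.ivt ivt_top le_top (mt top_le_iff.1 h1)
    (fun c _ x => hC.sec.le (S.comm_mem h c x)) fun c _ => hC.sec.le (h c)
  obtain rfl : C' = ⊤ := eq_top_of_card_eq _ (le_antisymm (card_le_card_group _) (by
    rw [hC'.sec.card, hC.sec.card, S.card_Z]
    exact (S.card_le h).trans (le_of_eq (by ring))))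
  exact ⟨g', μ', hC'⟩

theorem ne_top (hP : ¬ ∀ x y : P, x * y = y * x) : Z ≠ ⊤ := fun e =>
  hP fun x y => S.cent x (e ▸ mem_top x) y

theorem card_eq (h : ∀ x : P, x * x ∈ Z) (hne : Z ≠ ⊤) :
    Nat.card P = Nat.card F ^ 2 ∨ Nat.card P = Nat.card F ^ 3 := by
  obtain ⟨C, g, μ, hC, rfl | ⟨g', μ', hC'⟩⟩ := S.layers h hne
  · left; rw [← card_top, hC.sec.card, S.card_Z, sq]
  · right; rw [← card_top, hC'.sec.card, hC.sec.card, S.card_Z]; ring

/-- the squaring map on a homogeneous layer -/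
theorem sq_form {X : Subgroup P} {g : P → F} {μ : F} (hX : Sec ξ X Z g (μ * ·)) (hμ : Prim μ)
    (h1 : ∀ x ∈ X, x * x ∈ Z) : ∃ (c : F) (σ τ : F ≃+* F), c ≠ 0 ∧ l = σ μ * τ μ ∧
      ∀ x ∈ X, f (x * x) = c * (σ (g x) * τ (g x)) := by
  obtain ⟨q, q0, q1, q2, q3⟩ := S.exists_type hX h1
  obtain ⟨σ, τ, e⟩ := quad_exists q3 q1 ⟨1, q2 1 one_ne_zero⟩
  refine ⟨q 1, σ, τ, q2 1 one_ne_zero, e, fun x hx => ?_⟩
  by_cases h : g x = 0
  · rw [h, (S.mem x).1 ((hX.ker x hx).1 h), S.sec.one]; simp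
  rw [q0 x hx]
  obtain ⟨i, hi⟩ := hμ _ h
  rw [← hi]
  clear hi
  induction i with
  | zero => simp
  | succ i ih => rw [pow_succ', q1, ih, e, map_mul, map_mul]; ring

/-- normal form of type A -/
theorem typeA (hP : ¬ ∀ x y : P, x * y = y * x) (hc : Nat.card P = Nat.card F ^ 2) :
    ∃ (g f' : P → F) (μ : F) (φ : F ≃+* F), Prim μ ∧ l = φ μ * μ ∧ Sec ξ ⊤ Z g (μ * ·) ∧
      Sec ξ Z ⊥ f' (l * ·) ∧ φ ≠ 1 ∧ Odd (orderOf φ) ∧ ∀ x, f' (x * x) = φ (g x) * g x := by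
  have h := S.sq_mem hP
  obtain ⟨C, g, μ, hC, -⟩ := S.layers h (S.ne_top hP)
  obtain rfl : C = ⊤ := eq_top_of_card_eq _ (by rw [hC.sec.card, S.card_Z, hc, sq])
  obtain ⟨c, σ, τ, c0, e1, e2⟩ := S.sq_form hC.sec hC.prim fun x _ => h x
  have e3 : ∀ x, (σ * τ⁻¹) (τ x) = σ x := fun x => by
    rw [← RingAut.mul_apply, inv_mul_cancel_right]
  refine ⟨fun x => τ (g x), fun x => c⁻¹ * f x, τ μ, σ * τ⁻¹, hC.prim.map τ, by rw [e3, e1],
    hC.sec.comp τ.toAddEquiv fun w => map_mul τ _ _,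
    S.sec.comp (AddAut.mulLeft (Units.mk0 c c0)⁻¹) fun w => mul_left_comm _ _ _, fun e => hP fun x y => ?_,
    odd_of_norm_inj fun x hx => ?_, fun x => by
      simp only [e2 x trivial, e3, inv_mul_cancel_left₀ c0]⟩
  · obtain rfl : σ = τ := mul_inv_eq_one.1 e
    have := S.f_sq h y x
    rw [e2 _ trivial, e2 _ trivial, e2 _ trivial, hC.sec.add _ trivial _ trivial, map_add] at this
    refine commutatorElement_eq_one_iff_mul_comm.1 (mem_bot.1 ((S.sec.ker _ (S.comm_mem h x y)).1 ?_))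
    linear_combination -this + (c * σ (g x) * σ (g y)) * CharTwo.two_eq_zero (R := F)
  · obtain ⟨i, rfl⟩ := hC.prim.map τ x (by rintro rfl; simp at hx)
    rw [map_pow, e3, ← mul_pow, ← e1] at hx
    obtain ⟨z, hz, e⟩ := S.sec.surj 1
    have := S.sec.act_pow i z hz
    simp only [mul_left_iterate, hx, one_mul] at this
    obtain h1 | ⟨j, rfl⟩ := S.free i z
      (inv_mul_eq_one.1 (mem_bot.1 ((S.sec.eq_iff (S.sec.ivt.pow i z hz) hz).1 this)))
    · rw [h1, S.sec.one] at e; exact absurd e zero_ne_one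
    · have := Fintype.ofFinite F
      rw [pow_mul, Nat.card_eq_fintype_card, FiniteField.pow_card_sub_one_eq_one _
        ((hC.prim.map τ).ne_zero S.big), one_pow]

end SuzD

/-- the matrix model of type A -/
def matA (φ : F →+* F) (x y : F) : GL (Fin 3) F :=
  ⟨!![1, 0, 0; x, 1, 0; y, φ x, 1], !![1, 0, 0; -x, 1, 0; φ x * x - y, -φ x, 1],
    by ext i j; fin_cases i <;> fin_cases j <;> simp [Matrix.mul_apply, Fin.sum_univ_three]; ring,
    by ext i j; fin_cases i <;> fin_cases j <;> simp [Matrix.mul_apply, Fin.sum_univ_three]; ring⟩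

theorem matA_mul (φ : F →+* F) (x y x' y' : F) :
    matA φ x y * matA φ x' y' = matA φ (x + x') (y + y' + φ x * x') := by
  ext i j
  fin_cases i <;> fin_cases j <;> simp [matA, Matrix.mul_apply, Fin.sum_univ_three]
  all_goals ring

theorem matA_one (φ : F →+* F) : matA φ 0 0 = 1 := by
  ext i j
  fin_cases i <;> fin_cases j <;> simp [matA]

theorem mem_typeA {φ : F →+* F} {m : GL (Fin 3) F} :
    m ∈ suzukiTypeA F φ ↔ ∃ x y, m = matA φ x y := by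
  refine ⟨fun h => ?_, fun ⟨x, y, e⟩ => subset_closure ⟨x, y, e ▸ rfl⟩⟩
  induction h using closure_induction with
  | mem m h => obtain ⟨x, y, e⟩ := h; exact ⟨x, y, Units.ext e⟩
  | one => exact ⟨0, 0, (matA_one φ).symm⟩
  | mul a b _ _ ha hb =>
    obtain ⟨x, y, rfl⟩ := ha
    obtain ⟨x', y', rfl⟩ := hb
    exact ⟨_, _, matA_mul ..⟩
  | inv a _ ha =>
    obtain ⟨x, y, rfl⟩ := ha
    exact ⟨-x, φ x * x - y, inv_eq_of_mul_eq_one_right (by
      rw [matA_mul, ← matA_one φ]; congr 1 <;> ring)⟩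

theorem iso_typeA {Z : Subgroup P} {g f : P → F} {φ : F →+* F} (s1 : Sec 1 ⊤ Z g id)
    (s2 : Sec 1 Z ⊥ f id) (c1 : ∀ z ∈ Z, ∀ x, z * x = x * z) (q1 : ∀ x, x * x ∈ Z)
    (hq : ∀ x, f (x * x) = φ (g x) * g x) : Nonempty (P ≃* suzukiTypeA F φ) := by
  have el : ∀ m : suzukiTypeA F φ, ∃ x y, m = ⟨matA φ x y, mem_typeA.2 ⟨x, y, rfl⟩⟩ := fun m =>
    have ⟨x, y, e⟩ := mem_typeA.1 m.2; ⟨x, y, Subtype.ext e⟩
  let g' : suzukiTypeA F φ → F := fun m => (m.1 : Matrix (Fin 3) (Fin 3) F) 1 0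
  let f' : suzukiTypeA F φ → F := fun m => (m.1 : Matrix (Fin 3) (Fin 3) F) 2 0
  have a1 : ∀ m m', g' (m * m') = g' m + g' m' := fun m m' => by
    obtain ⟨x, y, rfl⟩ := el m
    obtain ⟨x', y', rfl⟩ := el m'
    simp only [g', MulMemClass.mk_mul_mk, matA_mul]; rfl
  have a2 : ∀ m m', f' (m * m') = f' m + f' m' + φ (g' m) * g' m' := fun m m' => by
    obtain ⟨x, y, rfl⟩ := el m
    obtain ⟨x', y', rfl⟩ := el m'
    simp only [f', MulMemClass.mk_mul_mk, matA_mul]; rfl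
  have a3 : ∀ m m', g' m = g' m' → f' m = f' m' → m = m' := fun m m' h1 h2 => by
    obtain ⟨x, y, rfl⟩ := el m
    obtain ⟨x', y', rfl⟩ := el m'
    obtain rfl : x = x' := h1
    obtain rfl : y = y' := h2
    rfl
  let Z' : Subgroup (suzukiTypeA F φ) := (MonoidHom.mk' (fun m => Multiplicative.ofAdd (g' m))
    fun m m' => congrArg Multiplicative.ofAdd (a1 m m')).ker
  have hZ : ∀ m, m ∈ Z' ↔ g' m = 0 := fun m => Iff.rfl
  obtain ⟨e, -⟩ := iso_of_quad (m := 1) (pow_one _) (pow_one 1) odd_one (Z' := Z') (g' := g') (f' := f')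
    s1 ⟨fun x _ y _ => a1 x y, fun x _ => (hZ x).symm,
      fun w => ⟨⟨matA φ w 0, mem_typeA.2 ⟨_, _, rfl⟩⟩, trivial, rfl⟩, fun _ _ => rfl, le_top, ivt_top⟩
    s2 ⟨fun x _ y hy => by rw [a2, (hZ y).1 hy, mul_zero, add_zero], fun x hx => ⟨fun h =>
      a3 _ _ (hx.trans (one_mem Z').symm) (h.trans (by simp [f'])), fun h => by
        rw [mem_bot.1 h]; simp [f']⟩,
      fun w => ⟨⟨matA φ 0 w, mem_typeA.2 ⟨_, _, rfl⟩⟩, rfl, rfl⟩, fun _ _ => rfl, bot_le, fun _ h => h⟩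
    c1 (fun z hz x => a3 _ _ (by rw [a1, a1, add_comm]) (by
      rw [a2, a2, (hZ z).1 hz]; simp [add_comm])) q1
    (fun x => by rw [hZ, a1, CharTwo.add_self_eq_zero]) fun x y h => by
      rw [hq, a2, CharTwo.add_self_eq_zero, zero_add, h]
  exact ⟨e⟩

theorem s1137 {P : Type*} [Group P] (hP : Cfsg.IsSuzukiTwoGroup P) :
    (∀ x : P, (x ≠ 1 ∧ x * x = 1) ↔ (x ∈ Subgroup.center P ∧ x ≠ 1)) ∧
      ∀ z ∈ Subgroup.center P, z * z = 1 := by
  have := hP.1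
  obtain ⟨ξ, n, Z, f, l, -, S⟩ := suzD_of_suzuki hP
  rw [S.center_eq (by simpa using hP.2.2.1)]
  exact ⟨fun x => by rw [S.mem, and_comm], fun z => (S.mem z).1⟩

theorem s1138 {P : Type*} [Group P] (hP : Cfsg.IsSuzukiTwoGroup P) :
    (∀ x : P, x * x ∈ Subgroup.center P) ∧ (∀ x y : P, x⁻¹ * y⁻¹ * x * y ∈ Subgroup.center P) ∧
      (Nat.card P = Nat.card (Subgroup.center P) ^ 2 ∨ Nat.card P = Nat.card (Subgroup.center P) ^ 3) ∧
      Monoid.exponent P = 4 := by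
  have := hP.1
  obtain ⟨ξ, n, Z, f, l, -, S⟩ := suzD_of_suzuki hP
  have h1 : ¬ ∀ x y : P, x * y = y * x := by simpa using hP.2.2.1
  have h := S.sq_mem h1
  rw [S.center_eq h1, S.card_Z]
  refine ⟨h, fun x y => by simpa [commutatorElement_def] using S.comm_mem h x⁻¹ y⁻¹,
    S.card_eq h (S.ne_top h1), ?_⟩
  have h2 : Monoid.exponent P ∣ 2 ^ 2 := Monoid.exponent_dvd_of_forall_pow_eq_one fun x => by
    rw [← (S.mem _).1 (h x)]; simp [pow_succ, mul_assoc]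
  obtain ⟨k, hk, e⟩ := (Nat.dvd_prime_pow Nat.prime_two).1 h2
  by_contra h3
  refine S.ne_top h1 (eq_top_iff.2 fun x _ => (S.mem x).2 ?_)
  rw [← sq]
  refine Monoid.exponent_dvd_iff_forall_pow_eq_one.1 ?_ x
  rw [e] at h3 ⊢
  interval_cases k <;> simp_all

theorem s1139 {P : Type*} [Group P] (hP : Cfsg.IsSuzukiTwoGroup P)
    (hcard : Nat.card P = Nat.card (Subgroup.center P) ^ 2) :
    ∃ (F : Type) (_ : Field F) (_ : Fintype F) (φ : F ≃+* F), Fintype.card F = Nat.card (Subgroup.center P) ∧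
      φ ≠ RingEquiv.refl F ∧ Odd (orderOf φ) ∧ Nonempty (P ≃* Cfsg.suzukiTypeA F (φ : F →+* F)) := by
  have := hP.1
  obtain ⟨ξ, n, Z, f, l, -, S⟩ := suzD_of_suzuki hP
  have h1 : ¬ ∀ x y : P, x * y = y * x := by simpa using hP.2.2.1
  rw [S.center_eq h1, S.card_Z] at hcard ⊢
  obtain ⟨g, f', μ, φ, -, -, s1, s2, a1, a2, a3⟩ := S.typeA h1 hcard
  exact ⟨_, inferInstance, Fintype.ofFinite _, φ, (@Nat.card_eq_fintype_card _ (_)).symm, a1, a2,
    iso_typeA s1.triv s2.triv S.cent (S.sq_mem h1) a3⟩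

end Cfsg.Agent.Inv
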