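import Cfsg.Agent.Inv.QDFus

/-! Wreathed 2-groups. -/

set_option autoImplicit false
set_option linter.unusedVariables false
set_option linter.unusedSectionVars false

namespace Cfsg.Agent.Inv

open Cfsg.Agent.PLoc Subgroup

variable {G : Type*} [Group G]

/-! ### automorphisms of odd order, as functions -/

structure OddAut (T : Subgroup G) (φ : G → G) : Prop where
  mem : ∀ a ∈ T, φ a ∈ T
  mul : ∀ a ∈ T, ∀ b ∈ T, φ (a * b) = φ a * φ b
  odd : ∃ m, Odd m ∧ ∀ a ∈ T, φ^[m] a = a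

namespace OddAut

variable {T : Subgroup G} {φ : G → G}

theorem of_conj {g : G} (hg : g ∈ normalizer (T : Set G)) (hodd : Odd (orderOf g)) :
    OddAut T fun a => g * a * g⁻¹ := by
  refine ⟨fun a ha => conj_mem_of_mem_normalizer hg ha, fun a _ b _ => by group, _, hodd,
    fun a _ => ?_⟩
  have : ∀ m : ℕ, (fun a => g * a * g⁻¹)^[m] a = g ^ m * a * (g ^ m)⁻¹ := by
    intro m
    induction m with
    | zero => simp
    | succ m ih => rw [Function.iterate_succ_apply', ih, pow_succ']; group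
  rw [this, pow_orderOf_eq_one]; simp

theorem exists_of_not_isPGroup [Finite G] (h : ¬ IsPGroup 2 (MulAut T)) :
    ∃ φ, OddAut T φ ∧ ∃ a ∈ T, φ a ≠ a := by
  classical
  obtain ⟨α, h1, h2⟩ : ∃ α : MulAut T, (orderOf α).Coprime 2 ∧ α ≠ 1 := by
    by_contra hc
    push Not at hc
    exact h (isPGroup_top_iff.1 (isPGroup_of_forall_coprime fun x _ hx => hc x hx))
  refine ⟨fun a => if ha : a ∈ T then (α ⟨a, ha⟩ : G) else a, ⟨fun a ha => ?_, fun a ha b hb => ?_,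
    _, Nat.coprime_two_right.1 h1, fun a ha => ?_⟩, ?_⟩
  · simp [ha]
  · simp only [ha, hb, T.mul_mem ha hb, dif_pos]
    rw [← coe_mul, ← map_mul]; rfl
  · have : ∀ m : ℕ, (fun a => if ha : a ∈ T then (α ⟨a, ha⟩ : G) else a)^[m] a =
        ((α ^ m) ⟨a, ha⟩ : G) := by
      intro m
      induction m with
      | zero => simp
      | succ m ih => rw [Function.iterate_succ_apply', ih, pow_succ']; simp
    rw [this, pow_orderOf_eq_one]; rfl
  · by_contra hc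
    push Not at hc
    apply h2
    ext a
    simpa using hc a a.2

theorem restrict (h : OddAut T φ) {C : Subgroup G} (hC : C ≤ T) (h1 : ∀ a ∈ C, φ a ∈ C) :
    OddAut C φ :=
  ⟨h1, fun a ha b hb => h.mul a (hC ha) b (hC hb), h.odd.imp fun m hm =>
    ⟨hm.1, fun a ha => hm.2 a (hC ha)⟩⟩

theorem one (h : OddAut T φ) : φ 1 = 1 := by
  have := h.mul 1 T.one_mem 1 T.one_mem
  simpa using this

theorem inv (h : OddAut T φ) {a : G} (ha : a ∈ T) : φ a⁻¹ = (φ a)⁻¹ := by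
  rw [eq_inv_iff_mul_eq_one, ← h.mul _ (T.inv_mem ha) _ ha, inv_mul_cancel, h.one]

theorem inj (h : OddAut T φ) {a b : G} (ha : a ∈ T) (hb : b ∈ T) (e : φ a = φ b) : a = b := by
  obtain ⟨m, ⟨k, rfl⟩, hm⟩ := h.odd
  rw [← hm a ha, ← hm b hb, Function.iterate_add_apply, Function.iterate_add_apply,
    Function.iterate_one, e]

theorem surj (h : OddAut T φ) {a : G} (ha : a ∈ T) : ∃ b ∈ T, φ b = a := by
  obtain ⟨m, ⟨k, rfl⟩, hm⟩ := h.odd
  refine ⟨φ^[2 * k] a, ?_, (Function.iterate_succ_apply' φ _ a).symm.trans (hm a ha)⟩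
  induction (2 * k) with
  | zero => exact ha
  | succ j ih => rw [Function.iterate_succ_apply']; exact h.mem _ ih

theorem ord2 (h : OddAut T φ) {a : G} (ha : a ∈ T) (h2 : orderOf a = 2) : orderOf (φ a) = 2 :=
  ord2_iff.2 ⟨by rw [← h.mul a ha a ha, sq_of_ord2 h2, h.one],
    fun e => ne_one_of_ord2 h2 (h.inj ha T.one_mem (e.trans h.one.symm))⟩

theorem comm (h : OddAut T φ) {a b : G} (ha : a ∈ T) (hb : b ∈ T) (e : a * b = b * a) :
    φ a * φ b = φ b * φ a := by rw [← h.mul a ha b hb, e, h.mul b hb a ha]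

theorem fix (h : OddAut T φ) (hT : IsPGroup 2 T) {g : G} (hg : g ∈ T)
    (hd : φ (φ g * g⁻¹) = φ g * g⁻¹) : φ g = g := by
  obtain ⟨m, hm, e⟩ := h.odd
  have hdT : φ g * g⁻¹ ∈ T := T.mul_mem (h.mem g hg) (T.inv_mem hg)
  have h1 : φ g = (φ g * g⁻¹) * g := by group
  generalize φ g * g⁻¹ = d at hd hdT h1
  have h2 : ∀ j : ℕ, φ (d ^ j) = d ^ j := by
    intro j
    induction j with
    | zero => simpa using h.one
    | succ j ih => rw [pow_succ, h.mul _ (T.pow_mem hdT j) _ hdT, ih, hd]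
  have h3 : ∀ j : ℕ, φ^[j] g = d ^ j * g := by
    intro j
    induction j with
    | zero => simp
    | succ j ih => rw [Function.iterate_succ_apply', ih, h.mul _ (T.pow_mem hdT j) _ hg, h2, h1,
        pow_succ, mul_assoc]
  have h4 : d ^ m = 1 := by simpa [h3] using e g hg
  have h5 := eq_one_of_isPGroup_of_coprime hT hdT
    (Nat.coprime_two_right.2 (hm.of_dvd_nat (orderOf_dvd_of_pow_eq_one h4)))
  rw [h1, h5, one_mul]

theorem fix_of_comm (h : OddAut T φ) (hT : IsPGroup 2 T) (hc : IsMulCommutative T)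
    (h2 : ∀ t ∈ T, orderOf t = 2 → φ t = t) : ∀ g ∈ T, φ g = g := by
  have key : ∀ e : ℕ, ∀ g ∈ T, g ^ 2 ^ e = 1 → φ g = g := by
    intro e
    induction e with
    | zero => intro g _ hg; rw [pow_zero, pow_one] at hg; rw [hg, h.one]
    | succ e ih =>
      intro g hg he
      have h3 := ih (g * g) (T.mul_mem hg hg) (by rw [← pow_two, ← pow_mul, ← pow_succ', he])
      rw [h.mul g hg g hg] at h3
      apply h.fix hT hg
      have hdT : φ g * g⁻¹ ∈ T := T.mul_mem (h.mem g hg) (T.inv_mem hg)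
      by_cases h1 : φ g * g⁻¹ = 1
      · rw [h1, h.one]
      · refine h2 _ hdT (ord2_iff.2 ⟨?_, h1⟩)
        rw [mul_assoc, ← mul_assoc g⁻¹, comm_of_mem hc (T.inv_mem hg) (h.mem g hg), mul_assoc,
          ← mul_assoc, h3]
        group
  intro g hg
  obtain ⟨e, he⟩ := isPGroup_iff_forall.1 hT g hg
  exact key e g hg he

theorem fix_of_isCyclic [Finite G] (h : OddAut T φ) (hT : IsPGroup 2 T) (hc : IsCyclic T) :
    ∀ g ∈ T, φ g = g :=
  h.fix_of_comm hT inferInstance fun t ht h2 =>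
    invol_eq_of_isCyclic hc (h.mem t ht) ht (h.ord2 ht h2) h2

end OddAut

theorem Q8.normalizer_sup_le [Finite G] {Q Z : Subgroup G} {t : G} (h : Q8 Q t)
    (hZ : Z ≤ centralizer (Q : Set G)) (hc : IsCyclic Z) (ht : t ∈ Z) :
    normalizer ((Q ⊔ Z : Subgroup G) : Set G) ≤ normalizer (Q : Set G) := by
  have hm : ∀ v ∈ Q ⊔ Z, ∃ q ∈ Q, ∃ c ∈ Z, q * c = v := fun v hv => by
    rw [sup_comm] at hv
    obtain ⟨c, h1, q, h2, rfl⟩ :=
      (mem_sup_of_le_normalizer_right (hZ.trans (centralizer_le_normalizer _))).1 hv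
    exact ⟨q, h2, c, h1, hZ h1 q h2⟩
  have hZV : Z ≤ centralizer ((Q ⊔ Z : Subgroup G) : Set G) := by
    rw [centralizer_sup']
    exact le_inf hZ fun a ha b hb => comm_of_mem inferInstance hb ha
  have hnc : ∀ q ∈ Q, q * q = t → q ∉ centralizer (Q : Set G) := by
    intro q hq h1 h2
    obtain ⟨j, hj, h3, h4, h5⟩ := h.ex q hq
    have := h.inv q hq j hj h1 h3 h4 h5
    rw [h2 j hj, mul_inv_cancel_right] at this
    exact ne_one_of_ord2 h.zord (h1 ▸ mul_eq_one_iff_eq_inv.2 this)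
  intro n hn
  have hn' := normalizer_le_normalizer_centralizer _ hn
  have h1 : n * t * n⁻¹ = t := by
    obtain ⟨q, hq, c, hc', e⟩ := hm _ (conj_mem_of_mem_normalizer hn (mem_sup_left h.zmem))
    have h2 := conj_mem_of_mem_normalizer hn' (hZV ht)
    refine invol_eq_of_isCyclic hc ?_ ht ((Inv.orderOf_conj' _ _).trans h.zord) h.zord
    rw [← e] at h2 ⊢
    rcases h.cases q hq with rfl | rfl | h3
    · simpa using hc'
    · exact Z.mul_mem ht hc'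
    · exact absurd ((mul_mem_cancel_right (hZ hc')).1 (centralizer_anti le_sup_left h2)) (hnc q hq h3)
  refine mem_normalizer_of_conj_mem fun q hq => ?_
  rcases h.cases q hq with rfl | rfl | h3
  · simp
  · rw [h1]; exact hq
  obtain ⟨q', hq', c, hc', e⟩ := hm _ (conj_mem_of_mem_normalizer hn (mem_sup_left hq))
  have h4 : n * q * n⁻¹ ∉ Z := fun h5 => hnc q hq h3 (centralizer_anti le_sup_left (by
    simpa [mul_assoc] using conj_mem_of_mem_normalizer' hn' (hZV h5)))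
  have h5 : (n * q * n⁻¹) * (n * q * n⁻¹) = t := by rw [← h1, ← h3]; group
  rw [← e] at h4 h5 ⊢
  rcases h.cases q' hq' with rfl | rfl | h6
  · exact absurd (by simpa using hc') h4
  · exact absurd (Z.mul_mem ht hc') h4
  · rw [mul_assoc, ← mul_assoc c, ← hZ hc' q' hq', mul_assoc, ← mul_assoc, h6] at h5
    by_cases h7 : c = 1
    · simpa [h7] using hq'
    · rw [invol_eq_of_isCyclic hc hc' ht (ord2_iff.2 ⟨by simpa using h5, h7⟩) h.zord]
      exact Q.mul_mem hq' h.zmem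

/-! ### wreathed groups -/

/-- `x ^ a * y ^ b` -/
def wu (x y : G) (a b : ℤ) : G := x ^ a * y ^ b

structure WR (S : Subgroup G) (x y z : G) (l : ℕ) : Prop where
  pw : ∃ k, l = 2 ^ k
  ord : orderOf x = 4 * l
  comm : Commute x y
  disj : zpowers x ⊓ zpowers y = ⊥
  zsq : z * z = 1
  conj : z * x * z⁻¹ = y
  mem : ∀ g, g ∈ S ↔ ∃ a b : ℤ, g = wu x y a b ∨ g = wu x y a b * z

theorem wu_mul {x y : G} (h : Commute x y) (a b c d : ℤ) :
    wu x y a b * wu x y c d = wu x y (a + c) (b + d) := by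
  unfold wu
  rw [mul_assoc, ← mul_assoc (y ^ b), ← (h.zpow_zpow c b).eq]; group

theorem wu_zero (x y : G) : wu x y 0 0 = 1 := by simp [wu]

theorem wu_inv {x y : G} (h : Commute x y) (a b : ℤ) : (wu x y a b)⁻¹ = wu x y (-a) (-b) := by
  rw [inv_eq_iff_mul_eq_one, wu_mul h]; simp [wu]

theorem wu_zpow {x y : G} (h : Commute x y) (a b k : ℤ) :
    (wu x y a b) ^ k = wu x y (a * k) (b * k) := by
  unfold wu
  rw [(h.zpow_zpow a b).mul_zpow, zpow_mul, zpow_mul]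

theorem mem_sup_wu {x y g : G} (h : Commute x y) :
    g ∈ zpowers x ⊔ zpowers y ↔ ∃ a b : ℤ, g = wu x y a b := by
  rw [mem_sup_of_le_normalizer_right (zpowers_le.2 (centralizer_le_normalizer _ (by
    rw [centralizer_zpowers, mem_centralizer_singleton_iff]; exact h)))]
  constructor
  · rintro ⟨_, ⟨a, rfl⟩, _, ⟨b, rfl⟩, rfl⟩; exact ⟨a, b, rfl⟩
  · rintro ⟨a, b, rfl⟩; exact ⟨_, ⟨a, rfl⟩, _, ⟨b, rfl⟩, rfl⟩

theorem exists_WR_top [Finite G] (h : IsWreathed G) :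
    ∃ x y z l, WR (⊤ : Subgroup G) x y z l := by
  obtain ⟨n, hn, hc, x, y, z, hx, hxy, hd, hz, hzx⟩ := h
  obtain ⟨k, rfl⟩ := Nat.exists_eq_add_of_le' hn
  have hx' : orderOf x = 4 * 2 ^ k := by rw [hx]; ring
  have hzy : z * y * z⁻¹ = x := by
    rw [← hzx, inv_of_ord2 hz, ← mul_assoc, ← mul_assoc, sq_of_ord2 hz, one_mul, mul_assoc,
      sq_of_ord2 hz, mul_one]
  have hz' : z ∉ zpowers x ⊔ zpowers y := by
    intro h
    obtain ⟨a, b, rfl⟩ := (mem_sup_wu hxy).1 h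
    have h1 : y = x := by
      have hc : Commute (wu x y a b) x :=
        ((Commute.refl x).zpow_left a).mul_left ((show Commute x y from hxy).symm.zpow_left b)
      rw [← hzx, hc.eq, mul_inv_cancel_right]
    have h2 : x ∈ zpowers x ⊓ zpowers y := ⟨mem_zpowers x, h1 ▸ mem_zpowers _⟩
    rw [hd, mem_bot] at h2
    rw [h2, orderOf_one] at hx'
    omega
  have hn : ∀ a ∈ zpowers x ⊔ zpowers y, z * a * z⁻¹ ∈ zpowers x ⊔ zpowers y := by
    rw [← cj_le_iff', cj_sup, cj_zpowers, cj_zpowers, hzx, hzy, sup_comm]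
  have h2 : z * z ∈ zpowers x ⊔ zpowers y := by rw [sq_of_ord2 hz]; exact one_mem _
  have htop : (zpowers x ⊔ zpowers y) ⊔ zpowers z = ⊤ := by
    apply eq_top_of_card_eq
    rw [card_sup_zpowers hn h2 hz', card_sup_of_disjoint (zpowers_le.2 (centralizer_le_normalizer _
      (by rw [centralizer_zpowers, mem_centralizer_singleton_iff]; exact hxy))) hd,
      Nat.card_zpowers, Nat.card_zpowers, ← hzx, Inv.orderOf_conj', hx, hc]
    ring
  refine ⟨x, y, z, 2 ^ k, ⟨k, rfl⟩, hx', hxy, hd, sq_of_ord2 hz, hzx,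
    fun g => ⟨fun hg => ?_, fun _ => trivial⟩⟩
  rw [← htop, mem_sup_zpowers_iff hn h2, mem_sup_wu hxy, mem_sup_wu hxy] at hg
  rcases hg with ⟨a, b, e⟩ | ⟨a, b, e⟩
  · exact ⟨a, b, Or.inl e⟩
  · exact ⟨a, b, Or.inr (by rw [← e]; simp)⟩

theorem exists_WR [Finite G] {S : Subgroup G} (h : IsWreathed S) :
    ∃ x y z l, WR S x y z l := by
  obtain ⟨x, y, z, l, h⟩ := exists_WR_top h
  refine ⟨x, y, z, l, h.pw, by rw [Subgroup.orderOf_coe, h.ord], congrArg Subtype.val h.comm.eq, ?_,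
    congrArg Subtype.val h.zsq, congrArg Subtype.val h.conj, fun g => ⟨fun hg => ?_, ?_⟩⟩
  · rw [eq_bot_iff]
    rintro _ ⟨⟨a, rfl⟩, ⟨b, hb⟩⟩
    have : x ^ a ∈ zpowers x ⊓ zpowers y := ⟨⟨a, rfl⟩, ⟨b, Subtype.ext hb⟩⟩
    rw [h.disj] at this
    exact congrArg Subtype.val this
  · obtain ⟨a, b, hk | hk⟩ := (h.mem ⟨g, hg⟩).1 trivial
    · exact ⟨a, b, Or.inl (congrArg Subtype.val hk)⟩
    · exact ⟨a, b, Or.inr (congrArg Subtype.val hk)⟩
  · rintro ⟨a, b, rfl | rfl⟩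
    · exact (wu x y a b).2
    · exact (wu x y a b * z).2

theorem isWR_of_equiv {A B : Type*} [Group A] [Group B] (e : A ≃* B) (h : IsWreathed A) :
    IsWreathed B := by
  obtain ⟨n, hn, hc, x, y, z, hx, hxy, hd, hz, hzx⟩ := h
  refine ⟨n, hn, by rw [← hc, Nat.card_congr e.toEquiv], e x, e y, e z, by rw [e.orderOf_eq, hx],
    by rw [← map_mul, hxy, map_mul], ?_, by rw [e.orderOf_eq, hz],
    by rw [← map_inv, ← map_mul, ← map_mul, hzx]⟩
  have := map_inf_eq (zpowers x) (zpowers y) e.toMonoidHom e.injective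
  rw [hd, Subgroup.map_bot, MonoidHom.map_zpowers, MonoidHom.map_zpowers] at this
  exact this.symm

namespace WR

variable [Finite G] {S : Subgroup G} {x y z : G} {l : ℕ}

theorem lpos (h : WR S x y z l) : 0 < l := by obtain ⟨k, rfl⟩ := h.pw; positivity

theorem zinv (h : WR S x y z l) : z⁻¹ = z := inv_eq_of_mul_eq_one_right h.zsq

theorem yord (h : WR S x y z l) : orderOf y = 4 * l := by rw [← h.conj, Inv.orderOf_conj', h.ord]

theorem conj' (h : WR S x y z l) : z * y * z⁻¹ = x := by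
  rw [← h.conj, h.zinv, ← mul_assoc, ← mul_assoc, h.zsq, one_mul, mul_assoc, h.zsq, mul_one]

theorem eq_iff (h : WR S x y z l) {a b c d : ℤ} : wu x y a b = wu x y c d ↔
    (∃ i : ℤ, a - c = 4 * (l * i)) ∧ ∃ j : ℤ, b - d = 4 * (l * j) := by
  have e1 : x ^ a = x ^ c ↔ ∃ i : ℤ, a - c = 4 * (l * i) := by
    rw [zpow_eq_iff_dvd h.ord]; exact exists_congr fun c => by push_cast; rw [mul_assoc]
  have e2 : y ^ b = y ^ d ↔ ∃ i : ℤ, b - d = 4 * (l * i) := by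
    rw [zpow_eq_iff_dvd h.yord]; exact exists_congr fun c => by push_cast; rw [mul_assoc]
  rw [← e1, ← e2]
  refine ⟨fun e => ?_, fun e => by rw [wu, wu, e.1, e.2]⟩
  have e3 : x ^ (a - c) = y ^ (d - b) := by
    calc x ^ (a - c) = x ^ (-c) * (x ^ a * y ^ b) * y ^ (-b) := by group
      _ = _ := by rw [show x ^ a * y ^ b = x ^ c * y ^ d from e]; group
  have h1 : x ^ (a - c) ∈ zpowers x ⊓ zpowers y := ⟨⟨_, rfl⟩, ⟨_, e3.symm⟩⟩
  rw [h.disj, mem_bot] at h1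
  rw [h1, eq_comm, zpow_sub, mul_inv_eq_one] at e3
  rw [zpow_sub, mul_inv_eq_one] at h1
  exact ⟨h1, e3.symm⟩

theorem ne_left (h : WR S x y z l) {a b c d : ℤ} (h0 : a ≠ c) (h1 : a - c < 4 * l)
    (h2 : c - a < 4 * l) : wu x y a b ≠ wu x y c d := by
  intro e
  obtain ⟨i, hi⟩ := (h.eq_iff.1 e).1
  have := Int.eq_zero_of_abs_lt_dvd (m := 4 * l) (x := a - c) ⟨i, by rw [hi]; ring⟩
    (by rw [abs_lt]; omega)
  omega

theorem ne_right (h : WR S x y z l) {a b c d : ℤ} (h0 : b ≠ d) (h1 : b - d < 4 * l)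
    (h2 : d - b < 4 * l) : wu x y a b ≠ wu x y c d := by
  intro e
  obtain ⟨i, hi⟩ := (h.eq_iff.1 e).2
  have := Int.eq_zero_of_abs_lt_dvd (m := 4 * l) (x := b - d) ⟨i, by rw [hi]; ring⟩
    (by rw [abs_lt]; omega)
  omega

theorem z_mul (h : WR S x y z l) (a b : ℤ) : z * wu x y a b = wu x y b a * z := by
  unfold wu
  have e1 : z * x ^ a * z⁻¹ = y ^ a := by rw [← conj_zpow, h.conj]
  have e2 : z * y ^ b * z⁻¹ = x ^ b := by rw [← conj_zpow, h.conj']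
  rw [(h.comm.zpow_zpow b a).eq, ← e1, ← e2]
  group

theorem umem (h : WR S x y z l) (a b : ℤ) : wu x y a b ∈ S := (h.mem _).2 ⟨a, b, Or.inl rfl⟩
theorem omem (h : WR S x y z l) (a b : ℤ) : wu x y a b * z ∈ S := (h.mem _).2 ⟨a, b, Or.inr rfl⟩
theorem zmem (h : WR S x y z l) : z ∈ S := by simpa [wu] using h.omem 0 0

theorem mem_U (h : WR S x y z l) {g : G} :
    g ∈ zpowers x ⊔ zpowers y ↔ ∃ a b : ℤ, g = wu x y a b := mem_sup_wu h.comm

theorem umem_U (h : WR S x y z l) (a b : ℤ) : wu x y a b ∈ zpowers x ⊔ zpowers y :=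
  h.mem_U.2 ⟨a, b, rfl⟩

theorem U_le (h : WR S x y z l) : zpowers x ⊔ zpowers y ≤ S := fun g hg => by
  obtain ⟨a, b, rfl⟩ := h.mem_U.1 hg; exact h.umem a b

theorem u_comm (h : WR S x y z l) (a b c d : ℤ) :
    wu x y a b * wu x y c d = wu x y c d * wu x y a b := by
  rw [wu_mul h.comm, wu_mul h.comm, add_comm a, add_comm b]

theorem U_comm (h : WR S x y z l) : IsMulCommutative (zpowers x ⊔ zpowers y : Subgroup G) :=
  isMulCommutative_of_forall fun g hg k hk => by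
    obtain ⟨a, b, rfl⟩ := h.mem_U.1 hg
    obtain ⟨c, d, rfl⟩ := h.mem_U.1 hk
    exact h.u_comm _ _ _ _

theorem o_not_mem (h : WR S x y z l) (a b : ℤ) : wu x y a b * z ∉ zpowers x ⊔ zpowers y := by
  intro e
  have h1 := comm_of_mem h.U_comm ((mul_mem_cancel_left (h.umem_U a b)).1 e) (h.umem_U 1 0)
  rw [h.z_mul, mul_left_inj] at h1
  have := h.lpos
  exact h.ne_left (by omega) (by omega) (by omega) h1

theorem z_not_mem (h : WR S x y z l) : z ∉ zpowers x ⊔ zpowers y := by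
  simpa [wu] using h.o_not_mem 0 0

theorem zord (h : WR S x y z l) : orderOf z = 2 :=
  ord2_iff.2 ⟨h.zsq, fun e => h.z_not_mem (e ▸ one_mem _)⟩

theorem exists_o (h : WR S x y z l) {g : G} (hg : g ∈ S) (h1 : g ∉ zpowers x ⊔ zpowers y) :
    ∃ a b : ℤ, g = wu x y a b * z := by
  obtain ⟨a, b, rfl | rfl⟩ := (h.mem g).1 hg
  · exact absurd (h.umem_U a b) h1
  · exact ⟨a, b, rfl⟩

theorem sq_o (h : WR S x y z l) (a b : ℤ) :
    (wu x y a b * z) * (wu x y a b * z) = wu x y (a + b) (a + b) := by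
  rw [mul_assoc, ← mul_assoc z, h.z_mul, mul_assoc, h.zsq, mul_one, wu_mul h.comm, add_comm b a]

theorem o_conj (h : WR S x y z l) (a b c d : ℤ) :
    (wu x y a b * z) * wu x y c d * (wu x y a b * z)⁻¹ = wu x y d c := by
  rw [mul_assoc (wu x y a b), h.z_mul, ← mul_assoc, h.u_comm]; group

theorem conj_o (h : WR S x y z l) (a b c d : ℤ) :
    wu x y c d * (wu x y a b * z) * (wu x y c d)⁻¹ = wu x y (a + c - d) (b + d - c) * z := by
  rw [wu_inv h.comm, mul_assoc, mul_assoc, h.z_mul, ← mul_assoc, ← mul_assoc, wu_mul h.comm,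
    wu_mul h.comm]
  congr 2 <;> ring

theorem conj_mem_U (h : WR S x y z l) {g c : G} (hg : g ∈ S) (hc : c ∈ zpowers x ⊔ zpowers y) :
    g * c * g⁻¹ ∈ zpowers x ⊔ zpowers y := by
  obtain ⟨a, b, rfl | rfl⟩ := (h.mem g).1 hg
  · exact mul_mem (mul_mem (h.umem_U a b) hc) (inv_mem (h.umem_U a b))
  · obtain ⟨c, d, rfl⟩ := h.mem_U.1 hc
    rw [h.o_conj]; exact h.umem_U _ _

theorem card_U (h : WR S x y z l) :
    Nat.card (zpowers x ⊔ zpowers y : Subgroup G) = (4 * l) * (4 * l) := by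
  rw [card_sup_of_disjoint (zpowers_le.2 (centralizer_le_normalizer _
      (by rw [centralizer_zpowers, mem_centralizer_singleton_iff]; exact h.comm))) h.disj,
      Nat.card_zpowers, Nat.card_zpowers, h.ord, h.yord]

theorem card (h : WR S x y z l) : Nat.card S = 2 * ((4 * l) * (4 * l)) := by
  have : S = (zpowers x ⊔ zpowers y) ⊔ zpowers z := by
    refine le_antisymm (fun g hg => ?_) (sup_le h.U_le (zpowers_le.2 h.zmem))
    obtain ⟨a, b, rfl | rfl⟩ := (h.mem g).1 hg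
    · exact mem_sup_left (h.umem_U a b)
    · exact mul_mem_sup (h.umem_U a b) (mem_zpowers z)
  rw [this, card_sup_zpowers (fun a ha => h.conj_mem_U h.zmem ha)
    (by rw [h.zsq]; exact one_mem _) h.z_not_mem, h.card_U]

theorem isPGroup (h : WR S x y z l) : IsPGroup 2 S := by
  obtain ⟨k, hk⟩ := h.pw
  exact IsPGroup.of_card (n := 2 * k + 5) (by rw [h.card, hk]; ring)

theorem relIndex_U (h : WR S x y z l) : (zpowers x ⊔ zpowers y).relIndex S = 2 :=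
  relIndex_eq_two_of_card h.U_le (by rw [h.card, h.card_U])

theorem card_eq (h : WR S x y z l) {n : ℕ} (hn : Nat.card S = 2 ^ (2 * n + 1)) :
    4 * l = 2 ^ n ∧ 2 * l = 2 ^ (n - 1) := by
  obtain ⟨k, rfl⟩ := h.pw
  rw [h.card, show 2 * (4 * 2 ^ k * (4 * 2 ^ k)) = 2 ^ (2 * (k + 2) + 1) by ring] at hn
  have := Nat.pow_right_injective le_rfl hn
  obtain rfl : n = k + 2 := by omega
  exact ⟨by ring, by rw [show k + 2 - 1 = k + 1 by rfl]; ring⟩

theorem ord_of (h : WR S x y z l) (b : ℤ) : orderOf (wu x y 1 b) = 4 * l := by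
  refine Nat.dvd_antisymm (orderOf_dvd_of_pow_eq_one ?_) ?_
  · rw [← zpow_natCast, wu_zpow h.comm, ← wu_zero x y, h.eq_iff]
    exact ⟨⟨1, by push_cast; ring⟩, ⟨b, by push_cast; ring⟩⟩
  · have := pow_orderOf_eq_one (wu x y 1 b)
    rw [← zpow_natCast, wu_zpow h.comm, ← wu_zero x y, h.eq_iff] at this
    obtain ⟨i, hi⟩ := this.1
    exact Int.natCast_dvd_natCast.1 ⟨i, by push_cast; linarith⟩

theorem mem_Z (h : WR S x y z l) {g : G} : g ∈ zpowers (wu x y 1 1) ↔ ∃ a : ℤ, g = wu x y a a :=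
  exists_congr fun a => by simp only [wu_zpow h.comm, one_mul, eq_comm]

theorem mem_W (h : WR S x y z l) {g : G} :
    g ∈ zpowers (wu x y 1 (-1)) ↔ ∃ a : ℤ, g = wu x y a (-a) :=
  exists_congr fun a => by simp only [wu_zpow h.comm, one_mul, neg_mul, eq_comm]

theorem cmem (h : WR S x y z l) (a : ℤ) : wu x y a a ∈ zpowers (wu x y 1 1) := h.mem_Z.2 ⟨a, rfl⟩
theorem wmem (h : WR S x y z l) (a : ℤ) : wu x y a (-a) ∈ zpowers (wu x y 1 (-1)) :=
  h.mem_W.2 ⟨a, rfl⟩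

theorem Z_le_U (h : WR S x y z l) : zpowers (wu x y 1 1) ≤ zpowers x ⊔ zpowers y :=
  zpowers_le.2 (h.umem_U _ _)

theorem W_le_U (h : WR S x y z l) : zpowers (wu x y 1 (-1)) ≤ zpowers x ⊔ zpowers y :=
  zpowers_le.2 (h.umem_U _ _)

theorem Z_comm (h : WR S x y z l) {c g : G} (hc : c ∈ zpowers (wu x y 1 1)) (hg : g ∈ S) :
    g * c = c * g := by
  obtain ⟨k, rfl⟩ := h.mem_Z.1 hc
  obtain ⟨a, b, rfl | rfl⟩ := (h.mem g).1 hg
  · exact h.u_comm _ _ _ _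
  · exact mul_inv_eq_iff_eq_mul.1 (h.o_conj a b k k)

theorem mem_Z_of_comm (h : WR S x y z l) {u o : G} (hu : u ∈ zpowers x ⊔ zpowers y) (ho : o ∈ S)
    (ho' : o ∉ zpowers x ⊔ zpowers y) (e : o * u = u * o) : u ∈ zpowers (wu x y 1 1) := by
  obtain ⟨a, b, rfl⟩ := h.exists_o ho ho'
  obtain ⟨c, d, rfl⟩ := h.mem_U.1 hu
  have := h.o_conj a b c d
  rw [e, mul_inv_cancel_right, h.eq_iff] at this
  exact h.mem_Z.2 ⟨c, h.eq_iff.2 ⟨⟨0, by simp⟩, this.2⟩⟩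

theorem sq_mem_Z (h : WR S x y z l) {o : G} (ho : o ∈ S) (ho' : o ∉ zpowers x ⊔ zpowers y) :
    o * o ∈ zpowers (wu x y 1 1) := by
  obtain ⟨a, b, rfl⟩ := h.exists_o ho ho'
  rw [h.sq_o]; exact h.cmem _

theorem comm_of_comm_o (h : WR S x y z l) {o a b : G} (ho : o ∈ S)
    (ho' : o ∉ zpowers x ⊔ zpowers y) (ha : a ∈ S) (hb : b ∈ S) (e1 : o * a = a * o)
    (e2 : o * b = b * o) : a * b = b * a := by
  by_cases h1 : a ∈ zpowers x ⊔ zpowers y
  · exact (h.Z_comm (h.mem_Z_of_comm h1 ho ho' e1) hb).symm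
  · have h2 := h.mem_Z_of_comm (mul_mem_of_relIndex_two h.relIndex_U ha (inv_mem ho) h1
      (by simpa using ho')) ho ho' (by rw [← mul_assoc, e1]; group)
    calc a * b = a * o⁻¹ * (o * b) := by group
      _ = b * (a * o⁻¹) * o := by rw [e2, ← mul_assoc, ← h.Z_comm h2 hb]
      _ = _ := by group

theorem center_eq (h : WR S x y z l) : S ⊓ centralizer (S : Set G) = zpowers (wu x y 1 1) := by
  refine le_antisymm ?_ fun c hc => ⟨h.U_le (h.Z_le_U hc), fun g hg => h.Z_comm hc hg⟩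
  rintro g ⟨hg, hc⟩
  by_cases h1 : g ∈ zpowers x ⊔ zpowers y
  · exact h.mem_Z_of_comm h1 h.zmem h.z_not_mem (hc z h.zmem)
  · have := h.comm_of_comm_o hg h1 h.zmem (h.umem 1 0) (hc _ h.zmem).symm (hc _ (h.umem 1 0)).symm
    rw [h.z_mul, mul_left_inj] at this
    have := h.lpos
    exact absurd ‹_› (h.ne_left (by omega) (by omega) (by omega))

theorem mem_Z_of_central (h : WR S x y z l) {X : Subgroup G} (hX : X ≤ S)
    (hn : ¬ IsMulCommutative X) {g : G} (hg : g ∈ S) (hc : g ∈ centralizer (X : Set G)) :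
    g ∈ zpowers (wu x y 1 1) := by
  by_cases h1 : g ∈ zpowers x ⊔ zpowers y
  · obtain ⟨o, ho, ho'⟩ := SetLike.not_le_iff_exists.1
      (fun e => hn (isMulCommutative_of_le h.U_comm e))
    exact h.mem_Z_of_comm h1 (hX ho) ho' (hc o ho)
  · exact absurd (isMulCommutative_of_forall fun a ha b hb =>
      h.comm_of_comm_o hg h1 (hX ha) (hX hb) (hc a ha).symm (hc b hb).symm) hn

theorem tord (h : WR S x y z l) : orderOf (wu x y (2 * l) (2 * l)) = 2 := by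
  have := h.lpos
  refine ord2_iff.2 ⟨?_, ?_⟩
  · rw [wu_mul h.comm, ← wu_zero x y, h.eq_iff]; exact ⟨⟨1, by ring⟩, ⟨1, by ring⟩⟩
  · rw [← wu_zero x y]; exact h.ne_left (by omega) (by omega) (by omega)

theorem eord (h : WR S x y z l) : orderOf (wu x y (2 * l) 0) = 2 := by
  have := h.lpos
  refine ord2_iff.2 ⟨?_, ?_⟩
  · rw [wu_mul h.comm, ← wu_zero x y, h.eq_iff]; exact ⟨⟨1, by ring⟩, ⟨0, by ring⟩⟩
  · rw [← wu_zero x y]; exact h.ne_left (by omega) (by omega) (by omega)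

theorem e_ne_t (h : WR S x y z l) : wu x y (2 * l) 0 ≠ wu x y (2 * l) (2 * l) := by
  have := h.lpos
  exact h.ne_right (by omega) (by omega) (by omega)

theorem e_not_mem_Z (h : WR S x y z l) : wu x y (2 * l) 0 ∉ zpowers (wu x y 1 1) := fun e =>
  h.e_ne_t (invol_eq_of_isCyclic inferInstance e (h.cmem _) h.eord h.tord)

theorem eq_t (h : WR S x y z l) {t : G} (ht : t ∈ zpowers (wu x y 1 1)) (h2 : orderOf t = 2) :
    t = wu x y (2 * l) (2 * l) := invol_eq_of_isCyclic inferInstance ht (h.cmem _) h2 h.tord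

theorem e_mul_t (h : WR S x y z l) : wu x y (2 * l) 0 * wu x y (2 * l) (2 * l) = wu x y 0 (2 * l) := by
  rw [wu_mul h.comm, h.eq_iff]; exact ⟨⟨1, by ring⟩, ⟨0, by ring⟩⟩

theorem invol_U (h : WR S x y z l) {t : G} (ht : t ∈ zpowers x ⊔ zpowers y) (h2 : orderOf t = 2) :
    t = wu x y (2 * l) (2 * l) ∨ t = wu x y (2 * l) 0 ∨ t = wu x y 0 (2 * l) := by
  obtain ⟨a, b, rfl⟩ := h.mem_U.1 ht
  have h1 := sq_of_ord2 h2
  rw [wu_mul h.comm, ← wu_zero x y, h.eq_iff] at h1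
  obtain ⟨⟨i, hi⟩, ⟨j, hj⟩⟩ := h1
  rcases Int.even_or_odd' i with ⟨i, rfl | rfl⟩ <;> rcases Int.even_or_odd' j with ⟨j, rfl | rfl⟩
  · exact absurd (wu_zero x y ▸ h.eq_iff.2 ⟨⟨i, by linarith⟩, ⟨j, by linarith⟩⟩) (ne_one_of_ord2 h2)
  · exact Or.inr (Or.inr (h.eq_iff.2 ⟨⟨i, by linarith⟩, ⟨j, by linarith⟩⟩))
  · exact Or.inr (Or.inl (h.eq_iff.2 ⟨⟨i, by linarith⟩, ⟨j, by linarith⟩⟩))
  · exact Or.inl (h.eq_iff.2 ⟨⟨i, by linarith⟩, ⟨j, by linarith⟩⟩)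

theorem invol_o (h : WR S x y z l) {t : G} (ht : t ∈ S) (ht' : t ∉ zpowers x ⊔ zpowers y)
    (h2 : orderOf t = 2) : ∃ a : ℤ, t = wu x y a (-a) * z := by
  obtain ⟨a, b, rfl⟩ := h.exists_o ht ht'
  have h1 := sq_of_ord2 h2
  rw [h.sq_o, ← wu_zero x y, h.eq_iff] at h1
  obtain ⟨i, hi⟩ := h1.1
  exact ⟨a, by rw [mul_left_inj, h.eq_iff]; exact ⟨⟨0, by ring⟩, ⟨i, by linarith⟩⟩⟩

theorem conj_z (h : WR S x y z l) (a : ℤ) : wu x y a 0 * z * (wu x y a 0)⁻¹ = wu x y a (-a) * z := by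
  simpa [wu_zero] using h.conj_o 0 0 a 0

theorem oord (h : WR S x y z l) (a : ℤ) : orderOf (wu x y a (-a) * z) = 2 := by
  rw [← h.conj_z, Inv.orderOf_conj', h.zord]

theorem conj_e (h : WR S x y z l) : z * wu x y (2 * l) 0 * z⁻¹ = wu x y 0 (2 * l) := by
  rw [h.z_mul, mul_inv_cancel_right]

theorem invol_conj (h : WR S x y z l) {t : G} (ht : t ∈ S) (h2 : orderOf t = 2) :
    IsConj (wu x y (2 * l) (2 * l)) t ∨ IsConj (wu x y (2 * l) 0) t ∨ IsConj z t := by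
  by_cases h1 : t ∈ zpowers x ⊔ zpowers y
  · rcases h.invol_U h1 h2 with rfl | rfl | rfl
    · exact Or.inl (IsConj.refl _)
    · exact Or.inr (Or.inl (IsConj.refl _))
    · exact Or.inr (Or.inl (isConj_iff.2 ⟨z, h.conj_e⟩))
  · obtain ⟨a, rfl⟩ := h.invol_o ht h1 h2
    exact Or.inr (Or.inr (isConj_iff.2 ⟨_, h.conj_z a⟩))

theorem eq_U (h : WR S x y z l) {A : Subgroup G} (hA : A ≤ S) (hc : IsMulCommutative A)
    (hcard : Nat.card A = (4 * l) * (4 * l)) : A = zpowers x ⊔ zpowers y := by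
  refine eq_of_le_of_card_ge ?_ (by rw [hcard, h.card_U])
  by_contra h1
  obtain ⟨o, ho, ho'⟩ := SetLike.not_le_iff_exists.1 h1
  have h2 : A ⊓ (zpowers x ⊔ zpowers y) ≤ zpowers (wu x y 1 1) := fun g hg =>
    h.mem_Z_of_comm hg.2 (hA ho) ho' (comm_of_mem hc ho hg.1)
  have h3 := card_le_of_le h2
  have h4 := card_inf_mul_relIndex (zpowers x ⊔ zpowers y) A
  have h5 := relIndex_le_of_le_right (H := zpowers x ⊔ zpowers y) hA (by rw [h.relIndex_U]; omega)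
  rw [h.relIndex_U] at h5
  rw [Nat.card_zpowers, h.ord_of, inf_comm] at h3
  have := Nat.mul_le_mul h3 h5
  have := h.lpos
  nlinarith

theorem equiv_U (h : WR S x y z l) : Nonempty ((zpowers x ⊔ zpowers y : Subgroup G) ≃*
    Multiplicative (ZMod (4 * l) × ZMod (4 * l))) := by
  have hx : x ^ (4 * l) = 1 := h.ord ▸ pow_orderOf_eq_one x
  have hy : y ^ (4 * l) = 1 := h.yord ▸ pow_orderOf_eq_one y
  have hc : ∀ a b : ZMod (4 * l), zpw x a * zpw y b = zpw y b * zpw x a := fun a b =>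
    comm_of_mem h.U_comm (mem_sup_left (zpw_mem x a)) (mem_sup_right (zpw_mem y b))
  let φ : Multiplicative (ZMod (4 * l) × ZMod (4 * l)) →* G := MonoidHom.mk'
    (fun p => zpw x p.toAdd.1 * zpw y p.toAdd.2) (fun p q => by
      simp only [toAdd_mul, Prod.fst_add, Prod.snd_add, zpw_add hx, zpw_add hy]
      rw [mul_assoc, mul_assoc, ← mul_assoc (zpw x q.toAdd.1), hc, mul_assoc])
  have h1 : Function.Injective φ := by
    rw [injective_iff_map_eq_one]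
    intro p hp
    have e : zpw x p.toAdd.1 = (zpw y p.toAdd.2)⁻¹ := eq_inv_of_mul_eq_one_left hp
    have h2 : zpw x p.toAdd.1 ∈ zpowers x ⊓ zpowers y := ⟨zpw_mem _ _, e ▸ (zpowers y).inv_mem (zpw_mem _ _)⟩
    rw [h.disj, mem_bot] at h2
    rw [h2, eq_comm, inv_eq_one] at e
    exact Multiplicative.toAdd.injective (Prod.ext (zpw_eq_one h.ord _ h2) (zpw_eq_one h.yord _ e))
  have h2 : φ.range = zpowers x ⊔ zpowers y := by
    refine le_antisymm ?_ fun g hg => ?_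
    · rintro _ ⟨p, rfl⟩
      exact mul_mem_sup (zpw_mem _ _) (zpw_mem _ _)
    · obtain ⟨a, b, rfl⟩ := h.mem_U.1 hg
      exact ⟨Multiplicative.ofAdd ((a : ZMod (4 * l)), (b : ZMod (4 * l))), by
        simp [φ, zpw_intCast hx, zpw_intCast hy, wu]⟩
  exact ⟨((MonoidHom.ofInjective h1).trans (MulEquiv.subgroupCongr h2)).symm⟩

theorem commutator_mem_W (h : WR S x y z l) {g k : G} (hg : g ∈ S) (hk : k ∈ S) :
    g * k * g⁻¹ * k⁻¹ ∈ zpowers (wu x y 1 (-1)) := by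
  obtain ⟨a, b, rfl | rfl⟩ := (h.mem g).1 hg <;> obtain ⟨c, d, rfl | rfl⟩ := (h.mem k).1 hk
  · rw [h.u_comm]; simp
  · rw [h.conj_o, mul_inv_rev, mul_assoc, mul_inv_cancel_left, wu_inv h.comm, wu_mul h.comm]
    exact h.mem_W.2 ⟨a - b, by congr 1 <;> ring⟩
  · rw [h.o_conj, wu_inv h.comm, wu_mul h.comm]
    exact h.mem_W.2 ⟨d - c, by congr 1 <;> ring⟩
  · have : wu x y a b * z * (wu x y c d * z) * (wu x y a b * z)⁻¹ * (wu x y c d * z)⁻¹ =
        (wu x y a b * z * wu x y c d * (wu x y a b * z)⁻¹) *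
          (wu x y a b * (wu x y 0 0 * z) * (wu x y a b)⁻¹) * z⁻¹ * (wu x y c d)⁻¹ := by
      rw [wu_zero]; group
    rw [this, h.o_conj, h.conj_o, mul_assoc _ _ z⁻¹, mul_inv_cancel_right, wu_inv h.comm,
      wu_mul h.comm, wu_mul h.comm]
    exact h.mem_W.2 ⟨d - c + a - b, by congr 1 <;> ring⟩

theorem w_mem (h : WR S x y z l) {N : Subgroup G} (hN : ∀ s ∈ S, ∀ a ∈ N, s * a * s⁻¹ ∈ N)
    {o : G} (ho : o ∈ S) (ho' : o ∉ zpowers x ⊔ zpowers y) (hoN : o ∈ N) :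
    zpowers (wu x y 1 (-1)) ≤ N := by
  obtain ⟨a, b, rfl⟩ := h.exists_o ho ho'
  have := N.mul_mem (hN _ (h.umem 1 0) _ hoN) (N.inv_mem hoN)
  rw [h.conj_o, mul_inv_rev, mul_assoc, mul_inv_cancel_left, wu_inv h.comm, wu_mul h.comm] at this
  rw [zpowers_le]
  convert this using 2 <;> ring

theorem o_norm_W (h : WR S x y z l) (a b : ℤ) : ∀ g ∈ zpowers (wu x y 1 (-1)),
    (wu x y a b * z) * g * (wu x y a b * z)⁻¹ ∈ zpowers (wu x y 1 (-1)) := by
  intro g hg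
  obtain ⟨c, rfl⟩ := h.mem_W.1 hg
  rw [h.o_conj]; exact h.mem_W.2 ⟨-c, by simp⟩

theorem t_mem_W (h : WR S x y z l) : wu x y (2 * l) (2 * l) ∈ zpowers (wu x y 1 (-1)) :=
  h.mem_W.2 ⟨2 * l, h.eq_iff.2 ⟨⟨0, by ring⟩, ⟨1, by ring⟩⟩⟩

theorem sq_s (h : WR S x y z l) (a : ℤ) :
    (wu x y a (2 * l - a) * z) * (wu x y a (2 * l - a) * z) = wu x y (2 * l) (2 * l) := by
  rw [h.sq_o]; congr 1 <;> ring

theorem mem_Y (h : WR S x y z l) (c : ℤ) {g : G} :
    g ∈ closure {wu x y 1 (-1), wu x y c (2 * l - c) * z} ↔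
      ∃ a : ℤ, g = wu x y a (-a) ∨ g = wu x y a (2 * l - a) * z := by
  rw [closure_pair_eq_sup, mem_sup_zpowers_iff (h.o_norm_W _ _) (h.sq_s c ▸ h.t_mem_W), h.mem_W,
    h.mem_W]
  constructor
  · rintro (⟨a, ha⟩ | ⟨a, ha⟩)
    · exact ⟨a, Or.inl ha⟩
    · refine ⟨a + c, Or.inr ?_⟩
      rw [mul_inv_eq_iff_eq_mul.1 ha, ← mul_assoc, wu_mul h.comm]
      congr 2; ring
  · rintro ⟨a, rfl | rfl⟩
    · exact Or.inl ⟨a, rfl⟩
    · refine Or.inr ⟨a - c, ?_⟩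
      rw [mul_inv_rev, mul_assoc, mul_inv_cancel_left, wu_inv h.comm, wu_mul h.comm]
      congr 1 <;> ring

theorem Y_eq (h : WR S x y z l) (c : ℤ) : closure {wu x y 1 (-1), wu x y c (2 * l - c) * z} =
    closure {wu x y 1 (-1), wu x y 0 (2 * l - 0) * z} := by
  ext g; rw [h.mem_Y, h.mem_Y]

theorem Y_le (h : WR S x y z l) : closure {wu x y 1 (-1), wu x y 0 (2 * l - 0) * z} ≤ S := by
  rw [closure_pair_eq_sup]
  exact sup_le (zpowers_le.2 (h.umem _ _)) (zpowers_le.2 (h.omem _ _))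

theorem W_le_Y (h : WR S x y z l) :
    zpowers (wu x y 1 (-1)) ≤ closure {wu x y 1 (-1), wu x y 0 (2 * l - 0) * z} :=
  zpowers_le.2 (left_mem_closure_pair _ _)

theorem card_Y (h : WR S x y z l) :
    Nat.card (closure {wu x y 1 (-1), wu x y 0 (2 * l - 0) * z} : Subgroup G) = 2 * (4 * l) := by
  rw [closure_pair_eq_sup, card_sup_zpowers (h.o_norm_W _ _) (h.sq_s 0 ▸ h.t_mem_W)
    (fun e => h.o_not_mem _ _ (h.W_le_U e)), Nat.card_zpowers, h.ord_of]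

theorem equiv_Y (h : WR S x y z l) :
    Nonempty ((closure {wu x y 1 (-1), wu x y 0 (2 * l - 0) * z} : Subgroup G) ≃*
      QuaternionGroup (2 * l)) :=
  quaternion_equiv (by rw [h.ord_of]; ring) (by
    rw [h.sq_s, ← zpow_natCast, wu_zpow h.comm, h.eq_iff]
    exact ⟨⟨0, by push_cast; ring⟩, ⟨1, by push_cast; ring⟩⟩)
    (by rw [h.o_conj, wu_inv h.comm]; simp) (fun e => h.o_not_mem _ _ (h.W_le_U e))

theorem exists_s (h : WR S x y z l) {o : G} (ho : o ∈ S) (ho' : o ∉ zpowers x ⊔ zpowers y)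
    (e : o * o = wu x y (2 * l) (2 * l)) : ∃ a : ℤ, o = wu x y a (2 * l - a) * z := by
  obtain ⟨a, b, rfl⟩ := h.exists_o ho ho'
  rw [h.sq_o, h.eq_iff] at e
  obtain ⟨i, hi⟩ := e.1
  exact ⟨a, by rw [mul_left_inj, h.eq_iff]; exact ⟨⟨0, by ring⟩, ⟨i, by linarith⟩⟩⟩

theorem isq (h : WR S x y z l) : wu x y l (-l) * wu x y l (-l) = wu x y (2 * l) (2 * l) := by
  rw [wu_mul h.comm, h.eq_iff]; exact ⟨⟨0, by ring⟩, ⟨-1, by ring⟩⟩

theorem iord (h : WR S x y z l) : orderOf (wu x y l (-l)) = 4 := by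
  refine orderOf_eq_prime_pow (p := 2) (n := 1) ?_ ?_
  · rw [pow_one, pow_two, h.isq]; exact ne_one_of_ord2 h.tord
  · rw [show 2 ^ (1 + 1) = 2 * 2 by rfl, pow_mul, pow_two (wu _ _ _ _), h.isq, pow_two,
      sq_of_ord2 h.tord]

theorem s_conj_i (h : WR S x y z l) (a b : ℤ) :
    (wu x y a b * z) * wu x y l (-l) * (wu x y a b * z)⁻¹ = (wu x y l (-l))⁻¹ := by
  rw [h.o_conj, wu_inv h.comm, neg_neg]

theorem q8 (h : WR S x y z l) {Q : Subgroup G} {t : G} (hQ : Q8 Q t) (hQS : Q ≤ S) :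
    t = wu x y (2 * l) (2 * l) ∧ wu x y l (-l) ∈ Q ∧ ∃ a : ℤ, wu x y a (2 * l - a) * z ∈ Q ∧
      Q = zpowers (wu x y l (-l)) ⊔ zpowers (wu x y a (2 * l - a) * z) := by
  have ht : t = wu x y (2 * l) (2 * l) := h.eq_t
    (h.mem_Z_of_central hQS hQ.not_comm (hQS hQ.zmem) fun g hg => hQ.zcomm g hg) hQ.zord
  obtain ⟨i, hi, h1, hiU⟩ : ∃ i ∈ Q, i * i = t ∧ i ∈ zpowers x ⊔ zpowers y := by
    obtain ⟨i, hi, j, hj, h1, h2, h3, h4⟩ := hQ.exists_pair
    by_cases a1 : i ∈ zpowers x ⊔ zpowers y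
    · exact ⟨i, hi, h1, a1⟩
    by_cases a2 : j ∈ zpowers x ⊔ zpowers y
    · exact ⟨j, hj, h2, a2⟩
    exact ⟨_, Q.mul_mem hi hj, hQ.mul_sq hi hj h1 h2 h3 h4,
      mul_mem_of_relIndex_two h.relIndex_U (hQS hi) (hQS hj) a1 a2⟩
  obtain ⟨j, hj, h2, h3, h4⟩ := hQ.ex i hi
  have h5 := hQ.inv i hi j hj h1 h2 h3 h4
  have h6 : j ∉ zpowers x ⊔ zpowers y := fun e => by
    rw [comm_of_mem h.U_comm e hiU, mul_inv_cancel_right] at h5
    exact ne_one_of_ord2 hQ.zord (h1 ▸ mul_eq_one_iff_eq_inv.2 h5)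
  obtain ⟨a, rfl⟩ := h.exists_s (hQS hj) h6 (h2.trans ht)
  have h7 : wu x y l (-l) ∈ Q := by
    obtain ⟨p, q, rfl⟩ := h.mem_U.1 hiU
    rw [h.o_conj, wu_inv h.comm, h.eq_iff] at h5
    rw [ht, wu_mul h.comm, h.eq_iff] at h1
    obtain ⟨c, hc⟩ := h1.1
    obtain ⟨d, hd⟩ := h5.1
    rcases Int.even_or_odd' c with ⟨c, rfl | rfl⟩
    · rwa [show wu x y p q = wu x y l (-l) from
        h.eq_iff.2 ⟨⟨c, by linarith⟩, ⟨d - c, by linarith⟩⟩] at hi
    · have := Q.inv_mem hi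
      rwa [wu_inv h.comm, show wu x y (-p) (-q) = wu x y l (-l) from
        h.eq_iff.2 ⟨⟨-c - 1, by linarith⟩, ⟨c + 1 - d, by linarith⟩⟩] at this
  refine ⟨ht, h7, a, hj, (eq_of_le_of_card_ge (sup_le (zpowers_le.2 h7) (zpowers_le.2 hj)) ?_).symm⟩
  rw [card_sup_zpowers, Nat.card_zpowers, h.iord, hQ.card]
  · rintro _ ⟨a, rfl⟩
    simp only [← conj_zpow, h.s_conj_i]
    exact zpow_mem (inv_mem (mem_zpowers _)) _
  · rw [h.sq_s, ← h.isq]; exact mul_mem (mem_zpowers _) (mem_zpowers _)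
  · exact fun e => h6 (zpowers_le.2 (h.umem_U _ _) e)

theorem q8_conj (h : WR S x y z l) {Q₁ Q₂ : Subgroup G} {z₁ z₂ : G} (h₁ : Q8 Q₁ z₁) (h₁' : Q₁ ≤ S)
    (h₂ : Q8 Q₂ z₂) (h₂' : Q₂ ≤ S) :
    ∃ s ∈ S, cj s (Q₁ ⊔ zpowers (wu x y 1 1)) = Q₂ ⊔ zpowers (wu x y 1 1) := by
  obtain ⟨-, -, a, -, rfl⟩ := h.q8 h₁ h₁'
  obtain ⟨-, -, b, -, rfl⟩ := h.q8 h₂ h₂'
  refine ⟨wu x y (b - a) 0, h.umem _ _, ?_⟩
  rw [cj_sup, cj_sup, cj_zpowers, cj_zpowers, cj_zpowers, h.conj_o, h.u_comm, h.u_comm (b - a),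
    mul_inv_cancel_right, mul_inv_cancel_right]
  congr 5 <;> ring

theorem q8_equiv (h : WR S x y z l) (a : ℤ) :
    Nonempty ((zpowers (wu x y l (-l)) ⊔ zpowers (wu x y a (2 * l - a) * z) : Subgroup G) ≃*
      QuaternionGroup 2) := by
  rw [← closure_pair_eq_sup]
  exact quaternion_equiv (n := 2) h.iord (by rw [h.sq_s, pow_two, h.isq]) (h.s_conj_i _ _)
    fun e => h.o_not_mem _ _ (zpowers_le.2 (h.umem_U _ _) e)

theorem q8_le_Y (h : WR S x y z l) {Q : Subgroup G} {t : G} (hQ : Q8 Q t) (hQS : Q ≤ S) :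
    Q ≤ closure {wu x y 1 (-1), wu x y 0 (2 * l - 0) * z} := by
  obtain ⟨-, -, a, -, rfl⟩ := h.q8 hQ hQS
  exact sup_le (zpowers_le.2 ((h.mem_Y 0).2 ⟨_, Or.inl rfl⟩))
    (zpowers_le.2 ((h.mem_Y 0).2 ⟨_, Or.inr rfl⟩))

theorem Z_le_centralizer (h : WR S x y z l) {Q : Subgroup G} (hQS : Q ≤ S) :
    zpowers (wu x y 1 1) ≤ centralizer (Q : Set G) := fun c hc g hg => h.Z_comm hc (hQS hg)

theorem normalizer_V_le (h : WR S x y z l) {Q : Subgroup G} {t : G} (hQ : Q8 Q t) (hQS : Q ≤ S) :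
    normalizer ((Q ⊔ zpowers (wu x y 1 1) : Subgroup G) : Set G) ≤ normalizer (Q : Set G) :=
  hQ.normalizer_sup_le (h.Z_le_centralizer hQS) inferInstance ((h.q8 hQ hQS).1 ▸ h.cmem _)

theorem V_ne (h : WR S x y z l) {Q : Subgroup G} {t : G} (hQ : Q8 Q t) (hQS : Q ≤ S) :
    Q ⊔ zpowers (wu x y 1 1) ≠ S := by
  intro e
  have h1 := card_sup_mul_card_inf (H := zpowers (wu x y 1 1)) (N := Q)
    ((h.Z_le_centralizer hQS).trans (centralizer_le_normalizer _))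
  have h2 := card_dvd_of_le (show zpowers t ≤ zpowers (wu x y 1 1) ⊓ Q from
    zpowers_le.2 ⟨(h.q8 hQ hQS).1 ▸ h.cmem _, hQ.zmem⟩)
  rw [sup_comm, e, h.card, Nat.card_zpowers, h.ord_of, hQ.card] at h1
  rw [Nat.card_zpowers, hQ.zord] at h2
  have h3 := Nat.le_of_dvd Nat.card_pos h2
  have := h.lpos
  nlinarith [Nat.mul_le_mul_left (2 * (4 * l * (4 * l))) h3]

theorem fix_invol_U (h : WR S x y z l) {A : Subgroup G} {φ : G → G} (hφ : OddAut A φ)
    (hA : A ≤ zpowers x ⊔ zpowers y) (htA : wu x y (2 * l) (2 * l) ∈ A)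
    (ht : φ (wu x y (2 * l) (2 * l)) = wu x y (2 * l) (2 * l)) : ∀ a ∈ A, φ a = a := by
  have hp := h.isPGroup.to_le (hA.trans h.U_le)
  refine hφ.fix_of_comm hp (isMulCommutative_of_le h.U_comm hA) fun s hs h2 => ?_
  by_cases h1 : s = wu x y (2 * l) (2 * l)
  · rw [h1, ht]
  have h3 : φ s ≠ wu x y (2 * l) (2 * l) := fun e => h1 (hφ.inj hs htA (e.trans ht.symm))
  apply hφ.fix hp hs
  rw [inv_of_ord2 h2]
  rcases (h.invol_U (hA hs) h2).resolve_left h1 with e1 | e1 <;>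
    rcases (h.invol_U (hA (hφ.mem s hs)) (hφ.ord2 hs h2)).resolve_left h3 with e2 | e2
  · rw [e2, ← e1, sq_of_ord2 h2, hφ.one]
  · rw [e2, e1, wu_mul h.comm, zero_add, add_zero, ht]
  · rw [e2, e1, wu_mul h.comm, zero_add, add_zero, ht]
  · rw [e2, ← e1, sq_of_ord2 h2, hφ.one]

theorem classify (h : WR S x y z l) {X : Subgroup G} (hX : X ≤ S)
    (hC : S ⊓ centralizer (X : Set G) ≤ X) {φ : G → G} (hφ : OddAut X φ) (hne : ∃ a ∈ X, φ a ≠ a) :
    X = zpowers x ⊔ zpowers y ∨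
      ∃ Q ≤ S, Nonempty (Q ≃* QuaternionGroup 2) ∧ X = Q ⊔ zpowers (wu x y 1 1) := by
  by_cases hXU : X ≤ zpowers x ⊔ zpowers y
  · exact Or.inl (le_antisymm hXU fun u hu =>
      hC ⟨h.U_le hu, fun g hg => comm_of_mem h.U_comm (hXU hg) hu⟩)
  right
  have hp := h.isPGroup.to_le hX
  have hZ : zpowers (wu x y 1 1) ≤ X := fun c hc =>
    hC ⟨h.U_le (h.Z_le_U hc), h.Z_le_centralizer hX hc⟩
  obtain ⟨o, ho, ho'⟩ := SetLike.not_le_iff_exists.1 hXU
  obtain ⟨a₀, ha₀, hne⟩ := hne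
  have htX := hZ (h.cmem (2 * l))
  by_cases h1 : ∀ a ∈ X, a ∈ zpowers x ⊔ zpowers y → φ a ∈ zpowers x ⊔ zpowers y
  · exfalso
    have hA : OddAut (X ⊓ (zpowers x ⊔ zpowers y)) φ :=
      hφ.restrict inf_le_left fun a ha => ⟨hφ.mem a ha.1, h1 a ha.1 ha.2⟩
    have h2 : ∀ g ∈ X, g ∉ zpowers x ⊔ zpowers y → φ g ∉ zpowers x ⊔ zpowers y := by
      intro g hg hg' e
      obtain ⟨b, hb, e2⟩ := hA.surj (a := φ g) ⟨hφ.mem g hg, e⟩
      exact hg' (hφ.inj hb.1 hg e2 ▸ hb.2)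
    have h3 := h.fix_invol_U hA inf_le_right ⟨htX, h.umem_U _ _⟩ (h.eq_t (h.mem_Z_of_comm
      (h1 _ htX (h.umem_U _ _)) (hX (hφ.mem o ho)) (h2 o ho ho')
      (hφ.comm ho htX (h.Z_comm (h.cmem _) (hX ho)))) (hφ.ord2 htX h.tord))
    apply hne
    by_cases h4 : a₀ ∈ zpowers x ⊔ zpowers y
    · exact h3 a₀ ⟨ha₀, h4⟩
    · exact hφ.fix hp ha₀ (h3 _ ⟨X.mul_mem (hφ.mem _ ha₀) (X.inv_mem ha₀), mul_mem_of_relIndex_two
        h.relIndex_U (hX (hφ.mem _ ha₀)) (inv_mem (hX ha₀)) (h2 _ ha₀ h4) (by simpa using h4)⟩)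
  by_cases h2 : ∃ c ∈ zpowers (wu x y 1 1), φ c ∉ zpowers x ⊔ zpowers y
  · exfalso
    obtain ⟨c, hc, hc'⟩ := h2
    have h3 : ∀ g ∈ X, φ c * g = g * φ c := by
      intro g hg
      obtain ⟨b, hb, rfl⟩ := hφ.surj hg
      exact hφ.comm (hZ hc) hb (h.Z_comm hc (hX hb)).symm
    have h4 : ∀ g ∈ X, g ∈ zpowers x ⊔ zpowers y → g ∈ zpowers (wu x y 1 1) := fun g hg hg' =>
      h.mem_Z_of_comm hg' (hX (hφ.mem c (hZ hc))) hc' (h3 g hg)
    have h5 : φ (wu x y (2 * l) (2 * l)) = wu x y (2 * l) (2 * l) := by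
      refine h.eq_t ?_ (hφ.ord2 htX h.tord)
      have hl := hZ (h.cmem l)
      rw [two_mul, ← wu_mul h.comm, hφ.mul _ hl _ hl]
      by_cases h6 : φ (wu x y l l) ∈ zpowers x ⊔ zpowers y
      · exact mul_mem (h4 _ (hφ.mem _ hl) h6) (h4 _ (hφ.mem _ hl) h6)
      · exact h.sq_mem_Z (hX (hφ.mem _ hl)) h6
    have hcomm : IsMulCommutative X := isMulCommutative_of_forall fun a ha b hb =>
      h.comm_of_comm_o (hX (hφ.mem c (hZ hc))) hc' (hX ha) (hX hb) (h3 a ha) (h3 b hb)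
    refine hne (hφ.fix_of_comm hp hcomm (fun s hs h6 => ?_) a₀ ha₀)
    by_cases h7 : s ∈ zpowers x ⊔ zpowers y
    · rw [h.eq_t (h4 s hs h7) h6, h5]
    have h8 : φ s ∉ zpowers x ⊔ zpowers y := fun e => h7 (by
      rw [hφ.inj hs htX ((h.eq_t (h4 _ (hφ.mem s hs) e) (hφ.ord2 hs h6)).trans h5.symm)]
      exact h.umem_U _ _)
    apply hφ.fix hp hs
    by_cases h9 : φ s * s⁻¹ = 1
    · rw [h9, hφ.one]
    · rw [h.eq_t (h4 _ (mul_mem (hφ.mem s hs) (inv_mem hs)) (mul_mem_of_relIndex_two h.relIndex_U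
        (hX (hφ.mem s hs)) (inv_mem (hX hs)) h8 (by simpa using h7))) (ord2_iff.2 ⟨?_, h9⟩), h5]
      rw [inv_of_ord2 h6, mul_assoc, ← mul_assoc s, comm_of_mem hcomm hs (hφ.mem s hs), mul_assoc,
        sq_of_ord2 h6, mul_one, sq_of_ord2 (hφ.ord2 hs h6)]
  push Not at h1 h2
  obtain ⟨a, ha, haU, ha'⟩ := h1
  have key : ∀ b ∈ X, b ∈ zpowers x ⊔ zpowers y → φ b ∈ zpowers x ⊔ zpowers y →
      φ b ∈ zpowers (wu x y 1 1) := fun b hb hbU hb' =>
    h.mem_Z_of_comm hb' (hX (hφ.mem a ha)) ha' (hφ.comm ha hb (comm_of_mem h.U_comm haU hbU))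
  have h3 : ∀ c ∈ zpowers (wu x y 1 1), φ c = c :=
    (hφ.restrict hZ fun c hc => key c (hZ hc) (h.Z_le_U hc) (h2 c hc)).fix_of_isCyclic
      (hp.to_le hZ) inferInstance
  have h4 : ∀ b ∈ X, φ b ∈ zpowers (wu x y 1 1) → b ∈ zpowers (wu x y 1 1) := fun b hb e =>
    (hφ.inj (hZ e) hb (h3 _ e)) ▸ e
  have h5 : ∀ b ∈ X, b ∈ zpowers x ⊔ zpowers y →
      b ∈ zpowers (wu x y 1 1) ∨ wu x y (2 * l) 0 * b ∈ zpowers (wu x y 1 1) := by
    intro b hb hbU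
    by_cases h6 : φ b ∈ zpowers x ⊔ zpowers y
    · exact Or.inl (h4 b hb (key b hb hbU h6))
    have h7 := h4 _ (mul_mem hb hb) (by rw [hφ.mul b hb b hb]; exact h.sq_mem_Z (hX (hφ.mem b hb)) h6)
    obtain ⟨p, q, rfl⟩ := h.mem_U.1 hbU
    obtain ⟨c, hc⟩ := h.mem_Z.1 h7
    rw [wu_mul h.comm, h.eq_iff] at hc
    obtain ⟨⟨i, hi⟩, ⟨j, hj⟩⟩ := hc
    rcases Int.even_or_odd' (i - j) with ⟨m, hm | hm⟩
    · exact Or.inl (h.mem_Z.2 ⟨q, h.eq_iff.2 ⟨⟨m, by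
        have : (l : ℤ) * i - l * j = 2 * (l * m) := by rw [← mul_sub, hm]; ring
        linarith⟩, ⟨0, by ring⟩⟩⟩)
    · refine Or.inr (h.mem_Z.2 ⟨q, ?_⟩)
      rw [wu_mul h.comm, h.eq_iff]
      exact ⟨⟨m + 1, by
        have : (l : ℤ) * i - l * j = 2 * (l * m) + l := by rw [← mul_sub, hm]; ring
        linarith⟩, ⟨0, by ring⟩⟩
  have haZ : a ∉ zpowers (wu x y 1 1) := fun e => ha' (h2 a e)
  have h6 := (h5 a ha haU).resolve_left haZ
  have heX : wu x y (2 * l) 0 ∈ X := (mul_mem_cancel_right ha).1 (hZ h6)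
  have h7 : φ (wu x y (2 * l) 0) ∉ zpowers x ⊔ zpowers y := fun e =>
    h.e_not_mem_Z (h4 _ heX (key _ heX (h.umem_U _ _) e))
  obtain ⟨p, hp'⟩ := h.invol_o (hX (hφ.mem _ heX)) h7 (hφ.ord2 heX h.eord)
  have h8 : wu x y (p + l) (2 * l - (p + l)) * z ∈ X := by
    have := mul_mem (hZ (h.cmem l)) (hφ.mem _ heX)
    rw [hp', ← mul_assoc, wu_mul h.comm] at this
    convert this using 3 <;> ring
  have h9 : wu x y l (-l) ∈ X := by
    have := mul_mem heX (hZ (h.cmem (-l)))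
    rw [wu_mul h.comm] at this
    convert this using 2 <;> ring
  refine ⟨_, sup_le (zpowers_le.2 (h.umem _ _)) (zpowers_le.2 (h.omem _ _)), h.q8_equiv (p + l),
    le_antisymm ?_ (sup_le (sup_le (zpowers_le.2 h9) (zpowers_le.2 h8)) hZ)⟩
  have h10 : ∀ b ∈ X, b ∈ zpowers x ⊔ zpowers y → b ∈ (zpowers (wu x y l (-l)) ⊔
      zpowers (wu x y (p + l) (2 * l - (p + l)) * z)) ⊔ zpowers (wu x y 1 1) := by
    intro b hb hbU
    rcases h5 b hb hbU with e | e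
    · exact mem_sup_right e
    · refine (mul_mem_cancel_left ?_).1 (mem_sup_right e)
      have := mul_mem_sup (mem_sup_left (T := zpowers (wu x y (p + l) (2 * l - (p + l)) * z))
        (mem_zpowers (wu x y l (-l)))) (h.cmem l)
      rw [wu_mul h.comm] at this
      convert this using 2 <;> ring
  intro g hg
  by_cases h11 : g ∈ zpowers x ⊔ zpowers y
  · exact h10 g hg h11
  · exact (mul_mem_cancel_right (mem_sup_left (mem_sup_right (mem_zpowers _)))).1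
      (h10 _ (mul_mem hg h8) (mul_mem_of_relIndex_two h.relIndex_U (hX hg) (h.omem _ _) h11
        (h.o_not_mem _ _)))

end WR

end Cfsg.Agent.Inv
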