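import Cfsg.Agent.Inv.Two

/-! Quasi-dihedral 2-groups. -/

set_option autoImplicit false
set_option linter.unusedVariables false
set_option linter.unusedSectionVars false

namespace Cfsg.Agent.Inv

open Cfsg.Agent.PLoc Subgroup

variable {G : Type*} [Group G]

theorem zpow_eq_iff_dvd {x : G} {n : ℕ} (h : orderOf x = n) {a b : ℤ} :
    x ^ a = x ^ b ↔ (n : ℤ) ∣ a - b := by
  rw [zpow_eq_zpow_iff_modEq, h, Int.modEq_iff_dvd, dvd_sub_comm]

theorem mem_zpowers_of_odd {x : G} {m : ℕ} (h : orderOf x = 2 ^ m) (k : ℤ) :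
    x ∈ zpowers (x ^ (2 * k + 1)) := by
  have h1 : IsCoprime (2 * k + 1) ((2 : ℤ) ^ m) := IsCoprime.pow_right ⟨1, -k, by ring⟩
  obtain ⟨a, b, e⟩ := h1
  refine ⟨a, ?_⟩
  show (x ^ (2 * k + 1)) ^ a = x
  rw [← zpow_mul]
  conv_rhs => rw [← zpow_one x]
  rw [zpow_eq_iff_dvd h]
  exact ⟨-b, by push_cast; linear_combination e⟩

theorem card_zpowers_sq [Finite G] {x : G} {n : ℕ} (h : orderOf x = 2 * n) :
    orderOf (x ^ (2 : ℤ)) = n := by
  rw [zpow_ofNat, orderOf_pow, h, Nat.gcd_eq_right (dvd_mul_right 2 n)]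
  simp

theorem isCoatom_of_index_two [Finite G] {M : Subgroup G} (h : M.index = 2) : IsCoatom M :=
  isCoatom_of_index_prime (p := 2) h

theorem index_eq_two_of_card [Finite G] {M : Subgroup G} (h : Nat.card G = 2 * Nat.card M) :
    M.index = 2 := by
  rw [← relIndex_top_right]
  exact relIndex_eq_two_of_card le_top (by rwa [card_top])

theorem eq_two_of_dvd_six {n k : ℕ} (h : n ∣ 6) (h1 : n = 2 ^ k) (h2 : n ≠ 1) : n = 2 := by
  have h3 : n.Coprime 3 := h1 ▸ Nat.Coprime.pow_left k (by norm_num)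
  have := Nat.le_of_dvd (by norm_num) h
  clear h1
  interval_cases n <;> first | rfl | omega | exact absurd h3 (by decide)

theorem eq_two_or_six {n : ℕ} (h : n ∣ 6) (h2 : 2 ∣ n) : n = 2 ∨ n = 6 := by
  have := Nat.le_of_dvd (by norm_num) h
  interval_cases n <;> simp_all

theorem six_ne_pow (k : ℕ) : 6 ≠ 2 ^ k := fun h => by
  have : (3 : ℕ) ∣ 2 ^ k := h ▸ by norm_num
  have := Nat.prime_three.dvd_of_dvd_pow this
  omega

structure QD (S : Subgroup G) (x y : G) (l : ℕ) : Prop where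
  pw : ∃ k, l = 2 ^ k
  ord : orderOf x = 8 * l
  ysq : y * y = 1
  conj : y * x * y⁻¹ = x ^ (4 * (l : ℤ) - 1)
  mem : ∀ g, g ∈ S ↔ ∃ k : ℤ, g = x ^ k ∨ g = x ^ k * y

theorem exists_QD_top [Finite G] (h : IsQuasiDihedral G) :
    ∃ x y l, QD (⊤ : Subgroup G) x y l := by
  obtain ⟨n, hn, hc, x, y, hx, hy, hxy⟩ := h
  obtain ⟨k, rfl⟩ := Nat.exists_eq_add_of_le' hn
  have hx' : orderOf x = 8 * 2 ^ k := by rw [hx]; ring
  have hp : 0 < 2 ^ k := by positivity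
  have hconj : y * x * y⁻¹ = x ^ (4 * ((2 ^ k : ℕ) : ℤ) - 1) := by
    rw [hxy, ← zpow_natCast, show k + 3 - 1 = k + 2 by rfl, Nat.cast_sub Nat.one_le_two_pow]
    congr 1; push_cast; ring
  have hy' : y ∉ zpowers x := by
    rintro ⟨j, rfl⟩
    have : x ^ (1 : ℤ) = x ^ (4 * ((2 ^ k : ℕ) : ℤ) - 1) := by rw [← hconj]; group
    rw [zpow_eq_iff_dvd hx'] at this
    generalize 2 ^ k = l at *
    have := Int.le_of_dvd (by omega) (dvd_neg.2 this)
    omega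
  have hn : ∀ a ∈ zpowers x, y * a * y⁻¹ ∈ zpowers x := by
    rintro _ ⟨j, rfl⟩
    rw [← conj_zpow, hconj]
    exact zpow_mem (zpow_mem (mem_zpowers x) _) _
  have h2 : y * y ∈ zpowers x := by rw [sq_of_ord2 hy]; exact one_mem _
  have htop : zpowers x ⊔ zpowers y = ⊤ := by
    apply eq_top_of_card_eq
    rw [card_sup_zpowers hn h2 hy', Nat.card_zpowers, hx, hc]; ring
  refine ⟨x, y, 2 ^ k, ⟨k, rfl⟩, hx', sq_of_ord2 hy, hconj, fun g => ⟨fun hg => ?_, fun _ => trivial⟩⟩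
  rw [← htop, mem_sup_zpowers_iff hn h2] at hg
  rcases hg with ⟨j, hj⟩ | ⟨j, hj⟩
  · exact ⟨j, Or.inl hj.symm⟩
  · exact ⟨j, Or.inr (by simp [show x ^ j = g * y⁻¹ from hj])⟩

theorem exists_QD [Finite G] {S : Subgroup G} (h : IsQuasiDihedral S) :
    ∃ x y l, QD S x y l := by
  obtain ⟨x, y, l, h⟩ := exists_QD_top h
  refine ⟨x, y, l, h.pw, by rw [Subgroup.orderOf_coe, h.ord], congrArg Subtype.val h.ysq,
    congrArg Subtype.val h.conj, fun g => ⟨fun hg => ?_, ?_⟩⟩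
  · obtain ⟨k, hk | hk⟩ := (h.mem ⟨g, hg⟩).1 trivial
    · exact ⟨k, Or.inl (congrArg Subtype.val hk)⟩
    · exact ⟨k, Or.inr (congrArg Subtype.val hk)⟩
  · rintro ⟨k, rfl | rfl⟩
    · exact (x ^ k).2
    · exact (x ^ k * y).2

theorem isQD_of_equiv {A B : Type*} [Group A] [Group B] (e : A ≃* B) (h : IsQuasiDihedral A) :
    IsQuasiDihedral B := by
  obtain ⟨n, hn, hc, x, y, hx, hy, hxy⟩ := h
  exact ⟨n, hn, by rw [← hc, Nat.card_congr e.toEquiv], e x, e y, by rw [e.orderOf_eq, hx],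
    by rw [e.orderOf_eq, hy], by rw [← map_inv, ← map_mul, ← map_mul, hxy, map_pow]⟩

namespace QD

variable [Finite G] {S : Subgroup G} {x y : G} {l : ℕ}

theorem lpos (h : QD S x y l) : 0 < l := by obtain ⟨k, rfl⟩ := h.pw; positivity

theorem eq_iff (h : QD S x y l) {a b : ℤ} : x ^ a = x ^ b ↔ ∃ c : ℤ, a - b = 8 * (l * c) := by
  rw [zpow_eq_iff_dvd h.ord]
  exact exists_congr fun c => by push_cast; rw [mul_assoc]

theorem xmem (h : QD S x y l) (k : ℤ) : x ^ k ∈ S := (h.mem _).2 ⟨k, Or.inl rfl⟩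
theorem omem (h : QD S x y l) (k : ℤ) : x ^ k * y ∈ S := (h.mem _).2 ⟨k, Or.inr rfl⟩
theorem ymem (h : QD S x y l) : y ∈ S := by simpa using h.omem 0
theorem x1mem (h : QD S x y l) : x ∈ S := by simpa using h.xmem 1
theorem X_le (h : QD S x y l) : zpowers x ≤ S := zpowers_le.2 h.x1mem
theorem yinv (h : QD S x y l) : y⁻¹ = y := inv_eq_of_mul_eq_one_right h.ysq

theorem y_mul (h : QD S x y l) (k : ℤ) : y * x ^ k = x ^ ((4 * (l : ℤ) - 1) * k) * y := by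
  rw [zpow_mul, ← h.conj, conj_zpow]; group

theorem y_mul_even (h : QD S x y l) (k : ℤ) : y * x ^ (2 * k) = x ^ (-(2 * k)) * y := by
  rw [h.y_mul, mul_left_inj, h.eq_iff]; exact ⟨k, by ring⟩

theorem y_mul_odd (h : QD S x y l) (k : ℤ) :
    y * x ^ (2 * k + 1) = x ^ (4 * l - (2 * k + 1)) * y := by
  rw [h.y_mul, mul_left_inj, h.eq_iff]; exact ⟨k, by ring⟩

theorem ne_of_small (h : QD S x y l) {a b : ℤ} (h0 : a ≠ b) (h1 : a - b < 8 * l)
    (h2 : b - a < 8 * l) : x ^ a ≠ x ^ b := by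
  rw [Ne, zpow_eq_iff_dvd h.ord]
  intro hd
  have := Int.eq_zero_of_abs_lt_dvd hd (by push_cast; rw [abs_lt]; omega)
  omega

theorem y_not_mem (h : QD S x y l) : y ∉ zpowers x := by
  rintro ⟨j, rfl⟩
  have := h.lpos
  refine h.ne_of_small (a := 1) (b := 4 * l - 1) (by omega) (by omega) (by omega) ?_
  rw [← h.conj]; group

theorem o_not_mem (h : QD S x y l) (k : ℤ) : x ^ k * y ∉ zpowers x := fun hk =>
  h.y_not_mem (by simpa using mul_mem (inv_mem (zpow_mem (mem_zpowers x) k)) hk)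

theorem exists_o (h : QD S x y l) {w : G} (hw : w ∈ S) (h1 : w ∉ zpowers x) :
    ∃ k : ℤ, w = x ^ k * y := by
  obtain ⟨k, rfl | rfl⟩ := (h.mem w).1 hw
  · exact absurd (zpow_mem (mem_zpowers x) k) h1
  · exact ⟨k, rfl⟩

theorem zord (h : QD S x y l) : orderOf (x ^ (4 * l : ℤ)) = 2 := by
  have := h.lpos
  refine ord2_iff.2 ⟨?_, ?_⟩
  · rw [← zpow_add, ← zpow_zero x, h.eq_iff]; exact ⟨1, by ring⟩
  · rw [← zpow_zero x]; exact h.ne_of_small (by omega) (by omega) (by omega)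

theorem cord (h : QD S x y l) : orderOf (x ^ (2 * l : ℤ)) = 4 := by
  refine orderOf_eq_prime_pow (p := 2) (n := 1) ?_ ?_
  · rw [pow_one, pow_two, ← zpow_add, show 2 * (l : ℤ) + 2 * l = 4 * l by ring]
    exact ne_one_of_ord2 h.zord
  · rw [← zpow_natCast, ← zpow_mul, ← zpow_zero x, h.eq_iff]; exact ⟨1, by ring⟩

theorem csq (h : QD S x y l) : x ^ (2 * l : ℤ) * x ^ (2 * l : ℤ) = x ^ (4 * l : ℤ) := by
  rw [← zpow_add]; congr 1; ring

theorem eq_z (h : QD S x y l) {t : G} (ht : t ∈ zpowers x) (h2 : orderOf t = 2) :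
    t = x ^ (4 * l : ℤ) :=
  invol_eq_of_isCyclic inferInstance ht (zpow_mem (mem_zpowers x) _) h2 h.zord

theorem o_conj_even (h : QD S x y l) (k j : ℤ) :
    (x ^ k * y) * x ^ (2 * j) * (x ^ k * y)⁻¹ = (x ^ (2 * j))⁻¹ := by
  rw [mul_assoc (x ^ k), h.y_mul_even]; group

theorem z_comm (h : QD S x y l) {g : G} (hg : g ∈ S) :
    g * x ^ (4 * l : ℤ) = x ^ (4 * l : ℤ) * g := by
  obtain ⟨k, rfl | rfl⟩ := (h.mem g).1 hg
  · group
  · have := h.o_conj_even k (2 * l)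
    rw [show 2 * (2 * (l : ℤ)) = 4 * l by ring, inv_of_ord2 h.zord] at this
    exact mul_inv_eq_iff_eq_mul.1 this

theorem sq_even (h : QD S x y l) (k : ℤ) : (x ^ (2 * k) * y) * (x ^ (2 * k) * y) = 1 := by
  rw [mul_assoc, ← mul_assoc y, h.y_mul_even, mul_assoc, h.ysq]; group

theorem sq_odd (h : QD S x y l) (k : ℤ) :
    (x ^ (2 * k + 1) * y) * (x ^ (2 * k + 1) * y) = x ^ (4 * l : ℤ) := by
  rw [mul_assoc, ← mul_assoc y, h.y_mul_odd, mul_assoc, h.ysq]; group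

theorem ord_even (h : QD S x y l) (k : ℤ) : orderOf (x ^ (2 * k) * y) = 2 :=
  ord2_iff.2 ⟨h.sq_even k, fun e => h.o_not_mem _ (e ▸ one_mem _)⟩

theorem yord (h : QD S x y l) : orderOf y = 2 := by simpa using h.ord_even 0

theorem ord_odd (h : QD S x y l) (k : ℤ) : orderOf (x ^ (2 * k + 1) * y) = 4 := by
  refine orderOf_eq_prime_pow (p := 2) (n := 1) ?_ ?_
  · rw [pow_one, pow_two, h.sq_odd]; exact ne_one_of_ord2 h.zord
  · rw [show 2 ^ (1 + 1) = 2 * 2 by rfl, pow_mul, pow_two (_ * y), h.sq_odd, pow_two,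
      sq_of_ord2 h.zord]

theorem xyord (h : QD S x y l) : orderOf (x * y) = 4 := by simpa using h.ord_odd 0

theorem exists_o_even (h : QD S x y l) {w : G} (hw : w ∈ S) (h1 : w ∉ zpowers x)
    (h2 : orderOf w = 2) : ∃ k : ℤ, w = x ^ (2 * k) * y := by
  obtain ⟨k, rfl⟩ := h.exists_o hw h1
  rcases Int.even_or_odd' k with ⟨j, rfl | rfl⟩
  · exact ⟨j, rfl⟩
  · rw [h.ord_odd] at h2; omega

theorem exists_o_odd (h : QD S x y l) {w : G} (hw : w ∈ S) (h1 : w ∉ zpowers x)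
    (h2 : orderOf w = 4) : ∃ k : ℤ, w = x ^ (2 * k + 1) * y := by
  obtain ⟨k, rfl⟩ := h.exists_o hw h1
  rcases Int.even_or_odd' k with ⟨j, rfl | rfl⟩
  · rw [h.ord_even] at h2; omega
  · exact ⟨j, rfl⟩

theorem invol (h : QD S x y l) {t : G} (ht : t ∈ S) (h2 : orderOf t = 2) :
    t = x ^ (4 * l : ℤ) ∨ ∃ k : ℤ, t = x ^ (2 * k) * y := by
  by_cases h1 : t ∈ zpowers x
  · exact Or.inl (h.eq_z h1 h2)
  · exact Or.inr (h.exists_o_even ht h1 h2)

theorem eq_c (h : QD S x y l) {t : G} (ht : t ∈ zpowers x) (h4 : orderOf t = 4) :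
    t = x ^ (2 * l : ℤ) ∨ t = (x ^ (2 * l : ℤ))⁻¹ := by
  obtain ⟨k, rfl⟩ := ht
  have h1 := h.eq_z (t := x ^ k * x ^ k) (mul_mem (zpow_mem (mem_zpowers x) _)
    (zpow_mem (mem_zpowers x) _)) (by rw [← pow_two, orderOf_pow, h4]; rfl)
  rw [← zpow_add, h.eq_iff] at h1
  obtain ⟨c, hc⟩ := h1
  rcases Int.even_or_odd' c with ⟨j, rfl | rfl⟩
  · exact Or.inl (h.eq_iff.2 ⟨j, by linarith⟩)
  · rw [← zpow_neg]; exact Or.inr (h.eq_iff.2 ⟨j + 1, by linarith⟩)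

theorem ord4 (h : QD S x y l) {t : G} (ht : t ∈ S) (h4 : orderOf t = 4) :
    t = x ^ (2 * l : ℤ) ∨ t = (x ^ (2 * l : ℤ))⁻¹ ∨ ∃ k : ℤ, t = x ^ (2 * k + 1) * y := by
  by_cases h1 : t ∈ zpowers x
  · exact (h.eq_c h1 h4).imp_right Or.inl
  · exact Or.inr (Or.inr (h.exists_o_odd ht h1 h4))

theorem conj_out (h : QD S x y l) (k a : ℤ) :
    ∃ j : ℤ, x ^ j * (x ^ k * y) * (x ^ j)⁻¹ = x ^ (k + 2 * a) * y := by
  have key : ∀ j : ℤ, x ^ j * (x ^ k * y) * (x ^ j)⁻¹ = x ^ (k + 2 * j - 4 * l * j) * y := by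
    intro j
    rw [← zpow_neg, mul_assoc, mul_assoc, h.y_mul]; group
  rcases Int.even_or_odd' a with ⟨b, rfl | rfl⟩
  · exact ⟨2 * b, by rw [key, mul_left_inj, h.eq_iff]; exact ⟨-b, by ring⟩⟩
  · exact ⟨2 * (b + l) + 1, by rw [key, mul_left_inj, h.eq_iff]; exact ⟨-(b + l), by ring⟩⟩

theorem isConj_y (h : QD S x y l) (k : ℤ) : IsConj y (x ^ (2 * k) * y) := by
  obtain ⟨j, hj⟩ := h.conj_out 0 k
  exact isConj_iff.2 ⟨x ^ j, by simpa using hj⟩

theorem isConj_xy (h : QD S x y l) (k : ℤ) : IsConj (x * y) (x ^ (2 * k + 1) * y) := by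
  obtain ⟨j, hj⟩ := h.conj_out 1 k
  exact isConj_iff.2 ⟨x ^ j, by simpa [add_comm] using hj⟩

theorem isConj_c (h : QD S x y l) : IsConj (x ^ (2 * l : ℤ)) (x ^ (2 * l : ℤ))⁻¹ :=
  isConj_iff.2 ⟨_, h.o_conj_even 0 l⟩

theorem conj_mem_X (h : QD S x y l) {g c : G} (hg : g ∈ S) (hc : c ∈ zpowers x) :
    g * c * g⁻¹ ∈ zpowers x := by
  obtain ⟨j, rfl⟩ := hc
  obtain ⟨k, rfl | rfl⟩ := (h.mem g).1 hg
  · exact ⟨j, by group⟩
  · exact ⟨(4 * l - 1) * j, by simp only [mul_assoc (x ^ k), h.y_mul]; group⟩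

theorem comm_y (h : QD S x y l) {k : ℤ} (hk : y * x ^ k = x ^ k * y) :
    x ^ k = 1 ∨ x ^ k = x ^ (4 * l : ℤ) := by
  rcases Int.even_or_odd' k with ⟨j, rfl | rfl⟩
  · rw [h.y_mul_even, mul_left_inj, zpow_neg] at hk
    by_cases h1 : x ^ (2 * j) = 1
    · exact Or.inl h1
    · exact Or.inr (h.eq_z (zpow_mem (mem_zpowers x) _)
        (ord2_iff.2 ⟨mul_eq_one_iff_eq_inv.2 hk.symm, h1⟩))
  · rw [h.y_mul_odd, mul_left_inj, h.eq_iff] at hk
    obtain ⟨c, hc⟩ := hk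
    omega

theorem comm_o (h : QD S x y l) {g : G} (hg : g ∈ zpowers x) {a : ℤ}
    (hk : x ^ a * y * g = g * (x ^ a * y)) : g = 1 ∨ g = x ^ (4 * l : ℤ) := by
  obtain ⟨k, rfl⟩ := hg
  apply h.comm_y
  apply mul_left_cancel (a := x ^ a)
  rw [← mul_assoc, hk]; group

theorem card (h : QD S x y l) : Nat.card S = 2 * (8 * l) := by
  have h2 : y * y ∈ zpowers x := by rw [h.ysq]; exact one_mem _
  have : S = zpowers x ⊔ zpowers y := by
    refine le_antisymm (fun g hg => ?_) (sup_le h.X_le (zpowers_le.2 h.ymem))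
    obtain ⟨k, rfl | rfl⟩ := (h.mem g).1 hg
    · exact mem_sup_left (zpow_mem (mem_zpowers x) k)
    · exact mul_mem_sup (zpow_mem (mem_zpowers x) k) (mem_zpowers y)
  rw [this, card_sup_zpowers (fun a ha => h.conj_mem_X h.ymem ha) h2 h.y_not_mem,
    Nat.card_zpowers, h.ord]

theorem ord_pow (h : QD S x y l) : ∃ m, orderOf x = 2 ^ m := by
  obtain ⟨k, rfl⟩ := h.pw
  exact ⟨k + 3, by rw [h.ord]; ring⟩

theorem isPGroup (h : QD S x y l) : IsPGroup 2 S := by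
  obtain ⟨k, hk⟩ := h.pw
  exact IsPGroup.of_card (n := k + 4) (by rw [h.card, hk]; ring)

theorem relIndex_X (h : QD S x y l) : (zpowers x).relIndex S = 2 :=
  relIndex_eq_two_of_card h.X_le (by rw [h.card, Nat.card_zpowers, h.ord])

theorem x2ord (h : QD S x y l) : orderOf (x ^ (2 : ℤ)) = 4 * l :=
  card_zpowers_sq (by rw [h.ord]; ring)

theorem even_mem (k : ℤ) : x ^ (2 * k) ∈ zpowers (x ^ (2 : ℤ)) := ⟨k, by simp [zpow_mul]⟩

theorem z_mem_X2 : x ^ (4 * l : ℤ) ∈ zpowers (x ^ (2 : ℤ)) := by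
  rw [show (4 * l : ℤ) = 2 * (2 * l) by ring]; exact even_mem _

theorem sq_mem_X2 (h : QD S x y l) {g : G} (hg : g ∈ S) : g * g ∈ zpowers (x ^ (2 : ℤ)) := by
  obtain ⟨k, rfl | rfl⟩ := (h.mem g).1 hg
  · rw [← zpow_add, ← two_mul]; exact even_mem _
  · rcases Int.even_or_odd' k with ⟨j, rfl | rfl⟩
    · rw [h.sq_even]; exact one_mem _
    · rw [h.sq_odd]; exact z_mem_X2

theorem X2_le_X : zpowers (x ^ (2 : ℤ)) ≤ zpowers x := zpowers_le.2 (zpow_mem (mem_zpowers x) _)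

theorem o_norm_X2 (h : QD S x y l) (k : ℤ) :
    ∀ a ∈ zpowers (x ^ (2 : ℤ)), (x ^ k * y) * a * (x ^ k * y)⁻¹ ∈ zpowers (x ^ (2 : ℤ)) := by
  rintro _ ⟨j, rfl⟩
  simp only [← zpow_mul, h.o_conj_even]
  exact inv_mem (even_mem j)

theorem mem_M (h : QD S x y l) (k : ℤ) {g : G} :
    g ∈ closure {x ^ (2 : ℤ), x ^ k * y} ↔ ∃ a : ℤ, g = x ^ (2 * a) ∨ g = x ^ (2 * a + k) * y := by
  rw [closure_pair_eq_sup, mem_sup_zpowers_iff (h.o_norm_X2 k) (h.sq_mem_X2 (h.omem k))]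
  constructor
  · rintro (⟨a, ha⟩ | ⟨a, ha⟩)
    · exact ⟨a, Or.inl (by rw [← ha, zpow_mul])⟩
    · refine ⟨a, Or.inr ?_⟩
      rw [zpow_add, zpow_mul, show (x ^ (2 : ℤ)) ^ a = g * (x ^ k * y)⁻¹ from ha]; group
  · rintro ⟨a, rfl | rfl⟩
    · exact Or.inl (even_mem a)
    · exact Or.inr ⟨a, by simp only [← zpow_mul]; group⟩

theorem M_le (h : QD S x y l) (k : ℤ) : closure {x ^ (2 : ℤ), x ^ k * y} ≤ S := by
  rw [closure_pair_eq_sup]
  exact sup_le (zpowers_le.2 (h.xmem 2)) (zpowers_le.2 (h.omem k))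

theorem X2_le_M (k : ℤ) : zpowers (x ^ (2 : ℤ)) ≤ closure {x ^ (2 : ℤ), x ^ k * y} :=
  zpowers_le.2 (left_mem_closure_pair _ _)

theorem card_M (h : QD S x y l) (k : ℤ) :
    Nat.card (closure {x ^ (2 : ℤ), x ^ k * y} : Subgroup G) = 8 * l := by
  rw [closure_pair_eq_sup, card_sup_zpowers (h.o_norm_X2 k) (h.sq_mem_X2 (h.omem k))
    (fun e => h.o_not_mem k (X2_le_X e)), Nat.card_zpowers, h.x2ord]
  ring

theorem relIndex_M (h : QD S x y l) (k : ℤ) :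
    (closure {x ^ (2 : ℤ), x ^ k * y} : Subgroup G).relIndex S = 2 :=
  relIndex_eq_two_of_card (h.M_le k) (by rw [h.card, h.card_M])

theorem x_not_mem_M (h : QD S x y l) (k : ℤ) : x ∉ closure {x ^ (2 : ℤ), x ^ k * y} := by
  rw [h.mem_M]
  rintro ⟨a, e | e⟩
  · rw [← zpow_one x, ← zpow_mul, h.eq_iff] at e
    obtain ⟨c, hc⟩ := e
    omega
  · exact h.o_not_mem (2 * a + k) (by rw [← e]; exact mem_zpowers x)

theorem equiv_D (h : QD S x y l) :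
    Nonempty ((closure {x ^ (2 : ℤ), x ^ (0 : ℤ) * y} : Subgroup G) ≃* DihedralGroup (4 * l)) :=
  dihedral_equiv h.x2ord (by simpa using h.ysq) (by simpa using h.o_conj_even 0 1)
    (fun e => h.o_not_mem 0 (X2_le_X e))

theorem equiv_Q (h : QD S x y l) :
    Nonempty ((closure {x ^ (2 : ℤ), x ^ (1 : ℤ) * y} : Subgroup G) ≃* QuaternionGroup (2 * l)) :=
  quaternion_equiv (by rw [h.x2ord]; ring) (by
    have := h.sq_odd 0
    rw [← zpow_natCast, ← zpow_mul]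
    push_cast
    rw [show 2 * (2 * (l : ℤ)) = 4 * l by ring]
    simpa using this) (by simpa using h.o_conj_even 1 1) (fun e => h.o_not_mem 1 (X2_le_X e))

theorem x2_mem (h : QD S x y l) {N : Subgroup G} (hN : ∀ s ∈ S, ∀ a ∈ N, s * a * s⁻¹ ∈ N)
    {k : ℤ} (hk : x ^ k * y ∈ N) : x ^ (2 : ℤ) ∈ N := by
  obtain ⟨j, hj⟩ := h.conj_out k 1
  have := N.mul_mem (hj ▸ hN _ (h.xmem j) _ hk) (N.inv_mem hk)
  rwa [show x ^ (k + 2 * 1) * y * (x ^ k * y)⁻¹ = x ^ (2 : ℤ) by group] at this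

theorem M_le_of (h : QD S x y l) {N : Subgroup G} (hN : ∀ s ∈ S, ∀ a ∈ N, s * a * s⁻¹ ∈ N)
    {k a : ℤ} (hk : x ^ (2 * a + k) * y ∈ N) : closure {x ^ (2 : ℤ), x ^ k * y} ≤ N := by
  have h2 := h.x2_mem hN hk
  rw [closure_pair_eq_sup]
  refine sup_le (zpowers_le.2 h2) (zpowers_le.2 ?_)
  have := N.mul_mem (N.zpow_mem h2 (-a)) hk
  rwa [show (x ^ (2 : ℤ)) ^ (-a) * (x ^ (2 * a + k) * y) = x ^ k * y by group] at this

theorem kf (h : QD S x y l) {T : Subgroup G} (hT : IsKleinFour T) (hTS : T ≤ S) :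
    ∃ k : ℤ, T = zpowers (x ^ (4 * l : ℤ)) ⊔ zpowers (x ^ (2 * k) * y) := by
  obtain ⟨a, ha, ha1, haz⟩ := kf_exists_ne hT (x ^ (4 * l : ℤ))
  obtain ⟨k, rfl⟩ := (h.invol (hTS ha) (kf_ord hT ha ha1)).resolve_left haz
  refine ⟨k, kf_eq_sup hT ?_ ha (ne_one_of_ord2 h.zord) ha1 haz.symm⟩
  obtain ⟨b, hb, hb1, hba⟩ := kf_exists_ne hT (x ^ (2 * k) * y)
  rcases h.invol (hTS hb) (kf_ord hT hb hb1) with rfl | ⟨j, rfl⟩
  · exact hb
  · have h1 := T.mul_mem hb (T.inv_mem ha)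
    rwa [h.eq_z (t := x ^ (2 * j) * y * (x ^ (2 * k) * y)⁻¹) ⟨2 * j - 2 * k, by group⟩
      (kf_ord hT h1 (fun e => hba (mul_inv_eq_one.1 e)))] at h1

theorem conj_z (h : QD S x y l) {g : G} (hg : g ∈ S) :
    g * x ^ (4 * l : ℤ) * g⁻¹ = x ^ (4 * l : ℤ) := by rw [h.z_comm hg, mul_inv_cancel_right]

theorem kf_conj (h : QD S x y l) {T₁ T₂ : Subgroup G} (h₁ : IsKleinFour T₁) (h₁' : T₁ ≤ S)
    (h₂ : IsKleinFour T₂) (h₂' : T₂ ≤ S) : ∃ s ∈ S, cj s T₁ = T₂ := by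
  obtain ⟨a, rfl⟩ := h.kf h₁ h₁'
  obtain ⟨b, rfl⟩ := h.kf h₂ h₂'
  obtain ⟨j, hj⟩ := h.conj_out (2 * a) (b - a)
  refine ⟨x ^ j, h.xmem j, ?_⟩
  rw [cj_sup, cj_zpowers, cj_zpowers, hj, h.conj_z (h.xmem j),
    show 2 * a + 2 * (b - a) = 2 * b by ring]

theorem kf_centralizer (h : QD S x y l) {T : Subgroup G} (hT : IsKleinFour T) (hTS : T ≤ S) :
    S ⊓ centralizer (T : Set G) ≤ T := by
  obtain ⟨k, rfl⟩ := h.kf hT hTS
  have key : ∀ g ∈ zpowers x, g ∈ centralizer ((zpowers (x ^ (4 * l : ℤ)) ⊔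
      zpowers (x ^ (2 * k) * y) : Subgroup G) : Set G) →
      g ∈ zpowers (x ^ (4 * l : ℤ)) ⊔ zpowers (x ^ (2 * k) * y) := by
    intro g hg hc
    rcases h.comm_o hg (hc _ (mem_sup_right (mem_zpowers _))) with rfl | rfl
    · exact one_mem _
    · exact mem_sup_left (mem_zpowers _)
  rintro g ⟨hg, hc⟩
  by_cases h1 : g ∈ zpowers x
  · exact key g h1 hc
  · have ht : x ^ (2 * k) * y ∈ zpowers (x ^ (4 * l : ℤ)) ⊔ zpowers (x ^ (2 * k) * y) :=
      mem_sup_right (mem_zpowers _)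
    have := key (g * (x ^ (2 * k) * y)) (mul_mem_of_relIndex_two h.relIndex_X hg (h.omem _) h1
      (h.o_not_mem _)) (mul_mem hc fun a ha => kf_comm hT ha ht)
    exact (mul_mem_cancel_right ht).1 this

theorem q8 (h : QD S x y l) {Q : Subgroup G} {z : G} (hQ : Q8 Q z) (hQS : Q ≤ S) :
    z = x ^ (4 * l : ℤ) ∧ x ^ (2 * l : ℤ) ∈ Q ∧ ∃ k : ℤ, x ^ (2 * k + 1) * y ∈ Q ∧
      Q = zpowers (x ^ (2 * l : ℤ)) ⊔ zpowers (x ^ (2 * k + 1) * y) := by
  obtain ⟨i, hi, j, hj, h1, h2, h3, h4⟩ := hQ.exists_pair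
  have hc : ∀ a ∈ Q, a * a = z → a ∈ zpowers x → x ^ (2 * l : ℤ) ∈ Q := by
    intro a ha e hX
    rcases h.eq_c hX (hQ.ord4 e) with rfl | rfl
    · exact ha
    · simpa using Q.inv_mem ha
  have h5 : x ^ (2 * l : ℤ) ∈ Q := by
    by_cases a1 : i ∈ zpowers x
    · exact hc i hi h1 a1
    by_cases a2 : j ∈ zpowers x
    · exact hc j hj h2 a2
    exact hc _ (Q.mul_mem hi hj) (hQ.mul_sq hi hj h1 h2 h3 h4)
      (mul_mem_of_relIndex_two h.relIndex_X (hQS hi) (hQS hj) a1 a2)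
  have h6 : z = x ^ (4 * l : ℤ) := by rw [← hQ.sq_eq h5 h.cord, h.csq]
  obtain ⟨w, hw, h7, h8, h9⟩ := hQ.ex _ h5
  have h10 : w ∉ zpowers x := fun e => (h.eq_c e (hQ.ord4 h7)).elim h8 h9
  obtain ⟨k, rfl⟩ := h.exists_o_odd (hQS hw) h10 (hQ.ord4 h7)
  refine ⟨h6, h5, k, hw, (eq_of_le_of_card_ge (sup_le (zpowers_le.2 h5) (zpowers_le.2 hw)) ?_).symm⟩
  rw [card_sup_zpowers, Nat.card_zpowers, h.cord, hQ.card]
  · rintro _ ⟨a, rfl⟩
    simp only [← conj_zpow, h.o_conj_even]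
    exact zpow_mem (inv_mem (mem_zpowers _)) _
  · rw [h.sq_odd, ← h.csq]; exact mul_mem (mem_zpowers _) (mem_zpowers _)
  · exact fun e => h10 (zpowers_le.2 (zpow_mem (mem_zpowers x) _) e)

theorem q8_conj (h : QD S x y l) {Q₁ Q₂ : Subgroup G} {z₁ z₂ : G} (h₁ : Q8 Q₁ z₁) (h₁' : Q₁ ≤ S)
    (h₂ : Q8 Q₂ z₂) (h₂' : Q₂ ≤ S) : ∃ s ∈ S, cj s Q₁ = Q₂ := by
  obtain ⟨-, -, a, -, rfl⟩ := h.q8 h₁ h₁'
  obtain ⟨-, -, b, -, rfl⟩ := h.q8 h₂ h₂'
  obtain ⟨j, hj⟩ := h.conj_out (2 * a + 1) (b - a)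
  refine ⟨x ^ j, h.xmem j, ?_⟩
  rw [cj_sup, cj_zpowers, cj_zpowers, hj, show 2 * a + 1 + 2 * (b - a) = 2 * b + 1 by ring]
  congr 2; group

theorem mem_X_of_comm_c (h : QD S x y l) {g : G} (hg : g ∈ S)
    (hc : x ^ (2 * l : ℤ) * g = g * x ^ (2 * l : ℤ)) : g ∈ zpowers x := by
  by_contra h1
  obtain ⟨k, rfl⟩ := h.exists_o hg h1
  have := h.o_conj_even k l
  rw [← hc, mul_inv_cancel_right] at this
  exact ne_one_of_ord2 h.zord (h.csq ▸ mul_eq_one_iff_eq_inv.2 this)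

theorem q8_centralizer (h : QD S x y l) {Q : Subgroup G} {z : G} (hQ : Q8 Q z) (hQS : Q ≤ S) :
    S ⊓ centralizer (Q : Set G) ≤ Q := by
  obtain ⟨rfl, h1, k, h2, -⟩ := h.q8 hQ hQS
  rintro g ⟨hg, hc⟩
  rcases h.comm_o (h.mem_X_of_comm_c hg (hc _ h1)) (hc _ h2) with rfl | rfl
  · exact Q.one_mem
  · exact hQ.zmem

theorem center_eq (h : QD S x y l) : S ⊓ centralizer (S : Set G) = zpowers (x ^ (4 * l : ℤ)) := by
  refine le_antisymm ?_ (zpowers_le.2 ⟨h.xmem _, fun g hg => h.z_comm hg⟩)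
  rintro g ⟨hg, hc⟩
  rcases h.comm_o (h.mem_X_of_comm_c hg (hc _ (h.xmem _))) (hc _ (h.omem 0)) with rfl | rfl
  · exact one_mem _
  · exact mem_zpowers _

theorem odd_or (h : QD S x y l) {T : Subgroup G} (hT : T ≤ S) {g : G}
    (hg : g ∈ normalizer (T : Set G)) (hodd : Odd (orderOf g)) :
    g ∈ centralizer (T : Set G) ∨ IsKleinFour T ∨ Nonempty (T ≃* QuaternionGroup 2) := by
  refine (odd_centralizes_or h.isPGroup inferInstance h.relIndex_X ?_ hT hg hodd).imp_right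
    (Or.imp_right And.right)
  intro w hw hwX
  obtain ⟨k, rfl⟩ := h.exists_o hw hwX
  rcases Int.even_or_odd' k with ⟨j, rfl | rfl⟩
  · exact Or.inl (h.ord_even j)
  · refine Or.inr ⟨h.ord_odd j, fun c hc h4 => ?_⟩
    rcases h.eq_c hc h4 with rfl | rfl
    · exact h.o_conj_even _ _
    · rw [← conj_inv, h.o_conj_even]

theorem card_eq (h : QD S x y l) {n : ℕ} (hn : Nat.card S = 2 ^ (n + 1)) :
    2 * l = 2 ^ (n - 2) ∧ 4 * l = 2 ^ (n - 1) := by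
  obtain ⟨k, rfl⟩ := h.pw
  rw [h.card, show 2 * (8 * 2 ^ k) = 2 ^ (k + 3 + 1) by ring] at hn
  have := Nat.pow_right_injective le_rfl hn
  obtain rfl : n = k + 3 := by omega
  exact ⟨by rw [show k + 3 - 2 = k + 1 by rfl]; ring, by rw [show k + 3 - 1 = k + 2 by rfl]; ring⟩

end QD

/-- in a finite 2-group, a proper subgroup `T` with `|N(T) : T|` dividing 6 has index 2 in `N(T)` -/
theorem relIndex_normalizer_eq_two [Finite G] (hG : IsPGroup 2 (⊤ : Subgroup G)) {T : Subgroup G}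
    (hT : T ≠ ⊤) (h : T.relIndex (normalizer (T : Set G)) ∣ 6) :
    T.relIndex (normalizer (T : Set G)) = 2 := by
  obtain ⟨k, hk⟩ := relIndex_eq_pow_of_isPGroup (hG.to_le (le_top (a := normalizer (T : Set G)))) T
  refine eq_two_of_dvd_six h hk fun h1 => ?_
  obtain ⟨g, -, h2, h3⟩ := exists_mem_normalizer_not_mem hG hT.lt_top
  exact h3 (relIndex_eq_one.1 h1 h2)

theorem s1189 {S : Type*} [Group S] [Finite S] (hS : Cfsg.IsQuasiDihedral S) : Nat.card {C : ConjClasses S // ∃ t : S, orderOf t = 2 ∧ ConjClasses.mk t = C} = 2 ∧ Nat.card {C : ConjClasses S // ∃ t : S, orderOf t = 4 ∧ ConjClasses.mk t = C} = 2 := by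
  obtain ⟨x, y, l, h⟩ := exists_QD_top hS
  have key : ∀ c ∈ zpowers x, ∀ k : ℤ, ¬ IsConj c (x ^ k * y) := by
    intro c hc k e
    obtain ⟨g, hg⟩ := isConj_iff.1 e
    exact h.o_not_mem k (hg ▸ h.conj_mem_X trivial hc)
  refine ⟨card_classes_two h.zord h.yord (by simpa using key _ (zpow_mem (mem_zpowers x) _) 0) ?_,
    card_classes_two h.cord h.xyord (by simpa using key _ (zpow_mem (mem_zpowers x) _) 1) ?_⟩
  · intro t ht
    rcases h.invol (mem_top t) ht with rfl | ⟨k, rfl⟩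
    · exact Or.inl (IsConj.refl _)
    · exact Or.inr (h.isConj_y k)
  · intro t ht
    rcases h.ord4 (mem_top t) ht with rfl | rfl | ⟨k, rfl⟩
    · exact Or.inl (IsConj.refl _)
    · exact Or.inl h.isConj_c
    · exact Or.inr (h.isConj_xy k)

theorem s1190 {S : Type*} [Group S] [Finite S] (hS : Cfsg.IsQuasiDihedral S) : (∀ T₁ T₂ : Subgroup S, IsKleinFour T₁ → IsKleinFour T₂ → ∃ s : S, T₁.map (MulAut.conj s).toMonoidHom = T₂) ∧ (∀ T : Subgroup S, IsKleinFour T → Subgroup.centralizer (T : Set S) = T ∧ T.relIndex (Subgroup.normalizer (T : Set S)) = 2) := by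
  obtain ⟨x, y, l, h⟩ := exists_QD_top hS
  refine ⟨fun T₁ T₂ h₁ h₂ => ?_, fun T hT => ?_⟩
  · obtain ⟨s, -, e⟩ := h.kf_conj h₁ le_top h₂ le_top
    exact ⟨s, e⟩
  · have h1 : centralizer (T : Set S) = T := le_antisymm
      (by simpa using h.kf_centralizer hT le_top) fun a ha b hb => kf_comm hT hb ha
    refine ⟨h1, relIndex_normalizer_eq_two h.isPGroup ?_ ?_⟩
    · rintro rfl
      have := h.card
      have := h.lpos
      have := kf_card hT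
      omega
    · have := kf_relIndex_dvd_six hT le_rfl
      rwa [h1] at this

theorem s1191 {S : Type*} [Group S] [Finite S] (hS : Cfsg.IsQuasiDihedral S) : (∀ Q₁ Q₂ : Subgroup S, Nonempty (Q₁ ≃* QuaternionGroup 2) → Nonempty (Q₂ ≃* QuaternionGroup 2) → ∃ s : S, Q₁.map (MulAut.conj s).toMonoidHom = Q₂) ∧ (∀ Q : Subgroup S, Nonempty (Q ≃* QuaternionGroup 2) → Subgroup.centralizer (Q : Set S) = (Subgroup.center Q).map Q.subtype ∧ Q.relIndex (Subgroup.normalizer (Q : Set S)) = 2) := by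
  obtain ⟨x, y, l, h⟩ := exists_QD_top hS
  refine ⟨fun T₁ T₂ ⟨e₁⟩ ⟨e₂⟩ => ?_, fun Q ⟨e⟩ => ?_⟩
  · obtain ⟨z₁, h₁⟩ := exists_Q8 e₁
    obtain ⟨z₂, h₂⟩ := exists_Q8 e₂
    obtain ⟨s, -, e⟩ := h.q8_conj h₁ le_top h₂ le_top
    exact ⟨s, e⟩
  · obtain ⟨z, hQ⟩ := exists_Q8 e
    have h1 : centralizer (Q : Set S) ≤ Q := by simpa using h.q8_centralizer hQ le_top
    refine ⟨by rw [map_center_subtype, inf_eq_right.2 h1],
      relIndex_normalizer_eq_two h.isPGroup ?_ ?_⟩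
    · rintro rfl
      have := h.card
      have := h.lpos
      have := hQ.card
      omega
    · have := hQ.relIndex_dvd_six le_rfl
      rwa [sup_eq_left.2 h1] at this

theorem QD.coatom_cases [Finite G] {x y : G} {l : ℕ} (h : QD ⊤ x y l) {M : Subgroup G}
    (h2 : x ^ (2 : ℤ) ∈ M) (hM : M ≠ ⊤) (h3 : ¬ M ≤ zpowers (x ^ (2 : ℤ))) :
    M = zpowers x ∨ M = closure {x ^ (2 : ℤ), x ^ (1 : ℤ) * y} ∨
      M = closure {x ^ (2 : ℤ), x ^ (0 : ℤ) * y} := by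
  have c1 : IsCoatom (zpowers x) := isCoatom_of_index_two (by simpa using h.relIndex_X)
  have c2 : ∀ k : ℤ, IsCoatom (closure {x ^ (2 : ℤ), x ^ k * y} : Subgroup G) := fun k =>
    isCoatom_of_index_two (by simpa using h.relIndex_M k)
  have key : ∀ a k : ℤ, x ^ (2 * a + k) * y ∈ M → M = closure {x ^ (2 : ℤ), x ^ k * y} := by
    intro a k hk
    refine ((c2 k).le_iff_eq hM).1 ?_
    rw [closure_pair_eq_sup]
    refine sup_le (zpowers_le.2 h2) (zpowers_le.2 ?_)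
    have := M.mul_mem (M.zpow_mem h2 (-a)) hk
    rwa [show (x ^ (2 : ℤ)) ^ (-a) * (x ^ (2 * a + k) * y) = x ^ k * y by group] at this
  obtain ⟨g, hg, hg'⟩ := SetLike.not_le_iff_exists.1 h3
  obtain ⟨k, rfl | rfl⟩ := (h.mem g).1 trivial
  · rcases Int.even_or_odd' k with ⟨j, rfl | rfl⟩
    · exact absurd (QD.even_mem j) hg'
    · obtain ⟨m, hm⟩ := h.ord_pow
      exact Or.inl ((c1.le_iff_eq hM).1
        (zpowers_le.2 (zpowers_le.2 hg (mem_zpowers_of_odd hm j))))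
  · rcases Int.even_or_odd' k with ⟨j, rfl | rfl⟩
    · exact Or.inr (Or.inr (key j 0 (by simpa using hg)))
    · exact Or.inr (Or.inl (key j 1 hg))

theorem s1192 {S : Type*} [Group S] [Finite S] (hS : Cfsg.IsQuasiDihedral S) (n : ℕ) (hn : Nat.card S = 2 ^ (n + 1)) : ∃ M₁ M₂ M₃ : Subgroup S, IsCoatom M₁ ∧ IsCoatom M₂ ∧ IsCoatom M₃ ∧ M₁ ≠ M₂ ∧ M₁ ≠ M₃ ∧ M₂ ≠ M₃ ∧ (∀ M : Subgroup S, IsCoatom M → M = M₁ ∨ M = M₂ ∨ M = M₃) ∧ IsCyclic M₁ ∧ Nonempty (M₂ ≃* QuaternionGroup (2 ^ (n - 2))) ∧ Nonempty (M₃ ≃* DihedralGroup (2 ^ (n - 1))) := by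
  obtain ⟨x, y, l, h⟩ := exists_QD_top hS
  obtain ⟨e1, e2⟩ := h.card_eq (n := n) (by rwa [card_top])
  have c1 : IsCoatom (zpowers x) := isCoatom_of_index_two (by simpa using h.relIndex_X)
  have c2 : ∀ k : ℤ, IsCoatom (closure {x ^ (2 : ℤ), x ^ k * y} : Subgroup S) := fun k =>
    isCoatom_of_index_two (by simpa using h.relIndex_M k)
  refine ⟨zpowers x, _, _, c1, c2 1, c2 0, fun e => h.x_not_mem_M 1 (e ▸ mem_zpowers x),
    fun e => h.x_not_mem_M 0 (e ▸ mem_zpowers x), fun e => h.x_not_mem_M 0 ?_, fun M hM => ?_,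
    inferInstance, e1 ▸ h.equiv_Q, e2 ▸ h.equiv_D⟩
  · have := mul_mem (e ▸ right_mem_closure_pair (x ^ (2 : ℤ)) (x ^ (1 : ℤ) * y))
      (inv_mem (right_mem_closure_pair (x ^ (2 : ℤ)) (x ^ (0 : ℤ) * y)))
    simpa using this
  · have h1 := index_eq_of_isCoatom (isPGroup_top_iff.1 h.isPGroup) hM
    refine h.coatom_cases (by rw [zpow_two]; exact sq_mem_of_index_two h1 x) hM.1 fun h2 => ?_
    have := hM.2 _ (h2.trans_lt (lt_of_le_of_ne (QD.X2_le_M (y := y) 0) fun e =>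
      h.o_not_mem 0 (QD.X2_le_X (e ▸ right_mem_closure_pair _ _))))
    exact (c2 0).1 this

theorem QD.commutator_eq [Finite G] {x y : G} {l : ℕ} (h : QD ⊤ x y l) :
    _root_.commutator G = zpowers (x ^ (2 : ℤ)) := by
  refine le_antisymm (commutator_le.2 fun a ha b hb =>
    commutator_mem_of_sq (fun a ha => h.sq_mem_X2 ha) ha hb) (zpowers_le.2 ?_)
  obtain ⟨j, hj⟩ := h.conj_out 0 1
  have := commutator_mem_commutator (mem_top (x ^ j)) (mem_top (x ^ (0 : ℤ) * y))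
  rw [commutatorElement_def, hj] at this
  simpa [_root_.commutator] using this

theorem s1193 {S : Type*} [Group S] [Finite S] (hS : Cfsg.IsQuasiDihedral S) (n : ℕ) (hn : Nat.card S = 2 ^ (n + 1)) : commutator S = frattini S ∧ IsCyclic (commutator S) ∧ Nat.card (commutator S) = 2 ^ (n - 1) ∧ Nat.card (Subgroup.center S) = 2 ∧ Nonempty (↥(Subgroup.closure {x : S | orderOf x = 2}) ≃* DihedralGroup (2 ^ (n - 1))) := by
  obtain ⟨x, y, l, h⟩ := exists_QD_top hS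
  obtain ⟨e1, e2⟩ := h.card_eq (n := n) (by rwa [card_top])
  have hp := isPGroup_top_iff.1 h.isPGroup
  refine ⟨le_antisymm (commutator_le_frattini hp) (frattini_le_of hp le_rfl fun a => ?_),
    by rw [h.commutator_eq]; infer_instance, by rw [h.commutator_eq, Nat.card_zpowers, h.x2ord, e2],
    ?_, ?_⟩
  · rw [h.commutator_eq, pow_two]; exact h.sq_mem_X2 trivial
  · have := h.center_eq
    rw [top_inf_eq, coe_top, centralizer_univ] at this
    rw [this, Nat.card_zpowers, h.zord]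
  · have : closure {x : S | orderOf x = 2} = closure {x ^ (2 : ℤ), x ^ (0 : ℤ) * y} := by
      refine le_antisymm ((closure_le _).2 fun t ht => ?_) ?_
      · rcases h.invol (mem_top t) ht with rfl | ⟨k, rfl⟩
        · exact QD.X2_le_M 0 QD.z_mem_X2
        · exact (h.mem_M 0).2 ⟨k, Or.inr (by simp)⟩
      · rw [closure_pair_eq_sup]
        have a1 : ∀ k : ℤ, x ^ (2 * k) * y ∈ closure {x : S | orderOf x = 2} := fun k =>
          subset_closure (h.ord_even k)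
        refine sup_le (zpowers_le.2 ?_) (zpowers_le.2 (by simpa using a1 0))
        simpa using mul_mem (a1 1) (inv_mem (a1 0))
    rw [this, ← e2]
    exact h.equiv_D

theorem s1194 {S : Type*} [Group S] [Finite S] (hS : Cfsg.IsQuasiDihedral S) (N : Subgroup S) [N.Normal] (hN : N ≠ ⊤) : IsCoatom N ∨ (IsCyclic N ∧ N ≤ commutator S) := by
  obtain ⟨x, y, l, h⟩ := exists_QD_top hS
  rw [h.commutator_eq]
  by_cases h1 : N ≤ zpowers (x ^ (2 : ℤ))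
  · exact Or.inr ⟨isCyclic_of_le h1, h1⟩
  left
  have h2 : x ^ (2 : ℤ) ∈ N := by
    obtain ⟨g, hg, hg'⟩ := SetLike.not_le_iff_exists.1 h1
    obtain ⟨k, rfl | rfl⟩ := (h.mem g).1 trivial
    · rcases Int.even_or_odd' k with ⟨j, rfl | rfl⟩
      · exact absurd (QD.even_mem j) hg'
      · obtain ⟨m, hm⟩ := h.ord_pow
        exact zpow_mem (zpowers_le.2 hg (mem_zpowers_of_odd hm j)) 2
    · exact h.x2_mem (fun s _ a ha => Normal.conj_mem inferInstance a ha s) hg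
  rcases h.coatom_cases h2 hN h1 with rfl | rfl | rfl
  · exact isCoatom_of_index_two (by simpa using h.relIndex_X)
  · exact isCoatom_of_index_two (by simpa using h.relIndex_M 1)
  · exact isCoatom_of_index_two (by simpa using h.relIndex_M 0)

end Cfsg.Agent.Inv
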