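import Cfsg.Agent.Inv.Zas4

/-! Sharply 3-transitive groups. -/

set_option autoImplicit false
set_option linter.unusedVariables false
set_option linter.unusedSectionVars false

namespace Cfsg.Agent.Inv

open Subgroup MulAction Cfsg.Agent.PLoc
open scoped MatrixGroups IsMulCommutative commutatorElement

variable {G Ω : Type*} [Group G] [MulAction G Ω]

/-- triple transitivity -/
def Tr3 (G Ω : Type*) [Group G] [MulAction G Ω] : Prop :=
  ∀ ⦃a b c x y z : Ω⦄, a ≠ b → c ≠ a → c ≠ b → x ≠ y → z ≠ x → z ≠ y →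
    ∃ g : G, g • a = x ∧ g • b = y ∧ g • c = z

/-- embedding of three distinct points -/
def emb3 {a b c : Ω} (h1 : a ≠ b) (h2 : c ≠ a) (h3 : c ≠ b) : Fin 3 ↪ Ω :=
  ⟨![a, b, c], fun i j h => by
    fin_cases i <;> fin_cases j <;> simp_all [eq_comm]⟩

theorem tr3_iff : Tr3 G Ω ↔ IsMultiplyPretransitive G Ω 3 := by
  rw [isMultiplyPretransitive_iff]
  constructor
  · intro h x y
    obtain ⟨g, h1, h2, h3⟩ := h (a := x 0) (b := x 1) (c := x 2) (x := y 0) (y := y 1) (z := y 2)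
      (x.injective.ne (by decide)) (x.injective.ne (by decide)) (x.injective.ne (by decide))
      (y.injective.ne (by decide)) (y.injective.ne (by decide)) (y.injective.ne (by decide))
    exact ⟨g, Function.Embedding.ext fun i => by fin_cases i <;> assumption⟩
  · intro h a b c x y z h1 h2 h3 h4 h5 h6
    obtain ⟨g, hg⟩ := h (emb3 h1 h2 h3) (emb3 h4 h5 h6)
    exact ⟨g, DFunLike.congr_fun hg 0, DFunLike.congr_fun hg 1, DFunLike.congr_fun hg 2⟩

theorem exists_ne_ne [Fintype Ω] (h : 3 ≤ Fintype.card Ω) (a b : Ω) : ∃ c, c ≠ a ∧ c ≠ b := by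
  classical
  obtain ⟨c, -, hc⟩ := Finset.exists_mem_notMem_of_card_lt_card (s := {a, b}) (t := Finset.univ)
    (lt_of_le_of_lt Finset.card_le_two (by rwa [Finset.card_univ]))
  exact ⟨c, by simpa using hc⟩

theorem z0_of_sharp [Fintype Ω] (h : 3 ≤ Fintype.card Ω) (h3 : IsMultiplyPretransitive G Ω 3)
    (hs : ∀ x : Fin 3 ↪ Ω, stabilizer G x = ⊥) : Z0 G Ω := by
  refine ⟨fun {a b c d} hab hcd => ?_, fun g a b c h1 h2 h4 e1 e2 e3 => ?_, exists_ne_ne h⟩
  · obtain ⟨x, h1, h2⟩ := exists_ne_ne h a b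
    obtain ⟨y, h4, h5⟩ := exists_ne_ne h c d
    obtain ⟨g, e1, e2, -⟩ := tr3_iff.2 h3 hab h1 h2 hcd h4 h5
    exact ⟨g, e1, e2⟩
  · rw [← mem_bot, ← hs (emb3 h1 h4.symm h2.symm), mem_stabilizer_iff]
    exact Function.Embedding.ext fun i => by fin_cases i <;> assumption

theorem comm_le_cent_of_isCyclic {X : Subgroup G} (hX : IsCyclic X) :
    ⁅normalizer (X : Set G), normalizer (X : Set G)⁆ ≤ centralizer (X : Set G) := by
  rw [commutator_le]
  intro a ha b hb
  have key : ∀ φ ψ : MulAut X, φ * ψ = ψ * φ := fun φ ψ => MulEquiv.ext fun y => by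
    obtain ⟨m, hm⟩ := MonoidHom.map_cyclic φ.toMonoidHom
    have h1 : ∀ z : X, φ z = z ^ m := hm
    rw [MulAut.mul_apply, MulAut.mul_apply, h1, h1, map_zpow]
  have : ⁅(⟨a, ha⟩ : normalizer (X : Set G)), ⟨b, hb⟩⁆ ∈ X.normalizerMonoidHom.ker := by
    rw [MonoidHom.mem_ker, map_commutatorElement, commutatorElement_eq_one_iff_mul_comm, key]
  rwa [normalizerMonoidHom_ker] at this

variable [Finite G]

theorem q8_cent {Q : Subgroup G} {z g : G} (h : Q8 Q z) (hg : g ∈ normalizer (Q : Set G))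
    (h2 : (orderOf g).Coprime 6) : g ∈ centralizer (Q : Set G) := by
  have h1 := h.relIndex_dvd_six (zpowers_le.2 hg)
  have h3 : (Q ⊔ centralizer (Q : Set G)).relIndex (zpowers g) ∣ orderOf g :=
    Nat.card_zpowers g ▸ relIndex_dvd_card _ _
  exact mem_centralizer_of_mem_sup h.isPGroup (relIndex_eq_one.1
    (Nat.eq_one_of_dvd_coprimes h2 h3 h1) (mem_zpowers g)) (h2.coprime_dvd_right (by norm_num))

theorem cent_or_q8 {T : Subgroup G} (hT : IsPGroup 2 T)
    (h : IsCyclic T ∨ ∃ n : ℕ, Nonempty (T ≃* QuaternionGroup (2 ^ (n + 1)))) {g : G}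
    (hg : g ∈ normalizer (T : Set G)) (hodd : Odd (orderOf g)) :
    g ∈ centralizer (T : Set G) ∨ ∃ z, Q8 T z := by
  rcases h with h | ⟨n, ⟨e⟩⟩
  · exact Or.inl (mem_centralizer_of_isCyclic hT h hg hodd)
  have : NeZero (2 ^ (n + 1)) := ⟨by positivity⟩
  let x : G := e.symm (QuaternionGroup.a 1)
  have hx : ∀ w : T, (w : G) ∈ zpowers x ↔ ∃ i, e w = QuaternionGroup.a i := fun w => by
    constructor
    · rintro ⟨k, hk⟩
      obtain rfl : e.symm (QuaternionGroup.a 1) ^ k = w := Subtype.ext hk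
      rw [map_zpow, e.apply_symm_apply]
      have : ∀ u ∈ zpowers (QuaternionGroup.a 1 : QuaternionGroup (2 ^ (n + 1))),
          ∃ i, u = QuaternionGroup.a i := fun u hu => by
        rw [← mem_powers_iff_mem_zpowers] at hu
        obtain ⟨m, rfl⟩ := hu
        exact ⟨_, QuaternionGroup.a_one_pow m⟩
      exact this _ (zpow_mem_zpowers _ k)
    · rintro ⟨i, hi⟩
      refine ⟨(i.val : ℤ), ?_⟩
      change ((e.symm (QuaternionGroup.a 1) ^ (i.val : ℤ) : T) : G) = w
      rw [zpow_natCast, ← map_pow, QuaternionGroup.a_one_pow, ZMod.natCast_zmod_val, ← hi,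
        e.symm_apply_apply]
  have hxT : zpowers x ≤ T := zpowers_le.2 (Subtype.coe_prop _)
  rcases odd_centralizes_or (X := zpowers x) hT inferInstance (relIndex_eq_two_of_card hxT (by
      rw [Nat.card_zpowers, Subgroup.orderOf_coe, MulEquiv.orderOf_eq,
        QuaternionGroup.orderOf_a_one, Nat.card_congr e.toEquiv, Nat.card_eq_fintype_card,
        QuaternionGroup.card]
      ring)) (fun w hw hwX => Or.inr (by
      obtain ⟨i, hi⟩ : ∃ i, e ⟨w, hw⟩ = QuaternionGroup.xa i := by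
        rcases h : e ⟨w, hw⟩ with i | i
        · exact absurd ((hx ⟨w, hw⟩).2 ⟨i, h⟩) hwX
        · exact ⟨i, rfl⟩
      refine ⟨by rw [← QuaternionGroup.orderOf_xa i, ← hi, MulEquiv.orderOf_eq, orderOf_mk],
        fun c hc _ => ?_⟩
      obtain ⟨j, hj⟩ := (hx ⟨c, hxT hc⟩).1 hc
      have : (⟨w, hw⟩ * ⟨c, hxT hc⟩ : T) = (⟨c, hxT hc⟩ : T)⁻¹ * ⟨w, hw⟩ := e.injective (by
        rw [map_mul, map_mul, map_inv, hi, hj, eq_inv_mul_iff_mul_eq]
        simp)
      rw [mul_inv_eq_iff_eq_mul]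
      exact congrArg Subtype.val this)) le_rfl hg hodd with h | h | ⟨-, ⟨h⟩⟩
  · exact Or.inl h
  · have := h.card_four
    rw [Nat.card_congr e.toEquiv, Nat.card_eq_fintype_card, QuaternionGroup.card, pow_succ] at this
    have := Nat.two_pow_pos n
    omega
  · exact Or.inr (exists_Q8 h)

theorem card_le_of_conj_mem {E D : Subgroup G} {s : G} (X : Set G)
    (h : ∀ g ∈ E, g * s * g⁻¹ * s⁻¹ ∈ X) :
    Nat.card E ≤ Nat.card ↥(E ⊓ centralizer {s}) * X.ncard := by
  classical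
  have := Fintype.ofFinite G
  rw [card_subgroup_eq_filter E, Set.ncard_eq_toFinset_card']
  refine Finset.card_le_mul_card_image_of_maps_to (f := fun g => g * s * g⁻¹ * s⁻¹)
    (fun g hg => by simpa using h g (by simpa using hg)) _ fun x hx => ?_
  rcases (Finset.filter (fun g => g * s * g⁻¹ * s⁻¹ = x)
    (Finset.univ.filter (· ∈ E))).eq_empty_or_nonempty with e | ⟨g, hg⟩
  · rw [e]; simp
  simp only [Finset.mem_filter, Finset.mem_univ, true_and] at hg
  rw [card_subgroup_eq_filter]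
  refine Finset.card_le_card_of_injOn (fun k => g⁻¹ * k) (fun k hk => ?_)
    fun k _ l _ e => mul_left_cancel e
  simp only [Finset.coe_filter, Finset.mem_filter, Finset.mem_univ, true_and,
    Set.mem_setOf_eq] at hk ⊢
  refine ⟨E.mul_mem (E.inv_mem hg.1) hk.1, mem_centralizer_singleton_iff.2 ?_⟩
  have e := mul_right_cancel (hk.2.trans hg.2.symm)
  calc g⁻¹ * k * s = g⁻¹ * (k * s * k⁻¹) * k := by group
    _ = _ := by rw [e]; group

theorem nearfield_arith {r m : ℕ} (hr : 2 ≤ r) (hm : 2 ≤ m) (h3 : 3 ∣ r - 1)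
    (h : r ^ m - 1 ∣ 12 * (r - 1)) : False := by
  have h1 := Nat.le_of_dvd (by omega) h
  rcases hm.eq_or_lt with rfl | hm
  · have : r ≤ 11 := by
      by_contra h2
      have : 12 * r ≤ r ^ 2 := by rw [sq]; exact Nat.mul_le_mul_right _ (by omega)
      omega
    interval_cases r <;> omega
  · have h2 : r ^ 3 ≤ r ^ m := Nat.pow_le_pow_right (show 0 < r by omega) hm
    have h4 : 4 * 4 * r ≤ r ^ 3 := by
      rw [pow_succ, sq]
      exact Nat.mul_le_mul_right _ (Nat.mul_le_mul (by omega) (by omega))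
    omega

namespace Z0

variable (Z : Z0 G Ω) {a b : Ω} (hab : a ≠ b)
include Z

theorem sharp (t : Fin 3 ↪ Ω) : stabilizer G t = ⊥ :=
  (eq_bot_iff_forall _).2 fun g hg => Z.fix3 g (a := t 0) (b := t 1) (c := t 2)
    (t.injective.ne (by decide)) (t.injective.ne (by decide)) (t.injective.ne (by decide))
    (DFunLike.congr_fun hg 0) (DFunLike.congr_fun hg 1) (DFunLike.congr_fun hg 2)

include hab

theorem tr3_iff_card : Tr3 G Ω ↔ Nat.card (St2 G a b) + 1 = Nat.card (zk G a) := by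
  have := Z.finite a
  obtain ⟨c, h1, h2⟩ := Z.three a b
  let f : St2 G a b → ({a, b}ᶜ : Set Ω) := fun g => ⟨(g : G) • c, by
    rintro (h | h)
    · exact h1 (smul_left_cancel _ (h.trans g.2.1.symm))
    · exact h2 (smul_left_cancel _ (h.trans g.2.2.symm))⟩
  have hi : Function.Injective f := fun g h e => Subtype.ext (Z.eq_of_three hab h1 h2
    (g.2.1.trans h.2.1.symm) (g.2.2.trans h.2.2.symm) (congrArg Subtype.val e))
  have hc : Nat.card ({a, b}ᶜ : Set Ω) + 1 = Nat.card (zk G a) := by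
    have := Set.ncard_add_ncard_compl ({a, b} : Set Ω)
    rw [Set.ncard_pair hab, ← Z.card_zk a] at this
    rw [Nat.card_coe_set_eq]; omega
  rw [← hc, add_left_inj]
  constructor
  · intro h
    refine Nat.card_congr (Equiv.ofBijective f ⟨hi, fun x => ?_⟩)
    obtain ⟨g, e1, e2, e3⟩ := h hab h1 h2 hab (fun e => x.2 (Or.inl e)) fun e => x.2 (Or.inr e)
    exact ⟨⟨g, e1, e2⟩, Subtype.ext e3⟩
  · intro h
    have hs := ((Nat.bijective_iff_injective_and_card f).2 ⟨hi, h⟩).2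
    have key : ∀ ⦃x y z : Ω⦄, x ≠ y → z ≠ x → z ≠ y → ∃ g : G, g • a = x ∧ g • b = y ∧ g • c = z := by
      intro x y z h3 h4 h5
      obtain ⟨g, rfl, rfl⟩ := Z.tr2 hab h3
      obtain ⟨k, hk⟩ := hs ⟨g⁻¹ • z, by
        rintro (h | h)
        · exact h4 (inv_smul_eq_iff.1 h)
        · exact h5 (inv_smul_eq_iff.1 h)⟩
      refine ⟨g * k, by rw [mul_smul, k.2.1], by rw [mul_smul, k.2.2], ?_⟩
      rw [mul_smul, show (k : G) • c = g⁻¹ • z from congrArg Subtype.val hk, smul_inv_smul]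
    intro x y z x' y' z' h3 h4 h5 h6 h7 h8
    obtain ⟨g, rfl, rfl, rfl⟩ := key h3 h4 h5
    obtain ⟨k, rfl, rfl, rfl⟩ := key h6 h7 h8
    exact ⟨k * g⁻¹, by simp [mul_smul], by simp [mul_smul], by simp [mul_smul]⟩

theorem sq_of_swap_fix {c : Ω} (h1 : c ≠ a) (h2 : c ≠ b) {s : G} (s1 : s • a = b) (s2 : s • b = a)
    (s3 : s • c = c) : orderOf s = 2 := by
  refine ord2_iff.2 ⟨Z.eq_one_of_St2 hab h1 h2 (swap_mul_swap s1 s2 s1 s2) ?_, ?_⟩
  · rw [mul_smul, s3, s3]
  · rintro rfl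
    exact hab (by rwa [one_smul] at s1)

theorem inv_ord3 (T : Tr3 G Ω) {c : Ω} (h1 : c ≠ a) (h2 : c ≠ b) {s : G} (s1 : s • a = b)
    (s2 : s • b = a) (s3 : s • c = c) {x : G} (hx : x ∈ St2 G a b) (h3 : orderOf x = 3) :
    s * x * s⁻¹ = x⁻¹ := by
  have x3 : x * x * x = 1 := by rw [← pow_three', ← h3, pow_orderOf_eq_one]
  have x1 : x ≠ 1 := by rintro rfl; simp at h3
  have hf : ∀ y ∈ St2 G a b, y ≠ 1 → y • c ≠ c := fun y hy hy1 e =>
    hy1 (Z.eq_one_of_St2 hab h1 h2 hy e)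
  have n1 := hf x hx x1
  have n2 := hf _ (inv_mem hx) (inv_ne_one.2 x1)
  have xx : x * x = x⁻¹ := eq_inv_of_mul_eq_one_left x3
  have xx' : x⁻¹ * x⁻¹ = x := by rw [← mul_inv_rev, xx, inv_inv]
  have n3 : x • c ≠ x⁻¹ • c := fun e => n2 (by rw [← xx, mul_smul, e, smul_inv_smul])
  obtain ⟨t, t1, t2, t3⟩ := T n3 n1.symm n2.symm n3.symm n2.symm n1.symm
  have ht : t * x = x⁻¹ * t := Z.eq_of_three n3 n1.symm n2.symm
    (by rw [mul_smul, mul_smul, ← mul_smul x, xx, t2, t1, ← mul_smul, xx'])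
    (by rw [mul_smul, mul_smul, smul_inv_smul, t3, t2, inv_smul_smul])
    (by rw [mul_smul, mul_smul, t1, t3])
  rw [← mul_inv_eq_iff_eq_mul] at ht
  rcases Z.swap_or_fix hab hx x1 (ht ▸ inv_mem hx) with h | ⟨h, h'⟩
  · rw [Z.eq_one_of_St2 hab h1 h2 h t3, one_smul] at t1
    exact absurd t1 n3
  · rwa [Z.eq_of_three hab h1 h2 (s1.trans h.symm) (s2.trans h'.symm) (s3.trans t3.symm)]

theorem ord3_mem (T : Tr3 G Ω) (he : Even (Nat.card (St2 G a b))) {x y : G} (hx : x ∈ St2 G a b)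
    (hy : y ∈ St2 G a b) (h1 : orderOf x = 3) (h2 : orderOf y = 3) : y ∈ zpowers x := by
  obtain ⟨c, c1, c2⟩ := Z.three a b
  obtain ⟨s, -, s1, s2, s3⟩ := Z.exists_swap_fix hab he c1 c2
  have e1 := Z.inv_ord3 hab T c1 c2 s1 s2 s3 hx h1
  have e2 := Z.inv_ord3 hab T c1 c2 s1 s2 s3 hy h2
  have e3 := Z.inv_ord3 hab T (c := x • c) (s := x * s * x⁻¹)
    (fun e => c1 (smul_left_cancel x (e.trans hx.1.symm)))
    (fun e => c2 (smul_left_cancel x (e.trans hx.2.symm)))
    (by rw [mul_smul, mul_smul, smul_eq_iff_inv.1 hx.1, s1, hx.2])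
    (by rw [mul_smul, mul_smul, smul_eq_iff_inv.1 hx.2, s2, hx.1]) (conj_smul_eq_iff.2 s3) hy h2
  have e4 : Commute x y := commute_of_sq_commute_of_odd (h1 ▸ by decide) (by
    have : x * s * x⁻¹ = x * x * s := by
      rw [mul_assoc, mul_assoc, mul_right_inj, ← mul_inv_eq_iff_eq_mul, ← inv_inj]
      conv_rhs => rw [← e1]
      group
    rw [this] at e3
    refine Commute.inv_right_iff.1 ?_
    rw [commute_iff_eq, ← mul_inv_eq_iff_eq_mul]
    conv_rhs => rw [← e3]
    rw [← e2]; group)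
  have hc := Z.isCyclic_of_comm hab (X := zpowers x ⊔ zpowers y)
    (sup_le (zpowers_le.2 hx) (zpowers_le.2 hy)) (isMulCommutative_sup inferInstance inferInstance
      (by rw [centralizer_zpowers, zpowers_le, mem_centralizer_singleton_iff]; exact e4))
  exact Core.eq_of_card_eq_of_isCyclic hc le_sup_left le_sup_right
    (by rw [Nat.card_zpowers, Nat.card_zpowers, h1, h2]) ▸ mem_zpowers y

theorem card_cent_swap {c : Ω} (h1 : c ≠ a) (h2 : c ≠ b) {s : G} (s1 : s • a = b)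
    (s3 : s • c = c) : Nat.card ↥(St2 G a b ⊓ centralizer {s}) ≤ 2 := by
  have := Z.finite a
  refine le_trans (Nat.card_le_card_of_injective (β := fixedBy Ω s) (fun g => ⟨(g : G) • c, ?_⟩)
    fun g h e => Subtype.ext (Z.eq_of_three hab h1 h2 (g.2.1.1.trans h.2.1.1.symm)
      (g.2.1.2.trans h.2.1.2.symm) (congrArg Subtype.val e))) (Z.card_fixedBy_le ?_)
  · rw [mem_fixedBy, ← mul_smul, ← mem_centralizer_singleton_iff.1 g.2.2, mul_smul, s3]
  · rintro rfl
    exact hab (by rwa [one_smul] at s1)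

theorem comm_ne (T : Tr3 G Ω) (he : Even (Nat.card (St2 G a b))) {c : Ω} (c1 : c ≠ a) (c2 : c ≠ b)
    {s : G} (s1 : s • a = b) (s2 : s • b = a) (s3 : s • c = c) :
    ⁅St2 G a b, zpowers s⁆ ≠ St2 G a b := by
  intro hD
  have : Fact (Nat.Prime 3) := ⟨Nat.prime_three⟩
  set E := St2 G a b with hE
  have hs := Z.sq_of_swap_fix hab c1 c2 s1 s2 s3
  have hsE : s ∈ normalizer (E : Set G) := Z.swap_mem_norm s1 s2
  obtain ⟨z, hz, z2⟩ := exists_involution_mem he
  have zc : ∀ g ∈ normalizer (E : Set G), g * z * g⁻¹ = z := fun g hg =>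
    Z.invol_unique hab (conj_mem_of_mem_normalizer hg hz) (by rw [orderOf_conj', z2]) hz z2
  have F1 : ∀ X ≤ E, Odd (Nat.card X) → normalizer (E : Set G) ≤ normalizer (X : Set G) →
      E ≤ centralizer (X : Set G) := by
    intro X hX ho hn
    have h1 : X ⊓ centralizer {s} = ⊥ := by
      have e1 : zpowers z = E ⊓ centralizer {s} := eq_of_le_of_card_ge (zpowers_le.2 ⟨hz,
        mem_centralizer_singleton_iff.2 (mul_inv_eq_iff_eq_mul.1 (zc s hsE)).symm⟩)
        (by rw [Nat.card_zpowers, z2]; exact Z.card_cent_swap hab c1 c2 s1 s3)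
      refine (eq_bot_iff_forall _).2 fun x hx => eq_one_of_odd_of_sq (odd_orderOf_of_mem ho hx.1) ?_
      rcases (mem_zpowers_ord2 (sq_of_ord2 z2)).1 (e1.ge ⟨hX hx.1, hx.2⟩) with e | e
      · rw [e, one_mul]
      · rw [e, sq_of_ord2 z2]
    rw [← hD]
    exact (commutator_mono (le_normalizer.trans hn) (zpowers_le.2 (hn hsE))).trans
      (comm_le_cent_of_isCyclic (Z.isCyclic_of_comm hab hX
        (Core.inv_of_fpf_involution (hn hsE) (sq_of_ord2 hs) h1).2))
  have F2 : ¬ NPC 2 E := by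
    intro h
    have h1 : pResOf 2 E < E := lt_of_le_of_ne (pResOf_le E) fun e =>
      (Nat.not_odd_iff_even.2 he) (Nat.coprime_two_right.1 (e ▸ npc_iff_coprime.1 h))
    have h2 : E ⊔ zpowers s ≤ normalizer (E : Set G) := sup_le le_normalizer (zpowers_le.2 hsE)
    have := sup_commutator_lt (p := 2) h1 le_sup_left
      (h2.trans (normalizer_le_normalizer_pResOf E)) h2 (relIndex_eq_pow_of_forall
        (h2.trans (normalizer_le_normalizer_pResOf E)) fun x hx => by
          have e : x ^ 2 ∈ E := by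
            rw [sq]
            rcases (mem_sup_zpowers_iff (fun g hg => conj_mem_of_mem_normalizer hsE hg)
              (by rw [sq_of_ord2 hs]; exact one_mem _)).1 hx with h | h
            · exact mul_mem h h
            · have := mul_mem h (conj_mem_of_mem_normalizer hsE h)
              rwa [inv_of_ord2 hs, show x * s * (s * (x * s) * s) = x * (s * s) * x * (s * s) by
                group, sq_of_ord2 hs, mul_one, mul_one] at this
          obtain ⟨k, hk⟩ := exists_pow_mem_pResOf (p := 2) e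
          exact ⟨k + 1, by rwa [pow_succ', pow_mul]⟩)
    exact this.not_ge (hD.ge.trans ((commutator_mono le_rfl le_sup_right).trans le_sup_right))
  have F3 : ∀ Q ≤ E, IsPGroup 2 Q → ∀ g ∈ normalizer (Q : Set G), (orderOf g).Coprime 2 →
      g ∈ centralizer (Q : Set G) ∨ ∃ z, Q8 Q z := fun Q hQ h2 g hg ho =>
    cent_or_q8 h2 ((Core.isCyclic_or_quaternion_of_fpf (Z.St2_le_norm a b) (Z.zk_ne_bot a)
      (Z.fpf hab) h2 hQ).imp_right And.right) hg (Nat.coprime_two_right.1 ho)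
  obtain ⟨Q, hQ, hQ2, g, hg, hgN, go, hgC⟩ : ∃ Q ≤ E, IsPGroup 2 Q ∧ ∃ g ∈ E,
      g ∈ normalizer (Q : Set G) ∧ (orderOf g).Coprime 2 ∧ g ∉ centralizer (Q : Set G) := by
    obtain ⟨S, hS⟩ := exists_isSylowOf (p := 2) E
    by_contra h
    push Not at h
    exact F2 (hS.npc_of_frobenius fun Q hQ _ g hg h1 h2 =>
      h Q (hQ.trans hS.le) (hS.isP.to_le hQ) g hg h1 h2)
  obtain ⟨x, hx, x3⟩ : ∃ x ∈ E, orderOf x = 3 := by
    refine exists_mem_orderOf_eq_prime Nat.prime_three (dvd_trans ?_ (orderOf_dvd_card_of_mem hg))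
    obtain ⟨w, hw⟩ := (F3 Q hQ hQ2 g hgN go).resolve_left hgC
    by_contra h
    exact hgC (q8_cent hw hgN (Nat.Coprime.mul_right go
      ((Nat.Prime.coprime_iff_not_dvd Nat.prime_three).2 h).symm))
  have hxc : E ≤ centralizer (zpowers x : Set G) := F1 _ (zpowers_le.2 hx)
    (by rw [Nat.card_zpowers, x3]; decide) fun n hn => mem_normalizer_of_cj_le (by
      rw [cj_zpowers, zpowers_le]
      exact Z.ord3_mem hab T he hx (conj_mem_of_mem_normalizer hn hx) x3
        (by rw [orderOf_conj', x3]))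
  have cyc3 : ∀ P ≤ E, IsPGroup 3 P → IsMulCommutative P := fun P hP h =>
    have := Core.isCyclic_of_fpf_of_odd (Z.St2_le_norm a b) (Z.zk_ne_bot a) (Z.fpf hab)
      (by norm_num) h hP
    inferInstance
  have N3 : NPC 3 E := by
    obtain ⟨P, hP⟩ := exists_isSylowOf (p := 3) E
    refine hP.npc_of_frobenius fun R hR _ g hg h1 h2 => ?_
    have hR3 := hP.isP.to_le hR
    refine Core.le_centralizer_of_prime_order (cyc3 R (hR.trans hP.le) hR3) (zpowers_le.2 h1)
      (coprime_card_of_isPGroup hR3 (by rwa [Nat.card_zpowers])) (fun v hv h => ?_) (mem_zpowers g)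
    obtain ⟨k, hk⟩ := IsPGroup_orderOf hR3 hv
    have v3 : orderOf v = 3 :=
      (Nat.prime_dvd_prime_iff_eq h Nat.prime_three).1 (h.dvd_of_dvd_pow hk.dvd)
    rw [centralizer_zpowers, mem_centralizer_singleton_iff]
    exact hxc hg v (Z.ord3_mem hab T he hx (hP.le (hR hv)) x3 v3)
  set H := pResOf 3 E with hH
  have hHE : H ≤ E := pResOf_le E
  have hHn := normalizer_le_normalizer_pResOf (p := 3) E
  have H3 := (coprime_card_iff Nat.prime_three).1 (npc_iff_coprime.1 N3)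
  obtain ⟨S, hS⟩ := exists_isSylowOf (p := 2) H
  have N2 : NPC 2 H := hS.npc_of_frobenius fun R hR _ g hg h1 h2 =>
    (F3 R (hR.trans (hS.le.trans hHE)) (hS.isP.to_le hR) g h1 h2).elim id fun ⟨w, hw⟩ =>
      q8_cent hw h1 (Nat.Coprime.mul_right h2 (H3 g hg))
  have hK := F1 _ ((pResOf_le H).trans hHE) (Nat.coprime_two_right.1 (npc_iff_coprime.1 N2))
    (hHn.trans (normalizer_le_normalizer_pResOf H))
  have hKS : pResOf 2 H ≤ centralizer (S : Set G) :=
    le_centralizer_iff.1 ((hS.le.trans hHE).trans hK)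
  have hHS : H ≤ normalizer (S : Set G) := by
    rw [← hS.sup_pResOf]
    exact sup_le le_normalizer (hKS.trans (centralizer_le_normalizer _))
  have hES : E ≤ normalizer (S : Set G) := fun g hg => by
    obtain ⟨n, hn, y, hy, rfl⟩ := hS.frattini (hHn (le_normalizer hg))
    exact mul_mem (hHS hn) hy
  have hQH : Q ≤ H := fun q hq => mem_pResOf (hQ hq) (by
    obtain ⟨k, hk⟩ := IsPGroup_orderOf hQ2 hq
    rw [hk]; exact Nat.Coprime.pow_left _ (by norm_num))
  obtain ⟨w, hw⟩ := (F3 S (hS.le.trans hHE) hS.isP g (hES hg) go).resolve_left fun h =>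
    hgC (centralizer_anti (hS.le_of_le_normalizer hQ2 hQH (hQH.trans hHS)) h)
  obtain rfl : w = z := Z.invol_unique hab (hHE (hS.le hw.zmem)) hw.zord hz z2
  have hC : centralizer (S : Set G) ⊓ E ≤ centralizer (E : Set G) := by
    rintro y ⟨h1, h2⟩
    obtain ⟨u, hu, v, hv, rfl, -, ⟨k, hk⟩, v3⟩ := exists_p_part 3 y
    refine mul_mem ?_ ?_
    · obtain ⟨P, hP, hP'⟩ := exists_isSylowOf_ge (isPGroup_zpowers hk)
        (zpowers_le.2 (zpowers_le.2 h2 hu))
      rw [← hP.sup_pResOf, ← hH, ← hS.sup_pResOf, centralizer_sup', centralizer_sup']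
      have := cyc3 P hP.le hP.isP
      exact ⟨le_centralizer P (hP' (mem_zpowers u)), zpowers_le.2 h1 hu, hK (zpowers_le.2 h2 hu)⟩
    · have hv' : v ∈ S ⊔ pResOf 2 H := hS.sup_pResOf.symm ▸ mem_pResOf (zpowers_le.2 h2 hv) v3
      obtain ⟨q, hq, k, hk', rfl⟩ := (mem_sup_of_le_normalizer_right
        (hS.le.trans (le_normalizer_pResOf H))).1 hv'
      refine mul_mem ?_ (le_centralizer_iff.1 hK hk')
      have hqc : q ∈ centralizer (S : Set G) := by
        simpa using mul_mem (zpowers_le.2 h1 hv) (inv_mem (hKS hk'))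
      rcases hw.cases q hq with rfl | rfl | e
      · exact one_mem _
      · exact fun g hg => mul_inv_eq_iff_eq_mul.1 (zc g (le_normalizer hg))
      · obtain ⟨j, hj, j1, j2, j3⟩ := hw.ex q hq
        have := hw.inv q hq j hj e j1 j2 j3
        rw [hqc j hj, mul_inv_cancel_right] at this
        rw [← mul_eq_one_iff_eq_inv, e] at this
        exact absurd this (ne_one_of_ord2 z2)
  obtain ⟨r, m, hr, h1, h2, h3⟩ := exists_field_card (Z.elem_of_large hab (by
      have := (Z.tr3_iff_card hab).1 T; omega)).1 (Z.zk_ne_bot a) inf_le_right (Z.St2_le_norm a b)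
    hC (fun U hU h => Z.eq_of_large hab (by have := (Z.tr3_iff_card hab).1 T; omega) hU h)
    (Z.fpf hab)
  have hm : 2 ≤ m := by
    have := Z.two_le_card_zk a
    rcases m with _ | _ | m
    · rw [pow_zero] at h1; omega
    · exact absurd (isMulCommutative_of_le (h3 rfl) (hS.le.trans hHE)) hw.not_comm
    · omega
  refine nearfield_arith hr hm (dvd_trans (x3 ▸ orderOf_dvd_card_of_mem ⟨centralizer_anti
    (hS.le.trans hHE) (le_centralizer_iff.1 hxc (mem_zpowers x)), hx⟩) h2) ?_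
  rw [← h1, ← (Z.tr3_iff_card hab).1 T, add_tsub_cancel_right, ← hE,
    ← card_mul_relIndex (inf_le_right : centralizer (S : Set G) ⊓ E ≤ E), mul_comm]
  refine Nat.mul_dvd_mul ?_ h2
  rw [← relIndex_mul_relIndex _ (S ⊔ centralizer (S : Set G) ⊓ E) _ le_sup_right
    (sup_le (hS.le.trans hHE) inf_le_right), show 12 = 4 * 3 from rfl]
  refine Nat.mul_dvd_mul ?_ ?_
  · rw [relIndex_sup_of_le_normalizer (le_normalizer_inf (le_normalizer_centralizer le_normalizer)
      ((hS.le.trans hHE).trans le_normalizer))]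
    have e1 := card_inf_mul_relIndex (centralizer (S : Set G) ⊓ E) S
    obtain ⟨k, hk⟩ : 2 ∣ Nat.card ↥(centralizer (S : Set G) ⊓ E ⊓ S) := z2 ▸
      orderOf_dvd_card_of_mem ⟨⟨hw.zcomm, hz⟩, hw.zmem⟩
    rw [hk, hw.card] at e1
    exact ⟨k, by linarith⟩
  · rw [← sup_inf_of_le_normalizer (le_normalizer_centralizer le_normalizer) (hS.le.trans hHE),
      inf_relIndex_right]
    have e1 := hw.relIndex_dvd_six hES
    obtain ⟨k, hk⟩ := relIndex_pResOf (p := 3) E
    have e2 : (S ⊔ centralizer (S : Set G)).relIndex E ∣ 3 ^ k := hk ▸ relIndex_dvd_of_le_left _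
      (by rw [← hH, ← hS.sup_pResOf]; exact sup_le_sup_left hKS _)
    exact (Nat.Coprime.coprime_dvd_left e2 (Nat.Coprime.pow_left k (by norm_num : Nat.Coprime 3 2))
      ).dvd_of_dvd_mul_left e1

theorem exists_M (T : Tr3 G Ω) (he : Even (Nat.card (St2 G a b))) {c : Ω} (c1 : c ≠ a) (c2 : c ≠ b)
    {s : G} (s1 : s • a = b) (s2 : s • b = a) (s3 : s • c = c) :
    ∃ M ≤ St2 G a b, 2 * Nat.card M = Nat.card (St2 G a b) ∧ (∀ m ∈ M, s * m * s⁻¹ = m⁻¹) ∧
      ∀ g ∈ St2 G a b, g * s * g⁻¹ * s⁻¹ ∈ M := by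
  have hs := Z.sq_of_swap_fix hab c1 c2 s1 s2 s3
  have h1 : ⁅St2 G a b, zpowers s⁆ ≤ St2 G a b :=
    le_normalizer_iff_commutator_le_left.1 (zpowers_le.2 (Z.swap_mem_norm s1 s2))
  have h2 : ∀ g ∈ St2 G a b, g * s * g⁻¹ * s⁻¹ ∈ ⁅St2 G a b, zpowers s⁆ := fun g hg =>
    commutator_mem_commutator hg (mem_zpowers s)
  set D := ⁅St2 G a b, zpowers s⁆
  have h3 := card_le_of_conj_mem (s := s) (E := St2 G a b) (D := ⊥)
    {x | x ∈ D ∧ s * x * s⁻¹ = x⁻¹} fun g hg => ⟨h2 g hg, by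
      calc _ = s * g * s * g⁻¹ * (s * s)⁻¹ := by group
        _ = s * g * s * (s * s)⁻¹ * g⁻¹ := by rw [sq_of_ord2 hs]; group
        _ = _ := by group⟩
  have h4 := h3.trans (Nat.mul_le_mul_right _ (Z.card_cent_swap hab c1 c2 s1 s3))
  have h5 : {x | x ∈ D ∧ s * x * s⁻¹ = x⁻¹} ⊆ D := fun x hx => hx.1
  have h6 := Set.ncard_le_ncard h5
  have h7 := card_lt_of_lt (lt_of_le_of_ne h1 (Z.comm_ne hab T he c1 c2 s1 s2 s3))
  obtain ⟨k, hk⟩ := card_dvd_of_le h1
  have h8 : Nat.card D = (D : Set G).ncard := Nat.card_coe_set_eq _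
  have h9 : Nat.card D * 2 ≤ Nat.card D * k := Nat.mul_le_mul_left _ (by
    rcases k with _ | _ | k <;> omega)
  refine ⟨D, h1, by omega, fun m hm => ?_, h2⟩
  exact ((Set.eq_of_subset_of_ncard_le h5 (by omega)).ge hm).2

theorem not_simple (T : Tr3 G Ω) (he : Even (Nat.card (St2 G a b))) : ¬ IsSimpleGroup G := by
  intro hG
  obtain ⟨c, c1, c2⟩ := Z.three a b
  obtain ⟨s, hs, s1, s2, s3⟩ := Z.exists_swap_fix hab he c1 c2
  obtain ⟨M, hM, m1, m2, m3⟩ := Z.exists_M hab T he c1 c2 s1 s2 s3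
  obtain ⟨z, hz, z2⟩ := exists_involution_mem he
  have zc : ∀ g ∈ normalizer (St2 G a b : Set G), g * z = z * g := fun g hg =>
    mul_inv_eq_iff_eq_mul.1 (Z.invol_unique hab (conj_mem_of_mem_normalizer hg hz)
      (by rw [orderOf_conj', z2]) hz z2)
  have zs := zc s (Z.swap_mem_norm s1 s2)
  have zm := fun m (hm : m ∈ M) => zc m (le_normalizer (hM hm))
  have zz := sq_of_ord2 z2
  have ss := sq_of_ord2 hs
  have hK := fun g (hg : g ∈ St2 G a b) u (hu : u ∈ zk G a) => Z.conj_mem_zk' hg.1 hu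
  have tm : ∀ m ∈ M, z * s * m = m⁻¹ * (z * s) := fun m hm => by
    rw [mul_assoc, mul_inv_eq_iff_eq_mul.1 (m2 m hm), ← mul_assoc, ← zm _ (inv_mem hm), mul_assoc]
  have tt : z * s * (z * s) = 1 := by rw [mul_assoc, ← mul_assoc s, zs, mul_assoc, ss, mul_one, zz]
  let W : Set G := {g | ∃ u ∈ zk G a, ∃ m ∈ M, g = u * m ∨ ∃ v ∈ zk G a, g = u * m * (z * s) * v}
  have hW : ∀ x ∈ closure (zk G a ∪ M ∪ {z * s} : Set G), ∀ g ∈ W, x * g ∈ W := by
    intro x hx
    rw [← mem_toSubmonoid, closure_toSubmonoid] at hx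
    have k1 : ∀ x ∈ zk G a, ∀ g ∈ W, x * g ∈ W := by
      rintro x hx g ⟨u, hu, m, hm, h⟩
      exact ⟨x * u, mul_mem hx hu, m, hm, h.imp (fun h => by rw [h, mul_assoc])
        fun ⟨v, hv, h⟩ => ⟨v, hv, by rw [h]; group⟩⟩
    have k2 : ∀ x ∈ M, ∀ g ∈ W, x * g ∈ W := by
      rintro x hx g ⟨u, hu, m, hm, h⟩
      exact ⟨_, hK x (hM hx) u hu, x * m, mul_mem hx hm, h.imp (fun h => by rw [h]; group)
        fun ⟨v, hv, h⟩ => ⟨v, hv, by rw [h]; group⟩⟩
    have k3 : ∀ g ∈ W, z * s * g ∈ W := by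
      rintro g ⟨u, hu, m, hm, rfl | ⟨v, hv, rfl⟩⟩
      · exact ⟨1, one_mem _, m⁻¹, inv_mem hm, Or.inr ⟨_, hK _ (hM (inv_mem hm)) u hu, by
          rw [one_mul, ← tm m hm]; group⟩⟩
      by_cases hu1 : u = 1
      · exact ⟨_, hK _ (hM (inv_mem hm)) v hv, m⁻¹, inv_mem hm, Or.inl (by
          rw [hu1, one_mul, mul_assoc m, ← mul_assoc, tm m hm, mul_assoc, ← mul_assoc (z * s), tt]
          group)⟩
      have d1 : u • b ≠ a := Z.zk_smul_ne hu hab.symm
      have d2 : u • b ≠ b := fun e => hu1 (Z.zk_free hu hab.symm e)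
      obtain ⟨h, h1, h2, h3⟩ := T hab c1 c2 hab d1 d2
      obtain ⟨n, hn, e⟩ : ∃ n ∈ M, h * s * h⁻¹ = n * s := ⟨_, m3 h ⟨h1, h2⟩, by group⟩
      have e1 : (n * s) • a = b := by rw [mul_smul, s1, (hM hn).2]
      have e2 : (n * s) • b = a := by rw [mul_smul, s2, (hM hn).1]
      have e3 : (n * s) • u • b = u • b := by rw [← e, ← h3, conj_smul_eq_iff, s3]
      have f1 : (u * z) • a = a := by rw [mul_smul, hz.1, Z.zk_fix hu]
      have f2 : (u * z) • b = u • b := by rw [mul_smul, hz.2]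
      have f3 : (u * z) • u • b = b := by
        rw [← hz.2, ← mul_smul u, ← mul_smul, hz.2, show u * z * (u * z) = u * (z * u * z⁻¹) by
          rw [inv_of_ord2 z2]; group, (Z.inv_of_invol hab hz z2).1 u hu, mul_inv_cancel, one_smul]
      have key : n * s * (u * z) * (n * s) = u * z * (n * s) * (u * z) := Z.eq_of_three hab d1 d2
        (by simp only [mul_smul (n * s * _), mul_smul (u * z * _), mul_smul (n * s), mul_smul (u * z),
          e1, e2, e3, f1, f2, f3])
        (by simp only [mul_smul (n * s * _), mul_smul (u * z * _), mul_smul (n * s), mul_smul (u * z),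
          e1, e2, e3, f1, f2, f3])
        (by simp only [mul_smul (n * s * _), mul_smul (u * z * _), mul_smul (n * s), mul_smul (u * z),
          e1, e2, e3, f1, f2, f3])
      have zn := zm n hn
      have k4 : n * s * u * (n * s) = u * (n * (z * s)) * u := mul_right_cancel (b := z) (by
        calc _ = n * s * u * n * (s * z) := by group
          _ = n * s * u * (n * z) * s := by rw [zs]; group
          _ = n * s * (u * z) * (n * s) := by rw [zn]; group
          _ = u * (z * n) * s * u * z := by rw [key]; group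
          _ = _ := by rw [← zn]; group)
      have k5 : n * s = n * z * (z * s) := by rw [mul_assoc, ← mul_assoc z, zz, one_mul]
      have k6 : (n * z)⁻¹ * m = z * (n⁻¹ * m) := by rw [mul_inv_rev, inv_of_ord2 z2, mul_assoc]
      have k7 : z * s * ((n * z)⁻¹ * m)⁻¹ = (n * z)⁻¹ * m * (z * s) := by
        rw [k6, mul_inv_rev, inv_of_ord2 z2, ← mul_assoc, tm _ (inv_mem (mul_mem (inv_mem hn) hm)),
          inv_inv, mul_assoc, mul_assoc z, zs, ← mul_assoc, zm _ (mul_mem (inv_mem hn) hm)]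
      have gE : n * z ∈ St2 G a b := mul_mem (hM hn) hz
      refine ⟨_, hK _ (inv_mem gE) u hu, n⁻¹ * m, mul_mem (inv_mem hn) hm, Or.inr
        ⟨_, mul_mem (hK _ (mul_mem (inv_mem gE) (hM hm)) u hu) hv, ?_⟩⟩
      rw [k5] at k4
      have k8 : (n * z)⁻¹ * n * ((n * z)⁻¹ * m) = n⁻¹ * m := by
        rw [k6, mul_inv_rev, inv_of_ord2 z2, inv_mul_cancel_right, ← mul_assoc, zz, one_mul]
      rw [← k8]
      generalize n * z = g at k4 k7 ⊢
      generalize z * s = t at k4 k7 ⊢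
      calc _ = g⁻¹ * (g * t * u * (g * t)) * t⁻¹ * (g⁻¹ * m * t) * v := by group
        _ = g⁻¹ * u * n * (t * (g⁻¹ * m)⁻¹) * (g⁻¹ * m * u * (g⁻¹ * m)⁻¹) * v := by
          rw [k4, ← k7]; group
        _ = _ := by rw [k7]; group
    induction hx using Submonoid.closure_induction with
    | mem x hx =>
      rcases hx with ((h | h) | rfl) | ((h | h) | h)
      · exact k1 x h
      · exact k2 x h
      · exact k3
      · exact k1 x (by simpa using h)
      · exact k2 x (by simpa using h)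
      · rw [show x = z * s from inv_injective (Eq.trans h (eq_inv_of_mul_eq_one_left tt))]
        exact k3
    | one => exact fun g hg => by rwa [one_mul]
    | mul x y _ _ h1 h2 => exact fun g hg => by rw [mul_assoc]; exact h1 _ (h2 g hg)
  set L := closure (zk G a ∪ M ∪ {z * s} : Set G)
  have hL : ∀ d, zk G d ≤ L := fun d => by
    have hK : zk G a ≤ L := fun x hx => subset_closure (Or.inl (Or.inl hx))
    by_cases hd : d = a
    · rwa [hd]
    obtain ⟨u, hu, rfl⟩ := Z.zk_trans hab.symm hd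
    rw [← hz.2, ← s1, ← mul_smul, ← mul_smul, ← Z.cj_zk, mul_assoc]
    exact cj_le_of_mem hK (mul_mem (hK hu) (subset_closure (Or.inr rfl)))
  have hN : (⨆ d, zk G d).Normal := normal_of_forall_mem_normalizer fun g =>
    mem_normalizer_of_cj_le (by
      rw [← cj_def, Subgroup.map_iSup]
      exact iSup_le fun d => by rw [cj_def, Z.cj_zk]; exact le_iSup (zk G) _)
  have hT := (hN.eq_bot_or_eq_top.resolve_left fun e =>
    Z.zk_ne_bot a (eq_bot_iff.2 (e ▸ le_iSup (zk G) a))).ge.trans (iSup_le hL)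
  have : St2 G a b ≤ M := fun g hg => by
    obtain ⟨u, hu, m, hm, e | ⟨v, hv, e⟩⟩ := hW g (hT (mem_top g)) 1
      ⟨1, one_mem _, 1, one_mem _, Or.inl (mul_one 1).symm⟩
    · rw [mul_one, ← mul_inv_eq_iff_eq_mul] at e
      rw [Z.eq_one_of_mem_zk_St2 hab hu (e ▸ mul_mem hg (hM (inv_mem hm))), mul_inv_eq_one] at e
      rwa [e]
    · have : g • a = a := hg.1
      rw [← mul_one g, e, mul_smul, mul_smul, mul_smul, mul_smul, Z.zk_fix hv,
        s1, hz.2, (hM hm).2] at this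
      exact absurd this (Z.zk_smul_ne hu hab.symm)
  have := card_le_of_le this
  have := Nat.card_pos (α := M)
  omega

theorem invE_of_swap (h : ∀ s : G, s • a = b → s • b = a → orderOf s = 2) : InvE G Ω := by
  obtain ⟨s, hs, s1, s2⟩ := Z.exists_swap hab
  refine Z.invE_of hab s1 s2 fun x hx => ?_
  have := sq_of_ord2 (h (s * x) (by rw [mul_smul, hx.1, s1]) (by rw [mul_smul, hx.2, s2]))
  rw [inv_of_ord2 hs, eq_inv_iff_mul_eq_one, ← this]; group

theorem half_or_full (hd : Nat.card (zk G a) - 1 ≤ 2 * Nat.card (St2 G a b)) :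
    2 * Nat.card (St2 G a b) + 1 = Nat.card (zk G a) ∨
      Nat.card (St2 G a b) + 1 = Nat.card (zk G a) := by
  obtain ⟨k, hk⟩ := Z.card_dvd hab
  have := Z.two_le_card_zk a
  have := Nat.card_pos (α := St2 G a b)
  rcases k with _ | _ | _ | k
  · omega
  · omega
  · omega
  · nlinarith

theorem half_of_simple [hG : IsSimpleGroup G] (he : Even (Nat.card (St2 G a b))) :
    2 * Nat.card (St2 G a b) + 1 = Nat.card (zk G a) :=
  (Z.half_or_full hab (Z.large_of_even hab he)).resolve_right fun h =>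
    Z.not_simple hab ((Z.tr3_iff_card hab).2 h) he hG

theorem invE_simple [IsSimpleGroup G] : InvE G Ω := by
  rcases Nat.even_or_odd (Nat.card (St2 G a b)) with h | h
  · exact Z.invE_of_swap hab fun s => Z.swap_ord_of_small hab h (by
      have := Z.half_of_simple hab h; omega)
  · exact Z.invE_of_simple hab h

theorem pgl_of_odd (T : Tr3 G Ω) {p f : ℕ} (hp : p.Prime) (hp2 : p ≠ 2) (hf : Odd f)
    (hc : Nat.card (zk G a) = p ^ f) :
    ∃ (F : Type) (_ : Field F) (_ : Fintype F), Fintype.card F = Nat.card (zk G a) ∧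
      Nonempty (G ≃* PGL(2, F)) := by
  have h1 := (Z.tr3_iff_card hab).1 T
  have he : Even (Nat.card (St2 G a b)) := by
    have := (hp.odd_of_ne_two hp2).pow (n := f)
    rwa [← hc, ← h1, Nat.odd_add_one, Nat.not_odd_iff_even] at this
  obtain ⟨c, c1, c2⟩ := Z.three a b
  obtain ⟨s, hs, s1, s2, s3⟩ := Z.exists_swap_fix hab he c1 c2
  obtain ⟨M, hM, m1, m2, -⟩ := Z.exists_M hab T he c1 c2 s1 s2 s3
  obtain ⟨F, _, _, e, C, hF⟩ := Z.exists_crd hab hM (comm_of_inverts m2) (by omega)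
  have hi := relIndex_eq_two_of_card hM m1.symm
  have hl : ∀ h ∈ St2 G a b, ∃ c, ∀ x, h * e x * h⁻¹ = e (c * x) := by
    intro h hh
    by_cases hhM : h ∈ M
    · exact C.smul h hhM
    obtain ⟨c, τ, c0, hτ⟩ := C.semilin (Z.St2_le_norm a b hh) (mem_normalizer_of_conj_mem
      fun x hx => mul_mem_of_relIndex_two hi (mul_mem hh (hM hx)) (inv_mem hh)
        (fun e => hhM (by simpa using mul_mem e (inv_mem hx))) (by simpa using hhM))
    obtain ⟨d, hd⟩ := C.smul _ (mul_mem_of_relIndex_two hi hh hh hhM hhM)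
    have h2 : ∀ x, c * τ c * τ (τ x) = d * x := fun x => C.inj (by
      rw [← hd, mul_assoc, ← map_mul, ← hτ, ← hτ]; group)
    have h3 : τ ^ 2 = 1 := RingEquiv.ext fun x => mul_left_cancel₀
      (mul_ne_zero c0 ((map_ne_zero τ).2 c0)) (by
        have := h2 1
        rw [map_one, map_one, mul_one, mul_one] at this
        exact (h2 x).trans (by rw [this]; rfl))
    rcases (Nat.dvd_prime Nat.prime_two).1 (orderOf_dvd_of_pow_eq_one h3) with h4 | h4
    · exact ⟨c, fun x => by rw [hτ, orderOf_eq_one_iff.1 h4]; rfl⟩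
    · have := congrArg (fun n => n.factorization p) (card_eq_pow_orderOf τ)
      simp only [h4, Nat.card_eq_fintype_card (α := F), hF, hc, Nat.factorization_pow,
        Finsupp.smul_apply, hp.factorization_self, smul_eq_mul, mul_one] at this
      exact absurd (this ▸ even_two_mul _) (Nat.not_even_iff_odd.2 hf)
  obtain ⟨α, α0, s3, -⟩ := Z.sigma_of_half hab C hl hM (by omega) s1 s2 (sq_of_ord2 hs) m2
    (Or.inr he)
  exact ⟨F, _, _, hF, Z.pgl_core hab C hl h1 s1 s2 α0 s3⟩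

end Z0

theorem s0728 {α : Type*} [Fintype α] [DecidableEq α] (heven : Even (Fintype.card α)) (h6 : 6 ≤ Fintype.card α) (G : Subgroup (Equiv.Perm α)) (h3 : MulAction.IsMultiplyPretransitive G α 3) (hsharp : ∀ x : Fin 3 ↪ α, MulAction.stabilizer G x = ⊥) {a b : α} (hab : a ≠ b) (A B : Subgroup G) (hA : A ≤ MulAction.stabilizer G a ⊓ MulAction.stabilizer G b) (hB : B ≤ MulAction.stabilizer G a ⊓ MulAction.stabilizer G b) (hA3 : Nat.card A = 3) (hB3 : Nat.card B = 3) : A = B := by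
  have Z := z0_of_sharp (by omega) h3 hsharp
  have T := tr3_iff.2 h3
  obtain ⟨x, hx, x3⟩ := exists_mem_orderOf_eq_prime Nat.prime_three hA3.symm.dvd
  obtain ⟨y, hy, y3⟩ := exists_mem_orderOf_eq_prime Nat.prime_three hB3.symm.dvd
  have he : Even (Nat.card (St2 G a b)) := by
    rwa [← Nat.card_eq_fintype_card, ← Z.card_zk a, ← (Z.tr3_iff_card hab).1 T, Nat.even_add_one,
      Nat.even_add_one, not_not] at heven
  rw [← eq_of_le_of_card_ge (zpowers_le.2 hx) (by rw [Nat.card_zpowers, x3, hA3]),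
    ← eq_of_le_of_card_ge (zpowers_le.2 hy) (by rw [Nat.card_zpowers, y3, hB3])]
  exact le_antisymm (zpowers_le.2 (Z.ord3_mem hab T he (hB hy) (hA hx) y3 x3))
    (zpowers_le.2 (Z.ord3_mem hab T he (hA hx) (hB hy) x3 y3))

theorem s0729 {α : Type*} [Fintype α] [DecidableEq α] (heven : Even (Fintype.card α)) (h6 : 6 ≤ Fintype.card α) (G : Subgroup (Equiv.Perm α)) (h3 : MulAction.IsMultiplyPretransitive G α 3) (hsharp : ∀ x : Fin 3 ↪ α, MulAction.stabilizer G x = ⊥) {a b c : α} (hab : a ≠ b) (hac : a ≠ c) (hbc : b ≠ c) (s : G) (hsa : s • a = b) (hsb : s • b = a) (hsc : s • c = c) : ∃ N : Subgroup G, N ≤ MulAction.stabilizer G a ⊓ MulAction.stabilizer G b ∧ (N.subgroupOf (MulAction.stabilizer G a ⊓ MulAction.stabilizer G b)).Normal ∧ N.relIndex (MulAction.stabilizer G a ⊓ MulAction.stabilizer G b) = 2 ∧ ∀ n ∈ N, s * n * s⁻¹ ∈ N := by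
  have Z := z0_of_sharp (by omega) h3 hsharp
  have T := tr3_iff.2 h3
  have he : Even (Nat.card (St2 G a b)) := by
    rwa [← Nat.card_eq_fintype_card, ← Z.card_zk a, ← (Z.tr3_iff_card hab).1 T, Nat.even_add_one,
      Nat.even_add_one, not_not] at heven
  obtain ⟨M, hM, m1, m2, -⟩ := Z.exists_M hab T he hac.symm hbc.symm hsa hsb hsc
  have hi := relIndex_eq_two_of_card hM m1.symm
  exact ⟨M, hM, normal_of_index_eq_two hi, hi, fun n hn => m2 n hn ▸ inv_mem hn⟩

theorem s0345 {G Ω : Type*} [Group G] [Finite G] [MulAction G Ω] [Finite Ω]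
    (hZ : Cfsg.IsZassenhausGroup G Ω) [IsSimpleGroup G]
    {a b : Ω} (hab : a ≠ b) :
    IsCyclic ↥(MulAction.stabilizer G a ⊓ MulAction.stabilizer G b) ∧
      ∃ v : G, orderOf v = 2 ∧ v • a = b ∧ v • b = a ∧ ∀ h ∈ MulAction.stabilizer G a ⊓ MulAction.stabilizer G b, v * h * v⁻¹ = h⁻¹ := by
  have Z := hZ.z0
  have hI := Z.invE_simple hab
  obtain ⟨s, hs, s1, s2⟩ := Z.exists_swap hab
  exact ⟨Z.isCyclic_of_comm hab le_rfl (Z.comm_of_invE hI hab), s, hs, s1, s2, hI hab s1 s2⟩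

theorem s0727 {α : Type*} [Fintype α] [DecidableEq α] {f : ℕ} (hf : 1 ≤ f) (hα : Fintype.card α = 2 ^ f + 1) (G : Subgroup (Equiv.Perm α)) (h3 : MulAction.IsMultiplyPretransitive G α 3) (hsharp : ∀ x : Fin 3 ↪ α, MulAction.stabilizer G x = ⊥) : ∃ (F : Type) (_ : Field F) (_ : Fintype F), Fintype.card F = 2 ^ f ∧ Nonempty (G ≃* Matrix.ProjGenLinGroup (Fin 2) F) := by
  have h1 : 2 ^ 1 ≤ 2 ^ f := Nat.pow_le_pow_right two_pos hf
  have Z := z0_of_sharp (by omega) h3 hsharp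
  obtain ⟨a, b, hab⟩ := Fintype.exists_pair_of_one_lt_card (α := α) (by omega)
  have h2 : Nat.card (zk G a) = 2 ^ f := by
    have := Z.card_zk a; rw [Nat.card_eq_fintype_card (α := α)] at this; omega
  rw [← h2]
  exact Z.pgl_of_invE hab (Z.invE_of_even (a := a) (h2 ▸ (Nat.even_pow' (by omega)).2 even_two))
    ((Z.tr3_iff_card hab).1 (tr3_iff.2 h3))

theorem s0730 {α : Type*} [Fintype α] [DecidableEq α] {p f : ℕ} (hp : p.Prime) (hp2 : p ≠ 2) (hfo : Odd f) (hα : Fintype.card α = p ^ f + 1) (G : Subgroup (Equiv.Perm α)) (h3 : MulAction.IsMultiplyPretransitive G α 3) (hsharp : ∀ x : Fin 3 ↪ α, MulAction.stabilizer G x = ⊥) : ∃ (F : Type) (_ : Field F) (_ : Fintype F), Fintype.card F = p ^ f ∧ Nonempty (G ≃* Matrix.ProjGenLinGroup (Fin 2) F) := by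
  have h1 : 1 < p ^ f := Nat.one_lt_pow hfo.pos.ne' hp.one_lt
  have Z := z0_of_sharp (by omega) h3 hsharp
  obtain ⟨a, b, hab⟩ := Fintype.exists_pair_of_one_lt_card (α := α) (by omega)
  have h2 : Nat.card (zk G a) = p ^ f := by
    have := Z.card_zk a; rw [Nat.card_eq_fintype_card (α := α)] at this; omega
  rw [← h2]
  exact Z.pgl_of_odd hab (tr3_iff.2 h3) hp hp2 hfo h2

theorem s0742 {G Ω : Type*} [Group G] [Finite G] [MulAction G Ω] [Fintype Ω] (hZ : Cfsg.IsZassenhausGroup G Ω) {a b : Ω} (hab : a ≠ b) (heven : Even (Nat.card ↥(MulAction.stabilizer G a ⊓ MulAction.stabilizer G b))) (hd : 2 * Nat.card ↥(MulAction.stabilizer G a ⊓ MulAction.stabilizer G b) ≤ Fintype.card Ω - 2) : ∃ (p f : ℕ) (K : Type) (_ : Field K) (_ : Fintype K), p.Prime ∧ p ≠ 2 ∧ Fintype.card K = p ^ f ∧ Fintype.card Ω = p ^ f + 1 ∧ Nonempty (G ≃* Matrix.ProjectiveSpecialLinearGroup (Fin 2) K) := by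
  have Z := hZ.z0
  rw [← Nat.card_eq_fintype_card, ← Z.card_zk a] at hd ⊢
  have h1 := Z.large_of_even hab heven
  have h2 := Z.two_le_card_zk a
  have h3 : 2 * Nat.card (St2 G a b) + 1 = Nat.card (zk G a) := by unfold St2 at *; omega
  obtain ⟨-, p, f, hp, -, h4⟩ := Z.elem_of_large hab h1
  obtain ⟨F, _, _, hF, e⟩ := Z.psl_of_half hab (Z.invE_of_swap hab fun s =>
    Z.swap_ord_of_small hab heven (by omega)) h3
  refine ⟨p, f, F, _, _, hp, ?_, hF.trans h4, by rw [h4], e⟩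
  rintro rfl
  rcases f with _ | f
  · omega
  · rw [pow_succ] at h4; omega

theorem s0344 {G Ω : Type*} [Group G] [Finite G] [MulAction G Ω] [Finite Ω]
    (hZ : Cfsg.IsZassenhausGroup G Ω) [IsSimpleGroup G]
    {a b : Ω} (hab : a ≠ b) (heven : Even (Nat.card ↥(MulAction.stabilizer G a ⊓ MulAction.stabilizer G b))) :
    ∃ (F : Type) (_ : Field F) (_ : Fintype F), 3 < Fintype.card F ∧ Nonempty (G ≃* Matrix.ProjectiveSpecialLinearGroup (Fin 2) F) := by
  have Z := hZ.z0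
  have h := Z.half_of_simple hab heven
  obtain ⟨F, _, _, hF, e⟩ := Z.psl_of_half hab (Z.invE_simple hab) h
  refine ⟨F, inferInstance, inferInstance, ?_, e⟩
  have := Nat.le_of_dvd Nat.card_pos heven.two_dvd
  unfold St2 at *; omega

end Cfsg.Agent.Inv
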