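import Cfsg.Agent.Inv.Lat2
import Cfsg.Agent.PLoc.Cores
import Cfsg.Agent.Blk.Norm
import Cfsg.Agent.Char.TI

/-! The principal block of a group with a Sylow subgroup of prime order. -/

set_option autoImplicit false
set_option linter.unusedVariables false
set_option linter.unusedSectionVars false

namespace Cfsg.Agent.Inv

open Finset Subgroup Cfsg.Agent.PLoc Cfsg.Agent.Char Cfsg.Agent.Blk
open scoped ComplexConjugate

universe u

variable {p : ℕ} [hp : Fact p.Prime] {G : Type u} [Group G] {x : G}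

/-- power of `x` with exponent in `ZMod p` -/
def pw (x : G) (i : ZMod p) : G := x ^ i.val

theorem pw_natCast (hx : orderOf x = p) (n : ℕ) : pw x (n : ZMod p) = x ^ n := by
  rw [pw, ZMod.val_natCast, ← hx, pow_mod_orderOf]

theorem pw_zero : pw x (0 : ZMod p) = 1 := by simp [pw]

theorem pw_one (hx : orderOf x = p) : pw x (1 : ZMod p) = x := by
  simpa using pw_natCast hx 1

theorem pw_add (hx : orderOf x = p) (i j : ZMod p) : pw x (i + j) = pw x i * pw x j := by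
  rw [pw, pw, pw, ← pow_add, ← pw_natCast hx, ← pw_natCast hx]; simp

theorem pw_mul (hx : orderOf x = p) (i j : ZMod p) : pw x (i * j) = pw x i ^ j.val := by
  rw [pw, pw, ← pow_mul, ← pw_natCast hx, ← pw_natCast hx]; simp

theorem pw_neg (hx : orderOf x = p) (i : ZMod p) : pw x (-i) = (pw x i)⁻¹ := by
  rw [eq_inv_iff_mul_eq_one, ← pw_add hx, neg_add_cancel, pw_zero]

theorem pw_pow (hx : orderOf x = p) (i : ZMod p) (n : ℕ) : pw x i ^ n = pw x (i * (n : ZMod p)) := by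
  rw [pw, ← pow_mul, ← pw_natCast hx]; simp

theorem pw_injective (hx : orderOf x = p) : Function.Injective (pw x : ZMod p → G) := by
  intro i j h
  exact ZMod.val_injective p (pow_injOn_Iio_orderOf (x := x) (by rw [hx]; exact ZMod.val_lt i)
    (by rw [hx]; exact ZMod.val_lt j) h)

theorem pw_eq_one (hx : orderOf x = p) {i : ZMod p} : pw x i = 1 ↔ i = 0 := by
  rw [← pw_zero (p := p) (x := x), (pw_injective hx).eq_iff]

theorem pw_mem (i : ZMod p) : pw x i ∈ zpowers x := npow_mem_zpowers _ _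

theorem exists_pw (hx : orderOf x = p) {u : G} (hu : u ∈ zpowers x) : ∃ i : ZMod p, pw x i = u := by
  have : IsOfFinOrder x := orderOf_pos_iff.1 (hx ▸ hp.out.pos)
  obtain ⟨n, rfl⟩ := this.mem_powers_iff_mem_zpowers.2 hu
  exact ⟨n, pw_natCast hx n⟩

theorem conj_pw (g : G) (i : ZMod p) : g * pw x i * g⁻¹ = pw (g * x * g⁻¹) i := by
  rw [pw, pw, conj_pow]

theorem zpowers_pw (hx : orderOf x = p) {i : ZMod p} (hi : i ≠ 0) : zpowers (pw x i) = zpowers x := by
  refine le_antisymm (zpowers_le.2 (pw_mem i)) (zpowers_le.2 ?_)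
  have := pw_mul hx i i⁻¹
  rw [mul_inv_cancel₀ hi, pw_one hx] at this
  have h2 := npow_mem_zpowers (pw x i) (i⁻¹).val
  rwa [← this] at h2

theorem orderOf_pw (hx : orderOf x = p) {i : ZMod p} (hi : i ≠ 0) : orderOf (pw x i) = p := by
  rw [← Nat.card_zpowers, zpowers_pw hx hi, Nat.card_zpowers, hx]

theorem centralizer_pw (hx : orderOf x = p) {i : ZMod p} (hi : i ≠ 0) :
    centralizer {pw x i} = centralizer {x} := by
  rw [← centralizer_zpowers, zpowers_pw hx hi, centralizer_zpowers]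

theorem sum_range_pw {A : Type*} [AddCommMonoid A] (hx : orderOf x = p) (f : G → A) :
    ∑ i ∈ range (p - 1), f (x ^ (i + 1)) = ∑ i ∈ univ.erase (0 : ZMod p), f (pw x i) := by
  refine sum_bij (fun i _ => ((i + 1 : ℕ) : ZMod p)) (fun i hi => ?_) (fun i hi j hj h => ?_)
    (fun j hj => ⟨j.val - 1, ?_, ?_⟩) (fun i _ => by rw [pw_natCast hx])
  · have := mem_range.1 hi
    rw [mem_erase, Ne, ZMod.natCast_eq_zero_iff]
    exact ⟨Nat.not_dvd_of_pos_of_lt (by omega) (by omega), mem_univ _⟩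
  · have h1 := mem_range.1 hi
    have h2 := mem_range.1 hj
    have := (ZMod.natCast_eq_natCast_iff' _ _ p).1 h
    rw [Nat.mod_eq_of_lt (by omega), Nat.mod_eq_of_lt (by omega)] at this
    omega
  · have := ZMod.val_lt j
    have h2 : j.val ≠ 0 := by simpa using hj
    exact mem_range.2 (by omega)
  · have h2 : j.val ≠ 0 := by simpa using hj
    rw [Nat.sub_add_cancel (Nat.pos_of_ne_zero h2), ZMod.natCast_zmod_val]

theorem isConj_pw_mul (hx : orderOf x = p) {a : ZMod p} (h : IsConj x (pw x a)) (i : ZMod p) :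
    IsConj (pw x i) (pw x (a * i)) := by
  rw [pw_mul hx]; exact h.pow _

/-- the automizer as a group of units -/
def autSub (hx : orderOf x = p) : Subgroup (ZMod p)ˣ where
  carrier := {a | IsConj x (pw x (a : ZMod p))}
  one_mem' := by
    change IsConj x (pw x ((1 : (ZMod p)ˣ) : ZMod p))
    rw [Units.val_one, pw_one hx]
  mul_mem' := fun {a b} ha hb => hb.trans (isConj_pw_mul hx ha b)
  inv_mem' := fun {a} ha => by
    have := isConj_pw_mul hx ha (a⁻¹ : (ZMod p)ˣ)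
    rw [Units.mul_inv, pw_one hx] at this
    exact this.symm

theorem isConj_pw_iff (hx : orderOf x = p) {i l : ZMod p} (hi : i ≠ 0) :
    IsConj (pw x i) (pw x l) ↔ ∃ a ∈ autSub hx, l = a * i := by
  constructor
  · intro h
    have hl : l ≠ 0 := by
      rintro rfl
      rw [pw_zero, isConj_one_left, pw_eq_one hx] at h
      exact hi h
    refine ⟨Units.mk0 (l * i⁻¹) (mul_ne_zero hl (inv_ne_zero hi)), ?_, by simp [hi]⟩
    have := h.pow (i⁻¹).val
    rwa [← pw_mul hx, ← pw_mul hx, mul_inv_cancel₀ hi, pw_one hx] at this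
  · rintro ⟨a, ha, rfl⟩
    exact isConj_pw_mul hx ha i

theorem exists_autHom [Finite G] (hx : orderOf x = p) :
    ∃ f : normalizer (zpowers x : Set G) →* (ZMod p)ˣ,
      (∀ n : normalizer (zpowers x : Set G), (n : G) * x * (n : G)⁻¹ = pw x (f n : ZMod p)) ∧
      f.range = autSub hx ∧ f.ker = (centralizer {x}).subgroupOf _ := by
  have h1 : ∀ n : normalizer (zpowers x : Set G), ∃ a : ZMod p, pw x a = n * x * (n : G)⁻¹ :=
    fun n => exists_pw hx (conj_mem_of_mem_normalizer n.2 (mem_zpowers x))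
  choose a ha using h1
  let g : normalizer (zpowers x : Set G) →* ZMod p :=
    { toFun := a
      map_one' := pw_injective hx (by rw [ha, pw_one hx]; simp)
      map_mul' := fun n m => pw_injective hx (by
        rw [ha, pw_mul hx, ha, conj_pow]
        have := ha m
        rw [pw] at this
        rw [this]; simp [mul_assoc]) }
  have h2 : ∀ n : normalizer (zpowers x : Set G),
      (n : G) * x * (n : G)⁻¹ = pw x (g.toHomUnits n : ZMod p) := fun n => (ha n).symm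
  refine ⟨g.toHomUnits, h2, ?_, ?_⟩
  · ext b
    constructor
    · rintro ⟨n, rfl⟩
      exact isConj_iff.2 ⟨n, h2 n⟩
    · intro hb
      obtain ⟨n, hn⟩ := isConj_iff.1 hb
      have : n ∈ normalizer (zpowers x : Set G) := mem_normalizer_of_cj_le (by
        rw [cj_zpowers, hn, zpowers_le]; exact pw_mem _)
      exact ⟨⟨n, this⟩, Units.ext (pw_injective hx ((h2 _).symm.trans hn))⟩
  · ext n
    rw [MonoidHom.mem_ker, mem_subgroupOf, mem_centralizer_singleton_iff, ← mul_inv_eq_iff_eq_mul,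
      mul_assoc, Units.ext_iff, ← (pw_injective hx).eq_iff, ← h2, Units.val_one, pw_one hx,
      mul_assoc]

theorem card_autSub [Finite G] (hx : orderOf x = p) : Nat.card (autSub hx) =
    (centralizer {x}).relIndex (normalizer (zpowers x : Set G)) := by
  obtain ⟨f, -, h1, h2⟩ := exists_autHom hx
  rw [← h1, ← index_ker, h2, relIndex]

theorem card_autSub_dvd (hx : orderOf x = p) : Nat.card (autSub hx) ∣ p - 1 := by
  have := card_subgroup_dvd_card (autSub hx)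
  rwa [Nat.card_eq_fintype_card (α := (ZMod p)ˣ), ZMod.card_units] at this

/-- `x` generates a Sylow subgroup of order `p` -/
structure Syl1 (p : ℕ) (x : G) : Prop where
  ord : orderOf x = p
  idx : ¬ p ∣ (zpowers x).index

/-- the `p'`-part of the centralizer -/
def Vc (p : ℕ) (x : G) : Subgroup G := pPrimeCoreOf p (centralizer {x})

variable [Finite G]

namespace Syl1

theorem isP (h : Syl1 p x) : IsPGroup p (zpowers x) :=
  IsPGroup.of_card (n := 1) (by rw [Nat.card_zpowers, h.ord, pow_one])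

theorem sylow (h : Syl1 p x) : IsSylowOf p (zpowers x) ⊤ := by
  have := isSylowOf_top (h.isP.toSylow h.idx)
  exact this

theorem ne_one (h : Syl1 p x) : x ≠ 1 := by
  rintro rfl
  exact hp.out.one_lt.ne (by simpa using h.ord)

theorem le_cent (h : Syl1 p x) : zpowers x ≤ centralizer {x} := by
  rw [zpowers_le, mem_centralizer_singleton_iff]

theorem cent_le (h : Syl1 p x) : centralizer {x} ≤ normalizer (zpowers x : Set G) := by
  rw [← centralizer_zpowers]; exact centralizer_le_normalizer _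

theorem Vc_eq (h : Syl1 p x) : Vc p x = pResOf p (centralizer {x}) :=
  (((h.sylow.of_le h.le_cent le_top).npc_of_burnside (by
    rw [centralizer_zpowers]; exact inf_le_left)).pResOf_eq_pPrimeCoreOf).symm

theorem mem_Vc (h : Syl1 p x) {v : G} : v ∈ Vc p x ↔ v ∈ centralizer {x} ∧ ¬ p ∣ orderOf v := by
  refine ⟨fun hv => ⟨pPrimeCoreOf_le _ hv, fun hd => ?_⟩, fun hv => ?_⟩
  · exact (hp.out.coprime_iff_not_dvd.1 (pPrimeCoreOf_coprime _).symm)
      (hd.trans (orderOf_dvd_card_of_mem hv))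
  · rw [h.Vc_eq]; exact mem_pResOf hv.1 (hp.out.coprime_iff_not_dvd.2 hv.2).symm

theorem not_dvd_Vc (h : Syl1 p x) : ¬ p ∣ Nat.card (Vc p x) :=
  hp.out.coprime_iff_not_dvd.1 (pPrimeCoreOf_coprime _).symm

theorem exists_mul (h : Syl1 p x) {c : G} (hc : c ∈ centralizer {x}) :
    ∃ u ∈ zpowers x, ∃ v ∈ Vc p x, c = u * v := by
  have h1 := (h.sylow.of_le h.le_cent le_top).sup_pResOf
  rw [← h.Vc_eq] at h1
  rw [← h1] at hc
  obtain ⟨u, hu, v, hv, e⟩ := (mem_sup_of_le_normalizer_right (h.le_cent.trans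
    (le_normalizer_pPrimeCoreOf _))).1 hc
  exact ⟨u, hu, v, hv, e.symm⟩

theorem norm_le (h : Syl1 p x) : normalizer (zpowers x : Set G) ≤ normalizer (Vc p x : Set G) := by
  refine le_trans ?_ (normalizer_le_normalizer_pPrimeCoreOf _)
  rw [← centralizer_zpowers]
  exact normalizer_le_normalizer_centralizer _

theorem card_cent (h : Syl1 p x) : Nat.card (centralizer ({x} : Set G)) = p * Nat.card (Vc p x) := by
  have h1 := (h.sylow.of_le h.le_cent le_top).sup_pResOf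
  rw [← h.Vc_eq] at h1
  rw [← h1, card_sup_of_disjoint (N := Vc p x) (h.le_cent.trans (le_normalizer_pPrimeCoreOf _))
    (inf_eq_bot_of_isPGroup_of_coprime h.isP (pPrimeCoreOf_coprime _)), Nat.card_zpowers, h.ord]

theorem index_core (h : Syl1 p x) : (pPrimeCore p (centralizer ({x} : Set G))).index = p := by
  have h1 := card_mul_index (pPrimeCore p (centralizer ({x} : Set G)))
  rw [h.card_cent, ← pPrimeCoreOf_subgroupOf, card_subgroupOf_of_le (pPrimeCoreOf_le _),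
    mul_comm p] at h1
  rw [← pPrimeCoreOf_subgroupOf]
  exact Nat.eq_of_mul_eq_mul_left Nat.card_pos h1

theorem loc1 (h : Syl1 p x) : ∃ y, Loc1 p x (Vc p x) y := by
  obtain ⟨f, f1, f2, f3⟩ := exists_autHom h.ord
  obtain ⟨⟨_, y, rfl⟩, hy⟩ := IsCyclic.exists_monoid_generator (α := f.range)
  have key : ∀ n m : normalizer (zpowers x : Set G), f n = f m →
      ∃ u ∈ zpowers x, ∃ v ∈ Vc p x, (n : G) = m * u * v := by
    intro n m e
    have : m⁻¹ * n ∈ f.ker := by rw [MonoidHom.mem_ker, map_mul, map_inv, e, inv_mul_cancel]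
    rw [f3, mem_subgroupOf] at this
    obtain ⟨u, hu, v, hv, e⟩ := h.exists_mul this
    refine ⟨u, hu, v, hv, ?_⟩
    rw [mul_assoc, ← e]; simp
  refine ⟨y, h.ord, h.idx, pPrimeCoreOf_le _, h.norm_le, h.not_dvd_Vc, y.2, fun n hn => ?_, ?_⟩
  · obtain ⟨k, hk⟩ := hy ⟨f ⟨n, hn⟩, _, rfl⟩
    exact ⟨k, key ⟨n, hn⟩ (y ^ k) (by rw [map_pow]; exact (congrArg Subtype.val hk).symm)⟩
  · exact key (y ^ p) y (by rw [map_pow]; exact Units.ext (by simp))

theorem pw_syl (h : Syl1 p x) {i : ZMod p} (hi : i ≠ 0) : Syl1 p (pw x i) :=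
  ⟨orderOf_pw h.ord hi, by rw [zpowers_pw h.ord hi]; exact h.idx⟩

theorem Vc_pw (h : Syl1 p x) {i : ZMod p} (hi : i ≠ 0) : Vc p (pw x i) = Vc p x := by
  rw [Vc, Vc, centralizer_pw h.ord hi]

theorem factorization (h : Syl1 p x) : (Nat.card G).factorization p = 1 := by
  have := h.sylow.card_eq
  rw [Nat.card_zpowers, h.ord, card_top] at this
  exact Nat.pow_right_injective hp.out.two_le (by simpa using this.symm)

theorem exists_conj (h : Syl1 p x) {g : G} (hg : p ∣ orderOf g) :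
    ∃ i : ZMod p, i ≠ 0 ∧ ∃ v ∈ Vc p x, IsConj g (pw x i * v) := by
  obtain ⟨z, hz⟩ := exists_ppart hp.out g
  have h1 := ppart_ne_one hp.out hz hg
  obtain ⟨v, rfl, hc, ⟨k, hk⟩, hv⟩ := hz
  obtain ⟨c, -, hc'⟩ := h.sylow.exists_cj_le (Q := zpowers z)
    (isPGroup_zpowers (k := k) (by rw [← hk, pow_orderOf_eq_one])) le_top
  obtain ⟨i, hi⟩ := exists_pw h.ord (hc' (conj_mem_cj.2 (mem_zpowers z)))
  have hi0 : i ≠ 0 := by
    rintro rfl
    rw [pw_zero, eq_comm, conj_eq_one_iff] at hi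
    exact h1 hi
  refine ⟨i, hi0, c * v * c⁻¹, h.mem_Vc.2 ⟨?_, by rwa [PLoc.orderOf_conj']⟩, isConj_iff.2 ⟨c, ?_⟩⟩
  · rw [← centralizer_pw h.ord hi0, hi, mem_centralizer_singleton_iff]
    simp only [mul_assoc, inv_mul_cancel_left]
    rw [← mul_assoc v, ← hc.eq, mul_assoc]
  · rw [hi]; group

end Syl1

/-! ### Fourier coefficients -/

/-- the standard additive character -/
noncomputable def ech (i : ZMod p) : ℂ := ZMod.stdAddChar i

theorem ech_add (i j : ZMod p) : ech (i + j) = ech i * ech j := AddChar.map_add_eq_mul _ i j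

theorem ech_zero : ech (0 : ZMod p) = 1 := AddChar.map_zero_eq_one _

theorem ech_neg (i : ZMod p) : ech (-i) = conj (ech i) := AddChar.map_neg_eq_conj _ i

theorem sum_ech (b : ZMod p) : ∑ i : ZMod p, ech (i * b) = if b = 0 then (p : ℂ) else 0 := by
  have := AddChar.sum_mulShift b (ZMod.isPrimitive_stdAddChar p)
  simpa [ech] using this

theorem ech_eq_pow (i : ZMod p) : ech i = ech (1 : ZMod p) ^ i.val := by
  rw [ech, ech, ← AddChar.map_nsmul_eq_pow]; simp

theorem exists_ech {z : ℂ} (hz : z ^ p = 1) : ∃ k : ZMod p, z = ech k := by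
  have h1 : orderOf (ech (1 : ZMod p)) = p := orderOf_eq_prime
    (by rw [ech, ← AddChar.map_nsmul_eq_pow]; simp)
    (fun h => one_ne_zero (ZMod.injective_stdAddChar (h.trans ech_zero.symm)))
  have h2 : IsPrimitiveRoot (ech (1 : ZMod p)) p := by
    have := IsPrimitiveRoot.orderOf (ech (1 : ZMod p))
    rwa [h1] at this
  obtain ⟨i, hi, e⟩ := h2.eq_pow_of_pow_eq_one hz
  exact ⟨i, by rw [ech_eq_pow, ZMod.val_natCast_of_lt hi, e]⟩

theorem exists_fourier (hx : orderOf x = p) {χ : G → ℂ} (hχ : IsCharacter G χ) :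
    ∃ m : ZMod p → ℕ, ∀ i, χ (pw x i) = ∑ k, m k * ech (i * k) := by
  classical
  obtain ⟨n, ε, -, h1, h2, -⟩ := hχ.exists_eigenvalues x
  choose k hk using fun l => exists_ech (hx ▸ h1 l)
  refine ⟨fun j => (univ.filter (k · = j)).card, fun i => ?_⟩
  rw [pw, h2, ← sum_fiberwise univ k]
  refine sum_congr rfl fun j _ => ?_
  rw [sum_congr rfl (g := fun _ => ech (i * j)) fun l hl => ?_, sum_const, nsmul_eq_mul]
  rw [hk, (mem_filter.1 hl).2, ech, ech, ← AddChar.map_nsmul_eq_pow]; simp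

variable (p) in
theorem p_ne_zero_complex : (p : ℂ) ≠ 0 := by exact_mod_cast hp.out.ne_zero

/-- reduced Fourier coefficient -/
noncomputable def bc (x : G) (χ : G → ℂ) (k : ZMod p) : ℂ :=
  (p : ℂ)⁻¹ * ∑ i : ZMod p, χ (pw x i) * (ech (-(i * k)) - 1)

theorem fourier_inv {f : ZMod p → ℂ} {m : ZMod p → ℂ} (h : ∀ i, f i = ∑ k, m k * ech (i * k))
    (k : ZMod p) : ∑ i, f i * ech (-(i * k)) = p * m k := by
  simp only [h, sum_mul]
  rw [sum_comm]
  have : ∀ j, ∑ i, m j * ech (i * j) * ech (-(i * k)) = if j = k then p * m k else 0 := by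
    intro j
    simp only [mul_assoc, ← ech_add, ← mul_sum, ← sub_eq_add_neg, ← mul_sub, sum_ech, sub_eq_zero]
    split_ifs with e
    · rw [e, mul_comm]
    · rw [mul_zero]
  simp [this]

theorem bc_eq {χ : G → ℂ} {m : ZMod p → ℂ} (h : ∀ i, χ (pw x i) = ∑ k, m k * ech (i * k))
    (k : ZMod p) : bc x χ k = m k - m 0 := by
  have h1 := fourier_inv h k
  have h2 := fourier_inv h 0
  simp only [mul_zero, neg_zero, ech_zero, mul_one] at h2
  simp only [bc, mul_sub, sum_sub_distrib, mul_one, h1, h2]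
  have := p_ne_zero_complex p
  field_simp

theorem exists_bc (hx : orderOf x = p) {χ : G → ℂ} (hχ : IsCharacter G χ) :
    ∃ b : ZMod p → ℤ, b 0 = 0 ∧ (∀ k, bc x χ k = b k) ∧
      (∀ i, i ≠ 0 → χ (pw x i) = ∑ k, b k * ech (i * k)) ∧
      ∃ m : ℕ, (∀ k, 0 ≤ b k + m) ∧ χ 1 = ((∑ k, b k + p * m : ℤ) : ℂ) := by
  obtain ⟨m, hm⟩ := exists_fourier hx hχ
  refine ⟨fun k => m k - m 0, sub_self _, fun k => by rw [bc_eq hm]; simp, fun i hi => ?_,
    m 0, fun k => by simp, ?_⟩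
  · have := sum_ech i
    simp only [if_neg hi, mul_comm _ i] at this
    simp [hm, sub_mul, ← mul_sum, this]
  · have := hm 0
    rw [pw_zero] at this
    simp [this, ech_zero]

theorem bc_of_const {χ : G → ℂ} {c : ℂ} (h : ∀ i : ZMod p, i ≠ 0 → χ (pw x i) = c) {k : ZMod p}
    (hk : k ≠ 0) : bc x χ k = -c := by
  have : ∀ i : ZMod p, χ (pw x i) * (ech (-(i * k)) - 1) = c * (ech (i * -k) - 1) := by
    intro i
    by_cases hi : i = 0
    · simp [hi, ech_zero]
    · rw [h i hi, mul_neg]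
  simp only [bc, this, ← mul_sum, sum_sub_distrib, sum_ech, neg_eq_zero, if_neg hk]
  simp only [sum_const, card_univ, ZMod.card, nsmul_eq_mul]
  have := p_ne_zero_complex p
  field_simp
  ring

/-! ### the principal block -/

open Classical in
/-- the principal block as a finset -/
noncomputable def PB (M : Ideal AlgInt) (G : Type u) [Group G] [Finite G] :
    Finset (IrrCharacter G) := univ.filter (· ∈ principalBlock M G)

variable {M : Ideal AlgInt}

theorem mem_PB {χ : IrrCharacter G} : χ ∈ PB M G ↔ χ ∈ principalBlock M G := by simp [PB]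

theorem finsum_PB (f : IrrCharacter G → ℂ) : ∑ᶠ χ ∈ principalBlock M G, f χ = ∑ χ ∈ PB M G, f χ := by
  classical
  rw [finsum_mem_irr]; congr

variable [hM : PMod p M]
include hM

variable (p) in
theorem one_mem_PB : irrOne G ∈ PB M G := mem_PB.2 irrOne_mem_principal

theorem PB_gal (σ : ℂ ≃+* ℂ) {χ : IrrCharacter G} (hχ : χ ∈ PB M G) :
    (⟨_, χ.2.map_ringHom σ⟩ : IrrCharacter G) ∈ PB M G := by
  rw [mem_PB] at hχ ⊢
  obtain ⟨m, hm, h⟩ := ringHom_exists_pow_char (G := G) σ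
  intro g
  have h1 : centralizer ({g ^ m} : Set G) = centralizer {g} := by
    rw [← centralizer_zpowers, ← centralizer_zpowers]
    congr 2
    exact le_antisymm (zpowers_le.2 (npow_mem_zpowers _ _)) (zpowers_le.2
      (mem_zpowers_pow_iff.2 (hm.coprime_dvd_right (orderOf_dvd_natCard g))))
  have := hχ (g ^ m)
  simp only [centralChar, h1] at this ⊢
  rwa [h _ χ.2.isGen, h _ χ.2.isGen, one_pow]

theorem PB_reg {g h : G} (hg : ¬ p ∣ orderOf g) (hh : p ∣ orderOf h) :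
    ∑ χ ∈ PB M G, (χ : G → ℂ) g * conj ((χ : G → ℂ) h) = 0 := by
  rw [← finsum_PB]
  exact block_orth_reg (fS_mem_ZR isPBlock_principal).1 hg hh

namespace Syl1

theorem PB_const (h : Syl1 p x) {χ : IrrCharacter G} (hχ : χ ∈ PB M G) {u : G} (hu : u ∈ zpowers x)
    (hu1 : u ≠ 1) {v : G} (hv : v ∈ Vc p x) : (χ : G → ℂ) (u * v) = (χ : G → ℂ) u := by
  obtain ⟨i, rfl⟩ := exists_pw h.ord hu
  have hi : i ≠ 0 := fun e => hu1 ((pw_eq_one h.ord).2 e)
  have h2 := h.mem_Vc.1 hv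
  rw [← h.Vc_pw hi] at hv
  obtain ⟨v, hv, rfl⟩ := hv
  have h3 : ∃ k, orderOf (pw x i) = p ^ k := ⟨1, by rw [orderOf_pw h.ord hi, pow_one]⟩
  exact principal_apply_mul h3 hv (c := ⟨_, mem_centralizer_singleton_iff.mpr rfl⟩)
    (ppart_self hp.out h3) (ppart_mk (mem_centralizer_singleton_iff.mp v.2).symm h3 h2.2)
    (mem_PB.1 hχ)

theorem PB_self (h : Syl1 p x) :
    ∑ χ ∈ PB M G, (χ : G → ℂ) x * conj ((χ : G → ℂ) x) = p := by
  classical
  have := Fintype.ofFinite (centralizer ({x} : Set G))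
  have h3 : ∃ k, orderOf x = p ^ k := ⟨1, by rw [h.ord, pow_one]⟩
  have h1 := principal_sum_section (M := M) h3 (c := ⟨_, mem_centralizer_singleton_iff.mpr rfl⟩)
    (d := ⟨_, mem_centralizer_singleton_iff.mpr rfl⟩) (ppart_self hp.out h3) (ppart_self hp.out h3)
  rw [finsum_PB, finsum_mem_irr] at h1
  rw [h1, ← h.index_core, ← sum_sq_of_ker]
  refine sum_congr (filter_congr fun ξ _ => mem_principal_iff ⟨1, by rw [h.index_core, pow_one]⟩)
    fun ξ _ => ?_
  rw [Complex.mul_conj', ξ.2.norm_eq_of_comm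
    (fun g => (mem_center_iff.mp (mem_center_cent x) g).symm), irr_one_eq, Complex.norm_natCast]
  rfl

open Classical in
theorem PB_pw (h : Syl1 p x) {i l : ZMod p} (hi : i ≠ 0) (hl : l ≠ 0) :
    ∑ χ ∈ PB M G, (χ : G → ℂ) (pw x i) * conj ((χ : G → ℂ) (pw x l)) =
      if IsConj (pw x i) (pw x l) then (p : ℂ) else 0 := by
  split_ifs with e
  · rw [← (h.pw_syl hi).PB_self (M := M)]
    exact sum_congr rfl fun χ _ => by rw [χ.2.isClassFunction.of_isConj e]
  · rw [← finsum_PB]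
    exact block_orth isPBlock_principal (ppart_self hp.out ⟨1, by rw [orderOf_pw h.ord hi, pow_one]⟩)
      (ppart_self hp.out ⟨1, by rw [orderOf_pw h.ord hl, pow_one]⟩) e

theorem PB_not_dvd (h : Syl1 p x) {χ : IrrCharacter G} (hχ : χ ∈ PB M G) :
    ¬ p ∣ charDegree (χ : G → ℂ) := by
  intro hd
  have h0 : charDegree (χ : G → ℂ) ≠ 0 := fun e => χ.2.one_ne_zero (by rw [irr_one_eq, e]; simp)
  have h1 : nu p χ = (Nat.card G).factorization p := le_antisymm (nu_le_card χ) (by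
    rw [h.factorization]
    exact (hp.out.dvd_iff_one_le_factorization h0).1 hd)
  have h2 : irrOne G ∈ blockOf M (χ : G → ℂ) := sameBlock_symm (mem_PB.1 hχ)
  rw [blockOf_eq_singleton h1, Set.mem_singleton_iff] at h2
  rw [← h2] at hd
  simp only [charDegree, irrOne_coe, Complex.one_re, Nat.floor_one, Nat.dvd_one] at hd
  exact hp.out.one_lt.ne' hd

theorem bc_reg (h : Syl1 p x) {g : G} (hg : ¬ p ∣ orderOf g) (k : ZMod p) :
    ∑ χ ∈ PB M G, (χ : G → ℂ) g * conj (bc x χ k) = 0 := by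
  simp only [bc, map_mul, map_sum, mul_sum]
  rw [sum_comm]
  refine sum_eq_zero fun i _ => ?_
  by_cases hi : i = 0
  · simp [hi, ech_zero]
  · have := PB_reg (M := M) hg (orderOf_pw h.ord hi).symm.dvd
    calc _ = conj (p : ℂ)⁻¹ * (∑ χ ∈ PB M G, (χ : G → ℂ) g * conj ((χ : G → ℂ) (pw x i))) *
          conj (ech (-(i * k)) - 1) := by
          rw [mul_sum, sum_mul]; exact sum_congr rfl fun _ _ => by ring
      _ = 0 := by rw [this]; simp

open Classical in
theorem bc_gram (h : Syl1 p x) (j k : (ZMod p)ˣ) :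
    ∑ χ ∈ PB M G, bc x χ (j : ZMod p) * conj (bc x χ (k : ZMod p)) =
      Nat.card (autSub h.ord) + if j * k⁻¹ ∈ autSub h.ord then 1 else 0 := by
  have e1 : ∀ i l : ZMod p, ∑ χ ∈ PB M G, (χ : G → ℂ) (pw x i) * (ech (-(i * (j : ZMod p))) - 1) *
      (conj ((χ : G → ℂ) (pw x l)) * (ech (l * (k : ZMod p)) - 1)) =
      ∑ a : autSub h.ord, if l = ((a : (ZMod p)ˣ) : ZMod p) * i then
        p * ((ech (-(i * (j : ZMod p))) - 1) * (ech (l * (k : ZMod p)) - 1)) else 0 := by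
    intro i l
    by_cases hi : i = 0
    · simp [hi, ech_zero]
    by_cases hl : l = 0
    · simp [hl, ech_zero]
    have := h.PB_pw (M := M) hi hl
    calc _ = (∑ χ ∈ PB M G, (χ : G → ℂ) (pw x i) * conj ((χ : G → ℂ) (pw x l))) *
          ((ech (-(i * (j : ZMod p))) - 1) * (ech (l * (k : ZMod p)) - 1)) := by
          rw [sum_mul]; exact sum_congr rfl fun _ _ => by ring
      _ = _ := by
        rw [this, isConj_pw_iff h.ord hi]
        split_ifs with e
        · obtain ⟨a, ha, rfl⟩ := e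
          rw [sum_eq_single ⟨a, ha⟩, if_pos rfl]
          · intro b _ hb
            rw [if_neg fun e => hb (Subtype.ext (Units.ext (mul_right_cancel₀ hi e).symm))]
          · simp
        · rw [zero_mul, sum_eq_zero fun a _ => if_neg fun e' => e ⟨a.1, a.2, e'⟩]
  have e2 : ∀ a : (ZMod p)ˣ, ∑ i : ZMod p, (ech (-(i * (j : ZMod p))) - 1) * (ech ((a : ZMod p) * i * (k : ZMod p)) - 1) =
      p * (1 + if a = j * k⁻¹ then 1 else 0) := by
    intro a
    have : ∀ i : ZMod p, (ech (-(i * (j : ZMod p))) - 1) * (ech ((a : ZMod p) * i * (k : ZMod p)) - 1) =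
        ech (i * ((a : ZMod p) * (k : ZMod p) - (j : ZMod p))) - ech (i * -(j : ZMod p)) -
          ech (i * ((a : ZMod p) * (k : ZMod p))) + 1 := by
      intro i
      rw [show i * ((a : ZMod p) * (k : ZMod p) - (j : ZMod p)) =
        -(i * (j : ZMod p)) + (a : ZMod p) * i * (k : ZMod p) by ring, ech_add, mul_neg,
        show i * ((a : ZMod p) * (k : ZMod p)) = (a : ZMod p) * i * (k : ZMod p) by ring]
      ring
    simp only [this, sum_add_distrib, sum_sub_distrib, sum_ech, neg_eq_zero, Units.ne_zero,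
      mul_eq_zero, or_self, if_false, sub_zero, sum_const, card_univ, ZMod.card, nsmul_eq_mul,
      mul_one, sub_eq_zero, ← Units.val_mul, Units.val_inj, eq_mul_inv_iff_mul_eq]
    split_ifs <;> ring
  have e3 : ∀ χ : IrrCharacter G, bc x χ (j : ZMod p) * conj (bc x χ (k : ZMod p)) =
      (p : ℂ)⁻¹ * (p : ℂ)⁻¹ * ∑ i : ZMod p, ∑ l : ZMod p, (χ : G → ℂ) (pw x i) *
        (ech (-(i * (j : ZMod p))) - 1) * (conj ((χ : G → ℂ) (pw x l)) * (ech (l * (k : ZMod p)) - 1)) := by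
    intro χ
    rw [← sum_mul_sum]
    simp only [bc, map_mul, map_sum, map_inv₀, map_natCast, map_sub, map_one, ech_neg,
      Complex.conj_conj]
    ring
  simp only [e3]
  rw [← mul_sum, sum_comm, sum_congr rfl fun i _ => (sum_comm.trans (sum_congr rfl fun l _ => e1 i l))]
  rw [sum_congr rfl fun i _ => sum_comm, sum_comm]
  simp only [sum_ite_eq', mem_univ, if_true,
    ← mul_sum, e2, sum_add_distrib, sum_const, card_univ, nsmul_eq_mul, mul_one,
    Nat.card_eq_fintype_card]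
  have e4 : ∑ a : autSub h.ord, (if (a : (ZMod p)ˣ) = j * k⁻¹ then (1 : ℂ) else 0) =
      if j * k⁻¹ ∈ autSub h.ord then 1 else 0 := by
    split_ifs with e
    · rw [sum_eq_single ⟨_, e⟩, if_pos rfl]
      · intro b _ hb
        rw [if_neg fun e => hb (Subtype.ext e)]
      · simp
    · exact sum_eq_zero fun a _ => if_neg fun (e' : (a : (ZMod p)ˣ) = j * k⁻¹) => e (e' ▸ a.2)
  rw [e4]
  have := p_ne_zero_complex p
  field_simp

theorem gram_int (h : Syl1 p x) {b : IrrCharacter G → ZMod p → ℤ}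
    (hb : ∀ (χ : IrrCharacter G) k, bc x χ k = b χ k) (j k : (ZMod p)ˣ)
    [Decidable (j * k⁻¹ ∈ autSub h.ord)] :
    ∑ χ ∈ PB M G, b χ j * b χ k =
      Nat.card (autSub h.ord) + if j * k⁻¹ ∈ autSub h.ord then 1 else 0 := by
  have := h.bc_gram (M := M) j k
  simp only [hb, map_intCast] at this
  apply Int.cast_injective (α := ℂ)
  push_cast
  convert this

theorem b_eq (h : Syl1 p x) {b : IrrCharacter G → ZMod p → ℤ}
    (hb : ∀ (χ : IrrCharacter G) k, bc x χ k = b χ k) {j k : (ZMod p)ˣ}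
    (hjk : j * k⁻¹ ∈ autSub h.ord) {χ : IrrCharacter G} (hχ : χ ∈ PB M G) : b χ j = b χ k := by
  classical
  have h1 := h.gram_int (M := M) hb j j
  have h2 := h.gram_int (M := M) hb k k
  have h3 := h.gram_int (M := M) hb j k
  rw [mul_inv_cancel, if_pos (one_mem _)] at h1 h2
  rw [if_pos hjk] at h3
  have h4 : ∑ χ ∈ PB M G, (b χ j - b χ k) ^ 2 = 0 := by
    have : ∀ χ, (b χ j - b χ k) ^ 2 = b χ j * b χ j + b χ k * b χ k - 2 * (b χ j * b χ k) :=
      fun χ => by ring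
    simp only [this, sum_sub_distrib, sum_add_distrib, ← mul_sum, h1, h2, h3]; ring
  have := (sum_eq_zero_iff_of_nonneg fun _ _ => sq_nonneg _).1 h4 χ hχ
  exact sub_eq_zero.1 (pow_eq_zero_iff two_ne_zero |>.1 this)

theorem const_val (h : Syl1 p x) {χ : IrrCharacter G} (hχ : χ ∈ PB M G) {c : ℤ}
    (hc : ∀ i : ZMod p, i ≠ 0 → (χ : G → ℂ) (pw x i) = c) : c = 1 ∨ c = -1 := by
  classical
  obtain ⟨y, hy⟩ := h.loc1
  obtain ⟨m, ⟨ψ, hψ, hm⟩, ε, hε, e⟩ := exists_char_comb hy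
    ((PB M G).filter fun ψ => ∀ i : ZMod p, i ≠ 0 → (ψ : G → ℂ) (pw x i) = c)
    ⟨χ, mem_filter.2 ⟨hχ, hc⟩⟩
    (fun σ ψ hψ => ⟨_, mem_filter.2 ⟨PB_gal σ (mem_filter.1 hψ).1, fun i hi => by
      simp [(mem_filter.1 hψ).2 i hi]⟩, fun g => rfl⟩)
    (fun ψ hψ u hu hu1 v hv => h.PB_const (mem_filter.1 hψ).1 hu hu1 hv)
  rw [sum_congr rfl (g := fun ψ : IrrCharacter G => (m ψ : ℂ) * (c * (p - 1))) fun ψ hψ => by
    rw [sum_range_pw h.ord, sum_congr rfl fun i hi => (mem_filter.1 hψ).2 i (mem_erase.1 hi).1,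
      sum_const, card_erase_of_mem (mem_univ _), card_univ, ZMod.card, nsmul_eq_mul,
      Nat.cast_sub hp.out.pos, mul_comm (c : ℂ), Nat.cast_one], ← sum_mul, ← mul_assoc] at e
  have hp1 : (p : ℂ) - 1 ≠ 0 := sub_ne_zero.2 (by exact_mod_cast hp.out.one_lt.ne')
  have e1 := mul_right_cancel₀ hp1 e
  rw [← Nat.cast_sum] at e1
  have e2 : ((∑ ψ ∈ (PB M G).filter fun ψ : IrrCharacter G =>
    ∀ i : ZMod p, i ≠ 0 → (ψ : G → ℂ) (pw x i) = c, m ψ : ℕ) : ℤ) * c = ε := by exact_mod_cast e1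
  have hc0 : c ≠ 0 := by
    rintro rfl
    obtain ⟨b, b0, b1, -, n, -, b2⟩ := exists_bc h.ord χ.2.isCharacter
    have : ∀ k, b k = 0 := fun k => by
      by_cases hk : k = 0
      · rw [hk, b0]
      · have := bc_of_const hc hk
        rw [b1] at this
        simpa using this
    apply h.PB_not_dvd hχ
    rw [irr_one_eq] at b2
    simp only [this, sum_const_zero, zero_add] at b2
    exact ⟨n, by exact_mod_cast b2⟩
  rcases hε with rfl | rfl | rfl
  · exact Int.isUnit_iff.1 (IsUnit.of_mul_eq_one_right _ e2)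
  · exact Int.isUnit_iff.1 (isUnit_of_mul_isUnit_right (e2 ▸ isUnit_one.neg))
  · rcases mul_eq_zero.1 e2 with e3 | e3
    · exact absurd (sum_eq_zero_iff.1 (Nat.cast_eq_zero.1 e3) ψ hψ) hm
    · exact absurd e3 hc0

omit hM in
theorem sum_units {A : Type*} [AddCommMonoid A] (f : ZMod p → A) :
    ∑ k, f k = f 0 + ∑ k : (ZMod p)ˣ, f k := by
  rw [← add_sum_erase _ _ (mem_univ 0)]
  congr 1
  symm
  exact sum_bij (fun k _ => (k : ZMod p)) (fun k _ => by simp) (fun _ _ _ _ h => Units.ext h)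
    (fun k hk => ⟨Units.mk0 k (by simpa using hk), mem_univ _, rfl⟩) (fun _ _ => rfl)

omit hM in
theorem sum_coset {A : Type*} [AddCommMonoid A] (H : Subgroup (ZMod p)ˣ) [DecidablePred (· ∈ H)]
    (j : (ZMod p)ˣ) (f : (ZMod p)ˣ → A) :
    ∑ k : (ZMod p)ˣ, (if j * k⁻¹ ∈ H then f k else 0) = ∑ a : H, f (j * a) := by
  rw [← sum_filter]
  symm
  exact sum_bij (fun a _ => j * a) (fun a _ => by simp) (fun _ _ _ _ h => by simpa using h)
    (fun k hk => ⟨⟨(j * k⁻¹)⁻¹, inv_mem (mem_filter.1 hk).2⟩, mem_univ _, by simp [mul_comm]⟩)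
    (fun _ _ => rfl)

omit hM in
theorem const_of_b {χ : G → ℂ} {b : ZMod p → ℤ} (b0 : b 0 = 0)
    (b1 : ∀ i, i ≠ 0 → χ (pw x i) = ∑ k, b k * ech (i * k)) {c : ℤ}
    (hc : ∀ k : (ZMod p)ˣ, b k = -c) {i : ZMod p} (hi : i ≠ 0) : χ (pw x i) = c := by
  have := sum_ech i
  rw [if_neg hi, sum_units, zero_mul, ech_zero] at this
  rw [b1 i hi, sum_units, b0]
  simp only [hc, mul_comm i, ← mul_sum, eq_neg_of_add_eq_zero_right this]
  simp

omit hM in
theorem sum_erase_of_b {χ : G → ℂ} {b : ZMod p → ℤ} (b0 : b 0 = 0)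
    (b1 : ∀ i, i ≠ 0 → χ (pw x i) = ∑ k, b k * ech (i * k)) :
    ∑ i ∈ univ.erase (0 : ZMod p), χ (pw x i) = -((∑ k : (ZMod p)ˣ, b k : ℤ) : ℂ) := by
  rw [sum_congr rfl fun i hi => b1 i (mem_erase.1 hi).1, sum_comm, sum_units, b0]
  have : ∀ k : (ZMod p)ˣ, ∑ i ∈ univ.erase (0 : ZMod p), ech (i * (k : ZMod p)) = -1 := by
    intro k
    have := sum_ech (k : ZMod p)
    rw [if_neg k.ne_zero, ← add_sum_erase _ _ (mem_univ 0), zero_mul, ech_zero] at this
    exact eq_neg_of_add_eq_zero_right this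
  simp [← mul_sum, this]

open Classical in
theorem exists_exc_aux (h : Syl1 p x) {b : IrrCharacter G → ZMod p → ℤ}
    (hb : ∀ (χ : IrrCharacter G) k, bc x χ k = b χ k) (hA : autSub h.ord ≠ ⊤) :
    ∃ (ε c : ℤ) (μ : (ZMod p)ˣ → IrrCharacter G), (ε = 1 ∨ ε = -1) ∧ (∀ j, μ j ∈ PB M G) ∧
      (∀ j k, μ j = μ k ↔ j * k⁻¹ ∈ autSub h.ord) ∧
      (∀ j k : (ZMod p)ˣ, b (μ j) k = c + if j * k⁻¹ ∈ autSub h.ord then ε else 0) ∧
      ∀ χ ∈ PB M G, (∀ j, χ ≠ μ j) → ∀ k : (ZMod p)ˣ, b χ k = b χ (1 : (ZMod p)ˣ) := by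
  have := Fintype.ofFinite G
  set A := autSub h.ord
  have hq : ∀ j k : (ZMod p)ˣ, (j : (ZMod p)ˣ ⧸ A) = k ↔ j * k⁻¹ ∈ A := fun j k => by
    rw [eq_comm, QuotientGroup.eq, mul_comm]
  have hout : ∀ χ ∈ PB M G, ∀ j : (ZMod p)ˣ, b χ ((j : (ZMod p)ˣ ⧸ A).out : (ZMod p)ˣ) = b χ j :=
    fun χ hχ j => h.b_eq hb ((hq _ _).1 (QuotientGroup.out_eq' _)) hχ
  let d : (ZMod p)ˣ ⧸ A → IrrCharacter G → ℤ := fun q χ =>
    if χ ∈ PB M G then b χ (q.out : (ZMod p)ˣ) - b χ (1 : (ZMod p)ˣ) else 0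
  let τ : (ZMod p)ˣ ⧸ A → G → ℂ := fun q => ∑ χ, (d q χ : ℂ) • (χ : G → ℂ)
  have hin : ∀ j k : (ZMod p)ˣ, classInner (τ j) (τ k) =
      (((if j * k⁻¹ ∈ A then 1 else 0) - (if j ∈ A then 1 else 0) - (if k ∈ A then 1 else 0) + 1 :
        ℤ) : ℂ) := by
    intro j k
    rw [classInner_sum_irr_sum_irr]
    simp only [map_intCast, ← Int.cast_mul, ← Int.cast_sum]
    congr 1
    have h1 := h.gram_int (M := M) hb j k
    have h2 := h.gram_int (M := M) hb j 1
    have h3 := h.gram_int (M := M) hb 1 k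
    have h4 := h.gram_int (M := M) hb 1 1
    simp only [inv_one, mul_one, one_mul, inv_mem_iff, one_mem, if_true] at h2 h3 h4
    simp only [d, ite_mul, zero_mul, ← sum_filter, filter_mem_eq_inter, univ_inter]
    rw [sum_congr rfl (g := fun χ => b χ j * b χ k - b χ j * b χ (1 : (ZMod p)ˣ) -
      b χ (1 : (ZMod p)ˣ) * b χ k + b χ (1 : (ZMod p)ˣ) * b χ (1 : (ZMod p)ˣ)) fun χ hχ => by
        rw [if_pos hχ, hout χ hχ, hout χ hχ]; ring]
    simp only [sum_add_distrib, sum_sub_distrib, h1, h2, h3, h4]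
    ring
  have hq1 : ∀ j : (ZMod p)ˣ, (j : (ZMod p)ˣ ⧸ A) = ((1 : (ZMod p)ˣ) : (ZMod p)ˣ ⧸ A) ↔ j ∈ A :=
    fun j => by rw [hq, inv_one, mul_one]
  obtain ⟨ε, hε, μ, hμ, hinj, e⟩ := exists_exceptional (((1 : (ZMod p)ˣ) : (ZMod p)ˣ ⧸ A)) τ
    (sum_eq_zero fun χ _ => by
      simp only [d]
      split_ifs with hχ
      · rw [hout χ hχ, sub_self]; simp
      · simp)
    (fun q => isGen_sum_irr _)
    (fun q => by
      have h1 := h.bc_reg (M := M) (g := 1) (not_dvd_orderOf_one hp.out) (q.out : (ZMod p)ˣ)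
      have h2 := h.bc_reg (M := M) (g := 1) (not_dvd_orderOf_one hp.out) (1 : (ZMod p)ˣ)
      simp only [hb, map_intCast] at h1 h2
      simp only [τ, d, Finset.sum_apply, Pi.smul_apply, smul_eq_mul, Int.cast_ite, ite_mul,
        Int.cast_zero, zero_mul, ← sum_filter, filter_mem_eq_inter, univ_inter, Int.cast_sub,
        sub_mul, sum_sub_distrib, mul_comm (b _ _ : ℂ), h1, h2, sub_self])
    (fun q hq' => by
      obtain ⟨j, rfl⟩ := QuotientGroup.mk_surjective q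
      rw [hin, mul_inv_cancel, if_pos (one_mem _), if_neg (mt (hq1 j).2 hq')]; norm_num)
    (fun q r h1 h2 h3 => by
      obtain ⟨j, rfl⟩ := QuotientGroup.mk_surjective q
      obtain ⟨k, rfl⟩ := QuotientGroup.mk_surjective r
      rw [hin, if_neg (mt (hq j k).2 h3), if_neg (mt (hq1 j).2 h1), if_neg (mt (hq1 k).2 h2)]
      norm_num)
  let ν : (ZMod p)ˣ → IrrCharacter G := fun j => ⟨μ j, hμ _⟩
  have hν : ∀ j k, ν j = ν k ↔ j * k⁻¹ ∈ A := fun j k => by
    rw [← hq, Subtype.ext_iff, hinj.eq_iff]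
  obtain ⟨ε, hε', rfl⟩ : ∃ η : ℤ, (η = 1 ∨ η = -1) ∧ ε = η := by
    rcases hε with rfl | rfl
    exacts [⟨1, Or.inl rfl, by simp⟩, ⟨-1, Or.inr rfl, by simp⟩]
  have hd : ∀ (j : (ZMod p)ˣ) (χ : IrrCharacter G), d j χ =
      ε * ((if ν j = χ then 1 else 0) - if ν 1 = χ then 1 else 0) := by
    intro j χ
    apply Int.cast_injective (α := ℂ)
    have h1 := classInner_sum_irr (fun ψ => (d j ψ : ℂ)) χ
    have h2 : classInner (τ j) χ = _ := h1
    rw [← h2, e, classInner_smul_left, classInner_sub_left]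
    have h3 := irr_classInner (ν j) χ
    have h4 := irr_classInner (ν 1) χ
    simp only [ν] at h3 h4
    rw [h3, h4]
    push_cast
    congr
  have hε0 : ε ≠ 0 := by rcases hε' with rfl | rfl <;> norm_num
  obtain ⟨s, hs⟩ : ∃ s, s ∉ A := by
    by_contra hc
    push Not at hc
    exact hA (eq_top_iff.2 fun s _ => hc s)
  have hmem : ∀ j, ν j ∈ PB M G := by
    intro j
    by_contra hc
    by_cases hj : j ∈ A
    · have h1 : ν j = ν 1 := (hν _ _).2 (by simpa using hj)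
      have h2 := hd s (ν j)
      rw [if_neg (fun e => hs (by simpa using (hν s 1).1 (e.trans h1))), if_pos h1.symm] at h2
      simp [d, hc, hε0] at h2
    · have h2 := hd j (ν j)
      rw [if_pos rfl, if_neg (fun e => hj (by simpa using (hν j 1).1 e.symm))] at h2
      simp [d, hc, hε0.symm] at h2
  obtain ⟨c, hb'⟩ : ∃ c : IrrCharacter G → ℤ, ∀ χ ∈ PB M G, ∀ k : (ZMod p)ˣ,
      b χ k = c χ + if ν k = χ then ε else 0 := by
    refine ⟨fun χ => b χ (1 : (ZMod p)ˣ) - if ν 1 = χ then ε else 0, fun χ hχ k => ?_⟩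
    have := hd k χ
    simp only [d, if_pos hχ, hout χ hχ] at this
    dsimp only
    split_ifs at this ⊢ <;> linarith
  have hc : ∀ j, 2 * ε * c (ν j) = Nat.card A - ∑ χ ∈ PB M G, c χ ^ 2 := by
    intro j
    have h1 := h.gram_int (M := M) hb j j
    rw [mul_inv_cancel, if_pos (one_mem _), sum_congr rfl (g := fun χ => c χ ^ 2 +
      if ν j = χ then 2 * ε * c χ + 1 else 0) fun χ hχ => by
        rw [hb' χ hχ j]
        split_ifs
        · rcases hε' with rfl | rfl <;> ring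
        · ring, sum_add_distrib, sum_ite_eq, if_pos (hmem j)] at h1
    linarith
  refine ⟨ε, c (ν 1), ν, hε', hmem, hν, fun j k => ?_, fun χ hχ h1 k => ?_⟩
  · rw [hb' _ (hmem j) k, mul_left_cancel₀ (mul_ne_zero two_ne_zero hε0)
      ((hc 1).trans (hc j).symm)]
    simp only [eq_comm (a := ν k), hν]
  · rw [hb' χ hχ k, hb' χ hχ 1, if_neg (h1 1).symm, if_neg (h1 k).symm]

omit hM in
theorem int_aux {n c t ε η : ℤ} (hn : n ≠ 0) (ht : 2 ≤ t) (hε : ε = 1 ∨ ε = -1)
    (hη : η = 1 ∨ η = -1 ∨ η = 0) (h : n * (c * t + ε) = η * t) : c = 0 ∨ (t = 2 ∧ c = -ε) := by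
  have h1 : t ∣ n := by
    have : t ∣ n * ε := ⟨η - n * c, by linarith⟩
    rcases hε with rfl | rfl <;> simpa using this
  obtain ⟨m, rfl⟩ := h1
  have h2 : m * (c * t + ε) = η := mul_left_cancel₀ (show t ≠ 0 by omega) (by linarith)
  have h3 : c * t + ε = 1 ∨ c * t + ε = -1 := by
    rcases hη with rfl | rfl | rfl
    · exact Int.isUnit_iff.1 (IsUnit.of_mul_eq_one_right _ h2)
    · exact Int.isUnit_iff.1 (isUnit_of_mul_isUnit_right (h2 ▸ isUnit_one.neg))
    · rcases mul_eq_zero.1 h2 with e | e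
      · simp [e] at hn
      · have : t ∣ ε := ⟨-c, by linarith⟩
        rcases hε with rfl | rfl
        · have := Int.le_of_dvd one_pos this; omega
        · have := Int.le_of_dvd one_pos (dvd_neg.1 this); omega
  by_cases hc : c = 0
  · exact Or.inl hc
  right
  have h4 : c * t = 2 * -ε := by
    have : c * t ≠ 0 := mul_ne_zero hc (by omega)
    rcases hε with rfl | rfl <;> omega
  have h5 : t = 2 := by
    have : t ∣ 2 := by
      have : t ∣ 2 * -ε := ⟨c, by linarith⟩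
      rcases hε with rfl | rfl <;> simpa using this
    have := Int.le_of_dvd two_pos this
    omega
  subst h5
  exact ⟨rfl, by omega⟩

open Classical in
theorem exists_exc (h : Syl1 p x) {b : IrrCharacter G → ZMod p → ℤ} (b0 : ∀ χ, b χ 0 = 0)
    (hb : ∀ (χ : IrrCharacter G) k, bc x χ k = b χ k)
    (b1 : ∀ (χ : IrrCharacter G) i, i ≠ 0 → (χ : G → ℂ) (pw x i) = ∑ k, b χ k * ech (i * k)) :
    ∃ (ε : ℤ) (μ : (ZMod p)ˣ → IrrCharacter G), (ε = 1 ∨ ε = -1) ∧ (∀ j, μ j ∈ PB M G) ∧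
      (∀ j k, μ j = μ k ↔ j * k⁻¹ ∈ autSub h.ord) ∧ (∀ j, μ j ≠ irrOne G) ∧
      (∀ j k : (ZMod p)ˣ, b (μ j) k = if j * k⁻¹ ∈ autSub h.ord then ε else 0) ∧
      ∀ χ ∈ PB M G, (∀ j, χ ≠ μ j) → ∀ k : (ZMod p)ˣ, b χ k = b χ (1 : (ZMod p)ˣ) := by
  have hone : ∀ k : (ZMod p)ˣ, b (irrOne G) k = -1 := fun k => by
    have := bc_of_const (x := x) (χ := irrOne G) (c := 1) (fun _ _ => rfl) k.ne_zero
    rw [hb] at this
    exact_mod_cast this
  by_cases hA : autSub h.ord = ⊤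
  · have h1 : ∀ χ ∈ PB M G, ∀ k : (ZMod p)ˣ, b χ k = b χ (1 : (ZMod p)ˣ) :=
      fun χ hχ k => h.b_eq hb (hA ▸ mem_top _) hχ
    obtain ⟨χ, hχ, hχ1⟩ : ∃ χ ∈ PB M G, χ ≠ irrOne G := by
      by_contra hc
      push Not at hc
      have h2 := h.gram_int (M := M) hb 1 1
      rw [show PB M G = {irrOne G} from eq_singleton_iff_unique_mem.2 ⟨one_mem_PB p, hc⟩,
        sum_singleton, hone, mul_inv_cancel, if_pos (one_mem _)] at h2
      have := Nat.card_pos (α := autSub h.ord)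
      omega
    refine ⟨b χ (1 : (ZMod p)ˣ), fun _ => χ, ?_, fun _ => hχ, by simp [hA], fun _ => hχ1,
      fun j k => by rw [if_pos (hA ▸ mem_top _), h1 χ hχ], fun ψ hψ _ => h1 ψ hψ⟩
    have := h.const_val hχ (c := -b χ (1 : (ZMod p)ˣ)) fun i hi =>
      const_of_b (b0 χ) (b1 χ) (fun k => by rw [h1 χ hχ, neg_neg]) hi
    omega
  obtain ⟨ε, c, μ, hε, h1, h2, h3, h4⟩ := h.exists_exc_aux (M := M) hb hA
  have hε0 : ε ≠ 0 := by rcases hε with rfl | rfl <;> norm_num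
  obtain ⟨s, hs⟩ : ∃ s, s ∉ autSub h.ord := by
    by_contra hc
    push Not at hc
    exact hA (eq_top_iff.2 fun s _ => hc s)
  have hnc : ∀ j, ¬ ∀ k : (ZMod p)ˣ, b (μ j) k = b (μ j) (1 : (ZMod p)ˣ) := by
    intro j hj
    have e1 := (hj j).trans (hj (s⁻¹ * j)).symm
    rw [h3, h3, mul_inv_cancel, if_pos (one_mem _), if_neg (by simpa using hs)] at e1
    exact hε0 (by linarith)
  have hne : ∀ j, μ j ≠ irrOne G := fun j e => hnc j fun k => by rw [e, hone, hone]
  have hiff : ∀ χ : IrrCharacter G, (∀ k : (ZMod p)ˣ, b χ k = b χ (1 : (ZMod p)ˣ)) ↔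
      ∀ i : ZMod p, i ≠ 0 → (χ : G → ℂ) (pw x i) = (χ : G → ℂ) (pw x (1 : ZMod p)) := by
    refine fun χ => ⟨fun e i hi => ?_, fun e k => ?_⟩
    · have := fun i hi => const_of_b (c := -b χ (1 : (ZMod p)ˣ)) (b0 χ) (b1 χ)
        (fun k => by rw [e, neg_neg]) (i := i) hi
      rw [this i hi, this 1 one_ne_zero]
    · apply Int.cast_injective (α := ℂ)
      rw [← hb, ← hb, bc_of_const e k.ne_zero, bc_of_const e (Units.ne_zero _)]
  obtain ⟨y, hy⟩ := h.loc1
  obtain ⟨m, ⟨ψ, hψ, hm⟩, η, hη, e⟩ := exists_char_comb hy (univ.image μ) (by simp)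
    (fun σ ψ hψ => by
      obtain ⟨j, -, rfl⟩ := mem_image.1 hψ
      refine ⟨⟨_, (μ j).2.map_ringHom σ⟩, ?_, fun g => rfl⟩
      by_contra hc
      refine hnc j ((hiff _).2 fun i hi => σ.injective ?_)
      exact (hiff _).1 (h4 _ (PB_gal σ (h1 j)) fun k e => hc (mem_image.2 ⟨k, mem_univ _, e.symm⟩))
        i hi)
    (fun ψ hψ u hu hu1 v hv => by
      obtain ⟨j, -, rfl⟩ := mem_image.1 hψ
      exact h.PB_const (h1 j) hu hu1 hv)
  have ht := (autSub h.ord).card_mul_index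
  rw [Nat.card_eq_fintype_card (α := (ZMod p)ˣ), ZMod.card_units] at ht
  have ht' : (p : ℂ) - 1 = Nat.card (autSub h.ord) * (autSub h.ord).index := by
    rw [← Nat.cast_mul, ht, Nat.cast_sub hp.out.pos, Nat.cast_one]
  rw [sum_congr rfl (g := fun ψ : IrrCharacter G => (m ψ : ℂ) *
    (-(c * (autSub h.ord).index + ε) * Nat.card (autSub h.ord))) fun ψ hψ => by
      obtain ⟨j, -, rfl⟩ := mem_image.1 hψ
      rw [sum_range_pw h.ord, sum_erase_of_b (b0 _) (b1 _)]
      simp only [h3, sum_add_distrib, sum_coset _ j (fun _ => ε), sum_const, card_univ,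
        ZMod.card_units, ← ht, Nat.card_eq_fintype_card, nsmul_eq_mul, Int.cast_add, Int.cast_mul,
        Int.cast_natCast, Nat.cast_mul]
      ring, ← sum_mul, ht', ← mul_assoc, mul_comm (Nat.card _ : ℂ), ← mul_assoc,
    ← Nat.cast_sum] at e
  have e1 := mul_right_cancel₀ (card_ne_zero _) e
  have e2 : ((∑ ψ ∈ univ.image μ, m ψ : ℕ) : ℤ) * (c * (autSub h.ord).index + ε) =
      -η * (autSub h.ord).index := by
    have : ((∑ ψ ∈ univ.image μ, m ψ : ℕ) : ℤ) * -(c * (autSub h.ord).index + ε) =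
      η * (autSub h.ord).index := by exact_mod_cast e1
    linarith
  have ht2 : 2 ≤ (autSub h.ord).index := by
    have := index_pos' (autSub h.ord)
    have := mt index_eq_one.1 hA
    omega
  rcases int_aux (fun e3 => hm (sum_eq_zero_iff.1 (Nat.cast_eq_zero.1 e3) ψ hψ))
    (by exact_mod_cast ht2) hε (by omega) e2 with rfl | ⟨e3, rfl⟩
  · exact ⟨ε, μ, hε, h1, h2, hne, fun j k => by rw [h3, zero_add], h4⟩
  · have e4 : (autSub h.ord).index = 2 := by exact_mod_cast e3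
    refine ⟨-ε, fun j => μ (s * j), by omega, fun j => h1 _, fun j k => ?_, fun j => hne _,
      fun j k => ?_, fun χ hχ hj => h4 χ hχ fun j => by simpa using hj (s⁻¹ * j)⟩
    · rw [h2, mul_inv_rev, mul_comm s, mul_assoc, mul_comm k⁻¹, mul_inv_cancel_left]
    · rw [h3, mul_assoc]
      simp only [mul_mem_iff_of_index_two e4, hs, false_iff]
      split_ifs <;> simp

end Syl1

/-- Gauss periods -/
noncomputable def eta (A : Subgroup (ZMod p)ˣ) (i : ZMod p) : ℂ :=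
  ∑ᶠ a : A, ech (i * ((a : (ZMod p)ˣ) : ZMod p))

/-- The structure of the principal block. -/
structure D1 (M : Ideal AlgInt) (h : Syl1 p x) (N : Finset (IrrCharacter G))
    (δ : IrrCharacter G → ℤ) (ε : ℤ) (μ : (ZMod p)ˣ → IrrCharacter G) : Prop where
  one_mem : irrOne G ∈ N
  sub : N ⊆ PB M G
  exc_mem : ∀ j, μ j ∈ PB M G
  exc_not : ∀ j, μ j ∉ N
  cases : ∀ χ ∈ PB M G, χ ∈ N ∨ ∃ j, χ = μ j
  exc_eq : ∀ j k, μ j = μ k ↔ j * k⁻¹ ∈ autSub h.ord
  card : N.card = Nat.card (autSub h.ord)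
  δ_val : ∀ χ ∈ N, δ χ = 1 ∨ δ χ = -1
  ε_val : ε = 1 ∨ ε = -1
  apply_N : ∀ χ ∈ N, ∀ i : ZMod p, i ≠ 0 → (χ : G → ℂ) (pw x i) = δ χ
  apply_exc : ∀ j, ∀ i : ZMod p, i ≠ 0 →
    (μ j : G → ℂ) (pw x i) = ε * eta (autSub h.ord) (i * (j : ZMod p))
  reg : ∀ g, ¬ p ∣ orderOf g → ∀ j, ∑ χ ∈ N, δ χ * (χ : G → ℂ) g = ε * (μ j : G → ℂ) g
  deg_N : ∀ χ ∈ N, ∃ m : ℕ, (charDegree (χ : G → ℂ) : ℤ) = δ χ + p * (m - δ χ) ∧ δ χ ≤ m
  deg_exc : ∀ j, ∃ m : ℕ, (charDegree (μ j : G → ℂ) : ℤ) = ε * Nat.card (autSub h.ord) + p * m ∧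
    -ε ≤ m

theorem Syl1.exists_D1 (h : Syl1 p x) : ∃ N δ ε μ, D1 M h N δ ε μ := by
  classical
  choose b b0 hb b1 m hm b2 using fun χ : IrrCharacter G => exists_bc h.ord χ.2.isCharacter
  obtain ⟨ε, μ, hε, h1, h2, h3, h4, h5⟩ := h.exists_exc (M := M) b0 hb b1
  set N := (PB M G).filter (fun χ => ∀ j, χ ≠ μ j) with hN
  have hN1 : ∀ χ ∈ N, ∀ k : (ZMod p)ˣ, b χ k = - -b χ (1 : (ZMod p)ˣ) := fun χ hχ k => by
    rw [neg_neg, h5 χ (mem_filter.1 hχ).1 (mem_filter.1 hχ).2]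
  have hN2 : ∀ χ ∈ N, ∀ i : ZMod p, i ≠ 0 →
      (χ : G → ℂ) (pw x i) = (-b χ (1 : (ZMod p)ˣ) : ℤ) := fun χ hχ i hi =>
    Syl1.const_of_b (b0 χ) (b1 χ) (hN1 χ hχ) hi
  have hN3 : ∀ χ ∈ N, -b χ (1 : (ZMod p)ˣ) = 1 ∨ -b χ (1 : (ZMod p)ˣ) = -1 := fun χ hχ =>
    h.const_val (mem_filter.1 hχ).1 (hN2 χ hχ)
  have hsum : ∀ {A : Type} [CommRing A] (f : IrrCharacter G → A) (j : (ZMod p)ˣ),
      ∑ χ ∈ PB M G, f χ * b χ j = ∑ χ ∈ N, f χ * b χ (1 : (ZMod p)ˣ) + f (μ j) * ε := by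
    intro A _ f j
    rw [← sum_filter_add_sum_filter_not (PB M G) (fun χ => ∀ j, χ ≠ μ j)]
    congr 1
    · exact sum_congr rfl fun χ hχ => by rw [hN1 χ hχ j, neg_neg]
    · rw [sum_eq_single (μ j), h4, mul_inv_cancel, if_pos (one_mem _)]
      · intro χ hχ hne
        obtain ⟨k, hk⟩ := not_forall.1 (mem_filter.1 hχ).2
        rw [not_not.1 hk, h4, if_neg fun e => hne ((not_not.1 hk).trans ((h2 _ _).2 e))]
        simp
      · intro e
        exact absurd (mem_filter.2 ⟨h1 j, fun e => e j rfl⟩) e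
  refine ⟨N, fun χ => -b χ (1 : (ZMod p)ˣ), ε, μ, mem_filter.2 ⟨one_mem_PB p, fun j => (h3 j).symm⟩,
    filter_subset _ _, h1, fun j e => (mem_filter.1 e).2 j rfl, fun χ hχ => ?_, h2, ?_, hN3, hε,
    hN2, fun j i hi => ?_, fun g hg j => ?_, fun χ hχ => ⟨m χ, ?_, ?_⟩, fun j => ⟨m (μ j), ?_, ?_⟩⟩
  · by_cases e : ∀ j, χ ≠ μ j
    · exact Or.inl (mem_filter.2 ⟨hχ, e⟩)
    · push Not at e; exact Or.inr e
  · have e1 := h.gram_int (M := M) hb 1 1
    have e2 := hsum (fun χ => b χ (1 : (ZMod p)ˣ)) 1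
    simp only [Int.cast_id] at e2
    rw [e2, h4, mul_inv_cancel, if_pos (one_mem _), if_pos (one_mem _),
      sum_congr rfl (g := fun _ => 1) fun χ hχ => by rcases hN3 χ hχ with e | e <;> nlinarith] at e1
    simp only [sum_const, nsmul_eq_mul, mul_one] at e1
    rcases hε with rfl | rfl <;> omega
  · rw [b1 _ i hi, Syl1.sum_units, b0, eta, finsum_eq_sum_of_fintype, mul_sum]
    simp only [h4, Int.cast_ite, ite_mul, Int.cast_zero, zero_mul, zero_add]
    rw [Syl1.sum_coset _ j (fun k => ε * ech (i * (k : ZMod p)))]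
    simp [mul_assoc]
  · have e1 := h.bc_reg (M := M) hg (j : ZMod p)
    simp only [hb, map_intCast] at e1
    rw [hsum] at e1
    rw [sum_congr rfl (g := fun χ : IrrCharacter G => -((χ : G → ℂ) g * b χ (1 : (ZMod p)ˣ)))
      fun _ _ => by push_cast; ring, sum_neg_distrib]
    linear_combination -e1
  · have e1 := b2 χ
    rw [irr_one_eq, Syl1.sum_units, b0] at e1
    rw [sum_congr rfl fun k _ => hN1 χ hχ k, sum_const, card_univ, ZMod.card_units, nsmul_eq_mul,
      Nat.cast_sub hp.out.pos, ← Int.cast_natCast, Int.cast_inj] at e1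
    rw [e1]; push_cast; ring
  · have := hm χ (1 : (ZMod p)ˣ); linarith
  · have e1 := b2 (μ j)
    rw [irr_one_eq, Syl1.sum_units, b0] at e1
    simp only [h4, Syl1.sum_coset _ j (fun _ => ε), sum_const, card_univ, nsmul_eq_mul] at e1
    rw [← Int.cast_natCast, Int.cast_inj] at e1
    rw [e1, Nat.card_eq_fintype_card]; ring
  · have := hm (μ j) j
    rw [h4, mul_inv_cancel, if_pos (one_mem _)] at this
    linarith

open Classical in
theorem D1.card_exc {h : Syl1 p x} {N : Finset (IrrCharacter G)} {δ : IrrCharacter G → ℤ} {ε : ℤ}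
    {μ : (ZMod p)ˣ → IrrCharacter G} (D : D1 M h N δ ε μ) :
    (univ.image μ).card = (autSub h.ord).index := by
  rw [index_eq_card, ← Set.ncard_coe_finset, ← Nat.card_coe_set_eq, coe_image, coe_univ,
    Set.image_univ]
  refine Nat.card_congr (Equiv.ofBijective (fun q : (ZMod p)ˣ ⧸ autSub h.ord =>
    (⟨μ q.out, q.out, rfl⟩ : Set.range μ)) ⟨fun a b e => ?_, ?_⟩).symm
  · have := (D.exc_eq _ _).1 (congrArg Subtype.val e)
    rw [← a.out_eq', ← b.out_eq', eq_comm, QuotientGroup.eq, mul_comm]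
    exact this
  · rintro ⟨_, j, rfl⟩
    refine ⟨j, Subtype.ext ((D.exc_eq _ _).2 ?_)⟩
    rw [mul_comm, ← QuotientGroup.eq, QuotientGroup.out_eq']

open Classical in
theorem D1.PB_eq {h : Syl1 p x} {N : Finset (IrrCharacter G)} {δ : IrrCharacter G → ℤ} {ε : ℤ}
    {μ : (ZMod p)ˣ → IrrCharacter G} (D : D1 M h N δ ε μ) : PB M G = N ∪ univ.image μ := by
  ext χ
  rw [mem_union, mem_image]
  constructor
  · intro hχ
    rcases D.cases χ hχ with e | ⟨j, rfl⟩
    exacts [Or.inl e, Or.inr ⟨j, mem_univ _, rfl⟩]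
  · rintro (e | ⟨j, -, rfl⟩)
    exacts [D.sub e, D.exc_mem j]

omit hM in
theorem syl1_of_sylow (P : Sylow p G) (hP : Nat.card P = p) :
    ∃ x, Syl1 p x ∧ zpowers x = (P : Subgroup G) := by
  obtain ⟨x, hx, hx1⟩ : ∃ x ∈ (P : Subgroup G), x ≠ 1 := by
    by_contra hc
    push Not at hc
    rw [show Nat.card P = 1 from (congrArg (fun H : Subgroup G => Nat.card H)
      ((eq_bot_iff_forall _).2 hc)).trans card_bot] at hP
    exact hp.out.one_lt.ne hP
  have h1 : orderOf x = p := by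
    have := orderOf_dvd_card_of_mem hx
    rw [show Nat.card (P : Subgroup G) = p from hP, Nat.dvd_prime hp.out, orderOf_eq_one_iff] at this
    exact this.resolve_left hx1
  have h2 : zpowers x = (P : Subgroup G) := eq_of_le_of_card_ge (zpowers_le.2 hx)
    (by rw [Nat.card_zpowers, h1]; exact hP.le)
  exact ⟨x, ⟨h1, h2 ▸ P.not_dvd_index⟩, h2⟩

omit hM in
theorem s0960 {G : Type*} [Group G] [Finite G] (p : ℕ) [Fact p.Prime] (M : Ideal Cfsg.AlgInt) (hM : Cfsg.IsPModular p M) (hodd : p ≠ 2) (P : Sylow p G) (hP : Nat.card P = p) (e : ℕ) (he : (Subgroup.centralizer ((P : Subgroup G) : Set G)).relIndex (Subgroup.normalizer ((P : Subgroup G) : Set G)) = e) : Nat.card (Cfsg.principalBlock M G) = e + (p - 1) / e ∧ ∀ χ ∈ Cfsg.principalBlock M G, ((Cfsg.charDegree (χ : G → ℂ) : ℤ) ≡ 1 [ZMOD p] ∨ (Cfsg.charDegree (χ : G → ℂ) : ℤ) ≡ -1 [ZMOD p] ∨ (Cfsg.charDegree (χ : G → ℂ) : ℤ) ≡ (e : ℤ) [ZMOD p] ∨ (Cfsg.charDegree (χ : G → ℂ) : ℤ)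 ≡ -(e : ℤ) [ZMOD p]) := by
  classical
  have : PMod p M := ⟨hM⟩
  obtain ⟨x, h, hx⟩ := syl1_of_sylow P hP
  rw [← hx, centralizer_zpowers, ← card_autSub h.ord] at he
  obtain ⟨N, δ, ε, μ, D⟩ := h.exists_D1 (M := M)
  constructor
  · have h1 : principalBlock M G = (PB M G : Set (IrrCharacter G)) := by ext; simp [mem_PB]
    have h2 := (autSub h.ord).card_mul_index
    rw [Nat.card_eq_fintype_card (α := (ZMod p)ˣ), ZMod.card_units] at h2
    rw [h1, Nat.card_coe_set_eq, Set.ncard_coe_finset, D.PB_eq, card_union_of_disjoint, D.card,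
      D.card_exc, ← h2, he, Nat.mul_div_cancel_left _ (he ▸ Nat.card_pos)]
    refine disjoint_right.2 fun χ hχ => ?_
    obtain ⟨j, -, rfl⟩ := mem_image.1 hχ
    exact D.exc_not j
  · intro χ hχ
    rcases D.cases χ (mem_PB.2 hχ) with e1 | ⟨j, rfl⟩
    · obtain ⟨m, hm, -⟩ := D.deg_N χ e1
      rw [hm]
      rcases D.δ_val χ e1 with e2 | e2 <;> rw [e2] <;> simp [Int.ModEq]
    · obtain ⟨m, hm, -⟩ := D.deg_exc j
      rw [hm, he]
      rcases D.ε_val with rfl | rfl <;> simp [Int.ModEq]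

end Cfsg.Agent.Inv
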