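import Cfsg.Agent.Inv.Zas7
import Cfsg.Agent.Inv.Def1

/-! Self-centralizing elements of prime order: the action on the Sylow subgroups. -/

set_option autoImplicit false
set_option linter.unusedVariables false
set_option linter.unusedSectionVars false

namespace Cfsg.Agent.Inv

open Subgroup MulAction Cfsg.Agent.PLoc Cfsg.Agent.Class
open scoped MatrixGroups IsMulCommutative

variable {G : Type*} [Group G] [Finite G]

theorem z0_of_ker {Ω : Type*} [MulAction G Ω] [IsPretransitive G Ω] (o : Ω) (P : Subgroup G)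
    (h1 : ∀ u ∈ P, u • o = o) (h2 : ∀ g : G, g • o = o → ∀ u ∈ P, g * u * g⁻¹ ∈ P)
    (h3 : ∀ u ∈ P, ∀ c, c ≠ o → u • c = c → u = 1) (h4 : Nat.card P + 1 = Nat.card Ω)
    (h5 : ∀ u ∈ P, u ≠ 1 → ∀ g : G, g * u = u * g → g ∈ P) (h6 : 2 ≤ Nat.card P) :
    Z0 G Ω ∧ zk G o = P := by
  classical
  have : Finite Ω := Nat.finite_of_card_ne_zero (by omega)
  have := Fintype.ofFinite Ω
  have key : ∀ b c, b ≠ o → c ≠ o → ∃! x : P, (x : G) • b = c := fun b c hb hc => by
    let f : P → {c // c ≠ o} := fun x => ⟨(x : G) • b, fun e => hb (by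
      rw [smul_eq_iff_inv] at e
      exact e.symm.trans (h1 _ (inv_mem x.2)))⟩
    have hf : Function.Bijective f := (Nat.bijective_iff_injective_and_card f).2 ⟨fun x y e => by
      rw [← inv_mul_eq_one]
      refine Subtype.ext (h3 _ (x⁻¹ * y).2 b hb ?_)
      rw [coe_mul, mul_smul, ← show (x : G) • b = (y : G) • b from congrArg Subtype.val e]
      simp, by
      rw [Nat.card_eq_fintype_card (α := {c // c ≠ o}), Fintype.card_subtype_compl,
        ← Nat.card_eq_fintype_card, ← h4]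
      simp⟩
    simpa [f, Subtype.ext_iff (p := (· ≠ o))] using hf.existsUnique ⟨c, hc⟩
  have Z : Z0 G Ω := by
    refine ⟨fun {a b c e} h7 h8 => ?_, fun g a b c h7 h8 h9 ga gb gc => ?_, fun a b =>
      exists_ne_ne (by rw [← Nat.card_eq_fintype_card]; omega) a b⟩
    · obtain ⟨g, rfl⟩ := exists_smul_eq G o a
      obtain ⟨k, rfl⟩ := exists_smul_eq G o c
      obtain ⟨x, hx, -⟩ := key (g⁻¹ • b) (k⁻¹ • e) (fun e => h7 (smul_eq_iff_inv.2 e))
        (fun e => h8 (smul_eq_iff_inv.2 e))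
      exact ⟨k * x * g⁻¹, by simp [mul_smul, h1 _ x.2], by simp [mul_smul, hx]⟩
    · obtain ⟨k, rfl⟩ := exists_smul_eq G o a
      obtain ⟨b, rfl⟩ := (MulAction.surjective k) b
      obtain ⟨c, rfl⟩ := (MulAction.surjective k) c
      obtain ⟨g, rfl⟩ := (MulAut.conj k).surjective g
      simp only [MulAut.conj_apply, conj_smul_eq_iff, ne_eq, smul_left_cancel_iff] at *
      obtain ⟨x, hx, hx'⟩ := key b c (Ne.symm h7) (Ne.symm h9)
      have h10 : g * x * g⁻¹ = x := congrArg Subtype.val (hx' ⟨_, h2 g ga _ x.2⟩ (by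
        simp only [mul_smul, smul_eq_iff_inv.1 gb, hx, gc]))
      rw [h3 g (h5 x x.2 (fun e => h8 (by rw [← hx, e, one_smul])) g
        (mul_inv_eq_iff_eq_mul.1 h10)) b (Ne.symm h7) gb]
      simp
  exact ⟨Z, (Z.eq_zk_of_reg h1 key).symm⟩

theorem psl_of_pgl {F : Type*} [Field F] [Fintype F] (h : Even (Fintype.card F)) :
    Nonempty (PSL(2, F) ≃* PGL(2, F)) := by
  have h1 := index_range_toPGL (F := F)
  rcases gcd_two_cases (Fintype.card F) Fintype.card_pos with h2 | h2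
  · exact absurd h (Nat.not_even_iff.2 h2.1)
  rw [h2.2, index_eq_one, MonoidHom.range_eq_top] at h1
  exact ⟨MulEquiv.ofBijective _ ⟨Matrix.ProjectiveSpecialLinearGroup.toPGL_injective, h1⟩⟩

theorem mem_of_sq_of_odd {M C : Subgroup G} (h : M ≤ normalizer (C : Set G))
    (ho : Odd (C.relIndex M)) {z : G} (hz : z ∈ M) (h2 : z * z = 1) : z ∈ C := by
  have := normal_subgroupOf_of_le_normalizer h
  have h3 : z ^ C.relIndex M ∈ C := (C.subgroupOf M).pow_index_mem ⟨z, hz⟩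
  obtain ⟨k, hk⟩ := ho
  rwa [hk, pow_succ, pow_mul, sq, h2, one_pow, one_mul] at h3

/-- recognition of `SL(2, 2^m)` -/
theorem psl_even_of_cent {y : G} (h0 : y ≠ 1) (h1 : ∀ c ∈ centralizer {y}, c * c = 1)
    (h2 : ∀ c ∈ centralizer {y}, c ≠ 1 → IsConj y c) {q : ℕ}
    (hq : Nat.card (centralizer ({y} : Set G)) = q) (hG : Nat.card G = (q + 1) * q * (q - 1)) :
    ∃ (F : Type) (_ : Field F) (_ : Fintype F), Fintype.card F = q ∧ Nonempty (G ≃* PSL(2, F)) := by
  classical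
  have := Fintype.ofFinite G
  set C := centralizer ({y} : Set G) with hC
  have yC : y ∈ C := mem_centralizer_singleton_iff.2 rfl
  have qe : Even q := hq ▸ even_card_of_mem (ord2_iff.2 ⟨h1 y yC, h0⟩) yC
  have q2 : 2 ≤ q := Nat.le_of_dvd (hq ▸ Nat.card_pos) qe.two_dvd
  have h3 : ∀ c ∈ C, c ≠ 1 → centralizer {c} = C := fun c hc c1 =>
    (eq_of_le_of_card_ge (fun d hd => mem_centralizer_singleton_iff.2 (by
      have := h1 _ (mul_mem hd hc)
      rw [← inv_eq_of_mul_eq_one_right this, mul_inv_rev, inv_eq_of_mul_eq_one_right (h1 _ hc),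
        inv_eq_of_mul_eq_one_right (h1 _ hd)])) (card_centralizer_of_isConj (h2 c hc c1)).ge).symm
  set M := normalizer (C : Set G) with hM
  have h4 : ∀ c ∈ C, c ≠ 1 → ∀ g, g * c * g⁻¹ ∈ C → g ∈ M := fun c hc c1 g hg =>
    mem_normalizer_of_cj_le fun d hd => by
      rw [← h3 _ hg (by simpa using c1), mem_centralizer_singleton_iff]
      rw [mem_cj, ← h3 c hc c1, mem_centralizer_singleton_iff] at hd
      calc d * (g * c * g⁻¹) = g * (g⁻¹ * d * g * c) * g⁻¹ := by group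
        _ = _ := by rw [hd]; group
  have h5 : Nat.card M = (q - 1) * q := by
    rw [card_subgroup_eq_filter, Finset.card_eq_sum_card_fiberwise (f := fun g => g * y * g⁻¹)
      (t := (Finset.univ.filter (· ∈ C)).erase 1) fun g hg => by
        simpa [h0] using conj_mem_of_mem_normalizer (Finset.mem_filter.1 hg).2 yC,
      Finset.sum_congr rfl (g := fun _ => q) fun c hc => ?_, Finset.sum_const,
      Finset.card_erase_of_mem (by simp), ← card_subgroup_eq_filter, hq, smul_eq_mul]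
    simp only [Finset.mem_erase, Finset.mem_filter, Finset.mem_univ, true_and] at hc
    rw [← hq, ← card_conjugators (h2 c hc.2 hc.1), card_subtype_eq_filter, Finset.filter_filter]
    exact congrArg _ (Finset.filter_congr fun g _ =>
      ⟨fun h => h.2, fun h => ⟨h4 y yC h0 g (h ▸ hc.2), h⟩⟩)
  have h6 : M.index = q + 1 := by
    have := M.index_mul_card
    rw [h5, hG, mul_assoc, mul_comm q] at this
    exact Nat.eq_of_mul_eq_mul_right (mul_pos (by omega) (by omega)) this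
  have h7 : C.relIndex M = q - 1 := by
    have := (C.subgroupOf M).index_mul_card
    rw [card_subgroupOf_of_le le_normalizer, hq, h5] at this
    exact Nat.eq_of_mul_eq_mul_right (by omega) this
  have ho : ∀ g : G, g • ((1 : G) : G ⧸ M) = (1 : G) ↔ g ∈ M := fun g => by
    rw [← mem_stabilizer_iff, stabilizer_quotient]
  obtain ⟨Z, hK⟩ := z0_of_ker ((1 : G) : G ⧸ M) C (fun u hu => (ho u).2 (le_normalizer hu))
    (fun g hg u hu => conj_mem_of_mem_normalizer ((ho g).1 hg) hu) (fun u hu c hc e => by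
      obtain ⟨g, rfl⟩ := exists_smul_eq G ((1 : G) : G ⧸ M) c
      by_contra u1
      refine hc ((ho g).2 (inv_mem_iff.1 (h4 u hu u1 g⁻¹ (mem_of_sq_of_odd le_rfl
        (h7 ▸ Nat.Even.sub_odd (by omega) qe odd_one) ((ho _).1 ?_) ?_))))
      · rwa [conj_smul_fix, inv_inv]
      · rw [conj_mul, h1 u hu]; simp)
    (by rw [hq, ← h6]; rfl) (fun u hu u1 g hg => h3 u hu u1 ▸ mem_centralizer_singleton_iff.2 hg)
    (by omega)
  obtain ⟨b, hb⟩ := Z.exists_ne ((1 : G) : G ⧸ M)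
  have h8 := Z.card_eq hb.symm
  rw [hK, hq, hG] at h8
  obtain ⟨F, _, _, h9, ⟨e⟩⟩ := Z.pgl_of_invE hb.symm (Z.invE_of_even (by rwa [hK, hq])) (by
    have : Nat.card (St2 G _ b) = q - 1 :=
      Nat.eq_of_mul_eq_mul_left (mul_pos q.add_one_pos (show 0 < q by omega)) (by rw [h8]; ring)
    rw [hK, hq, this]; omega)
  rw [hK, hq] at h9
  obtain ⟨e'⟩ := psl_of_pgl (F := F) (h9 ▸ qe)
  exact ⟨F, _, ‹_›, h9, ⟨e.trans e'.symm⟩⟩

theorem sq_of_index {C E : Subgroup G} (h : ∀ c ∈ C, c ∉ E → c * c = 1)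
    (h2 : 2 * Nat.card ↥(C ⊓ E) < Nat.card C) : ∀ c ∈ C, c * c = 1 := by
  classical
  have := Fintype.ofFinite G
  have key : ∀ u ∈ C, ∃ v ∈ C, v ∉ E ∧ u * v ∉ E := fun u hu => by
    by_contra hc
    push Not at hc
    have := Finset.card_le_card (s := Finset.univ.filter (· ∈ C))
      (t := Finset.univ.filter (· ∈ C ⊓ E) ∪ (Finset.univ.filter (· ∈ C ⊓ E)).image (u⁻¹ * ·))
      fun v hv => by
        have hv := (Finset.mem_filter.1 hv).2
        by_cases e : v ∈ E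
        · simp [hv, e]
        · exact Finset.mem_union_right _ (Finset.mem_image.2
            ⟨u * v, by simp [mul_mem hu hv, hc v hv e], by simp⟩)
    have h3 := Finset.card_union_le (Finset.univ.filter (· ∈ C ⊓ E))
      ((Finset.univ.filter (· ∈ C ⊓ E)).image (u⁻¹ * ·))
    have h4 := Finset.card_image_le (s := Finset.univ.filter (· ∈ C ⊓ E)) (f := (u⁻¹ * ·))
    rw [← card_subgroup_eq_filter] at this h3 h4
    omega
  obtain ⟨u, hu, u1, -⟩ := key 1 (one_mem C)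
  obtain ⟨v, hv, v1, uv⟩ := key u hu
  intro c hc
  by_cases e : c ∈ E
  swap
  · exact h c hc e
  have inv : ∀ w ∈ C, w ∉ E → ∀ c ∈ C, c ∈ E → w * c = c⁻¹ * w := fun w hw w1 c hc e => by
    have := h _ (mul_mem hw hc) fun e' => w1 ((mul_mem_cancel_right e).1 e')
    rw [← inv_eq_of_mul_eq_one_right this, mul_inv_rev, inv_eq_of_mul_eq_one_right (h w hw w1)]
  have h3 := inv _ (mul_mem hu hv) uv c hc e
  rw [mul_assoc, inv v hv v1 c hc e, ← mul_assoc, inv u hu u1 _ (inv_mem hc) (inv_mem e), inv_inv,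
    mul_assoc, mul_left_inj] at h3
  rw [← eq_inv_iff_mul_eq_one, ← h3]

variable {p : ℕ} [hp : Fact p.Prime] {x : G}

/-- a self-centralizing element of order `p` -/
structure SC (p : ℕ) (x : G) : Prop where
  ord : orderOf x = p
  cent : centralizer {x} = zpowers x

/-- the normalizer of the cyclic group -/
abbrev Nx (x : G) : Subgroup G := normalizer (zpowers x : Set G)

/-- the base point -/
abbrev ox (x : G) : G ⧸ Nx x := (1 : G)

theorem smul_ox {g : G} : g • ox x = ox x ↔ g ∈ Nx x := by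
  rw [← mem_stabilizer_iff, stabilizer_quotient]

namespace SC

variable (h : SC p x)
include h

theorem exists_hom : ∃ f : Nx x →* (ZMod p)ˣ, f.range = autSub h.ord ∧
    ∀ g, f g = 1 ↔ (g : G) ∈ zpowers x := by
  obtain ⟨f, -, h1, h2⟩ := exists_autHom h.ord
  exact ⟨f, h1, fun g => by rw [← MonoidHom.mem_ker, h2, h.cent, mem_subgroupOf]⟩

theorem card_P : Nat.card (zpowers x) = p := by rw [Nat.card_zpowers, h.ord]

theorem card_N : Nat.card (Nx x) = p * Nat.card (autSub h.ord) := by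
  rw [card_autSub, h.cent, ← ((zpowers x).subgroupOf (Nx x)).index_mul_card,
    card_subgroupOf_of_le le_normalizer, h.card_P, mul_comm]; rfl

theorem not_dvd_e : ¬ p ∣ Nat.card (autSub h.ord) := fun e =>
  (Nat.le_of_dvd (by have := hp.out.two_le; omega) (e.trans (card_autSub_dvd h.ord))).not_gt
    (by have := hp.out.two_le; omega)

theorem syl1 : Syl1 p x := ⟨h.ord, fun e => h.not_dvd_e (by
  have := Sylow.prime_dvd_card_quotient_normalizer (p := p) (n := 1) (H := zpowers x) (by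
    rw [← (zpowers x).index_mul_card, h.card_P, pow_succ, pow_one]
    exact Nat.mul_dvd_mul_right e p) (by rw [h.card_P, pow_one])
  rw [card_autSub, h.cent]; exact this)⟩

theorem cent_of_mem {u g : G} (hu : u ∈ zpowers x) (h1 : u ≠ 1) (e : g * u = u * g) :
    g ∈ zpowers x := by
  obtain ⟨i, rfl⟩ := exists_pw h.ord hu
  rw [← h.cent, ← centralizer_pw h.ord (mt (pw_eq_one h.ord).2 h1)]
  exact mem_centralizer_singleton_iff.2 e

theorem pow_p {u : G} (hu : u ∈ zpowers x) : u ^ p = 1 := by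
  rw [← h.card_P]; exact congrArg Subtype.val (pow_card_eq_one' (x := (⟨u, hu⟩ : zpowers x)))

theorem mem_of_pow {g : G} (hg : g ∈ Nx x) (e : g ^ p = 1) : g ∈ zpowers x := by
  obtain ⟨f, -, h1⟩ := h.exists_hom
  refine (h1 ⟨g, hg⟩).1 (Units.ext ?_)
  rw [← ZMod.pow_card (f ⟨g, hg⟩ : ZMod p), ← Units.val_pow_eq_pow_val, ← map_pow,
    show (⟨g, hg⟩ : Nx x) ^ p = 1 from Subtype.ext e, map_one]

theorem fix_o {u : G} (hu : u ∈ zpowers x) {c : G ⧸ Nx x} (hc : c ≠ ox x) (e : u • c = c) :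
    u = 1 := by
  obtain ⟨g, rfl⟩ := exists_smul_eq G (ox x) c
  by_contra h1
  have h2 : g⁻¹ * u * g⁻¹⁻¹ ∈ zpowers x := h.mem_of_pow
    (smul_ox.1 (by rwa [conj_smul_fix, inv_inv])) (by rw [conj_pow, h.pow_p hu]; simp)
  refine hc (smul_ox.2 (inv_mem_iff.1 (mem_normalizer_of_cj_le ?_)))
  obtain ⟨i, rfl⟩ := exists_pw h.ord hu
  rw [← zpowers_pw h.ord (mt (pw_eq_one h.ord).2 h1), cj_zpowers, zpowers_le,
    zpowers_pw h.ord (mt (pw_eq_one h.ord).2 h1)]
  exact h2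

theorem compl {H : Subgroup G} (h1 : H ≤ Nx x) (h2 : ∀ u ∈ H, u ∈ zpowers x → u = 1) :
    Nat.card H ≤ Nat.card (autSub h.ord) ∧ IsCyclic H ∧ (Nat.card H = Nat.card (autSub h.ord) →
      ∀ y ∈ Nx x, ∃ u ∈ zpowers x, u * y ∈ H) := by
  obtain ⟨f, h3, h4⟩ := h.exists_hom
  have h5 : Function.Injective (f.rangeRestrict.comp (inclusion h1)) :=
    (injective_iff_map_eq_one _).2 fun u e => Subtype.ext (h2 u u.2
      ((h4 (inclusion h1 u)).1 (congrArg Subtype.val e)))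
  refine ⟨h3 ▸ Nat.card_le_card_of_injective _ h5, isCyclic_of_injective _ h5, fun e y hy => ?_⟩
  obtain ⟨z, hz⟩ := ((Nat.bijective_iff_injective_and_card _).2 ⟨h5, h3 ▸ e⟩).2
    (f.rangeRestrict ⟨y, hy⟩)
  refine ⟨z * y⁻¹, (h4 (inclusion h1 z * (⟨y, hy⟩ : Nx x)⁻¹)).1 ?_, by simp⟩
  rw [map_mul, map_inv, show f (inclusion h1 z) = f ⟨y, hy⟩ from congrArg Subtype.val hz,
    mul_inv_cancel]

theorem exists_conj {y u : G} (hy : y ∈ Nx x) (h1 : y ∉ zpowers x) (hu : u ∈ zpowers x) :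
    ∃ w ∈ zpowers x, w * y * w⁻¹ = u * y := by
  let F : zpowers x → zpowers x := fun w => ⟨w * (y * w⁻¹ * y⁻¹),
    mul_mem w.2 (conj_mem_of_mem_normalizer hy (inv_mem w.2))⟩
  have hF : Function.Injective F := fun w v e => by
    by_contra h2
    refine h1 (h.cent_of_mem (v⁻¹ * w).2 (fun e => h2 (inv_mul_eq_one.1 (Subtype.ext e)).symm) ?_)
    have : (w : G) * (y * (w : G)⁻¹ * y⁻¹) = v * (y * (v : G)⁻¹ * y⁻¹) := congrArg Subtype.val e
    push_cast
    calc y * ((v : G)⁻¹ * w) = (v : G)⁻¹ * (v * (y * (v : G)⁻¹ * y⁻¹)) * y * w := by group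
      _ = _ := by rw [← this]; group
  obtain ⟨w, hw⟩ := Finite.injective_iff_surjective.1 hF ⟨u, hu⟩
  refine ⟨w, w.2, ?_⟩
  rw [← show (w : G) * (y * w⁻¹ * y⁻¹) = u from congrArg Subtype.val hw]
  simp [mul_assoc]

theorem stab_inf {c : G ⧸ Nx x} (hc : c ≠ ox x) :
    ∀ u ∈ Nx x ⊓ stabilizer G c, u ∈ zpowers x → u = 1 := fun u hu e => h.fix_o e hc hu.2

theorem card_stab_le {c : G ⧸ Nx x} (hc : c ≠ ox x) :
    Nat.card ↥(Nx x ⊓ stabilizer G c) ≤ Nat.card (autSub h.ord) :=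
  (h.compl inf_le_left (h.stab_inf hc)).1

theorem orderOf_eq {f : Nx x →* (ZMod p)ˣ} (hf : ∀ g, f g = 1 ↔ (g : G) ∈ zpowers x) {y : Nx x}
    (h1 : (y : G) ∉ zpowers x) : orderOf (f y) = orderOf (y : G) :=
  orderOf_eq_orderOf_iff.2 fun k => by
    rw [← map_pow, hf]
    exact ⟨fun e => by_contra fun e' => h1 (h.cent_of_mem e e' (pow_mul_comm' _ _).symm),
      fun e => by rw [coe_pow, e]; exact one_mem _⟩

theorem exists_pow {y z : G} (hy : y ∈ Nx x) (h1 : y ∉ zpowers x) (hz : z ∈ Nx x)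
    (h2 : orderOf z = orderOf y) : ∃ u ∈ zpowers x, u * z ∈ zpowers y ∧ z ∉ zpowers x := by
  obtain ⟨f, -, h3⟩ := h.exists_hom
  have z1 : z ∉ zpowers x := fun e => h1 (h.mem_of_pow hy (by
    rw [← orderOf_dvd_iff_pow_eq_one, ← h2, orderOf_dvd_iff_pow_eq_one, h.pow_p e]))
  obtain ⟨k, hk⟩ : f ⟨z, hz⟩ ∈ zpowers (f ⟨y, hy⟩) :=
    Core.mem_of_pow_card_eq_one_of_isCyclic (C := ⊤) inferInstance le_top trivial (by
      rw [Nat.card_zpowers, h.orderOf_eq h3 h1, ← h2, ← h.orderOf_eq h3 (y := ⟨z, hz⟩) z1,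
        pow_orderOf_eq_one])
  refine ⟨y ^ k * z⁻¹, (h3 (⟨y, hy⟩ ^ k * ⟨z, hz⟩⁻¹)).1 ?_, by simp, z1⟩
  rw [map_mul, map_inv, map_zpow, ← hk, mul_inv_cancel]

theorem orbit_eq {y : G} (hy : y ∈ Nx x) (h1 : y ∉ zpowers x) :
    orbit (Nx y) (ox x) = fixedBy (G ⧸ Nx x) y := by
  ext c
  constructor
  · rintro ⟨g, rfl⟩
    have := (zpowers_le (H := Nx x)).2 hy (conj_mem_of_mem_normalizer (inv_mem g.2) (mem_zpowers y))
    rw [← smul_ox, conj_smul_fix, inv_inv] at this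
    exact this
  · intro hc
    obtain ⟨g, rfl⟩ := exists_smul_eq G (ox x) c
    have h2 : g⁻¹ * y * g⁻¹⁻¹ ∈ Nx x := smul_ox.1 (by rwa [conj_smul_fix, inv_inv])
    obtain ⟨u, hu, h3, h4⟩ := h.exists_pow hy h1 h2 (orderOf_conj' _ _)
    obtain ⟨w, hw, h5⟩ := h.exists_conj h2 h4 hu
    refine ⟨⟨g * w⁻¹, inv_mem_iff.1 (mem_normalizer_of_cj_le ?_)⟩, ?_⟩
    · rw [cj_zpowers, zpowers_le]
      convert h3 using 1
      rw [← h5]; group
    · change (g * w⁻¹) • ox x = _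
      rw [mul_smul, smul_ox.2 (le_normalizer (inv_mem hw))]

theorem inf_Nx_le {y : G} (h1 : y ∉ zpowers x) (hy : y ∈ Nx x) :
    ∀ u ∈ Nx x ⊓ Nx y, u ∈ zpowers x → u = 1 := fun u hu e => by
  by_contra h2
  have h3 : u * y * u⁻¹ * y⁻¹ ∈ zpowers y :=
    mul_mem (conj_mem_of_mem_normalizer hu.2 (mem_zpowers y)) (inv_mem (mem_zpowers y))
  have h4 : u * y * u⁻¹ * y⁻¹ ∈ zpowers x := by
    rw [mul_assoc, mul_assoc, ← mul_assoc y]
    exact mul_mem e (conj_mem_of_mem_normalizer hy (inv_mem e))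
  by_cases h5 : u * y * u⁻¹ * y⁻¹ = 1
  · exact h1 (h.cent_of_mem e h2 (mul_inv_eq_iff_eq_mul.1 (mul_inv_eq_one.1 h5)).symm)
  · obtain ⟨k, hk⟩ := h3
    exact h1 (h.cent_of_mem h4 h5 (hk ▸ ((Commute.refl y).zpow_right k).eq))

section Geo

variable {r : ℕ} (hr : (Nx x).index = 1 + r * p)
include hr

theorem geo_of_sum [Fintype (Nx x)] (hs : ∑ y : Nx x, Nat.card (fixedBy (G ⧸ Nx x) (y : G)) =
    p * Nat.card (autSub h.ord) * (r + 1)) (c : G ⧸ Nx x) (hc : c ≠ ox x) :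
    Nat.card ↥(Nx x ⊓ stabilizer G c) = Nat.card (autSub h.ord) := by
  classical
  have := Fintype.ofFinite (G ⧸ Nx x)
  have h1 : ∑ y : Nx x, Nat.card (fixedBy (G ⧸ Nx x) (y : G)) =
      ∑ c : G ⧸ Nx x, Nat.card ↥(Nx x ⊓ stabilizer G c) := by
    have h2 : ∀ c : G ⧸ Nx x, Nat.card ↥(Nx x ⊓ stabilizer G c) =
        (Finset.univ.filter fun y : Nx x => (y : G) • c = c).card := fun c => by
      rw [← card_subtype_eq_filter, ← card_subgroupOf_of_le (inf_le_left (b := stabilizer G c)),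
        inf_subgroupOf_left]; rfl
    have h3 : ∀ y : Nx x, Nat.card (fixedBy (G ⧸ Nx x) (y : G)) =
        (Finset.univ.filter fun c : G ⧸ Nx x => (y : G) • c = c).card := fun y =>
      card_subtype_eq_filter _
    simp only [h2, h3, Finset.card_filter]
    exact Finset.sum_comm
  rw [h1, ← Finset.add_sum_erase _ _ (Finset.mem_univ (ox x)), stabilizer_quotient, inf_idem,
    h.card_N] at hs
  refine (Finset.sum_eq_sum_iff_of_le (s := Finset.univ.erase (ox x))
    (fun c hc => h.card_stab_le (Finset.mem_erase.1 hc).1)).1 ?_ c (by simpa using hc)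
  rw [Finset.sum_const, Finset.card_erase_of_mem (Finset.mem_univ _), Finset.card_univ,
    ← Nat.card_eq_fintype_card, ← index_eq_card, hr, Nat.add_sub_cancel_left, smul_eq_mul]
  linarith

variable (geo : ∀ c : G ⧸ Nx x, c ≠ ox x →
  Nat.card ↥(Nx x ⊓ stabilizer G c) = Nat.card (autSub h.ord))
include geo

omit hr in
theorem exists_fix {y : G} (hy : y ∈ Nx x) (h1 : y ∉ zpowers x) {c : G ⧸ Nx x} (hc : c ≠ ox x) :
    ∃ w ∈ zpowers x, (w * y * w⁻¹) • c = c := by
  obtain ⟨u, hu, e⟩ := (h.compl inf_le_left (h.stab_inf hc)).2.2 (geo c hc) y hy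
  obtain ⟨w, hw, e'⟩ := h.exists_conj hy h1 hu
  exact ⟨w, hw, e' ▸ e.2⟩

theorem card_fix {y : G} (hy : y ∈ Nx x) (h1 : y ∉ zpowers x) :
    Nat.card (fixedBy (G ⧸ Nx x) y) = r + 1 := by
  classical
  have := Fintype.ofFinite (G ⧸ Nx x)
  have ne : ∀ w ∈ zpowers x, ∀ c, c ≠ ox x → w • c ≠ ox x := fun w hw c hc e => hc (by
    rw [smul_eq_iff_inv, smul_ox.2 (le_normalizer (inv_mem hw))] at e; exact e.symm)
  have h2 := Nat.card_eq_of_bijective (fun a : zpowers x × {c : fixedBy (G ⧸ Nx x) y //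
    c ≠ ⟨ox x, smul_ox.2 hy⟩} => (⟨(a.1 : G) • a.2.1.1, ne _ a.1.2 _ fun e => a.2.2 (Subtype.ext e)⟩ :
      {c // c ≠ ox x})) ⟨?_, ?_⟩
  · have := Fintype.ofFinite (fixedBy (G ⧸ Nx x) y)
    rw [Nat.card_prod, h.card_P, Nat.card_eq_fintype_card, Nat.card_eq_fintype_card,
      Fintype.card_subtype_compl, Fintype.card_subtype_compl, ← Nat.card_eq_fintype_card,
      ← Nat.card_eq_fintype_card (α := G ⧸ Nx x), ← index_eq_card, hr, Fintype.card_unique,
      Fintype.card_unique, Nat.add_sub_cancel_left, mul_comm r] at h2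
    have h3 := Nat.eq_of_mul_eq_mul_left hp.out.pos h2
    have : 0 < Nat.card (fixedBy (G ⧸ Nx x) y) := Nat.card_pos_iff.2 ⟨⟨⟨_, smul_ox.2 hy⟩⟩, inferInstance⟩
    omega
  · rintro ⟨w, ⟨c, hc⟩, c1⟩ ⟨v, ⟨d, hd⟩, d1⟩ e
    have e1 : (w : G) • c = (v : G) • d := congrArg Subtype.val e
    have e2 : ((v⁻¹ * w : zpowers x) : G) • c = d := by simp [mul_smul, e1]
    obtain rfl : v = w := inv_mul_eq_one.1 (Subtype.ext (by
      by_contra h3
      refine h1 (h.cent_of_mem (v⁻¹ * w).2 h3 ?_)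
      have h4 := h.fix_o (mul_mem (inv_mem (v⁻¹ * w).2) (conj_mem_of_mem_normalizer hy (v⁻¹ * w).2))
        (c := c) (fun e => c1 (Subtype.ext e)) (by
          rw [mul_smul, mul_smul, mul_smul, smul_eq_iff_inv.1 hc, e2, hd, ← e2, inv_smul_smul])
      exact mul_inv_eq_iff_eq_mul.1 (inv_mul_eq_one.1 h4).symm))
    obtain rfl : c = d := smul_left_cancel _ e1
    rfl
  · rintro ⟨c, hc⟩
    obtain ⟨w, hw, e⟩ := h.exists_fix geo hy h1 hc
    exact ⟨⟨⟨w, hw⟩, ⟨w⁻¹ • c, conj_smul_fix.1 e⟩, fun e =>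
      ne _ (inv_mem hw) c hc (congrArg Subtype.val e)⟩, Subtype.ext (by simp)⟩

theorem card_inf (r0 : r ≠ 0) {y : G} (hy : y ∈ Nx x) (h1 : y ∉ zpowers x) :
    Nat.card ↥(Nx x ⊓ Nx y) = Nat.card (autSub h.ord) := by
  refine (h.compl inf_le_left (h.inf_Nx_le h1 hy)).1.antisymm ?_
  have : Nontrivial (fixedBy (G ⧸ Nx x) y) :=
    Finite.one_lt_card_iff_nontrivial.1 (by rw [h.card_fix hr geo hy h1]; omega)
  obtain ⟨⟨c, hc⟩, h2⟩ := exists_ne (⟨ox x, smul_ox.2 hy⟩ : fixedBy (G ⧸ Nx x) y)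
  have c1 : c ≠ ox x := fun e => h2 (Subtype.ext e)
  have h3 := (h.compl inf_le_left (h.stab_inf c1)).2.1
  rw [← geo c c1]
  refine card_le_of_le (le_inf inf_le_left fun g hg => centralizer_le_normalizer _ ?_)
  rw [centralizer_zpowers, mem_centralizer_singleton_iff]
  exact comm_of_mem inferInstance hg ⟨hy, hc⟩

theorem card_Nx (r0 : r ≠ 0) {y : G} (hy : y ∈ Nx x) (h1 : y ∉ zpowers x) :
    Nat.card (Nx y) = (r + 1) * Nat.card (autSub h.ord) := by
  rw [← (stabilizer (Nx y) (ox x)).index_mul_card, index_stabilizer, h.orbit_eq hy h1,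
    ← Nat.card_coe_set_eq, h.card_fix hr geo hy h1, ← h.card_inf hr geo r0 hy h1,
    ← card_subgroupOf_of_le (inf_le_right (a := Nx x)), inf_subgroupOf_right]
  rw [show stabilizer (Nx y) (ox x) = (Nx x).subgroupOf (Nx y) from ext fun g => smul_ox]

theorem conj_of_cent (r0 : r ≠ 0) {y : G} (hy : y ∈ Nx x) (h1 : y ∉ zpowers x)
    (y2 : orderOf y = 2) (he : p = (r + 1) * Nat.card (autSub h.ord) + 1) {c : G}
    (hc : c ∈ centralizer {y}) (h2 : c ∉ Nx x) : IsConj y c := by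
  classical
  have := Fintype.ofFinite G
  have hC : Nx y = centralizer {y} := by
    rw [← centralizer_zpowers]
    refine le_antisymm (fun g hg => ?_) (centralizer_le_normalizer _)
    rw [centralizer_zpowers, mem_centralizer_singleton_iff, ← mul_inv_eq_iff_eq_mul]
    exact ((mem_zpowers_ord2 (sq_of_ord2 y2)).1 (conj_mem_of_mem_normalizer hg
      (mem_zpowers y))).resolve_left (by simpa using ne_one_of_ord2 y2)
  have h3 := h.card_Nx hr geo r0 hy h1
  have h4 := h.card_inf hr geo r0 hy h1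
  rw [hC] at h3 h4
  set e := Nat.card (autSub h.ord)
  set C := centralizer ({y} : Set G)
  set J := Finset.univ.filter fun g => g ∈ C ∧ g ∉ Nx x ∧ IsConj y g with hJ
  set J' := Finset.univ.filter fun g => g ∈ C ∧ g ∉ Nx x with hJ'
  have coset : ∀ z ∈ Nx x, orderOf z = 2 → ∀ z' ∈ Nx x, orderOf z' = 2 → z' ∉ zpowers x →
      ∃ u ∈ zpowers x, u * z = z' := fun z hz z2 z' hz' z2' e => by
    obtain ⟨u, hu, h5, h6⟩ := h.exists_pow hz' e hz (z2.trans z2'.symm)
    exact ⟨u, hu, ((mem_zpowers_ord2 (sq_of_ord2 z2')).1 h5).resolve_left fun e =>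
      h6 (by rw [eq_inv_of_mul_eq_one_right e]; exact inv_mem hu)⟩
  have h5 : (Finset.univ.filter fun g => IsConj y g) ⊆ ((Finset.univ.filter (· ∈ zpowers x)) ×ˢ
      (insert y J)).image fun a => a.1 * a.2 * a.1⁻¹ := fun z hz => by
    have hz := (Finset.mem_filter.1 hz).2
    have z2 : orderOf z = 2 := (orderOf_isConj hz).symm.trans y2
    by_cases e : z ∈ Nx x
    · obtain ⟨u, hu, h6⟩ := coset z e z2 y hy y2 h1
      obtain ⟨w, hw, h7⟩ := h.exists_conj hy h1 (inv_mem hu)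
      exact Finset.mem_image.2 ⟨(w, y), by simp [hw], by
        simp only [h7, inv_mul_eq_iff_eq_mul, h6]⟩
    have c1 : z • ox x ≠ ox x := mt smul_ox.1 e
    obtain ⟨w, hw, h6⟩ := h.exists_fix geo hy h1 c1
    have wN := le_normalizer hw
    have h7 : w * y * w⁻¹ ∈ Nx x := mul_mem (mul_mem wN hy) (inv_mem wN)
    have h8 : z * (w * y * w⁻¹) * z⁻¹ ∈ Nx x := smul_ox.1 (by
      rw [conj_smul_fix, inv_of_ord2 z2, h6])
    obtain ⟨u, hu, h9⟩ := coset _ h8 (by rw [orderOf_conj', orderOf_conj', y2]) _ h7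
      (by rw [orderOf_conj', y2]) fun e => h1 (by
        simpa [mul_assoc] using conj_mem_of_mem_normalizer (inv_mem wN) e)
    obtain rfl : u = 1 := h.fix_o hu c1 (by
      rwa [← h9, mul_smul, conj_smul_eq_iff.2 (smul_ox.2 h7)] at h6)
    refine Finset.mem_image.2 ⟨(w, w⁻¹ * z * w), ?_, by simp [mul_assoc]⟩
    simp only [Finset.mem_product, Finset.mem_filter, Finset.mem_univ, true_and, hw,
      Finset.mem_insert, hJ]
    refine Or.inr ⟨mem_centralizer_singleton_iff.2 ?_, fun e' => e ?_,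
      hz.trans (isConj_iff.2 ⟨w⁻¹, by simp⟩)⟩
    · calc w⁻¹ * z * w * y = w⁻¹ * (1 * (z * (w * y * w⁻¹) * z⁻¹)) * z * w := by group
        _ = _ := by rw [h9]; group
    · simpa [mul_assoc] using mul_mem (mul_mem wN e') (inv_mem wN)
  have h6 := (Finset.card_le_card h5).trans Finset.card_image_le
  rw [Finset.card_product, ← card_subgroup_eq_filter, h.card_P, ← card_subtype_eq_filter] at h6
  have h7 := card_centralizer_mul_card_class y
  rw [h3, ← (Nx x).index_mul_card, hr, h.card_N] at h7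
  have h8 : Nat.card {g : G // IsConj y g} = p * (r * e + 1) :=
    Nat.eq_of_mul_eq_mul_left (Nat.card_pos.trans_eq h3) (by rw [h7]; nth_rw 1 [he]; ring)
  rw [h8] at h6
  have h9 := (Nat.le_of_mul_le_mul_left h6 hp.out.pos).trans (Finset.card_insert_le _ _)
  have h10 : J'.card + e = (r + 1) * e := by
    rw [← h3, ← h4, card_subgroup_eq_filter, card_subgroup_eq_filter,
      ← Finset.card_filter_add_card_filter_not (s := Finset.univ.filter (· ∈ C)) (· ∈ Nx x),
      add_comm, Finset.filter_filter, Finset.filter_filter]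
    simp [and_comm, hJ']
  have h11 : J = J' := Finset.eq_of_subset_of_card_le
    (fun g hg => by simp only [hJ, hJ', Finset.mem_filter] at hg ⊢; tauto) (by linarith)
  have : c ∈ J := h11 ▸ Finset.mem_filter.2 ⟨Finset.mem_univ _, hc, h2⟩
  exact (Finset.mem_filter.1 this).2.2.2

end Geo

end SC

end Cfsg.Agent.Inv
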