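import Cfsg.Agent.Inv.BR1
import Cfsg.Agent.Char.Brauer
import Cfsg.Agent.S0904

/-! Brauer's theorem on groups with few Sylow subgroups of prime order. -/

set_option autoImplicit false
set_option linter.unusedVariables false
set_option linter.unusedSectionVars false

namespace Cfsg.Agent.Inv

open Finset Subgroup MulAction Cfsg.Agent.PLoc Cfsg.Agent.Char Cfsg.Agent.Blk Cfsg.Agent.Class
open scoped MatrixGroups IsMulCommutative ComplexConjugate

universe u

theorem br_arith {p r u y : ℤ} (hp : 2 ≤ p) (hr0 : 0 ≤ r) (hr : 2 * r < p + 3) (hu : 0 ≤ u)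
    (h : (1 + p * u) * y = (p - 1) * (1 + r * p)) : u = 0 ∨ u = r := by
  obtain ⟨v, hv⟩ : ∃ v, y = p * v - 1 := ⟨1 + r * p - r - u * y, by linear_combination h⟩
  have y0 : 0 < y := (pos_iff_pos_of_mul_pos
    (h.symm ▸ mul_pos (show 0 < p - 1 by omega) (show 0 < 1 + r * p by positivity))).1 (by positivity)
  subst hv
  have v1 : 1 ≤ v := by nlinarith
  have h1 : (r - u * v) * (p - 1) = (u + 1) * (v - 1) :=
    mul_left_cancel₀ (show p ≠ 0 by omega) (by linear_combination -h)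
  by_contra hc
  push Not at hc
  rcases v1.eq_or_lt with rfl | v2
  · exact hc.2 (by nlinarith)
  have u1 : 1 ≤ u := by omega
  have h2 : 0 < r - u * v := (pos_iff_pos_of_mul_pos
    (h1.symm ▸ mul_pos (show 0 < u + 1 by omega) (show 0 < v - 1 by omega))).2 (by omega)
  nlinarith

theorem br_arith' {p r u y : ℤ} (hp : 2 ≤ p) (hr0 : 0 ≤ r) (hr : 2 * r < p + 3) (hu : 1 ≤ u)
    (h : (p * u - 1) * y = (p - 1) * (1 + r * p)) : y = 1 ∨ u = 1 := by
  obtain ⟨w, hw⟩ : ∃ w, y = 1 + p * w := ⟨u * y - 1 - r * p + r, by linear_combination -h⟩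
  have y0 : 0 < y := (pos_iff_pos_of_mul_pos
    (h.symm ▸ mul_pos (show 0 < p - 1 by omega) (show 0 < 1 + r * p by positivity))).1 (by nlinarith)
  subst hw
  rcases br_arith hp hr0 hr (by nlinarith) ((mul_comm _ _).trans h) with rfl | rfl
  · exact Or.inl (by simp)
  · refine Or.inr (mul_left_cancel₀ (show p ≠ 0 by omega) ?_)
    have := mul_right_cancel₀ y0.ne' (h.trans (by ring : _ = (p - 1) * (1 + p * w)))
    linarith

theorem br_size {p r v d : ℤ} (hp : 2 ≤ p) (hr : 1 ≤ r) (hv : v ≤ p - 1)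
    (h : d = (p - 1) * (1 + r * p)) (h1 : d ≤ p * v) : False := by
  have : (p - 1) * (1 + r * p) ≤ (p - 1) * p := by nlinarith
  have := le_of_mul_le_mul_left this (by omega)
  nlinarith

variable {p : ℕ} [hp : Fact p.Prime] {G : Type u} [Group G] [Finite G] {x : G}

theorem nat_cancel {m k : ℕ} (h : (p : ℂ) * m = p * k) : m = k :=
  Nat.cast_injective (mul_left_cancel₀ (p_ne_zero_complex p) h)

theorem sum_pw {A : Type*} [AddCommMonoid A] (hx : orderOf x = p) [Fintype (zpowers x)]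
    (F : G → A) : ∑ u : zpowers x, F u = ∑ i : ZMod p, F (pw x i) :=
  (Function.Bijective.sum_comp (e := fun i : ZMod p => (⟨pw x i, pw_mem i⟩ : zpowers x))
    ⟨fun i j e => pw_injective hx (congrArg Subtype.val e), fun u =>
      (exists_pw hx u.2).imp fun i e => Subtype.ext e⟩ fun u => F u).symm

theorem sum_ech_units (j : (ZMod p)ˣ) : ∑ i : (ZMod p)ˣ, ech ((i : ZMod p) * (j : ZMod p)) = -1 := by
  have := sum_ech (j : ZMod p)
  rw [Syl1.sum_units, if_neg j.ne_zero, zero_mul, ech_zero] at this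
  linear_combination this

theorem sum_eta (A : Subgroup (ZMod p)ˣ) (j : (ZMod p)ˣ) :
    ∑ i : (ZMod p)ˣ, eta A (i * j) = -Nat.card A := by
  classical
  simp only [eta, finsum_eq_sum_of_fintype]
  rw [sum_comm]
  simp only [mul_assoc, ← Units.val_mul j, sum_ech_units]
  simp

theorem sum_eta_q (A : Subgroup (ZMod p)ˣ) [Fintype ((ZMod p)ˣ ⧸ A)] (j : (ZMod p)ˣ) :
    ∑ q : (ZMod p)ˣ ⧸ A, eta A (q.out * j) = -1 := by
  classical
  rw [← sum_ech_units j, sum_eq_sum_cosets A]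
  simp only [eta, finsum_eq_sum_of_fintype, Units.val_mul, mul_right_comm]

/-- `p` times the dimension of the fixed space -/
noncomputable def fm (p : ℕ) [Fact p.Prime] (x : G) (χ : G → ℂ) : ℂ := ∑ i : ZMod p, χ (pw x i)

theorem fm_eq (χ : G → ℂ) : fm p x χ = χ 1 + ∑ i : (ZMod p)ˣ, χ (pw x (i : ZMod p)) := by
  rw [fm, Syl1.sum_units, pw_zero]

theorem fm_const {χ : G → ℂ} {c : ℂ} (h : ∀ i : ZMod p, i ≠ 0 → χ (pw x i) = c) :
    fm p x χ = χ 1 + (p - 1) * c := by
  rw [fm_eq, sum_congr rfl fun (i : (ZMod p)ˣ) _ => h _ i.ne_zero, sum_const, card_univ,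
    ZMod.card_units, nsmul_eq_mul, Nat.cast_sub hp.out.one_le, Nat.cast_one]

theorem inner_ind_P [Fintype G] (hx : orderOf x = p) {χ : G → ℂ} (h : IsClassFunction G χ) :
    p * classInner χ (indFun (zpowers x) fun _ => 1) = fm p x χ := by
  have := Fintype.ofFinite (zpowers x)
  rw [classInner_indFun_right _ _ h, classInner_one_right, Nat.card_zpowers, hx, sum_pw hx,
    mul_inv_cancel_left₀ (p_ne_zero_complex p), fm]

theorem sum_mul_eq_zero {χ : G → ℂ} (h : IsCharacter G χ) (P : Subgroup G) [Fintype P]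
    (h0 : ∑ u : P, χ u = 0) (g : G) : ∑ u : P, χ (u * g) = 0 := by
  obtain ⟨n, ρ, rfl⟩ := h
  have h1 := classInner_one_rep (ρ.comp P.subtype)
  rw [classInner_one_right, show ∑ u : P, Representation.character (ρ.comp P.subtype) u = 0 from h0,
    mul_zero, eq_comm, Nat.cast_eq_zero, Submodule.finrank_eq_zero] at h1
  have h3 : ∑ u : P, ρ u = 0 := LinearMap.ext fun v => by
    have : (∑ u : P, ρ u) v ∈ Representation.invariants (ρ.comp P.subtype) := fun w => by
      conv_rhs => rw [← Equiv.sum_comp (Equiv.mulLeft w)]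
      simp [map_sum]
    rwa [h1] at this
  simp only [Representation.character, map_mul, ← map_sum, ← sum_mul, h3, zero_mul, map_zero]

theorem sum_deg_sq_le (s : Finset (IrrCharacter G)) :
    ∑ χ ∈ s, charDegree (χ : G → ℂ) ^ 2 ≤ Nat.card G := by
  have := sum_irr_one_sq (G := G)
  simp only [irr_one_eq] at this
  have h : ∑ χ : IrrCharacter G, charDegree (χ : G → ℂ) ^ 2 = Nat.card G := by exact_mod_cast this
  exact h ▸ sum_le_sum_of_subset (subset_univ s)

theorem eq_irrOne_of_deg [IsSimpleGroup G] (hG : ¬ IsMulCommutative G) {χ : IrrCharacter G}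
    (h : charDegree (χ : G → ℂ) = 1) : χ = irrOne G := by
  by_contra h1
  have h2 : (χ : G → ℂ) 1 = 1 := by rw [irr_one_eq, h, Nat.cast_one]
  have h3 := χ.2.charKer_eq_bot_of_simple fun e => h1 (Subtype.ext e)
  refine hG ⟨⟨fun a b => commutatorElement_eq_one_iff_mul_comm.1 ((eq_bot_iff_forall _).1 h3 _
    (χ.2.isCharacter.mem_charKer.2 ?_))⟩⟩
  obtain ⟨l, hl⟩ := χ.2.isCharacter.exists_hom h2
  simp [hl, commutatorElement_def]

theorem deg_irrOne : charDegree (irrOne G : G → ℂ) = 1 := charDegree_eq (by simp [irrOne])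

theorem deg_le_inner {H : Type*} [Group H] [Fintype H] (hH : ∀ a b : H, a * b = b * a) {ψ : H → ℂ}
    (h : IsCharacter H ψ) : ∃ w : ℕ, classInner ψ ψ = w ∧ charDegree ψ ≤ w := by
  obtain ⟨k, h1, -⟩ := h.exists_mult
  refine ⟨∑ l, k l ^ 2, by rw [h.isClassFunction.classInner_eq_sum_irr]; simp [h1, sq], ?_⟩
  rw [charDegree_eq (n := ∑ l, k l) (by
    rw [h.isClassFunction.apply_eq_sum_irr 1]
    simp [h1, fun l : IrrCharacter H => l.2.one_eq_one_of_comm hH])]
  exact sum_le_sum fun l _ => Nat.le_self_pow two_ne_zero _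

theorem sum_mult_deg [Fintype G] {f : G → ℂ} (hf : IsClassFunction G f) {k : IrrCharacter G → ℕ}
    (h : ∀ χ : IrrCharacter G, classInner f χ = k χ) {n : ℕ} (h1 : f 1 = n) :
    ∑ χ, k χ * charDegree (χ : G → ℂ) = n := by
  have := hf.apply_eq_sum_irr 1
  simp only [h, irr_one_eq, h1] at this
  exact_mod_cast this.symm

theorem sum_mult_mult [Fintype G] {f g : G → ℂ} (hf : IsClassFunction G f)
    {k l : IrrCharacter G → ℕ} (h : ∀ χ : IrrCharacter G, classInner f χ = k χ)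
    (h' : ∀ χ : IrrCharacter G, classInner g χ = l χ) :
    classInner f g = (∑ χ, k χ * l χ : ℕ) := by
  rw [hf.classInner_eq_sum_irr]; simp [h, h']

theorem mult_ind_le [Fintype G] {H K : Subgroup G} (hHK : H ≤ K) (χ : IrrCharacter G) {m n : ℕ}
    (hm : classInner (indFun H fun _ => 1) χ = m) (hn : classInner (indFun K fun _ => 1) χ = n) :
    n ≤ m := by
  have := Fintype.ofFinite K
  have := Fintype.ofFinite (H.subgroupOf K)
  obtain ⟨k, hk⟩ := ((isCharacter_one.indFun (H := H.subgroupOf K)).sub_irr isIrrCharacter_one (by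
    rw [classInner_indFun_left _ _ (isClassFunction_const 1), isIrrCharacter_one.classInner_self]
    exact one_ne_zero)).indFun.classInner_nat χ.2.isCharacter
  rw [indFun_sub, indFun_indFun hHK fun _ => 1, classInner_sub_left, hm, hn, sub_eq_iff_eq_add]
    at hk
  have : m = k + n := by exact_mod_cast hk
  omega

theorem Nx_of_ord2 {y : G} (y2 : orderOf y = 2) : Nx y = centralizer {y} := by
  rw [← centralizer_zpowers]
  refine le_antisymm (fun g hg => ?_) (centralizer_le_normalizer _)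
  rw [centralizer_zpowers, mem_centralizer_singleton_iff, ← mul_inv_eq_iff_eq_mul]
  exact ((mem_zpowers_ord2 (sq_of_ord2 y2)).1 (conj_mem_of_mem_normalizer hg
    (mem_zpowers y))).resolve_left (by simpa using ne_one_of_ord2 y2)

theorem index_cent (hx : orderOf x = p) :
    (centralizer {x}).index = Nat.card (autSub hx) * (Nx x).index := by
  rw [card_autSub, relIndex_mul_index]
  rw [← centralizer_zpowers]; exact centralizer_le_normalizer _

theorem e_mul_t (hx : orderOf x = p) : Nat.card (autSub hx) * (autSub hx).index + 1 = p := by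
  rw [card_mul_index, Nat.card_eq_fintype_card, ZMod.card_units, Nat.sub_add_cancel hp.out.one_le]

variable {M : Ideal AlgInt} [hM : PMod p M]

theorem SC.not_PB (h : SC p x) {χ : IrrCharacter G} (hχ : χ ∉ PB M G) {i : ZMod p} (hi : i ≠ 0) :
    (χ : G → ℂ) (pw x i) = 0 := by
  classical
  have h1 := sum_irr_mul_conj_self (pw x i)
  rw [← sum_add_sum_compl (PB M G), (h.syl1.pw_syl hi).PB_self, centralizer_pw h.ord hi, h.cent,
    h.card_P, add_eq_left] at h1
  simp only [Complex.mul_conj, ← Complex.ofReal_sum, Complex.ofReal_eq_zero] at h1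
  exact Complex.normSq_eq_zero.1 ((sum_eq_zero_iff_of_nonneg fun _ _ => Complex.normSq_nonneg _).1
    h1 χ (mem_compl.2 hχ))

theorem Syl1.Vc_eq_bot [IsSimpleGroup G] (h : Syl1 p x) {χ : IrrCharacter G} (hχ : χ ∈ PB M G)
    (h1 : χ ≠ irrOne G) (h0 : fm p x χ = 0) : Vc p x = ⊥ := by
  have := Fintype.ofFinite (zpowers x)
  rw [eq_bot_iff, ← χ.2.charKer_eq_bot_of_simple fun e => h1 (Subtype.ext e)]
  intro v hv
  have h2 := sum_mul_eq_zero χ.2.isCharacter (zpowers x) ((sum_pw h.ord _).trans h0) v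
  rw [sum_pw h.ord fun g => (χ : G → ℂ) (g * v), Syl1.sum_units, pw_zero, one_mul,
    sum_congr rfl fun (i : (ZMod p)ˣ) _ => h.PB_const hχ (pw_mem _)
      (mt (pw_eq_one h.ord).1 i.ne_zero) hv] at h2
  rw [χ.2.isCharacter.mem_charKer]
  rw [fm_eq] at h0
  linear_combination h2 - h0

theorem Syl1.sc (h : Syl1 p x) (h1 : Vc p x = ⊥) : SC p x :=
  ⟨h.ord, (eq_of_le_of_card_ge h.le_cent (by
    rw [h.card_cent, h1, card_bot, mul_one, Nat.card_zpowers, h.ord])).symm⟩

namespace D1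

variable {h : Syl1 p x} {N : Finset (IrrCharacter G)} {δ : IrrCharacter G → ℤ} {ε : ℤ}
  {μ : (ZMod p)ˣ → IrrCharacter G} (D : D1 M h N δ ε μ)
include D

theorem fm_N {χ : IrrCharacter G} (hχ : χ ∈ N) :
    fm p x χ = charDegree (χ : G → ℂ) + (p - 1) * δ χ := by
  rw [fm_const (D.apply_N χ hχ), irr_one_eq]

theorem fm_exc (j : (ZMod p)ˣ) :
    fm p x (μ j) = charDegree (μ j : G → ℂ) - ε * Nat.card (autSub h.ord) := by
  rw [fm_eq, sum_congr rfl fun (i : (ZMod p)ˣ) _ => D.apply_exc j _ i.ne_zero, ← mul_sum, sum_eta,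
    irr_one_eq]
  ring

theorem δ_one : δ (irrOne G) = 1 := by
  have : (1 : ℂ) = _ := D.apply_N _ D.one_mem 1 one_ne_zero
  exact_mod_cast this.symm

theorem dvd_N {χ : IrrCharacter G} (hχ : χ ∈ N) :
    charDegree (χ : G → ℂ) ∣ (centralizer {x}).index := by
  have := χ.2.isIntegral_central (pw x (1 : ZMod p))
  rw [D.apply_N χ hχ 1 one_ne_zero, pw_one h.ord, irr_one_eq] at this
  refine nat_dvd_of_isIntegral_div (charDegree_ne_zero χ) ?_
  rcases D.δ_val χ hχ with e | e <;> rw [e] at this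
  · simpa using this
  · simpa [neg_div] using this.neg

theorem dvd_exc (j : (ZMod p)ˣ) : charDegree (μ j : G → ℂ) ∣ (centralizer {x}).index := by
  have := Fintype.ofFinite ((ZMod p)ˣ ⧸ autSub h.ord)
  have h1 := IsIntegral.sum (s := univ) _ fun (q : (ZMod p)ˣ ⧸ autSub h.ord) _ =>
    (μ j).2.isIntegral_central (pw x (q.out : ZMod p))
  simp only [centralizer_pw h.ord (Units.ne_zero _), D.apply_exc j _ (Units.ne_zero _), ← sum_div,
    ← mul_sum, sum_eta_q, irr_one_eq] at h1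
  refine nat_dvd_of_isIntegral_div (charDegree_ne_zero _) ?_
  rcases D.ε_val with rfl | rfl
  · simpa [neg_div] using h1.neg
  · simpa using h1

theorem deg_eq (j : (ZMod p)ˣ) :
    ∑ χ ∈ N, δ χ * charDegree (χ : G → ℂ) = ε * charDegree (μ j : G → ℂ) := by
  have := D.reg 1 (by simpa using hp.out.one_lt.ne') j
  simp only [irr_one_eq] at this
  exact_mod_cast this

theorem deg_exc_eq (j : (ZMod p)ˣ) : charDegree (μ j : G → ℂ) = charDegree (μ 1 : G → ℂ) := by
  have := (D.deg_eq j).symm.trans (D.deg_eq 1)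
  rcases D.ε_val with rfl | rfl <;> simpa using this

open Classical in
theorem sum_PB {A : Type*} [AddCommMonoid A] (F : IrrCharacter G → A) {c : A}
    (hc : ∀ j, F (μ j) = c) : ∑ χ ∈ PB M G, F χ = ∑ χ ∈ N, F χ + (autSub h.ord).index • c := by
  rw [D.PB_eq, sum_union, ← D.card_exc, ← sum_const]
  · congr 1
    exact sum_congr rfl fun χ hχ => by obtain ⟨j, -, rfl⟩ := mem_image.1 hχ; exact hc j
  · refine disjoint_right.2 fun χ hχ => ?_
    obtain ⟨j, -, rfl⟩ := mem_image.1 hχ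
    exact D.exc_not j

theorem ne_one (j : (ZMod p)ˣ) : μ j ≠ irrOne G := fun e => D.exc_not j (e ▸ D.one_mem)

theorem two_le [IsSimpleGroup G] (hG : ¬ IsMulCommutative G) : 2 ≤ Nat.card (autSub h.ord) := by
  by_contra h1
  have h2 : N = {irrOne G} := (eq_of_subset_of_card_le (singleton_subset_iff.2 D.one_mem)
    (by rw [D.card, card_singleton]; omega)).symm
  have h3 := D.deg_eq 1
  rw [h2, sum_singleton, D.δ_one, deg_irrOne] at h3
  refine D.ne_one 1 (eq_irrOne_of_deg hG ?_)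
  rcases D.ε_val with rfl | rfl <;> omega

variable [IsSimpleGroup G] (hG : ¬ IsMulCommutative G) {r : ℕ} (hr : (Nx x).index = 1 + r * p)
  (r0 : r ≠ 0) (r1 : 2 * r < p + 3) (hv : Nat.card (Vc p x) < p)
include hG hr r0 r1 hv

theorem br_N {χ : IrrCharacter G} (hχ : χ ∈ N) (h1 : χ ≠ irrOne G) :
    (δ χ = 1 ∧ charDegree (χ : G → ℂ) = 1 + r * p) ∨
      (δ χ = -1 ∧ charDegree (χ : G → ℂ) + 1 = p) := by
  obtain ⟨y, hy⟩ := D.dvd_N hχ
  obtain ⟨m, hm, hm'⟩ := D.deg_N χ hχ
  have h2 := sum_deg_sq_le {χ}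
  rw [sum_singleton, ← (centralizer {x}).index_mul_card, h.card_cent, hy] at h2
  rw [index_cent h.ord, hr] at hy
  have h3 := e_mul_t h.ord
  have p2 := hp.out.two_le
  have d0 := Nat.pos_of_ne_zero (charDegree_ne_zero χ)
  have d1 : charDegree (χ : G → ℂ) ≠ 1 := fun e => h1 (eq_irrOne_of_deg hG e)
  generalize charDegree (χ : G → ℂ) = d, Nat.card (autSub h.ord) = e, (autSub h.ord).index = t,
    Nat.card (Vc p x) = v at *
  zify at hy h3
  have h4 : (d : ℤ) * (t * y) = (p - 1) * (1 + r * p) := by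
    linear_combination (-t : ℤ) * hy + (1 + r * p : ℤ) * h3
  refine (D.δ_val χ hχ).imp (fun e => ⟨e, ?_⟩) fun e => ⟨e, ?_⟩ <;> rw [e] at hm hm'
  · rcases br_arith (by omega) (by omega) (by omega) (by omega) (hm ▸ h4) with e | e
    · rw [e] at hm; omega
    · rw [e] at hm; zify; linarith
  · rw [neg_add_eq_sub] at hm
    rcases br_arith' (by omega) (by omega) (by omega) (by omega) (hm ▸ h4) with e | e
    · have y1 : y = 1 := Nat.eq_one_of_mul_eq_one_left (by exact_mod_cast e)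
      rw [e, mul_one] at h4
      rw [y1, mul_one, sq] at h2
      have h5 := Nat.le_of_mul_le_mul_left h2 d0
      zify at h5
      exact (br_size (by omega) (by omega) (by omega) h4 h5).elim
    · rw [e] at hm; omega

theorem br_exc : (ε = 1 ∧ charDegree (μ 1 : G → ℂ) = Nat.card (autSub h.ord)) ∨
    (ε = -1 ∧ (autSub h.ord).index * charDegree (μ 1 : G → ℂ) = 1 + r * p) := by
  classical
  obtain ⟨y, hy⟩ := D.dvd_exc 1
  obtain ⟨m, hm, hm'⟩ := D.deg_exc 1
  have h2 := sum_deg_sq_le (univ.image μ)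
  rw [sum_congr rfl (g := fun _ => charDegree (μ 1 : G → ℂ) ^ 2) fun χ hχ => by
      obtain ⟨j, -, rfl⟩ := mem_image.1 hχ; rw [D.deg_exc_eq],
    sum_const, D.card_exc, ← (centralizer {x}).index_mul_card, h.card_cent, hy, smul_eq_mul] at h2
  rw [index_cent h.ord, hr] at hy
  have h3 := e_mul_t h.ord
  have p2 := hp.out.two_le
  have d0 := Nat.pos_of_ne_zero (charDegree_ne_zero (μ 1))
  have d1 : charDegree (μ 1 : G → ℂ) ≠ 1 := fun e => D.ne_one 1 (eq_irrOne_of_deg hG e)
  have t0 : 0 < (autSub h.ord).index := Nat.pos_of_ne_zero FiniteIndex.index_ne_zero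
  generalize charDegree (μ 1 : G → ℂ) = d, Nat.card (autSub h.ord) = e, (autSub h.ord).index = t,
    Nat.card (Vc p x) = v at *
  zify at hy h3
  have h4 : (t * d : ℤ) * y = (p - 1) * (1 + r * p) := by
    linear_combination (-t : ℤ) * hy + (1 + r * p : ℤ) * h3
  refine D.ε_val.imp (fun e => ⟨e, ?_⟩) fun e => ⟨e, ?_⟩ <;> rw [e] at hm hm'
  · have h5 : (t * d : ℤ) = p * (t * m + 1) - 1 := by linear_combination (t : ℤ) * hm + h3
    rcases br_arith' (by omega) (by omega) (by omega) (by nlinarith) (h5 ▸ h4) with e | e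
    · have y1 : y = 1 := by exact_mod_cast e
      rw [e, mul_one] at h4
      rw [y1, mul_one, sq, mul_left_comm] at h2
      have h5 := Nat.le_of_mul_le_mul_left h2 d0
      zify at h5
      exact (br_size (by omega) (by omega) (by omega) h4 h5).elim
    · have : m = 0 := by nlinarith
      subst this
      omega
  · have h5 : (t * d : ℤ) = 1 + p * (t * m - 1) := by linear_combination (t : ℤ) * hm - h3
    rcases br_arith (by omega) (by omega) (by omega) (by nlinarith) (h5 ▸ h4) with e | e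
    · rw [e, mul_zero, add_zero] at h5
      exact absurd (Nat.eq_one_of_mul_eq_one_left (by exact_mod_cast h5)) d1
    · rw [e] at h5; zify; linarith

theorem br_count [DecidableEq (IrrCharacter G)] : ∃ a s : ℕ, Nat.card (autSub h.ord) = 1 + a * (r + 1) + s ∧
    ((N.erase (irrOne G)).filter (δ · = 1)).card = a ∧
    ((N.erase (irrOne G)).filter (¬ δ · = 1)).card = a * r + s ∧
    ((ε = 1 ∧ s = 0 ∧ charDegree (μ 1 : G → ℂ) = Nat.card (autSub h.ord)) ∨
      (ε = -1 ∧ (autSub h.ord).index * s = r + 1 ∧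
        charDegree (μ 1 : G → ℂ) + Nat.card (autSub h.ord) = p * s ∧
        (autSub h.ord).index * charDegree (μ 1 : G → ℂ) = 1 + r * p)) := by
  have h1 := D.deg_eq 1
  have h2 := D.card
  rw [← add_sum_erase _ _ D.one_mem, ← sum_filter_add_sum_filter_not _ (δ · = 1),
    sum_congr rfl (g := fun _ => (1 + r * p : ℤ)) fun χ hχ => ?_,
    sum_congr (s₁ := filter (¬ δ · = 1) _) rfl (g := fun _ => (1 - p : ℤ)) fun χ hχ => ?_,
    D.δ_one, deg_irrOne, sum_const, sum_const] at h1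
  · rw [← card_erase_add_one D.one_mem, ← card_filter_add_card_filter_not (δ · = 1)] at h2
    have h3 := e_mul_t h.ord
    have p0 : (p : ℤ) ≠ 0 := by have := hp.out.pos; omega
    generalize ((N.erase (irrOne G)).filter (δ · = 1)).card = a,
      ((N.erase (irrOne G)).filter (¬ δ · = 1)).card = b at *
    simp only [nsmul_eq_mul] at h1
    rcases D.br_exc hG hr r0 r1 hv with ⟨rfl, h4⟩ | ⟨rfl, h4⟩
    · have : (b : ℤ) = a * r := mul_left_cancel₀ p0 (by
        rw [h4, ← h2] at h1; push_cast at h1; linarith)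
      have : b = a * r := by exact_mod_cast this
      exact ⟨a, 0, by rw [← h2, this]; ring, rfl, this, Or.inl ⟨rfl, rfl, h4⟩⟩
    · generalize charDegree (μ 1 : G → ℂ) = f, Nat.card (autSub h.ord) = e,
        (autSub h.ord).index = t at *
      have h5 : (f + e : ℤ) = p * (b - a * r) := by rw [← h2]; push_cast at h1 ⊢; linarith
      obtain ⟨s, hs⟩ := Int.eq_ofNat_of_zero_le (a := b - a * r)
        (nonneg_of_mul_nonneg_right (a := (p : ℤ)) (by rw [← h5]; positivity)
          (by have := hp.out.pos; omega))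
      rw [hs] at h5
      refine ⟨a, s, by zify at h2 ⊢; linarith, rfl, by zify; linarith,
        Or.inr ⟨rfl, ?_, by exact_mod_cast h5, h4⟩⟩
      zify at h3 h4 ⊢
      exact mul_left_cancel₀ p0 (by linear_combination h4 + h3 - (t : ℤ) * h5)
  · obtain ⟨h3, h4⟩ := mem_filter.1 hχ
    obtain ⟨h5, h6⟩ := (D.br_N hG hr r0 r1 hv (mem_erase.1 h3).2 (mem_erase.1 h3).1).resolve_left
      fun e => h4 e.1
    rw [h5, ← h6]; push_cast; ring
  · obtain ⟨h3, h4⟩ := mem_filter.1 hχ
    obtain ⟨h5, h6⟩ := (D.br_N hG hr r0 r1 hv (mem_erase.1 h3).2 (mem_erase.1 h3).1).resolve_right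
      fun e => by omega
    rw [h5, h6]; push_cast; ring

theorem br_sc : SC p x := by
  classical
  obtain ⟨a, s, -, -, h1, ⟨rfl, -, h2⟩ | ⟨-, h2, -⟩⟩ := D.br_count hG hr r0 r1 hv
  · exact h.sc (h.Vc_eq_bot (D.exc_mem 1) (D.ne_one 1) (by rw [D.fm_exc, h2]; simp))
  · obtain ⟨χ, hχ⟩ := card_pos.1 (h1 ▸ Nat.add_pos_right _ (Nat.pos_of_ne_zero (by
      rintro rfl; simp at h2)))
    obtain ⟨h3, h4⟩ := mem_filter.1 hχ
    obtain ⟨h5, h6⟩ := (D.br_N hG hr r0 r1 hv (mem_erase.1 h3).2 (mem_erase.1 h3).1).resolve_left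
      fun e => h4 e.1
    refine h.sc (h.Vc_eq_bot (D.sub (mem_erase.1 h3).2) (mem_erase.1 h3).1 ?_)
    rw [D.fm_N (mem_erase.1 h3).2, h5, ← h6]; push_cast; ring

theorem br_fm {χ : IrrCharacter G} (hχ : χ ∈ N) (h1 : χ ≠ irrOne G) {m : ℕ}
    (hm : (p : ℂ) * m = fm p x χ) : (δ χ = 1 ∧ m = r + 1 ∧ charDegree (χ : G → ℂ) = 1 + r * p) ∨
      (¬ δ χ = 1 ∧ m = 0) := by
  rw [D.fm_N hχ] at hm
  refine (D.br_N hG hr r0 r1 hv hχ h1).imp (fun ⟨h2, h3⟩ => ⟨h2, ?_, h3⟩) fun ⟨h2, h3⟩ =>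
    ⟨by omega, ?_⟩
  · rw [h2, h3] at hm
    exact nat_cancel (hm.trans (by push_cast; ring))
  · rw [h2, eq_tsub_of_add_eq h3, Nat.cast_sub hp.out.one_le] at hm
    exact nat_cancel (hm.trans (by push_cast; ring))

theorem br_mult [Fintype G] : ∃ (m : IrrCharacter G → ℕ) (a s : ℕ),
    (∀ χ : IrrCharacter G, classInner (indFun (zpowers x) fun _ => 1) χ = m χ) ∧ m (irrOne G) = 1 ∧
    (∀ χ ∈ PB M G, χ ≠ irrOne G → m χ = 0 ∨ (charDegree (χ : G → ℂ) < p * m χ ∧
      (s = 0 → m χ = r + 1 ∧ charDegree (χ : G → ℂ) = 1 + r * p))) ∧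
    (∀ χ ∉ PB M G, charDegree (χ : G → ℂ) = p * m χ) ∧
    ∑ χ ∈ PB M G, m χ * charDegree (χ : G → ℂ) = 1 + (a * (r + 1) + s) * (1 + r * p) ∧
    Nat.card (autSub h.ord) = 1 + a * (r + 1) + s ∧
    ((s = 0 ∧ charDegree (μ 1 : G → ℂ) = Nat.card (autSub h.ord)) ∨
      (autSub h.ord).index * s = r + 1) := by
  classical
  have hs := D.br_sc hG hr r0 r1 hv
  obtain ⟨m, h1, -⟩ := (isCharacter_one.indFun (H := zpowers x)).exists_mult
  have h2 : ∀ χ : IrrCharacter G, (p : ℂ) * m χ = fm p x χ := fun χ => by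
    rw [← h1, isCharacter_one.indFun.classInner_comm χ.2.isCharacter,
      inner_ind_P h.ord χ.2.isClassFunction]
  obtain ⟨a, s, h3, h4, h5, h6⟩ := D.br_count hG hr r0 r1 hv
  have m1 : m (irrOne G) = 1 := by
    have := h2 (irrOne G)
    rw [D.fm_N D.one_mem, D.δ_one, deg_irrOne] at this
    exact nat_cancel (this.trans (by push_cast; ring))
  have h7 : ∀ j, m (μ j) = s := fun j => by
    have := h2 (μ j)
    rw [D.fm_exc, D.deg_exc_eq] at this
    refine nat_cancel (this.trans ?_)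
    rcases h6 with ⟨rfl, rfl, h6⟩ | ⟨rfl, -, h6, -⟩
    · simp [h6]
    · rw [← Nat.cast_mul, ← h6]; push_cast; ring
  refine ⟨m, a, s, h1, m1, fun χ hχ h8 => ?_, fun χ hχ => ?_, ?_, h3,
    h6.imp (fun h => h.2) fun h => h.2.1⟩
  · rcases D.cases χ hχ with h9 | ⟨j, rfl⟩
    · refine (D.br_fm hG hr r0 r1 hv h9 h8 (h2 χ)).symm.imp (fun h => h.2) fun ⟨_, h10, h11⟩ =>
        ⟨?_, fun _ => ⟨h10, h11⟩⟩
      have := hp.out.two_le
      rw [h10, h11]; nlinarith
    · rw [h7, D.deg_exc_eq]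
      refine h6.imp (fun h => h.2.1) fun ⟨_, h9, h10, _⟩ => ⟨?_, fun e => by simp [e] at h9⟩
      have := D.two_le hG
      omega
  · have := h2 χ
    rw [fm_const fun i hi => hs.not_PB hχ hi, mul_zero, add_zero, irr_one_eq] at this
    exact_mod_cast this.symm
  · rw [D.sum_PB (c := s * charDegree (μ 1 : G → ℂ)) _ fun j => by rw [h7, D.deg_exc_eq],
      ← add_sum_erase _ _ D.one_mem, ← sum_filter_add_sum_filter_not _ (δ · = 1),
      sum_congr rfl (g := fun _ => (r + 1) * (1 + r * p)) fun χ hχ => ?_,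
      sum_eq_zero (s := filter (¬ δ · = 1) _) fun χ hχ => ?_, m1, deg_irrOne, sum_const, h4]
    · rcases h6 with ⟨-, rfl, -⟩ | ⟨-, -, -, h6⟩
      · simp [mul_assoc]
      · rw [smul_eq_mul, smul_eq_mul, mul_left_comm _ s, h6]; ring
    · obtain ⟨h8, h9⟩ := mem_filter.1 hχ
      rw [((D.br_fm hG hr r0 r1 hv (mem_erase.1 h8).2 (mem_erase.1 h8).1 (h2 χ)).resolve_left
        fun e => h9 e.1).2, zero_mul]
    · obtain ⟨h8, h9⟩ := mem_filter.1 hχ
      obtain ⟨-, h10, h11⟩ := (D.br_fm hG hr r0 r1 hv (mem_erase.1 h8).2 (mem_erase.1 h8).1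
        (h2 χ)).resolve_right fun e => e.1 h9
      rw [h10, h11]

theorem br_geo (c : G ⧸ Nx x) (hc : c ≠ ox x) :
    Nat.card ↥(Nx x ⊓ stabilizer G c) = Nat.card (autSub h.ord) := by
  classical
  have hs := D.br_sc hG hr r0 r1 hv
  have := Fintype.ofFinite G
  have := Fintype.ofFinite (Nx x)
  obtain ⟨m, a, s, h1, m1, h2, h3, h4, h5, -⟩ := D.br_mult hG hr r0 r1 hv
  have hπ := isCharacter_one.indFun (H := Nx x)
  obtain ⟨n, h6, -⟩ := hπ.exists_mult
  have nm := fun χ => mult_ind_le le_normalizer χ (h1 χ) (h6 χ)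
  have n1 : n (irrOne G) = 1 := by
    have := h6 (irrOne G)
    rw [classInner_indFun_left _ _ (irrOne G).2.isClassFunction] at this
    exact_mod_cast this.symm.trans isIrrCharacter_one.classInner_self
  have s1 := sum_mult_deg (isClassFunction_indFun _ _) h1 (n := Nat.card (autSub h.ord) * (1 + r * p))
    (by rw [indFun_one, ← hs.cent, index_cent h.ord, hr, mul_one])
  have s2 := sum_mult_deg hπ.isClassFunction h6 (n := 1 + r * p) (by rw [indFun_one, hr, mul_one])
  have s3 : ∑ χ, n χ * m χ = r + 1 := by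
    have := inner_ind_P h.ord hπ.isClassFunction
    rw [sum_mult_mult hπ.isClassFunction h6 h1, fm_const (c := 1) fun i hi => ?_, indFun_one, hr]
      at this
    · exact nat_cancel (this.trans (by push_cast; ring))
    · rw [indFun_one_eq_perm, Nat.cast_eq_one, Nat.card_eq_one_iff_exists]
      exact ⟨⟨ox x, smul_ox.2 (le_normalizer (pw_mem i))⟩, fun c => Subtype.ext (by_contra fun e =>
        hi ((pw_eq_one h.ord).1 (hs.fix_o (pw_mem i) e c.2)))⟩
  have n0 : ∀ χ ∈ PB M G, χ ≠ irrOne G → n χ = 0 := fun χ hχ h7 => by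
    have := (sum_eq_sum_iff_of_le (s := univ.erase (irrOne G))
      (f := fun χ => n χ * charDegree (χ : G → ℂ)) (g := fun χ => p * (n χ * m χ)) fun χ hχ => by
        by_cases e : χ ∈ PB M G
        · rcases h2 χ e (mem_erase.1 hχ).1 with e | e
          · have := nm χ
            simp [show n χ = 0 by omega]
          · nlinarith [e.1]
        · rw [h3 χ e, mul_left_comm]).1 (by
      rw [← add_sum_erase _ _ (mem_univ (irrOne G)), n1] at s2 s3
      rw [deg_irrOne] at s2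
      rw [m1] at s3
      rw [← mul_sum, show ∑ χ ∈ univ.erase (irrOne G), n χ * m χ = r by omega]
      linarith) χ (by simpa using h7)
    rcases h2 χ hχ h7 with e | e
    · have := nm χ; omega
    · by_contra h8
      rw [mul_left_comm] at this
      exact e.1.ne (Nat.eq_of_mul_eq_mul_left (Nat.pos_of_ne_zero h8) this)
  rw [← sum_add_sum_compl (PB M G), h4, h5,
    sum_congr rfl (g := fun χ => p * (m χ * m χ)) fun χ hχ => by
      rw [h3 χ (mem_compl.1 hχ), mul_left_comm], ← mul_sum] at s1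
  rw [← sum_add_sum_compl (PB M G), sum_eq_single_of_mem _ (one_mem_PB p) fun χ h7 h8 => by
    rw [n0 χ h7 h8, zero_mul], n1, m1] at s3
  have s4 : ∑ χ ∈ (PB M G)ᶜ, m χ * m χ = r := Nat.eq_of_mul_eq_mul_left hp.out.pos (by linarith)
  have h7 := (sum_eq_sum_iff_of_le fun χ _ => Nat.mul_le_mul_right (m χ) (nm χ)).1
    (show ∑ χ ∈ (PB M G)ᶜ, n χ * m χ = _ by omega)
  have s5 : ∑ χ, n χ * n χ = r + 1 := by
    rw [← sum_add_sum_compl (PB M G), sum_eq_single_of_mem _ (one_mem_PB p) fun χ h7 h8 => by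
      rw [n0 χ h7 h8, zero_mul], n1, ← s4, add_comm]
    refine congrArg (· + 1) (sum_congr rfl fun χ hχ => ?_)
    rcases mul_eq_mul_right_iff.1 (h7 χ hχ) with e | e
    · rw [e]
    · have := nm χ
      rw [e, show n χ = 0 by omega]
  refine hs.geo_of_sum hr ?_ c hc
  have := sum_mult_mult hπ.isClassFunction h6 h6
  rw [s5, classInner_indFun_right _ _ hπ.isClassFunction, classInner_one_right, hs.card_N,
    inv_mul_eq_iff_eq_mul₀ (hs.card_N ▸ card_ne_zero _), indFun_one_eq_perm] at this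
  simp only at this
  exact_mod_cast this

theorem br_cases : r = 1 ∨ ∃ a s, Nat.card (autSub h.ord) = 1 + a * (r + 1) + s ∧
    ((s = 0 ∧ (autSub h.ord).index = 1) ∨ (autSub h.ord).index * s = r + 1) := by
  classical
  have := Fintype.ofFinite G
  have := Fintype.ofFinite (zpowers x)
  obtain ⟨m, a, s, h1, m1, h2, h3, -, h5, h6⟩ := D.br_mult hG hr r0 r1 hv
  refine or_iff_not_imp_right.2 fun hc => ?_
  obtain ⟨rfl, h0⟩ := h6.resolve_right fun e => hc ⟨a, s, h5, Or.inr e⟩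
  have ht : (autSub h.ord).index ≠ 1 := fun e => hc ⟨a, 0, h5, Or.inl ⟨rfl, e⟩⟩
  have h7 := e_mul_t h.ord
  have e2 := D.two_le hG
  have t2 : 2 ≤ (autSub h.ord).index := by
    have : (autSub h.ord).index ≠ 0 := FiniteIndex.index_ne_zero
    omega
  have hψ := (μ 1).2.isCharacter.mul (μ 1).2.isCharacter.conj
  obtain ⟨c, h8, -⟩ := hψ.exists_mult
  obtain ⟨w, h9, h10⟩ := deg_le_inner (fun a b : zpowers x => mul_comm' a b)
    ((μ 1).2.isCharacter.restrict (zpowers x))
  have s1 := sum_mult_deg hψ.isClassFunction h8 (n := Nat.card (autSub h.ord) ^ 2) (by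
    simp [irr_one_eq, h0, sq])
  have s2 := sum_mult_mult hψ.isClassFunction h8 h1
  rw [classInner_indFun_right _ _ hψ.isClassFunction] at s2
  have s3 : ∑ χ, c χ * m χ = w := by exact_mod_cast s2.symm.trans ((classInner_eq_one_right _ _).symm.trans h9)
  have c1 : c (irrOne G) = 1 := by
    exact_mod_cast (h8 (irrOne G)).symm.trans ((classInner_eq_one_right _ _).symm.trans
      (μ 1).2.classInner_self)
  rw [← add_sum_erase _ _ (mem_univ (irrOne G)), c1] at s1 s3
  rw [deg_irrOne] at s1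
  rw [m1] at s3
  have h11 := sum_le_sum (s := univ.erase (irrOne G)) (f := fun χ => c χ * m χ * (1 + r * p))
    (g := fun χ => (r + 1) * (c χ * charDegree (χ : G → ℂ))) fun χ hχ => by
      rw [mul_assoc, mul_left_comm (r + 1)]
      refine Nat.mul_le_mul_left _ ?_
      by_cases e : χ ∈ PB M G
      · rcases h2 χ e (mem_erase.1 hχ).1 with e | e
        · simp [e]
        · rw [(e.2 rfl).1, (e.2 rfl).2]
      · rw [h3 χ e]; nlinarith
  rw [← sum_mul, ← mul_sum] at h11
  rw [show charDegree (fun y : zpowers x => (μ 1 : G → ℂ) y) = _ from h0] at h10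
  generalize Nat.card (autSub h.ord) = e, (autSub h.ord).index = t,
    ∑ χ ∈ univ.erase (irrOne G), c χ * m χ = A,
    ∑ χ ∈ univ.erase (irrOne G), c χ * charDegree (χ : G → ℂ) = B at *
  obtain ⟨e, rfl⟩ := Nat.exists_eq_add_of_le' (show 1 ≤ e by omega)
  have h12 : e * (1 + r * p) ≤ e * ((r + 1) * (e + 2)) := by
    have : B = e * (e + 2) := by linarith
    have : e ≤ A := by omega
    nlinarith
  have h13 := Nat.le_of_mul_le_mul_left h12 (by omega)
  have : 2 * (e + 1) + 1 ≤ p := by nlinarith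
  by_contra h14
  have : 2 ≤ r := by omega
  nlinarith

end D1

omit hM in
theorem SC.psl_of_one [IsSimpleGroup G] (h : SC p x) (he : 2 ≤ Nat.card (autSub h.ord))
    (hr : (Nx x).index = 1 + 1 * p) : 3 < p ∧ Nonempty (G ≃* PSL(2, ZMod p)) := by
  obtain ⟨Z, hK⟩ := z0_of_ker (ox x) (zpowers x) (fun u hu => smul_ox.2 (le_normalizer hu))
    (fun g hg u hu => conj_mem_of_mem_normalizer (smul_ox.1 hg) hu) (fun u hu c hc => h.fix_o hu hc)
    (by rw [h.card_P, ← index_eq_card, hr]; ring) (fun u hu u1 g => h.cent_of_mem hu u1)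
    (h.card_P ▸ hp.out.two_le)
  obtain ⟨b, hb⟩ := Z.exists_ne (ox x)
  have h1 := Z.card_stab hb.symm
  rw [stabilizer_quotient, h.card_N, hK, h.card_P, mul_comm] at h1
  have h2 := Nat.eq_of_mul_eq_mul_right hp.out.pos h1
  rcases Z.prime_degree hb.symm hp.out (hK ▸ h.card_P) with h3 | h3 | ⟨q, -, -, -, ⟨K, R⟩, -⟩
  · refine absurd ‹_› (Z.not_simple hb.symm ((Z.tr3_iff_card hb.symm).2 (by rw [hK, h.card_P, h3.1]))
      ?_)
    rw [eq_tsub_of_add_eq h3.1]
    exact hp.out.even_sub_one (by omega)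
  · exact ⟨by omega, h3.2⟩
  · rcases R.normal.eq_bot_or_eq_top with rfl | rfl
    · obtain ⟨g, h3, h4⟩ := R.tr (ox x) b
      exact absurd (by rw [← h4, mem_bot.1 h3, one_smul]) hb
    · exact absurd (R.free x trivial _ (smul_ox.2 (le_normalizer (mem_zpowers x)))) h.syl1.ne_one

omit hM in
theorem Syl1.r_ne_zero [IsSimpleGroup G] (hG : ¬ IsMulCommutative G) (h : Syl1 p x) {r : ℕ}
    (hr : (Nx x).index = 1 + r * p) : r ≠ 0 := by
  rintro rfl
  rw [zero_mul, add_zero, index_eq_one, normalizer_eq_top_iff] at hr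
  rcases hr.eq_bot_or_eq_top with e | e
  · exact h.ne_one (zpowers_eq_bot.1 e)
  · exact hG ⟨⟨fun a b => comm_of_mem (H := zpowers x) inferInstance (e ▸ mem_top a) (e ▸ mem_top b)⟩⟩

omit hM in
theorem Syl1.two_le [IsSimpleGroup G] (hG : ¬ IsMulCommutative G) (h : Syl1 p x) :
    2 ≤ Nat.card (autSub h.ord) := by
  obtain ⟨M, hM⟩ := exists_isPModular p hp.out
  have : PMod p M := ⟨hM⟩
  obtain ⟨N, δ, ε, μ, D⟩ := h.exists_D1 (M := M)
  exact D.two_le hG

omit hM in
theorem Syl1.card_sylow (h : Syl1 p x) : Nat.card (Sylow p G) = (Nx x).index :=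
  (h.isP.toSylow h.idx).card_eq_index_normalizer

omit hM in
theorem Syl1.exists_r (h : Syl1 p x) : ∃ r, (Nx x).index = 1 + r * p := by
  obtain ⟨r, hr⟩ := (Nat.modEq_iff_dvd' Nat.card_pos).1 (card_sylow_modEq_one p G).symm
  have : 0 < Nat.card (Sylow p G) := Nat.card_pos
  exact ⟨r, by rw [← h.card_sylow, mul_comm]; omega⟩

omit hM in
theorem Syl1.card_eq (h : Syl1 p x) :
    Nat.card G = p * Nat.card (Vc p x) * Nat.card (autSub h.ord) * (Nx x).index := by
  rw [← (centralizer {x}).index_mul_card, h.card_cent, index_cent h.ord]; ring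

omit hM in
theorem br_main [IsSimpleGroup G] (hG : ¬ IsMulCommutative G) (h : Syl1 p x) {r : ℕ}
    (hr : (Nx x).index = 1 + r * p) (r1 : 2 * r < p + 3) (hv : Nat.card (Vc p x) < p) :
    (∃ (F : Type) (_ : Field F) (_ : Fintype F), Fintype.card F = p ∧ 3 < p ∧
      Nonempty (G ≃* PSL(2, F))) ∨ (∃ (m : ℕ) (F : Type) (_ : Field F) (_ : Fintype F),
      Fintype.card F = 2 ^ m ∧ p = 2 ^ m + 1 ∧ 3 < p ∧ Nonempty (G ≃* PSL(2, F))) := by
  obtain ⟨M, hM⟩ := exists_isPModular p hp.out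
  have : PMod p M := ⟨hM⟩
  obtain ⟨N, δ, ε, μ, D⟩ := h.exists_D1 (M := M)
  have r0 := h.r_ne_zero hG hr
  have hs := D.br_sc hG hr r0 r1 hv
  have geo := D.br_geo hG hr r0 r1 hv
  have e2 := D.two_le hG
  by_cases hr1 : r = 1
  · subst hr1
    exact Or.inl ⟨ZMod p, _, _, ZMod.card p, hs.psl_of_one e2 hr⟩
  obtain ⟨a, s, h1, h2⟩ := (D.br_cases hG hr r0 r1 hv).resolve_left hr1
  have h3 := e_mul_t h.ord
  have exy : ∀ q : ℕ, q.Prime → q ∣ Nat.card (autSub h.ord) →
      ∃ y ∈ Nx x, y ∉ zpowers x ∧ orderOf y = q := fun q hq hd => by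
    obtain ⟨y, h4, h5⟩ := exists_mem_orderOf_eq_prime (H := Nx x) hq (hs.card_N ▸ hd.mul_left _)
    refine ⟨y, h4, fun e => hs.not_dvd_e ?_, h5⟩
    exact ((Nat.prime_dvd_prime_iff_eq hq hp.out).1
      (h5 ▸ orderOf_dvd_of_pow_eq_one (hs.pow_p e))).symm.dvd.trans hd
  have h4 : r + 1 ∣ p * (Nat.card (autSub h.ord) * (autSub h.ord).index) := by
    obtain ⟨y, h4, h5, -⟩ := exy _ (Nat.minFac_prime (by omega)) (Nat.minFac_dvd _)
    have h6 := card_subgroup_dvd_card (Nx y)
    rw [hs.card_Nx hr geo r0 h4 h5, ← (Nx x).index_mul_card, hr, hs.card_N, ← mul_assoc] at h6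
    have h7 := Nat.dvd_of_mul_dvd_mul_right (by omega) h6
    refine (Nat.dvd_add_right h7).1 ⟨p * p, ?_⟩
    nlinarith
  rcases h2 with ⟨rfl, h2⟩ | h2
  · exfalso
    rw [h2, mul_one] at h3 h4
    have h5 : r + 1 ∣ 2 := by
      refine (Nat.dvd_add_right (Dvd.intro (a * (a * (r + 1) + 3)) rfl)).1 ?_
      convert h4 using 1
      rw [h1] at h3 ⊢
      rw [← h3]; ring
    have := Nat.le_of_dvd two_pos h5
    omega
  have t0 : 0 < (autSub h.ord).index := Nat.pos_of_ne_zero FiniteIndex.index_ne_zero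
  obtain rfl : s = 1 := by
    rw [← h2, ← mul_assoc, mul_comm (autSub h.ord).index] at h4
    have h5 := Nat.dvd_of_mul_dvd_mul_right t0 h4
    have h6 : s.Coprime (Nat.card (autSub h.ord)) := by
      rw [h1, ← h2, add_assoc, ← mul_assoc, ← add_one_mul, Nat.coprime_add_mul_right_right]
      exact s.coprime_one_right
    refine ((Nat.dvd_prime hp.out).1 (h6.dvd_of_dvd_mul_right h5)).resolve_right fun e => ?_
    nlinarith
  rw [mul_one] at h2
  rw [h2] at h3
  have p2 : Odd p := hp.out.odd_of_ne_two (by nlinarith)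
  obtain ⟨y, h5, h6, y2⟩ := exy 2 Nat.prime_two (by
    rw [← h3, Nat.odd_add_one, Nat.not_odd_iff_even, Nat.even_mul] at p2
    refine p2.elim Even.two_dvd fun e => ?_
    rw [h1, add_right_comm]
    exact dvd_add dvd_rfl (e.two_dvd.mul_left _))
  have hC := Nx_of_ord2 y2
  have h7 := hs.card_Nx hr geo r0 h5 h6
  have h8 := hs.card_inf hr geo r0 h5 h6
  rw [hC] at h7 h8
  have h9 := fun c => hs.conj_of_cent hr geo r0 h5 h6 y2 (c := c) (by rw [mul_comm, h3])
  have h10 : ∀ c ∈ centralizer {y}, c * c = 1 := sq_of_index (E := Nx x)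
    (fun c hc e => sq_of_ord2 ((orderOf_isConj (h9 c hc e)).symm.trans y2))
    (by rw [inf_comm, h7, h8]; exact Nat.mul_lt_mul_of_pos_right (by omega) (by omega))
  have h11 := (hs.compl inf_le_left (hs.inf_Nx_le h6 h5)).2.1
  rw [hC] at h11
  have yC : y ∈ centralizer {y} := mem_centralizer_singleton_iff.2 rfl
  have h12 : ∀ c ∈ centralizer {y}, c ≠ 1 → c ∈ Nx x → c = y := fun c hc c1 e =>
    invol_eq_of_isCyclic h11 ⟨e, hc⟩ ⟨h5, yC⟩ (ord2_iff.2 ⟨h10 c hc, c1⟩) y2
  have h13 : Nat.card (autSub h.ord) = 2 := by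
    refine le_antisymm ?_ e2
    rw [← h8, ← y2, ← Nat.card_zpowers]
    refine card_le_of_le fun c hc => ?_
    by_cases c1 : c = 1
    · exact c1 ▸ one_mem _
    · exact h12 c hc.2 c1 hc.1 ▸ mem_zpowers c
  obtain ⟨F, _, _, h14, h15⟩ := psl_even_of_cent (ne_one_of_ord2 y2) h10 (fun c hc c1 => by
    by_cases e : c ∈ Nx x
    · rw [h12 c hc c1 e]
    · exact h9 c hc e) h7 (by
    rw [h13] at h3
    rw [← (Nx x).index_mul_card, hr, hs.card_N, h13, ← h3, show (r + 1) * 2 - 1 = 2 * r + 1 by omega]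
    ring)
  obtain ⟨m, hm⟩ := IsPGroup.iff_card.1 (show IsPGroup 2 (centralizer ({y} : Set G)) from
    fun c => ⟨1, Subtype.ext (by rw [pow_one, sq]; exact h10 c c.2)⟩)
  exact Or.inr ⟨m, F, _, ‹_›, by rw [h14, ← h7, hm], by rw [← hm, h7, mul_comm, h3],
    by rw [h13] at h3; omega, h15⟩

theorem commutator_le_sup {G : Type*} [Group G] {H K : Subgroup G} [K.Normal] (h : H ⊔ K = ⊤) :
    commutator G ≤ ⁅H, H⁆ ⊔ K := by
  have h1 : (⊤ : Subgroup G).map (QuotientGroup.mk' K) = H.map (QuotientGroup.mk' K) := by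
    rw [← h, Subgroup.map_sup, QuotientGroup.map_mk'_self, sup_bot_eq]
  rw [← QuotientGroup.ker_mk' K, ← comap_map_eq, ← map_le_iff_le_comap, commutator_def,
    Subgroup.map_commutator, Subgroup.map_commutator, h1]

omit hM in
theorem SC.simple (h : SC p x) (hperf : commutator G = ⊤)
    (hn : Nat.card (Sylow p G) < (p + 1) ^ 2) : IsSimpleGroup G := by
  have := nontrivial_of_ne x 1 h.syl1.ne_one
  refine ⟨fun K hK => or_iff_not_imp_right.2 fun h1 => by_contra fun h2 => ?_⟩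
  have h3 : Nx x ⊔ K ≠ ⊤ := fun e => by
    obtain ⟨f, -, hf⟩ := h.exists_hom
    have h4 : zpowers x ⊔ K = ⊤ := top_le_iff.1 (hperf.ge.trans ((commutator_le_sup e).trans
      (sup_le_sup_right (commutator_le.2 fun a ha b hb => (hf (⟨a, ha⟩ * ⟨b, hb⟩ * (⟨a, ha⟩ : Nx x)⁻¹ *
        (⟨b, hb⟩ : Nx x)⁻¹)).1 (by simp only [map_mul, map_inv]; simp [mul_comm])) _)))
    refine h1 (top_le_iff.1 (hperf.ge.trans ((commutator_le_sup h4).trans (sup_le ?_ le_rfl))))
    exact (commutator_le.2 fun a ha b hb => (commutatorElement_eq_one_iff_mul_comm.2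
      (comm_of_mem (H := zpowers x) inferInstance ha hb)).symm ▸ one_mem K)
  have h4 : ∀ u ∈ zpowers x, u ∈ K → u = 1 := fun u hu e => by
    by_contra h4
    obtain ⟨i, rfl⟩ := exists_pw h.ord hu
    refine h3 ((h.syl1.isP.toSylow h.syl1.idx).normalizer_sup_eq_top' ?_)
    exact (zpowers_pw h.ord (mt (pw_eq_one h.ord).2 h4)).ge.trans (zpowers_le.2 e)
  have h5 : Nx x ⊓ K = ⊥ := (eq_bot_iff_forall _).2 fun k hk => h4 k (h.cent_of_mem (mem_zpowers x)
    h.syl1.ne_one (mul_inv_eq_iff_eq_mul.1 (mul_inv_eq_one.1 (h4 _ (mul_mem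
      (conj_mem_of_mem_normalizer hk.1 (mem_zpowers x)) (inv_mem (mem_zpowers x))) (by
        rw [mul_assoc, mul_assoc, ← mul_assoc x]
        exact mul_mem hk.2 (hK.conj_mem _ (inv_mem hk.2) x)))))) hk.2
  have h6 : (Nx x).index = (Nx x ⊔ K).index * Nat.card K := by
    have h6 := (Nx x ⊔ K).index_mul_card
    rw [card_sup_of_disjoint le_normalizer_of_normal h5, ← (Nx x).index_mul_card] at h6
    exact Nat.eq_of_mul_eq_mul_right Nat.card_pos (h6.symm.trans (by ring))
  have h7 : p ∣ Nat.card K - 1 := by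
    have := Core.card_dvd_of_free_conj (zpowers x) ((K : Set G) \ {1})
      (fun g hg u hu => ⟨hK.conj_mem u hu.1 g, by simpa using hu.2⟩) fun g hg u hu e => by
        by_contra h1
        exact hu.2 (h4 u (h.cent_of_mem hg h1 (mul_inv_eq_iff_eq_mul.1 e).symm) hu.1)
    rwa [Set.ncard_diff_singleton_of_mem (one_mem K), ← Nat.card_coe_set_eq, h.card_P] at this
  have h8 := (one_lt_card_iff_ne_bot K).2 h2
  have h9 := Nat.le_of_dvd (by omega) h7
  have h10 := card_sylow_modEq_one p G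
  rw [h.syl1.card_sylow, h6] at h10 hn
  have h11 : (Nx x ⊔ K).index ≡ 1 [MOD p] := by
    simpa using (((Nat.modEq_iff_dvd' h8.le).2 h7).mul_left _).trans h10
  have h12 := one_lt_index_of_ne_top h3
  have := Nat.le_of_dvd (by omega) ((Nat.modEq_iff_dvd' h12.le).1 h11.symm)
  nlinarith [Nat.mul_le_mul (show p + 1 ≤ (Nx x ⊔ K).index by omega) (show p + 1 ≤ Nat.card K by omega)]

theorem s0996 {G : Type*} [Group G] [Finite G] (hperf : commutator G = ⊤) (p : ℕ) [Fact p.Prime] (z : G) (hz : orderOf z = p) (hC : Subgroup.centralizer ({z} : Set G) = Subgroup.zpowers z) (hn : 2 * Nat.card (Sylow p G) < (p + 1) * (p + 2)) : (∃ (F : Type) (_ : Field F) (_ : Fintype F), Fintype.card F = p ∧ 3 < p ∧ Nonempty (G ≃* Matrix.ProjectiveSpecialLinearGroup (Fin 2) F)) ∨ (∃ (m : ℕ) (F : Type) (_ : Field F) (_ : Fintype F), Fintype.card F = 2 ^ m ∧ p = 2 ^ m + 1 ∧ 3 < p ∧ Nonempty (G ≃* Matrix.ProjectiveSpecialLinearGroup (Fin 2) F)) := by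
  have h : SC p z := ⟨hz, hC⟩
  have := h.simple hperf (by nlinarith)
  have hp : p.Prime := Fact.out
  obtain ⟨r, hr⟩ := h.syl1.exists_r
  rw [h.syl1.card_sylow, hr] at hn
  refine br_main (fun hc => h.syl1.ne_one ?_) h.syl1 hr
    (Nat.lt_of_mul_lt_mul_right (a := p) (by nlinarith)) ?_
  · exact (eq_bot_iff_forall _).1 ((commutator_eq_bot_iff G).2 hc) z (hperf ▸ mem_top z)
  · have := h.syl1.card_cent
    rw [hC, h.card_P] at this
    have := hp.two_le
    nlinarith

theorem not_comm_of_not_cyclic {G : Type*} [Group G] [IsSimpleGroup G] (hG : ¬ IsCyclic G) :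
    ¬ IsMulCommutative G := fun h => by
  have := Fact.mk (card_prime_of_comm h)
  exact hG (isCyclic_of_prime_card rfl)

theorem exists_syl1 {G : Type u} [Group G] [Finite G] {p : ℕ} [hp : Fact p.Prime]
    (h1 : p ∣ Nat.card G) (h2 : ¬ p ^ 2 ∣ Nat.card G) : ∃ x : G, Syl1 p x := by
  obtain ⟨x, hx⟩ := exists_prime_orderOf_dvd_card' p h1
  refine ⟨x, hx, fun e => h2 ?_⟩
  rw [← (zpowers x).index_mul_card, Nat.card_zpowers, hx, sq]
  exact Nat.mul_dvd_mul_right e p

theorem s0999 {G : Type*} [Group G] [Finite G] [IsSimpleGroup G] (hG : ¬ IsCyclic G) (p : ℕ) (hp : p.Prime) (hdvd : p ∣ Nat.card G) (hbig : Nat.card G < p ^ 3) : (∃ (F : Type) (_ : Field F) (_ : Fintype F), Fintype.card F = p ∧ 3 < p ∧ Nonempty (G ≃* Matrix.ProjectiveSpecialLinearGroup (Fin 2) F)) ∨ (∃ (m : ℕ) (F : Type) (_ : Field F) (_ : Fintype F), Fintype.card F = 2 ^ m ∧ p = 2 ^ m + 1 ∧ 3 < p ∧ Nonempty (G ≃* Matrix.ProjectiveSpecialLinearGroup (Fin 2) F)) := by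
  have := Fact.mk hp
  have hG' := not_comm_of_not_cyclic hG
  obtain ⟨x, h⟩ := exists_syl1 hdvd fun h2 => by
    obtain ⟨P⟩ : Nonempty (Sylow p G) := inferInstance
    have h3 := Nat.le_of_dvd Nat.card_pos (P.pow_dvd_card_of_pow_dvd_card h2)
    have h4 : P.index < p := by
      rw [← P.index_mul_card] at hbig
      nlinarith
    have h5 : Nat.card (Sylow p G) = 1 := (card_sylow_modEq_one p _).eq_of_lt_of_lt
      ((Nat.le_of_dvd (Nat.pos_of_ne_zero FiniteIndex.index_ne_zero) P.card_dvd_index).trans_lt h4)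
      hp.one_lt
    have := (Nat.card_eq_one_iff_unique.1 h5).1
    rcases P.normal_of_subsingleton.eq_bot_or_eq_top with e | e
    · exact P.ne_bot_of_dvd_card hdvd e
    · exact not_isPGroup_of_simple hG' ((e ▸ P.isPGroup').of_equiv topEquiv)
  obtain ⟨r, hr⟩ := h.exists_r
  have r0 := Nat.pos_of_ne_zero (h.r_ne_zero hG' hr)
  have e2 := h.two_le hG'
  have v0 : 0 < Nat.card (Vc p x) := Nat.card_pos
  rw [h.card_eq, hr, mul_assoc, mul_assoc, pow_succ'] at hbig
  have h1 := Nat.lt_of_mul_lt_mul_left hbig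
  refine br_main hG' h hr (Nat.lt_of_mul_lt_mul_right (a := p) ?_)
    (Nat.lt_of_mul_lt_mul_right (a := p) ?_)
  · nlinarith [Nat.mul_le_mul v0 (Nat.mul_le_mul_right (1 + r * p) e2)]
  · nlinarith [Nat.mul_le_mul_left (Nat.card (Vc p x)) (Nat.mul_le_mul_right (1 + r * p) e2),
      Nat.mul_le_mul_right p r0]

theorem s0995 {G : Type*} [Group G] [Finite G] (hperf : commutator G = ⊤) (p : ℕ) [Fact p.Prime] (z : G) (hz : orderOf z = p) (hC : Subgroup.centralizer ({z} : Set G) = Subgroup.zpowers z) : ∃ n t : ℕ, t = Nat.card {c : ConjClasses G // ∃ g : G, ConjClasses.mk g = c ∧ orderOf g = p} ∧ t ∣ p - 1 ∧ Nat.card (Sylow p G) = 1 + n * p ∧ Nat.card G * t = (p - 1) * p * (1 + n * p) := by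
  have h : SC p z := ⟨hz, hC⟩
  obtain ⟨r, hr⟩ := h.syl1.exists_r
  have h1 := eq_tsub_of_add_eq (e_mul_t hz)
  refine ⟨r, (autSub hz).index, ?_, Dvd.intro_left _ h1, h.syl1.card_sylow.trans hr, ?_⟩
  · refine Nat.card_eq_of_bijective (fun q : (ZMod p)ˣ ⧸ autSub hz => ⟨ConjClasses.mk
      (pw z (q.out : ZMod p)), _, rfl, orderOf_pw hz q.out.ne_zero⟩) ⟨fun a b e => ?_, ?_⟩
    · obtain ⟨c, h2, h3⟩ := (isConj_pw_iff hz a.out.ne_zero).1
        (ConjClasses.mk_eq_mk_iff_isConj.1 (congrArg Subtype.val e))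
      rw [← a.out_eq', ← b.out_eq', QuotientGroup.eq, show b.out = c * a.out from Units.ext h3]
      simpa using h2
    · rintro ⟨_, g, rfl, hg⟩
      obtain ⟨y, h2, h3, h4⟩ := exists_isConj_mem_sylow (h.syl1.isP.toSylow h.syl1.idx) (k := 1)
        (hg.trans (pow_one p).symm)
      obtain ⟨i, rfl⟩ := exists_pw hz h2
      have hi : i ≠ 0 := by
        rintro rfl
        exact (Fact.out : p.Prime).one_lt.ne (by simpa [pw_zero] using h4)
      refine ⟨Units.mk0 i hi, Subtype.ext (ConjClasses.mk_eq_mk_iff_isConj.2 (IsConj.trans ?_ h3))⟩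
      obtain ⟨c, hc⟩ := QuotientGroup.mk_out_eq_mul (autSub hz) (Units.mk0 i hi)
      exact ((isConj_pw_iff hz hi).2 ⟨c, c.2, by simp [hc, mul_comm]⟩).symm
  · rw [← (Nx z).index_mul_card, hr, h.card_N, ← h1]; ring

theorem s1001 {G : Type*} [Group G] [Finite G] [IsSimpleGroup G] (p a b : ℕ) (hp : p.Prime) (hG : Nat.card G = p * 3 ^ a * 2 ^ b) (x : G) (hx : orderOf x = p) : Subgroup.centralizer ({x} : Set G) = Subgroup.zpowers x := by
  have := Fact.mk hp
  by_cases h : p = 3 ∨ p = 2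
  · have := isSolvable_of_card_dvd_pow_mul_pow (a := a + 1) (b := b + 1) Nat.prime_three
      Nat.prime_two G (by
        rw [hG]
        rcases h with rfl | rfl
        · exact ⟨2, by ring⟩
        · exact ⟨3, by ring⟩)
    have h1 := IsSimpleGroup.comm_iff_isSolvable.2 this
    refine le_antisymm ?_ (zpowers_le.2 (mem_centralizer_singleton_iff.2 rfl))
    rcases (show (zpowers x).Normal from ⟨fun u hu g => by simpa [h1 g u]⟩).eq_bot_or_eq_top
      with e | e
    · exact absurd (by simpa [zpowers_eq_bot.1 e] using hx) hp.one_lt.ne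
    · exact e ▸ le_top
  push Not at h
  have h1 : Syl1 p x := ⟨hx, fun e => by
    have h2 := (zpowers x).index_mul_card
    rw [Nat.card_zpowers, hx, hG, mul_assoc, mul_comm] at h2
    rw [Nat.eq_of_mul_eq_mul_left hp.pos h2] at e
    rcases (Nat.Prime.dvd_mul hp).1 e with e | e
    · exact h.1 ((Nat.prime_dvd_prime_iff_eq hp Nat.prime_three).1 (hp.dvd_of_dvd_pow e))
    · exact h.2 ((Nat.prime_dvd_prime_iff_eq hp Nat.prime_two).1 (hp.dvd_of_dvd_pow e))⟩
  rw [← centralizer_zpowers]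
  exact S0904.result 3 2 p a b Nat.prime_three Nat.prime_two (by decide) h.1.symm h.2.symm
    (by rw [hG]; ring) (h1.isP.toSylow h1.idx)

end Cfsg.Agent.Inv
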