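import Mathlib

/-! Lattices over the p-adic integers for a group with a Sylow subgroup of prime order:
linear algebra part. -/

set_option autoImplicit false
set_option linter.unusedVariables false
set_option linter.unusedSectionVars false

namespace Cfsg.Agent.Inv

open Finset Module

variable {p : ℕ} [hp : Fact p.Prime]

open Cardinal in
theorem exists_ringHom_padicInt : Nonempty (ℤ_[p] →+* ℂ) := by
  have h1 : #ℤ_[p] ≤ 𝔠 := by
    have : Function.Injective (fun (x : ℤ_[p]) (n : ℕ) => (PadicInt.toZModPow n x).val) := by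
      intro x y h
      refine PadicInt.ext_of_toZModPow.1 fun n => ?_
      have : NeZero (p ^ n) := ⟨pow_ne_zero _ hp.out.ne_zero⟩
      exact ZMod.val_injective _ (congrFun h n)
    simpa using mk_le_of_injective this
  have h2 : #ℚ_[p] ≤ 𝔠 := by
    have : Function.Surjective (fun (x : ℤ_[p] × ℤ_[p]) => (x.1 : ℚ_[p]) / x.2) := by
      intro z
      obtain ⟨a, b, hb, rfl⟩ := IsFractionRing.div_surjective (A := ℤ_[p]) z
      exact ⟨(a, b), rfl⟩
    refine (mk_le_of_surjective this).trans ?_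
    rw [mk_prod]
    simpa using (mul_le_mul' h1 h1).trans_eq continuum_mul_self
  have h3 : 𝔠 ≤ #ℚ_[p] := continuum_le_cardinal_of_nontriviallyNormedField _
  have h4 : #(AlgebraicClosure ℚ_[p]) = 𝔠 := by
    refine le_antisymm ((Algebra.IsAlgebraic.cardinalMk_le_max ℚ_[p] _).trans
      (max_le h2 aleph0_le_continuum)) (h3.trans (mk_le_of_injective
        (algebraMap ℚ_[p] (AlgebraicClosure ℚ_[p])).injective))
  obtain ⟨e⟩ := IsAlgClosed.ringEquiv_of_equiv_of_charZero (K := AlgebraicClosure ℚ_[p]) (L := ℂ)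
    (by rw [h4]; exact aleph0_lt_continuum) (Cardinal.eq.1 (h4.trans Cardinal.mk_complex.symm))
  exact ⟨e.toRingHom.comp ((algebraMap ℚ_[p] _).comp (algebraMap ℤ_[p] ℚ_[p]))⟩

theorem padic_p_ne_zero : (p : ℤ_[p]) ≠ 0 := by exact_mod_cast hp.out.ne_zero

theorem padic_isUnit_of_not_dvd {a : ℤ_[p]} (h : ¬ (p : ℤ_[p]) ∣ a) : IsUnit a := by
  by_contra h'
  exact h ((PadicInt.norm_lt_one_iff_dvd a).1 (PadicInt.not_isUnit_iff.1 h'))

theorem padic_isUnit_natCast {m : ℕ} (h : ¬ p ∣ m) : IsUnit (m : ℤ_[p]) := by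
  refine padic_isUnit_of_not_dvd fun h' => h ?_
  have := (PadicInt.norm_lt_one_iff_dvd _).2 h'
  have h2 := (PadicInt.norm_int_lt_one_iff_dvd (p := p) (m : ℤ)).1 (by simpa using this)
  exact_mod_cast h2

variable {Y : Type*} [AddCommGroup Y] [Module ℤ_[p] Y] [Module.Free ℤ_[p] Y]
  [Module.Finite ℤ_[p] Y]

theorem p_smul_inj {a b : Y} (h : (p : ℤ_[p]) • a = (p : ℤ_[p]) • b) : a = b :=
  smul_right_injective Y padic_p_ne_zero h

theorem exists_pow_dichotomy (S : Set (End ℤ_[p] Y))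
    (h : ∀ u : End ℤ_[p] Y, u * u = u → (∀ s ∈ S, s * u = u * s) → u = 0 ∨ u = 1)
    {γ : End ℤ_[p] Y} (hγ : ∀ s ∈ S, s * γ = γ * s) :
    ∃ k : ℕ, ∃ δ : End ℤ_[p] Y, (∀ s ∈ S, s * δ = δ * s) ∧
      (γ ^ (k + 1) = (p : ℤ_[p]) • δ ∨ γ ^ (k + 1) = 1 + (p : ℤ_[p]) • δ) := by
  classical
  let b := Module.Free.chooseBasis ℤ_[p] Y
  let φ := LinearMap.toMatrixAlgEquiv b
  let T : Set (Matrix _ _ ℤ_[p]) := Set.range fun k : ℕ => φ γ ^ (k + 1)
  have : CompactSpace (Matrix (Free.ChooseBasisIndex ℤ_[p] Y) (Free.ChooseBasisIndex ℤ_[p] Y)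
    ℤ_[p]) := Pi.compactSpace
  obtain ⟨m, hm, hmm⟩ := exists_idempotent_in_compact_subsemigroup
    (fun r => continuous_mul_const r) (closure T) (Set.Nonempty.closure (Set.range_nonempty _))
    isClosed_closure.isCompact (fun x hx y hy => map_mem_closure₂ continuous_mul hx hy (by
      rintro _ ⟨i, rfl⟩ _ ⟨j, rfl⟩
      exact ⟨i + j + 1, by simp only [← pow_add]; congr 1; ring⟩))
  have hc : ∀ s ∈ S, s * φ.symm m = φ.symm m * s := by
    intro s hs
    apply φ.injective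
    simp only [map_mul, AlgEquiv.apply_symm_apply]
    refine closure_minimal (t := {a | φ s * a = a * φ s}) ?_
      (isClosed_eq (continuous_const_mul _) (continuous_mul_const _)) hm
    rintro _ ⟨i, rfl⟩
    have : Commute (φ s) (φ γ) := by
      have := congrArg φ (hγ s hs)
      rwa [map_mul, map_mul] at this
    exact (this.pow_right _).eq
  have hU : IsOpen {a : Matrix _ _ ℤ_[p] | ∀ i j, ‖a i j - m i j‖ < 1} := by
    simp only [Set.setOf_forall]
    refine isOpen_iInter_of_finite fun i => isOpen_iInter_of_finite fun j => ?_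
    exact isOpen_lt (by fun_prop) continuous_const
  obtain ⟨_, h1, k, rfl⟩ := mem_closure_iff.1 hm _ hU (by simp)
  choose d hd using fun i j => (PadicInt.norm_lt_one_iff_dvd _).1 (h1 i j)
  have h2 : γ ^ (k + 1) = φ.symm m + (p : ℤ_[p]) • φ.symm (Matrix.of d) := by
    apply φ.injective
    simp only [map_pow, map_add, map_smul, AlgEquiv.apply_symm_apply]
    ext i j
    have := hd i j
    simp only [Matrix.add_apply, Matrix.smul_apply, Matrix.of_apply, smul_eq_mul]
    rw [← this]; ring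
  refine ⟨k, φ.symm (Matrix.of d), fun s hs => ?_, ?_⟩
  · have h3 : s * γ ^ (k + 1) = γ ^ (k + 1) * s := ((show Commute s γ from hγ s hs).pow_right _).eq
    rw [h2, mul_add, add_mul, hc s hs, add_right_inj, mul_smul_comm, smul_mul_assoc] at h3
    ext y
    exact p_smul_inj (LinearMap.congr_fun h3 y)
  · rcases h (φ.symm m) (by rw [← map_mul, hmm]) hc with e | e
    · left; rw [h2, e, zero_add]
    · right; rw [h2, e]

/-- a functional killing a pure submodule -/
theorem exists_functional (L : Submodule ℤ_[p] Y) (hL : ∀ y, (p : ℤ_[p]) • y ∈ L → y ∈ L) {v : Y}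
    (hv : ∀ y, v - (p : ℤ_[p]) • y ∉ L) :
    ∃ κ : Y →ₗ[ℤ_[p]] ℤ_[p], (∀ y ∈ L, κ y = 0) ∧ κ v = 1 := by
  classical
  have hpow : ∀ (k : ℕ) (y : Y), (p : ℤ_[p]) ^ k • y ∈ L → y ∈ L := by
    intro k
    induction k with
    | zero => simp
    | succ k ih => intro y hy; rw [pow_succ, mul_smul] at hy; exact hL _ (ih _ hy)
  have : IsTorsionFree ℤ_[p] (Y ⧸ L) := by
    refine IsTorsionFree.of_smul_eq_zero fun r q hq => ?_
    by_cases hr : r = 0
    · exact Or.inl hr
    right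
    obtain ⟨y, rfl⟩ := L.mkQ_surjective q
    rw [← map_smul, Submodule.mkQ_apply, Submodule.Quotient.mk_eq_zero,
      PadicInt.unitCoeff_spec hr, mul_smul] at hq
    have := L.smul_mem ((PadicInt.unitCoeff hr)⁻¹ : ℤ_[p]ˣ) hq
    rw [← mul_smul, Units.inv_mul, one_smul] at this
    exact (Submodule.Quotient.mk_eq_zero L).2 (hpow _ _ this)
  let b := Module.Free.chooseBasis ℤ_[p] (Y ⧸ L)
  have : ∃ i, ¬ (p : ℤ_[p]) ∣ b.repr (L.mkQ v) i := by
    by_contra h
    push Not at h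
    choose d hd using h
    obtain ⟨y, hy⟩ := L.mkQ_surjective (∑ i, d i • b i)
    apply hv y
    rw [← Submodule.Quotient.mk_eq_zero, ← Submodule.mkQ_apply, map_sub, map_smul, hy,
      ← b.sum_repr (L.mkQ v), smul_sum, sub_eq_zero]
    exact sum_congr rfl fun i _ => by rw [hd i, mul_smul]
  obtain ⟨i, hi⟩ := this
  obtain ⟨u, hu⟩ := padic_isUnit_of_not_dvd hi
  refine ⟨((u⁻¹ : ℤ_[p]ˣ) : ℤ_[p]) • ((b.coord i).comp L.mkQ), fun y hy => ?_, ?_⟩
  · simp [(Submodule.Quotient.mk_eq_zero L).2 hy]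
  · simp only [LinearMap.smul_apply, LinearMap.comp_apply, Basis.coord_apply, ← hu, smul_eq_mul,
      Units.inv_mul]

theorem exists_poly_aux : ∃ g : Polynomial ℤ, Polynomial.X ^ p - Polynomial.X =
    (∏ a ∈ range p, (Polynomial.X - Polynomial.C (a : ℤ))) + Polynomial.C (p : ℤ) * g := by
  have : NeZero p := ⟨hp.out.ne_zero⟩
  have h1 : (Polynomial.X ^ p - Polynomial.X : Polynomial (ZMod p)) =
      ∏ a : ZMod p, (Polynomial.X - Polynomial.C a) := by
    have h := FiniteField.roots_X_pow_card_sub_X (ZMod p)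
    have hm : (Polynomial.X ^ Fintype.card (ZMod p) - Polynomial.X : Polynomial (ZMod p)).Monic :=
      Polynomial.monic_X_pow_sub (by
        rw [Polynomial.degree_X, ZMod.card]; exact_mod_cast hp.out.one_lt)
    have := Polynomial.prod_multiset_X_sub_C_of_monic_of_roots_card_eq hm (by
      rw [h, FiniteField.X_pow_card_sub_X_natDegree_eq _ Fintype.one_lt_card]; rfl)
    rw [h, ZMod.card] at this
    rw [← this]; rfl
  have h2 : (Polynomial.X ^ p - Polynomial.X -
      (∏ a ∈ range p, (Polynomial.X - Polynomial.C (a : ℤ))) : Polynomial ℤ).map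
      (Int.castRingHom (ZMod p)) = 0 := by
    rw [Polynomial.map_sub, Polynomial.map_sub, Polynomial.map_pow, Polynomial.map_X, h1,
      Polynomial.map_prod, sub_eq_zero]
    symm
    refine prod_bij (fun a _ => (a : ZMod p)) (by simp) (fun a ha b hb h => ?_)
      (fun b _ => ⟨b.val, mem_range.2 (ZMod.val_lt b), by simp⟩) (by simp)
    have := (ZMod.natCast_eq_natCast_iff' a b p).1 h
    rwa [Nat.mod_eq_of_lt (mem_range.1 ha), Nat.mod_eq_of_lt (mem_range.1 hb)] at this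
  have h3 : Polynomial.C (p : ℤ) ∣ (Polynomial.X ^ p - Polynomial.X -
      (∏ a ∈ range p, (Polynomial.X - Polynomial.C (a : ℤ))) : Polynomial ℤ) := by
    rw [Polynomial.C_dvd_iff_dvd_coeff]
    intro i
    have := congrArg (fun f => Polynomial.coeff f i) h2
    simp only [Polynomial.coeff_map, Polynomial.coeff_zero, eq_intCast] at this
    exact (ZMod.intCast_zmod_eq_zero_iff_dvd _ p).1 this
  obtain ⟨g, hg⟩ := h3
  exact ⟨g, by rw [← hg]; ring⟩

theorem aeval_mem {Z : Submodule ℤ_[p] Y} {y : End ℤ_[p] Y} (hy : ∀ z ∈ Z, y z ∈ Z)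
    (f : Polynomial ℤ) : ∀ z ∈ Z, (Polynomial.aeval y f) z ∈ Z := by
  induction f using Polynomial.induction_on' with
  | add f g hf hg => intro z hz; rw [map_add]; exact add_mem (hf z hz) (hg z hz)
  | monomial n a =>
    intro z hz
    rw [Polynomial.aeval_monomial, End.mul_apply, eq_intCast, End.intCast_apply]
    refine zsmul_mem ?_ _
    induction n with
    | zero => simpa using hz
    | succ n ih => rw [pow_succ', End.mul_apply]; exact hy _ ih

theorem pow_mem_of_forall {Z : Submodule ℤ_[p] Y} {y : End ℤ_[p] Y} (hy : ∀ z ∈ Z, y z ∈ Z)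
    (n : ℕ) : ∀ z ∈ Z, (y ^ n) z ∈ Z := by
  intro z hz
  simpa using aeval_mem hy (Polynomial.X ^ n) z hz

theorem exists_eigen {Z B : Submodule ℤ_[p] Y} {y : End ℤ_[p] Y} (hyZ : ∀ z ∈ Z, y z ∈ Z)
    (hp' : ∀ z ∈ Z, (p : ℤ_[p]) • z ∈ B) (hy : ∀ z ∈ Z, (y ^ p) z - y z ∈ B)
    {z : Y} (hz : z ∈ Z) (hzB : z ∉ B) : ∃ w ∈ Z, w ∉ B ∧ ∃ c : ℤ_[p], y w - c • w ∈ B := by
  have key : ∀ n : ℕ, ∀ z ∈ Z, z ∉ B →
      (Polynomial.aeval y (∏ a ∈ range n, (Polynomial.X - Polynomial.C (a : ℤ)))) z ∈ B →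
      ∃ w ∈ Z, w ∉ B ∧ ∃ c : ℤ_[p], y w - c • w ∈ B := by
    intro n
    induction n with
    | zero => intro z _ h1 h2; simp at h2; exact absurd h2 h1
    | succ n ih =>
      intro z h0 h1 h2
      by_cases h3 : y z - (n : ℤ_[p]) • z ∈ B
      · exact ⟨z, h0, h1, n, h3⟩
      · refine ih _ (sub_mem (hyZ z h0) (Z.smul_mem _ h0)) h3 ?_
        rw [prod_range_succ, map_mul, End.mul_apply] at h2
        simpa [Nat.cast_smul_eq_nsmul] using h2
  obtain ⟨g, hg⟩ := exists_poly_aux (p := p)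
  refine key p z hz hzB ?_
  have h1 := congrArg (fun f => (Polynomial.aeval y f) z) hg
  simp only [map_sub, map_pow, Polynomial.aeval_X, LinearMap.sub_apply, map_add, map_mul,
    LinearMap.add_apply, End.mul_apply] at h1
  have h2 := hp' _ (aeval_mem hyZ g z hz)
  have h3 := sub_mem (hy z hz) h2
  rw [h1] at h3
  simpa [Nat.cast_smul_eq_nsmul] using h3

theorem sum_mem_of_free {X A : Type*} [DecidableEq X] [AddCommGroup A]
    (τ : Equiv.Perm X) (hτ : τ ^ p = 1) (J : AddSubgroup A) (T : X → A)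
    (hJ : ∀ q, τ q ≠ q → ∑ i ∈ range p, T ((τ ^ i) q) ∈ J) (S : Finset X)
    (hS : ∀ q ∈ S, τ q ≠ q ∧ τ q ∈ S) : ∑ q ∈ S, T q ∈ J := by
  induction S using Finset.strongInduction with
  | H S ih =>
    rcases S.eq_empty_or_nonempty with rfl | ⟨q, hq⟩
    · simp
    have h1 : ∀ i : ℕ, (τ ^ i) q ∈ S := by
      intro i
      induction i with
      | zero => exact hq
      | succ i ih => rw [pow_succ', Equiv.Perm.mul_apply]; exact (hS _ ih).2
    have h2 : Function.minimalPeriod τ q = p := Function.minimalPeriod_eq_prime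
      (by rw [Function.IsPeriodicPt, Function.IsFixedPt, ← Equiv.Perm.coe_pow, hτ]; rfl) (hS q hq).1
    have h3 : Set.InjOn (fun i : ℕ => (τ ^ i) q) (range p : Set ℕ) := by
      intro i hi j hj h
      refine Function.iterate_injOn_Iio_minimalPeriod (f := τ) (x := q) ?_ ?_ ?_
      · simpa [h2] using hi
      · simpa [h2] using hj
      · simpa [Equiv.Perm.coe_pow] using h
    set O := (range p).image fun i : ℕ => (τ ^ i) q
    have hO : O ⊆ S := by
      intro a ha
      obtain ⟨i, -, rfl⟩ := mem_image.1 ha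
      exact h1 i
    have hqO : q ∈ O := mem_image.2 ⟨0, mem_range.2 hp.out.pos, rfl⟩
    rw [← sum_sdiff hO]
    refine add_mem (ih _ (sdiff_ssubset hO ⟨q, hqO⟩) fun a ha => ?_) ?_
    · obtain ⟨ha1, ha2⟩ := mem_sdiff.1 ha
      refine ⟨(hS a ha1).1, mem_sdiff.2 ⟨(hS a ha1).2, fun h => ha2 ?_⟩⟩
      obtain ⟨i, -, hi⟩ := mem_image.1 h
      refine mem_image.2 ⟨(i + (p - 1)) % p, mem_range.2 (Nat.mod_lt _ hp.out.pos), ?_⟩
      rw [← pow_eq_pow_mod _ hτ, add_comm, pow_add, Equiv.Perm.mul_apply, hi,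
        ← Equiv.Perm.mul_apply, ← pow_succ, Nat.sub_add_cancel hp.out.pos, hτ]
      rfl
    · rw [sum_image h3]; exact hJ q (hS q hq).1

/-! ### index calculus -/

theorem index_p_smul (M : Type*) [AddCommGroup M] [Module ℤ_[p] M] [Module.Free ℤ_[p] M]
    [Module.Finite ℤ_[p] M] :
    (LinearMap.range ((p : ℤ_[p]) • (LinearMap.id : M →ₗ[ℤ_[p]] M))).toAddSubgroup.index =
      p ^ finrank ℤ_[p] M := by
  classical
  have : NeZero p := ⟨hp.out.ne_zero⟩
  let b := Module.Free.chooseBasis ℤ_[p] M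
  let f : M →+ (Free.ChooseBasisIndex ℤ_[p] M → ZMod p) :=
    { toFun := fun m i => PadicInt.toZMod (b.repr m i)
      map_zero' := by ext; simp
      map_add' := by intro x y; ext; simp }
  have h1 : f.ker = (LinearMap.range ((p : ℤ_[p]) • (LinearMap.id : M →ₗ[ℤ_[p]] M))).toAddSubgroup := by
    ext m
    have : ∀ a : ℤ_[p], PadicInt.toZMod a = 0 ↔ (p : ℤ_[p]) ∣ a := fun a => by
      rw [← RingHom.mem_ker, PadicInt.ker_toZMod, PadicInt.maximalIdeal_eq_span_p,
        Ideal.mem_span_singleton]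
    simp only [AddMonoidHom.mem_ker, Submodule.mem_toAddSubgroup, LinearMap.mem_range,
      LinearMap.smul_apply, LinearMap.id_apply]
    constructor
    · intro h
      choose d hd using fun i => (this _).1 (congrFun h i)
      refine ⟨∑ i, d i • b i, ?_⟩
      rw [← b.sum_repr m, smul_sum]
      exact sum_congr rfl fun i _ => by rw [hd i, mul_smul]
    · rintro ⟨y, rfl⟩
      ext i
      exact (this _).2 (by simp)
  have h2 : f.range = ⊤ := by
    rw [AddMonoidHom.range_eq_top]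
    intro v
    refine ⟨∑ i, ((v i).val : ℤ_[p]) • b i, ?_⟩
    ext i
    simp [f, Finsupp.single_apply, apply_ite]
  rw [← h1, AddSubgroup.index_ker, h2, AddSubgroup.card_top, Nat.card_fun, Nat.card_zmod,
    finrank_eq_card_chooseBasisIndex, Nat.card_eq_fintype_card]

theorem relIndex_p_smul (Z : Submodule ℤ_[p] Y) :
    (Z.map ((p : ℤ_[p]) • (LinearMap.id : Y →ₗ[ℤ_[p]] Y))).toAddSubgroup.relIndex Z.toAddSubgroup =
      p ^ finrank ℤ_[p] Z := by
  rw [← index_p_smul Z, AddSubgroup.relIndex]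
  congr 1
  ext z
  simp only [AddSubgroup.mem_addSubgroupOf, Submodule.mem_toAddSubgroup, Submodule.mem_map,
    LinearMap.smul_apply, LinearMap.id_apply, LinearMap.mem_range]
  constructor
  · rintro ⟨y, hy, h⟩
    exact ⟨⟨y, hy⟩, Subtype.ext h⟩
  · rintro ⟨y, h⟩
    exact ⟨y, y.2, congrArg Subtype.val h⟩

/-! ### Tate groups of an operator of order `p` -/

/-- the norm operator -/
noncomputable def nrm (σ : End ℤ_[p] Y) : End ℤ_[p] Y := ∑ i ∈ range p, σ ^ i

section tate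
variable {σ : End ℤ_[p] Y}

theorem nrm_sub (hσ : σ ^ p = 1) (y : Y) : nrm σ ((σ - 1) y) = 0 := by
  rw [← End.mul_apply, nrm, geom_sum_mul, hσ, sub_self]; rfl

theorem sub_nrm (hσ : σ ^ p = 1) (y : Y) : (σ - 1) (nrm σ y) = 0 := by
  rw [← End.mul_apply, nrm, mul_geom_sum, hσ, sub_self]; rfl

theorem pow_apply_of_fixed {z : Y} (hz : z ∈ LinearMap.ker (σ - 1)) (i : ℕ) : (σ ^ i) z = z := by
  have : σ z = z := by simpa [sub_eq_zero] using hz
  induction i with
  | zero => rfl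
  | succ i ih => rw [pow_succ, End.mul_apply, this, ih]

theorem nrm_of_fixed {z : Y} (hz : z ∈ LinearMap.ker (σ - 1)) : nrm σ z = (p : ℤ_[p]) • z := by
  simp [nrm, LinearMap.sum_apply, pow_apply_of_fixed hz, Nat.cast_smul_eq_nsmul]

theorem pow_sub_mem (i : ℕ) (z : Y) : (σ ^ i) z - z ∈ LinearMap.range (σ - 1) :=
  ⟨(∑ j ∈ range i, σ ^ j) z, by rw [← End.mul_apply, mul_geom_sum]; rfl⟩

theorem p_smul_mem0 {z : Y} (hz : z ∈ LinearMap.ker (σ - 1)) :
    (p : ℤ_[p]) • z ∈ LinearMap.range (nrm σ) := ⟨z, nrm_of_fixed hz⟩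

theorem nrm_sub_mem (z : Y) : nrm σ z - (p : ℤ_[p]) • z ∈ LinearMap.range (σ - 1) := by
  have : nrm σ z - (p : ℤ_[p]) • z = ∑ i ∈ range p, ((σ ^ i) z - z) := by
    simp [nrm, LinearMap.sum_apply, Nat.cast_smul_eq_nsmul]
  rw [this]
  exact Submodule.sum_mem _ fun i _ => pow_sub_mem i z

theorem p_smul_mem1 {z : Y} (hz : z ∈ LinearMap.ker (nrm σ)) :
    (p : ℤ_[p]) • z ∈ LinearMap.range (σ - 1) := by
  have := nrm_sub_mem (σ := σ) z
  rw [LinearMap.mem_ker.1 hz, zero_sub] at this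
  exact neg_mem_iff.1 this

theorem eq_zero_of_mem_mem {z : Y} (h0 : z ∈ LinearMap.ker (σ - 1))
    (h1 : z ∈ LinearMap.ker (nrm σ)) : z = 0 := by
  have := nrm_of_fixed h0
  rw [LinearMap.mem_ker.1 h1] at this
  exact p_smul_inj (by rw [← this, smul_zero])

theorem comm_nrm {f : End ℤ_[p] Y} (h : σ * f = f * σ) : nrm σ * f = f * nrm σ :=
  (Commute.sum_left _ _ _ fun i _ => (show Commute σ f from h).pow_left i).eq

theorem comm_sub {f : End ℤ_[p] Y} (h : σ * f = f * σ) : (σ - 1) * f = f * (σ - 1) := by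
  rw [sub_mul, mul_sub, h, one_mul, mul_one]

theorem mem_ker_of_comm {a f : End ℤ_[p] Y} (h : a * f = f * a) :
    ∀ z ∈ LinearMap.ker a, f z ∈ LinearMap.ker a := fun z hz => by
  rw [LinearMap.mem_ker, ← End.mul_apply, h, End.mul_apply, LinearMap.mem_ker.1 hz, map_zero]

theorem mem_range_of_comm {a f : End ℤ_[p] Y} (h : a * f = f * a) :
    ∀ z ∈ LinearMap.range a, f z ∈ LinearMap.range a := by
  rintro _ ⟨y, rfl⟩
  exact ⟨f y, by rw [← End.mul_apply, h, End.mul_apply]⟩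

theorem exists_poly_aux2 : ∃ g : Polynomial ℤ, (Polynomial.X + 1) ^ p - 1 =
    Polynomial.X * (Polynomial.X ^ (p - 1) +
      Polynomial.C (p : ℤ) * (1 + Polynomial.X * g)) := by
  obtain ⟨r, hr⟩ := exists_add_pow_prime_eq hp.out (Polynomial.X : Polynomial ℤ) 1
  have h1 : r.coeff 0 = 1 := by
    have := congrArg (fun f => Polynomial.coeff f 1) hr
    simp only [Polynomial.coeff_X_add_one_pow, Nat.choose_one_right, one_pow, mul_one,
      Polynomial.coeff_add, Polynomial.coeff_X_pow, Polynomial.coeff_one, one_ne_zero, if_false,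
      if_neg hp.out.one_lt.ne, mul_assoc] at this
    rw [← nsmul_eq_mul, Polynomial.coeff_smul, Polynomial.coeff_X_mul] at this
    have h2 : (p : ℤ) ≠ 0 := by exact_mod_cast hp.out.ne_zero
    apply mul_left_cancel₀ h2
    simpa using this.symm
  refine ⟨r.divX, ?_⟩
  have h2 := Polynomial.X_mul_divX_add r
  rw [h1, map_one] at h2
  obtain ⟨k, hk⟩ : ∃ k, p = k + 1 := ⟨p - 1, (Nat.sub_add_cancel hp.out.pos).symm⟩
  rw [hr, add_comm 1, h2, show p - 1 = k by omega, map_natCast]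
  conv_lhs => rw [show (Polynomial.X : Polynomial ℤ) ^ p = Polynomial.X ^ (k + 1) by rw [hk]]
  ring

theorem map_pow_eq (hσ : σ ^ p = 1) : (LinearMap.ker (nrm σ)).map ((σ - 1) ^ (p - 1)) =
    (LinearMap.ker (nrm σ)).map ((p : ℤ_[p]) • (LinearMap.id : Y →ₗ[ℤ_[p]] Y)) := by
  obtain ⟨g, hg⟩ := exists_poly_aux2 (p := p)
  have hθ := mem_ker_of_comm (comm_nrm (comm_sub (σ := σ) rfl).symm)
  have hG := aeval_mem hθ g
  set G := Polynomial.aeval (σ - 1) g
  have key : ∀ z ∈ LinearMap.ker (nrm σ),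
      ((σ - 1) ^ (p - 1)) z = -((p : ℤ_[p]) • (z + (σ - 1) (G z))) := by
    intro z hz
    have h1 := congrArg (fun f => (Polynomial.aeval (σ - 1) f) z) hg
    simp only [map_sub, map_pow, map_add, Polynomial.aeval_X, map_one, sub_add_cancel, hσ, sub_self,
      LinearMap.zero_apply, map_mul, End.mul_apply, map_natCast, LinearMap.add_apply,
      End.natCast_apply, End.one_apply] at h1
    rw [eq_neg_iff_add_eq_zero, Nat.cast_smul_eq_nsmul]
    refine eq_zero_of_mem_mem (σ := σ) (by rw [LinearMap.mem_ker, map_add, smul_add, map_add]; exact h1.symm) ?_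
    exact add_mem (pow_mem_of_forall hθ _ z hz) (nsmul_mem (add_mem hz (hθ _ (hG z hz))) _)
  apply le_antisymm
  · rintro _ ⟨z, hz, rfl⟩
    exact ⟨-(z + (σ - 1) (G z)), neg_mem (add_mem hz (hθ _ (hG z hz))),
      by rw [key z hz, ← smul_neg]; rfl⟩
  · have h2 : ∀ j : ℕ, ∀ z ∈ LinearMap.ker (nrm σ), ∃ z' ∈ LinearMap.ker (nrm σ),
        (p : ℤ_[p]) • z - ((σ - 1) ^ j) ((p : ℤ_[p]) • z') ∈
          (LinearMap.ker (nrm σ)).map ((σ - 1) ^ (p - 1)) := by
      intro j
      induction j with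
      | zero => intro z hz; exact ⟨z, hz, by simp⟩
      | succ j ih =>
        intro z hz
        obtain ⟨z', hz', h⟩ := ih z hz
        refine ⟨-G z', neg_mem (hG z' hz'), ?_⟩
        have h3 : ((σ - 1) ^ (p - 1)) (((σ - 1) ^ j) z') ∈
          (LinearMap.ker (nrm σ)).map ((σ - 1) ^ (p - 1)) :=
          ⟨_, pow_mem_of_forall hθ _ _ hz', rfl⟩
        rw [← End.mul_apply, (Commute.pow_pow_self _ _ _).eq, End.mul_apply, key z' hz'] at h3
        convert sub_mem h h3 using 1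
        simp only [pow_succ, End.mul_apply, map_smul, map_neg, smul_add, map_add, smul_neg]
        abel
    rintro _ ⟨z, hz, rfl⟩
    obtain ⟨z', hz', h⟩ := h2 (p - 1) z hz
    have := add_mem h (⟨_, Submodule.smul_mem _ (p : ℤ_[p]) hz', rfl⟩ :
      ((σ - 1) ^ (p - 1)) ((p : ℤ_[p]) • z') ∈ (LinearMap.ker (nrm σ)).map ((σ - 1) ^ (p - 1)))
    simpa using this

theorem relIndex_map_pow (k : ℕ) :
    ((LinearMap.ker (nrm σ)).map ((σ - 1) ^ k)).toAddSubgroup.relIndex
      (LinearMap.ker (nrm σ)).toAddSubgroup =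
    ((LinearMap.ker (nrm σ)).map (σ - 1)).toAddSubgroup.relIndex
      (LinearMap.ker (nrm σ)).toAddSubgroup ^ k := by
  have hθ := mem_ker_of_comm (comm_nrm (comm_sub (σ := σ) rfl).symm)
  induction k with
  | zero => simp [End.one_eq_id]
  | succ k ih =>
    rw [pow_succ (_ : ℕ) k, ← ih]
    rw [← AddSubgroup.relIndex_mul_relIndex _ ((LinearMap.ker (nrm σ)).map (σ - 1)).toAddSubgroup]
    · congr 1
      rw [Submodule.map_toAddSubgroup (σ - 1) (LinearMap.ker (nrm σ)), ← AddSubgroup.relIndex_comap,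
        ← AddSubgroup.inf_relIndex_right,
        ← AddSubgroup.inf_relIndex_right ((LinearMap.ker (nrm σ)).map ((σ - 1) ^ k)).toAddSubgroup]
      congr 1
      ext z
      simp only [AddSubgroup.mem_inf, AddSubgroup.mem_comap, Submodule.mem_toAddSubgroup,
        Submodule.mem_map, and_congr_left_iff]
      intro hz
      constructor
      · rintro ⟨y, hy, h⟩
        refine ⟨y, hy, ?_⟩
        rw [← sub_eq_zero]
        refine eq_zero_of_mem_mem ?_ (sub_mem (pow_mem_of_forall hθ _ _ hy) hz)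
        rw [LinearMap.mem_ker, map_sub, sub_eq_zero, ← End.mul_apply, ← pow_succ']
        exact h
      · rintro ⟨y, hy, rfl⟩
        exact ⟨y, hy, by rw [pow_succ']; rfl⟩
    · rintro _ ⟨z, hz, rfl⟩
      exact ⟨_, pow_mem_of_forall hθ k _ hz, by rw [pow_succ']; rfl⟩
    · rintro _ ⟨z, hz, rfl⟩
      exact hθ _ hz

theorem index_sup_ker (f : End ℤ_[p] Y) (Z : Submodule ℤ_[p] Y) :
    (Z ⊔ LinearMap.ker f).toAddSubgroup.index =
      (Z.map f).toAddSubgroup.relIndex (LinearMap.range f).toAddSubgroup := by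
  rw [← Submodule.comap_map_eq]
  exact AddSubgroup.index_comap (Z.map f).toAddSubgroup f.toAddMonoidHom

theorem herbrand (hσ : σ ^ p = 1) {a b : ℕ}
    (ha : (LinearMap.range (nrm σ)).toAddSubgroup.relIndex
      (LinearMap.ker (σ - 1)).toAddSubgroup = p ^ a)
    (hb : (LinearMap.range (σ - 1)).toAddSubgroup.relIndex
      (LinearMap.ker (nrm σ)).toAddSubgroup = p ^ b) :
    p * finrank ℤ_[p] (LinearMap.ker (σ - 1)) + (p - 1) * b = finrank ℤ_[p] Y + (p - 1) * a := by
  have e0 : (LinearMap.ker (σ - 1)).map (nrm σ) =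
      (LinearMap.ker (σ - 1)).map ((p : ℤ_[p]) • (LinearMap.id : Y →ₗ[ℤ_[p]] Y)) := by
    ext z
    simp only [Submodule.mem_map]
    refine exists_congr fun y => and_congr_right fun hy => ?_
    rw [nrm_of_fixed hy]; rfl
  have l0 : LinearMap.range (nrm σ) ≤ LinearMap.ker (σ - 1) := by
    rintro _ ⟨y, rfl⟩; exact sub_nrm hσ y
  have l1 : LinearMap.range (σ - 1) ≤ LinearMap.ker (nrm σ) := by
    rintro _ ⟨y, rfl⟩; exact nrm_sub hσ y
  have h1 := index_sup_ker (nrm σ) (LinearMap.ker (σ - 1))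
  have h2 := index_sup_ker (σ - 1) (LinearMap.ker (nrm σ))
  rw [sup_comm, h1] at h2
  have h3 := AddSubgroup.relIndex_mul_relIndex ((LinearMap.ker (σ - 1)).map (nrm σ)).toAddSubgroup
    (LinearMap.range (nrm σ)).toAddSubgroup (LinearMap.ker (σ - 1)).toAddSubgroup
    (LinearMap.map_le_range (f := nrm σ)) l0
  have h4 := AddSubgroup.relIndex_mul_relIndex ((LinearMap.ker (nrm σ)).map (σ - 1)).toAddSubgroup
    (LinearMap.range (σ - 1)).toAddSubgroup (LinearMap.ker (nrm σ)).toAddSubgroup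
    (LinearMap.map_le_range (f := σ - 1)) l1
  have h5 := relIndex_map_pow (σ := σ) (p - 1)
  rw [map_pow_eq hσ, relIndex_p_smul, ← h4, hb, ← h2] at h5
  rw [ha] at h3
  nth_rewrite 2 [e0] at h3
  rw [relIndex_p_smul] at h3
  have h6 : finrank ℤ_[p] (LinearMap.range (nrm σ)) = finrank ℤ_[p] (LinearMap.ker (σ - 1)) := by
    refine le_antisymm (Submodule.finrank_mono l0) ?_
    refine le_trans (le_of_eq ?_) (Submodule.finrank_mono
      (LinearMap.map_le_range (f := nrm σ) (p := LinearMap.ker (σ - 1))))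
    rw [e0]
    exact (Submodule.equivMapOfInjective _ (fun a b h => p_smul_inj h) _).finrank_eq
  have h7 := (LinearMap.ker (nrm σ)).finrank_quotient_add_finrank
  rw [(nrm σ).quotKerEquivRange.finrank_eq, h6] at h7
  generalize ((LinearMap.ker (σ - 1)).map (nrm σ)).toAddSubgroup.relIndex
    (LinearMap.range (nrm σ)).toAddSubgroup = J at h3 h5
  have h8 : p ^ (finrank ℤ_[p] (LinearMap.ker (nrm σ)) + a * (p - 1)) =
      p ^ ((finrank ℤ_[p] (LinearMap.ker (σ - 1)) + b) * (p - 1)) := by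
    rw [pow_add, h5, pow_mul, pow_mul, pow_add, ← h3, ← mul_pow]
    congr 1; ring
  have h9 := Nat.pow_right_injective hp.out.two_le h8
  obtain ⟨k, hk⟩ : ∃ k, p = k + 1 := ⟨p - 1, (Nat.sub_add_cancel hp.out.pos).symm⟩
  rw [← h7]
  generalize finrank ℤ_[p] (LinearMap.ker (σ - 1)) = r at *
  generalize finrank ℤ_[p] (LinearMap.ker (nrm σ)) = s at *
  rw [show p - 1 = k by omega] at h9 ⊢
  rw [hk]
  nlinarith

theorem relIndex_of_span {Z B : Submodule ℤ_[p] Y} {w : Y} (hw : (p : ℤ_[p]) • w ∈ B)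
    (hwZ : w ∈ Z) (hwB : w ∉ B) (h : Z ≤ Submodule.span ℤ_[p] {w} ⊔ B) :
    B.toAddSubgroup.relIndex Z.toAddSubgroup = p ^ 1 := by
  have h1 : B.toAddSubgroup.relIndex Z.toAddSubgroup ∣
      B.toAddSubgroup.relIndex (Submodule.span ℤ_[p] {w} ⊔ B).toAddSubgroup := by
    rw [← AddSubgroup.relIndex_sup_right Z.toAddSubgroup]
    refine Dvd.intro _ (AddSubgroup.relIndex_mul_relIndex _ _ _ le_sup_right (sup_le h ?_))
    exact (le_sup_right : B ≤ Submodule.span ℤ_[p] {w} ⊔ B)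
  rw [Submodule.sup_toAddSubgroup, AddSubgroup.relIndex_sup_right,
    LinearMap.span_singleton_eq_range] at h1
  have h2 := AddSubgroup.index_comap B.toAddSubgroup
    (LinearMap.toSpanSingleton ℤ_[p] Y w).toAddMonoidHom
  have h3 := index_p_smul (p := p) ℤ_[p]
  rw [finrank_self, pow_one] at h3
  have h4 : B.toAddSubgroup.relIndex Z.toAddSubgroup ∣ p := by
    refine h1.trans (Dvd.dvd.trans (dvd_of_eq h2.symm) (Dvd.dvd.trans ?_ (dvd_of_eq h3)))
    refine AddSubgroup.index_dvd_of_le ?_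
    rintro _ ⟨c, rfl⟩
    change (((p : ℤ_[p]) • c) • w) ∈ B
    rw [smul_eq_mul, mul_comm, mul_smul]
    exact B.smul_mem _ hw
  rcases (Nat.dvd_prime hp.out).1 h4 with e | e
  · exact absurd (AddSubgroup.relIndex_eq_one.1 e hwZ) hwB
  · rw [e, pow_one]

end tate

theorem loc_aux {Z B Z' B' : Submodule ℤ_[p] Y} {γ F δ : End ℤ_[p] Y} {w : Y} {m : ℤ_[p]}
    (hm : IsUnit m) (hγZ : ∀ z ∈ Z, γ z ∈ Z) (hγZ' : ∀ z ∈ Z', γ z ∈ Z') (hγB : ∀ z ∈ B, γ z ∈ B)
    (hJ : ∀ z ∈ Z, γ z - F z ∈ B) (hJ' : ∀ z ∈ Z', γ z - F z ∈ B')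
    (hF : ∀ z ∈ Z, F z ∈ Submodule.span ℤ_[p] {w} ⊔ B) (hF' : ∀ z ∈ Z', F z = 0)
    (hw : F w - m • w ∈ B) (hwZ : w ∈ Z) (hwB : w ∉ B)
    (hδ : ∀ z ∈ Z, δ z ∈ Z) (hδ' : ∀ z ∈ Z', δ z ∈ Z')
    (hp1 : ∀ z ∈ Z, (p : ℤ_[p]) • z ∈ B) (hp2 : ∀ z ∈ Z', (p : ℤ_[p]) • z ∈ B') {k : ℕ}
    (h : γ ^ (k + 1) = (p : ℤ_[p]) • δ ∨ γ ^ (k + 1) = 1 + (p : ℤ_[p]) • δ) :
    Z ≤ Submodule.span ℤ_[p] {w} ⊔ B ∧ Z' ≤ B' := by
  rcases h with h | h
  · exfalso
    have h1 : ∀ i : ℕ, (γ ^ i) w - m ^ i • w ∈ B := by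
      intro i
      induction i with
      | zero => simp
      | succ i ih =>
        have := add_mem (hγB _ ih) (B.smul_mem (m ^ i) (add_mem (hJ w hwZ) hw))
        convert this using 1
        simp only [pow_succ' γ, End.mul_apply, map_sub, map_smul, pow_succ m, mul_smul, smul_sub,
          sub_add_sub_cancel]
    have h2 := h1 (k + 1)
    rw [h] at h2
    have h3 := sub_mem (hp1 _ (hδ w hwZ)) h2
    obtain ⟨u, hu⟩ := hm.pow (k + 1)
    have h4 := B.smul_mem ((u⁻¹ : ℤ_[p]ˣ) : ℤ_[p]) h3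
    rw [LinearMap.smul_apply, sub_sub_cancel, ← hu, ← mul_smul, Units.inv_mul, one_smul] at h4
    exact hwB h4
  · have h1 : ∀ z, z = γ ((γ ^ k) z) - (p : ℤ_[p]) • δ z := fun z => by
      rw [← End.mul_apply, ← pow_succ', h]; simp
    constructor
    · intro z hz
      have h2 := pow_mem_of_forall hγZ k z hz
      have := sub_mem (add_mem (Submodule.mem_sup_right (hJ _ h2)) (hF _ h2))
        (Submodule.mem_sup_right (hp1 _ (hδ z hz)))
      rwa [sub_add_cancel, ← h1] at this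
    · intro z hz
      have h2 := pow_mem_of_forall hγZ' k z hz
      have := sub_mem (hJ' _ h2) (hp2 _ (hδ' z hz))
      rwa [hF' _ h2, sub_zero, ← h1] at this

theorem exists_phi0 {σ : End ℤ_[p] Y} (hσ : σ ^ p = 1) {w : Y} (hw : w ∈ LinearMap.ker (σ - 1))
    (hwB : w ∉ LinearMap.range (nrm σ)) : ∃ φ : End ℤ_[p] Y, σ * φ = φ * σ ∧
      (∀ y, φ y ∈ Submodule.span ℤ_[p] {w}) ∧ φ w = w := by
  obtain ⟨κ, h1, h2⟩ := exists_functional (LinearMap.ker (nrm σ)) (fun y hy => by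
    rw [LinearMap.mem_ker, map_smul] at hy
    exact p_smul_inj (by rw [hy, smul_zero])) (v := w) (fun y hy => hwB ⟨y, by
      rw [LinearMap.mem_ker, map_sub, map_smul, nrm_of_fixed hw, sub_eq_zero] at hy
      exact (p_smul_inj hy).symm⟩)
  refine ⟨κ.smulRight w, ?_, fun y => Submodule.smul_mem _ _ (Submodule.mem_span_singleton_self w),
    by simp [h2]⟩
  ext y
  have h3 := h1 _ (nrm_sub hσ y)
  have h4 : σ w = w := by simpa [sub_eq_zero] using hw
  simp only [LinearMap.sub_apply, End.one_apply, map_sub, sub_eq_zero] at h3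
  simp [h3, h4]

theorem exists_phi1 {σ : End ℤ_[p] Y} (hσ : σ ^ p = 1) {w : Y} (hw : w ∈ LinearMap.ker (nrm σ))
    (hwB : w ∉ LinearMap.range (σ - 1)) : ∃ φ : End ℤ_[p] Y, σ * φ = φ * σ ∧
      (∀ y, φ y ∈ LinearMap.ker (nrm σ)) ∧
      (∀ y, φ y ∈ Submodule.span ℤ_[p] {w} ⊔ LinearMap.range (σ - 1)) ∧
      φ w - w ∈ LinearMap.range (σ - 1) := by
  -- `A i = 1 + σ + ... + σ^(i-1)`, `D = ∑ A i`
  let A : ℕ → End ℤ_[p] Y := fun i => ∑ j ∈ range i, σ ^ j
  have hA : ∀ i, (σ - 1) * A i = σ ^ i - 1 := fun i => mul_geom_sum σ i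
  have hA' : ∀ i, A i * σ = A (i + 1) - 1 := fun i => by
    simp only [A, sum_range_succ', pow_zero, add_sub_cancel_right, sum_mul, pow_succ]
  obtain ⟨κ, h1, h2⟩ := exists_functional (LinearMap.ker (σ - 1)) (fun y hy => by
    rw [LinearMap.mem_ker, map_smul] at hy
    exact p_smul_inj (by rw [hy, smul_zero])) (v := ∑ i ∈ range p, A i w) (fun y hy => hwB ⟨-y, by
      rw [LinearMap.mem_ker, map_sub, map_smul, map_sum, sub_eq_zero] at hy
      simp only [← End.mul_apply, hA] at hy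
      have h3 : ∑ i ∈ range p, (σ ^ i - 1) w = nrm σ w - (p : ℤ_[p]) • w := by
        simp [nrm, LinearMap.sum_apply, Nat.cast_smul_eq_nsmul]
      rw [h3, LinearMap.mem_ker.1 hw, zero_sub] at hy
      apply p_smul_inj (p := p)
      rw [map_neg, smul_neg, ← hy, neg_neg]⟩)
  let f : ℕ → End ℤ_[p] Y := fun i => (κ.comp (A i)).smulRight ((σ ^ (p - i)) w)
  have hθ := mem_ker_of_comm (comm_nrm (σ := σ) rfl)
  have hf0 : f 0 = 0 := by ext y; simp [f, A]
  have hfp : f p = 0 := by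
    ext y
    have := h1 _ (sub_nrm hσ y)
    simp only [f, LinearMap.smulRight_apply, LinearMap.comp_apply]
    rw [show A p = nrm σ from rfl, this, zero_smul]; rfl
  refine ⟨∑ i ∈ range p, f i, ?_, fun y => ?_, fun y => ?_, ?_⟩
  · have h3 : ∀ i ∈ range p, f i * σ = σ * f (i + 1) - κ.smulRight ((σ ^ (p - i)) w) := by
      intro i hi
      have hi' := mem_range.1 hi
      ext y
      simp only [f, End.mul_apply, LinearMap.smulRight_apply, LinearMap.comp_apply,
        LinearMap.sub_apply, map_smul]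
      rw [← End.mul_apply (A i), hA', ← End.mul_apply σ, ← pow_succ',
        show p - (i + 1) + 1 = p - i by omega]
      simp [sub_smul]
    have h4 : ∑ i ∈ range p, κ.smulRight ((σ ^ (p - i)) w) = 0 := by
      ext y
      simp only [LinearMap.sum_apply, LinearMap.smulRight_apply, ← smul_sum, LinearMap.zero_apply]
      have h5 : ∑ i ∈ range p, (σ ^ (p - i)) w = σ (nrm σ w) := by
        rw [nrm, LinearMap.sum_apply, map_sum, ← sum_range_reflect]
        refine sum_congr rfl fun i hi => ?_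
        have hi' := mem_range.1 hi
        rw [← End.mul_apply, ← pow_succ', show p - (p - 1 - i) = i + 1 by omega]
      rw [h5, LinearMap.mem_ker.1 hw, map_zero, smul_zero]
    rw [sum_mul, sum_congr rfl h3, sum_sub_distrib, h4, sub_zero, ← mul_sum]
    congr 1
    have := sum_range_succ' f p
    rw [sum_range_succ, hfp, hf0, add_zero, add_zero] at this
    exact this
  · rw [LinearMap.sum_apply]
    exact Submodule.sum_mem _ fun i _ => Submodule.smul_mem _ _ (pow_mem_of_forall hθ _ _ hw)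
  · rw [LinearMap.sum_apply]
    refine Submodule.sum_mem _ fun i _ => Submodule.smul_mem _ _ ?_
    have := add_mem (Submodule.mem_sup_left (Submodule.mem_span_singleton_self w))
      (Submodule.mem_sup_right (pow_sub_mem (σ := σ) (p - i) w) :
        _ ∈ Submodule.span ℤ_[p] {w} ⊔ LinearMap.range (σ - 1))
    rwa [add_sub_cancel] at this
  · have : (∑ i ∈ range p, f i) w - w = ∑ i ∈ range p, κ (A i w) • ((σ ^ (p - i)) w - w) := by
      simp only [smul_sub, sum_sub_distrib, ← sum_smul, ← map_sum, h2, one_smul,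
        LinearMap.sum_apply]
      rfl
    rw [this]
    exact Submodule.sum_mem _ fun i _ => Submodule.smul_mem _ _ (pow_sub_mem _ _)

end Cfsg.Agent.Inv
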