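import Cfsg.Agent.Inv.Lat
import Cfsg.Agent.PLoc.Basic
import Cfsg.Agent.Char.Misc
import Cfsg.Agent.Char.Galois

/-! Lattices over the p-adic integers for a group with a Sylow subgroup of prime order. -/

set_option autoImplicit false
set_option linter.unusedVariables false
set_option linter.unusedSectionVars false

namespace Cfsg.Agent.Inv

open Finset Module Subgroup Cfsg.Agent.PLoc

universe u

variable {p : ℕ} [hp : Fact p.Prime] {G : Type u} [Group G]

theorem sum_range_pow_eq [Fintype G] {A : Type*} [AddCommMonoid A] (x : G)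
    [DecidablePred (· ∈ zpowers x)] (f : G → A) :
    ∑ i ∈ range (orderOf x), f (x ^ i) = ∑ u ∈ univ.filter (· ∈ zpowers x), f u := by
  refine sum_bij (fun i _ => x ^ i) (fun i _ => by simp) (fun i hi j hj h => ?_) (fun u hu => ?_)
    (fun _ _ => rfl)
  · exact pow_injOn_Iio_orderOf (mem_range.1 hi) (mem_range.1 hj) h
  · obtain ⟨i, hi⟩ := (mem_powers_iff_mem_zpowers.2 (mem_filter.1 hu).2)
    exact ⟨i % orderOf x, mem_range.2 (Nat.mod_lt _ (orderOf_pos x)), by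
      rw [pow_mod_orderOf]; exact hi⟩

theorem sum_range_conj [Finite G] {A : Type*} [AddCommMonoid A] {x n : G}
    (hn : n ∈ normalizer (zpowers x : Set G)) (f : G → A) :
    ∑ i ∈ range (orderOf x), f (n * x ^ i * n⁻¹) = ∑ i ∈ range (orderOf x), f (x ^ i) := by
  classical
  have := Fintype.ofFinite G
  rw [sum_range_pow_eq x f, sum_range_pow_eq x (fun u => f (n * u * n⁻¹))]
  refine sum_bij (fun u _ => n * u * n⁻¹) (fun u hu => ?_) (fun u _ v _ h => by simpa using h)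
    (fun u hu => ⟨n⁻¹ * u * n, ?_, by group⟩) (fun _ _ => rfl)
  · exact mem_filter.2 ⟨mem_univ _, conj_mem_of_mem_normalizer hn (mem_filter.1 hu).2⟩
  · exact mem_filter.2 ⟨mem_univ _, conj_mem_of_mem_normalizer' hn (mem_filter.1 hu).2⟩

variable {Y : Type*} [AddCommGroup Y] [Module ℤ_[p] Y] [Module.Free ℤ_[p] Y]
  [Module.Finite ℤ_[p] Y] (ρ : G →* End ℤ_[p] Y) {x : G}

theorem rho_pow_eq_one (hx : orderOf x = p) : ρ x ^ p = 1 := by
  rw [← map_pow, show x ^ p = 1 from hx ▸ pow_orderOf_eq_one x, map_one]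

theorem rho_mul_inv (g : G) (y : Y) : ρ g (ρ g⁻¹ y) = y := by
  rw [← End.mul_apply, ← map_mul, mul_inv_cancel, map_one]; rfl

theorem rho_inv_mul (g : G) (y : Y) : ρ g⁻¹ (ρ g y) = y := by
  rw [← End.mul_apply, ← map_mul, inv_mul_cancel, map_one]; rfl

theorem rho_mul (g h : G) (y : Y) : ρ (g * h) y = ρ g (ρ h y) := by rw [map_mul]; rfl

variable [Finite G]

theorem nrm_comm_rho (hx : orderOf x = p) {n : G} (hn : n ∈ normalizer (zpowers x : Set G)) :
    nrm (ρ x) * ρ n = ρ n * nrm (ρ x) := by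
  have := sum_range_conj hn (fun g => ρ g * ρ n)
  rw [hx] at this
  simp only [← map_mul, inv_mul_cancel_right] at this
  simp only [nrm, sum_mul, mul_sum, ← map_pow, this, ← map_mul]

theorem rho_fixed {u : G} (hu : u ∈ zpowers x) {z : Y} (hz : z ∈ LinearMap.ker (ρ x - 1)) :
    ρ u z = z := by
  obtain ⟨i, rfl⟩ := mem_powers_iff_mem_zpowers.2 hu
  simp only [map_pow]
  exact pow_apply_of_fixed hz i

theorem rho_sub_mem {u : G} (hu : u ∈ zpowers x) (z : Y) :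
    ρ u z - z ∈ LinearMap.range (ρ x - 1) := by
  obtain ⟨i, rfl⟩ := mem_powers_iff_mem_zpowers.2 hu
  simp only [map_pow]
  exact pow_sub_mem i z

theorem rho_mem_Y0 {n : G} (hn : n ∈ normalizer (zpowers x : Set G)) :
    ∀ z ∈ LinearMap.ker (ρ x - 1), ρ n z ∈ LinearMap.ker (ρ x - 1) := by
  intro z hz
  have := rho_fixed ρ (conj_mem_of_mem_normalizer' hn (mem_zpowers x)) hz
  rw [LinearMap.mem_ker, LinearMap.sub_apply, End.one_apply, sub_eq_zero, ← rho_mul]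
  conv_rhs => rw [← this, ← rho_mul]
  congr 2; group

theorem rho_mem_B1 {n : G} (hn : n ∈ normalizer (zpowers x : Set G)) :
    ∀ z ∈ LinearMap.range (ρ x - 1), ρ n z ∈ LinearMap.range (ρ x - 1) := by
  rintro _ ⟨y, rfl⟩
  have := rho_sub_mem ρ (conj_mem_of_mem_normalizer hn (mem_zpowers x)) (ρ n y)
  rw [← rho_mul, inv_mul_cancel_right, rho_mul] at this
  simpa using this

theorem exists_transfer (hx : orderOf x = p) (hi : ¬ p ∣ (zpowers x).index) {φ : End ℤ_[p] Y}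
    (hφ : ρ x * φ = φ * ρ x) : ∃ γ : End ℤ_[p] Y, (∀ g, ρ g * γ = γ * ρ g) ∧
      ∃ s : Finset (G ⧸ zpowers x), (∀ q ∈ s, q.out ∈ normalizer (zpowers x : Set G)) ∧
      ¬ p ∣ s.card ∧
      (∀ z ∈ LinearMap.ker (ρ x - 1), γ z - (∑ q ∈ s, ρ q.out * φ * ρ q.out⁻¹) z ∈
        LinearMap.range (nrm (ρ x))) ∧
      (∀ z ∈ LinearMap.ker (nrm (ρ x)), γ z - (∑ q ∈ s, ρ q.out * φ * ρ q.out⁻¹) z ∈
        LinearMap.range (ρ x - 1)) := by
  classical
  have := Fintype.ofFinite (G ⧸ zpowers x)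
  let T : G ⧸ zpowers x → End ℤ_[p] Y := fun q => ρ q.out * φ * ρ q.out⁻¹
  have hφ' : ∀ u ∈ zpowers x, ρ u * φ = φ * ρ u := by
    intro u hu
    obtain ⟨i, rfl⟩ := mem_powers_iff_mem_zpowers.2 hu
    simp only [map_pow]
    exact ((show Commute (ρ x) φ from hφ).pow_left i).eq
  have hT : ∀ g : G, T (g : G ⧸ zpowers x) = ρ g * φ * ρ g⁻¹ := by
    intro g
    obtain ⟨u, hu⟩ := QuotientGroup.mk_out_eq_mul (zpowers x) g
    simp only [T, hu, map_mul, mul_inv_rev]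
    rw [mul_assoc (ρ g), hφ' _ u.2]
    simp only [mul_assoc]
    rw [← mul_assoc (ρ u), ← map_mul, mul_inv_cancel, map_one, one_mul]
  have hT' : ∀ (g : G) q, T (g • q) = ρ g * T q * ρ g⁻¹ := by
    intro g q
    obtain ⟨h, rfl⟩ := QuotientGroup.mk_surjective q
    rw [MulAction.Quotient.smul_mk, hT, hT, smul_eq_mul, map_mul, mul_inv_rev, map_mul]
    simp only [mul_assoc]
  let τ : Equiv.Perm (G ⧸ zpowers x) := MulAction.toPermHom G _ x
  have hτ : τ ^ p = 1 := by rw [← map_pow, ← hx, pow_orderOf_eq_one, map_one]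
  have hτi : ∀ (i : ℕ) q, (τ ^ i) q = x ^ i • q := fun i q => by rw [← map_pow]; rfl
  have hS : ∀ q ∈ univ.filter (fun q => ¬ τ q = q), τ q ≠ q ∧ τ q ∈ univ.filter (fun q => ¬ τ q = q) :=
    fun q hq => ⟨(mem_filter.1 hq).2, mem_filter.2 ⟨mem_univ _, fun h =>
      (mem_filter.1 hq).2 (τ.injective h)⟩⟩
  have hsplit : ∀ z, (∑ q, T q) z - (∑ q ∈ univ.filter (fun q => τ q = q), T q) z =
      ∑ q ∈ univ.filter (fun q => ¬ τ q = q), T q z := fun z => by
    rw [← sum_filter_add_sum_filter_not univ (fun q => τ q = q), LinearMap.add_apply,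
      add_sub_cancel_left, LinearMap.sum_apply]
  refine ⟨∑ q, T q, fun g => ?_, univ.filter (fun q => τ q = q), fun q hq => ?_, fun hd => hi ?_,
    fun z hz => ?_, fun z hz => ?_⟩
  · rw [mul_sum, sum_mul, ← Equiv.sum_comp (MulAction.toPerm g) (fun q => T q * ρ g)]
    refine sum_congr rfl fun q _ => ?_
    rw [MulAction.toPerm_apply, hT', mul_assoc _ (ρ g⁻¹), ← map_mul, inv_mul_cancel, map_one, mul_one]
  · have h1 : x • q = q := (mem_filter.1 hq).2
    conv at h1 => rw [← QuotientGroup.out_eq' q]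
    rw [MulAction.Quotient.smul_mk, eq_comm, QuotientGroup.eq, smul_eq_mul] at h1
    rw [← inv_mem_iff]
    refine mem_normalizer_of_cj_le ?_
    rw [cj_zpowers, zpowers_le, inv_inv, mul_assoc]
    exact h1
  · have h1 := sum_mem_of_free τ hτ (AddSubgroup.zmultiples (p : ℤ)) (fun _ => 1)
      (fun _ _ => by simp) _ hS
    simp only [sum_const, nsmul_eq_mul, mul_one, Int.mem_zmultiples_iff] at h1
    have h2 := card_filter_add_card_filter_not (s := univ) (fun q => τ q = q)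
    rw [index, Nat.card_eq_fintype_card, ← card_univ, ← h2]
    exact dvd_add hd (by exact_mod_cast h1)
  · rw [hsplit]
    refine sum_mem_of_free τ hτ (LinearMap.range (nrm (ρ x))).toAddSubgroup (fun q => T q z)
      (fun q _ => ⟨T q z, ?_⟩) _ hS
    simp only [nrm, LinearMap.sum_apply, hτi, hT', End.mul_apply]
    refine sum_congr rfl fun i _ => ?_
    rw [rho_fixed ρ (inv_mem (npow_mem_zpowers x i)) hz, map_pow]
  · rw [hsplit]
    refine sum_mem_of_free τ hτ (LinearMap.range (ρ x - 1)).toAddSubgroup (fun q => T q z)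
      (fun q _ => ?_) _ hS
    simp only [hτi, hT', End.mul_apply]
    have h1 : ∑ i ∈ range p, ρ (x ^ i)⁻¹ z = 0 := by
      have := Fintype.ofFinite G
      have h3 : ∑ i ∈ range p, ρ (x ^ i)⁻¹ z = ∑ i ∈ range p, ρ (x ^ i) z := by
        have e1 := sum_range_pow_eq x (fun u => ρ u⁻¹ z)
        have e2 := sum_range_pow_eq x (fun u => ρ u z)
        rw [hx] at e1 e2
        rw [e1, e2]
        exact sum_bij (fun u _ => u⁻¹) (fun u hu => by simpa using hu)
          (fun _ _ _ _ h => by simpa using h) (fun u hu => ⟨u⁻¹, by simpa using hu, inv_inv u⟩)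
          (fun _ _ => rfl)
      rw [h3, ← LinearMap.mem_ker.1 hz, nrm, LinearMap.sum_apply]
      simp
    have h2 : ∑ i ∈ range p, ρ (x ^ i) (T q (ρ (x ^ i)⁻¹ z)) = ∑ i ∈ range p,
        (ρ (x ^ i) (T q (ρ (x ^ i)⁻¹ z)) - T q (ρ (x ^ i)⁻¹ z)) := by
      rw [sum_sub_distrib, ← map_sum (T q), h1, map_zero, sub_zero]
    rw [h2]
    exact Submodule.sum_mem _ fun i _ => rho_sub_mem ρ (npow_mem_zpowers x i) _

theorem loc_main (hx : orderOf x = p) (hi : ¬ p ∣ (zpowers x).index)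
    (hid : ∀ u : End ℤ_[p] Y, u * u = u → (∀ g, ρ g * u = u * ρ g) → u = 0 ∨ u = 1)
    {Z B Z' B' : Submodule ℤ_[p] Y}
    (hc : (Z = LinearMap.ker (ρ x - 1) ∧ B = LinearMap.range (nrm (ρ x)) ∧
      Z' = LinearMap.ker (nrm (ρ x)) ∧ B' = LinearMap.range (ρ x - 1)) ∨
      (Z' = LinearMap.ker (ρ x - 1) ∧ B' = LinearMap.range (nrm (ρ x)) ∧
      Z = LinearMap.ker (nrm (ρ x)) ∧ B = LinearMap.range (ρ x - 1)))
    {φ : End ℤ_[p] Y} (hφ : ρ x * φ = φ * ρ x) {w : Y} (hwZ : w ∈ Z) (hwB : w ∉ B)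
    (h1 : ∀ y, φ y ∈ Z) (h2 : ∀ y, φ y ∈ Submodule.span ℤ_[p] {w} ⊔ B) (h3 : φ w - w ∈ B)
    (h4 : ∀ n ∈ normalizer (zpowers x : Set G), ∃ c : ℤ_[p], ρ n w - c • w ∈ B) :
    Z ≤ Submodule.span ℤ_[p] {w} ⊔ B ∧ Z' ≤ B' := by
  obtain ⟨γ, hγ, s, hs, hcard, j0, j1⟩ := exists_transfer ρ hx hi hφ
  obtain ⟨k, δ, hδ, hk⟩ := exists_pow_dichotomy (Set.range ρ) (fun u hu h => hid u hu fun g =>
    h _ ⟨g, rfl⟩) (γ := γ) (by rintro _ ⟨g, rfl⟩; exact hγ g)
  have hδ' := hδ _ ⟨x, rfl⟩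
  have a1 : ∀ f : End ℤ_[p] Y, ρ x * f = f * ρ x →
      (∀ z ∈ Z, f z ∈ Z) ∧ (∀ z ∈ Z', f z ∈ Z') ∧ (∀ z ∈ B, f z ∈ B) := by
    intro f hf
    rcases hc with ⟨rfl, rfl, rfl, rfl⟩ | ⟨rfl, rfl, rfl, rfl⟩
    · exact ⟨mem_ker_of_comm (comm_sub hf), mem_ker_of_comm (comm_nrm hf),
        mem_range_of_comm (comm_nrm hf)⟩
    · exact ⟨mem_ker_of_comm (comm_nrm hf), mem_ker_of_comm (comm_sub hf),
        mem_range_of_comm (comm_sub hf)⟩
  have a2 : ∀ n ∈ normalizer (zpowers x : Set G),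
      (∀ z ∈ Z', ρ n z ∈ Z') ∧ (∀ z ∈ B, ρ n z ∈ B) := by
    intro n hn
    rcases hc with ⟨rfl, rfl, rfl, rfl⟩ | ⟨rfl, rfl, rfl, rfl⟩
    · exact ⟨mem_ker_of_comm (nrm_comm_rho ρ hx hn), mem_range_of_comm (nrm_comm_rho ρ hx hn)⟩
    · exact ⟨rho_mem_Y0 ρ hn, rho_mem_B1 ρ hn⟩
  have a3 : ∀ z ∈ Z, z ∈ Z' → z = 0 := by
    rcases hc with ⟨rfl, rfl, rfl, rfl⟩ | ⟨rfl, rfl, rfl, rfl⟩
    · exact fun z h h' => eq_zero_of_mem_mem h h'
    · exact fun z h h' => eq_zero_of_mem_mem h' h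
  refine loc_aux (F := ∑ q ∈ s, ρ q.out * φ * ρ q.out⁻¹) (padic_isUnit_natCast hcard) (a1 γ (hγ x)).1
    (a1 γ (hγ x)).2.1 (a1 γ (hγ x)).2.2 ?_ ?_ (fun z hz => ?_) (fun z hz => ?_) ?_ hwZ hwB
    (a1 δ hδ').1 (a1 δ hδ').2.1 ?_ ?_ hk
  · rcases hc with ⟨rfl, rfl, rfl, rfl⟩ | ⟨rfl, rfl, rfl, rfl⟩
    exacts [j0, j1]
  · rcases hc with ⟨rfl, rfl, rfl, rfl⟩ | ⟨rfl, rfl, rfl, rfl⟩
    exacts [j1, j0]
  · rw [LinearMap.sum_apply]
    refine Submodule.sum_mem _ fun q hq => ?_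
    obtain ⟨a, ha, b, hb, e⟩ := Submodule.mem_sup.1 (h2 (ρ q.out⁻¹ z))
    obtain ⟨c, rfl⟩ := Submodule.mem_span_singleton.1 ha
    obtain ⟨d, hd⟩ := h4 _ (hs q hq)
    rw [End.mul_apply, End.mul_apply, ← e, map_add, map_smul]
    refine add_mem (Submodule.smul_mem _ _ ?_) (Submodule.mem_sup_right ((a2 _ (hs q hq)).2 _ hb))
    rw [← sub_add_cancel (ρ q.out w) (d • w)]
    exact add_mem (Submodule.mem_sup_right hd) (Submodule.mem_sup_left
      (Submodule.smul_mem _ _ (Submodule.mem_span_singleton_self w)))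
  · rw [LinearMap.sum_apply]
    refine sum_eq_zero fun q hq => ?_
    rw [End.mul_apply, End.mul_apply,
      a3 _ (h1 _) ((a1 φ hφ).2.1 _ ((a2 _ (inv_mem (hs q hq))).1 z hz)), map_zero]
  · have : (∑ q ∈ s, ρ q.out * φ * ρ q.out⁻¹) w - (s.card : ℤ_[p]) • w =
        ∑ q ∈ s, (ρ q.out (φ (ρ q.out⁻¹ w)) - w) := by
      simp [LinearMap.sum_apply, Nat.cast_smul_eq_nsmul]
    rw [this]
    refine Submodule.sum_mem _ fun q hq => ?_
    obtain ⟨d, hd⟩ := h4 _ (inv_mem (hs q hq))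
    have := (a2 _ (hs q hq)).2 _ (sub_mem (add_mem ((a1 φ hφ).2.2 _ hd) (B.smul_mem d h3)) hd)
    convert this using 1
    simp only [map_sub, map_smul, smul_sub, map_add, rho_mul_inv]
    abel
  · rcases hc with ⟨rfl, rfl, rfl, rfl⟩ | ⟨rfl, rfl, rfl, rfl⟩
    exacts [fun z => p_smul_mem0, fun z => p_smul_mem1]
  · rcases hc with ⟨rfl, rfl, rfl, rfl⟩ | ⟨rfl, rfl, rfl, rfl⟩
    exacts [fun z => p_smul_mem1, fun z => p_smul_mem0]

/-- fixed points of a subgroup -/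
def fixedSub (H : Subgroup G) : Submodule ℤ_[p] Y where
  carrier := {z | ∀ h ∈ H, ρ h z = z}
  add_mem' := fun ha hb h hh => by rw [map_add, ha h hh, hb h hh]
  zero_mem' := fun h _ => map_zero _
  smul_mem' := fun c z hz h hh => by rw [map_smul, hz h hh]

theorem rho_mem_fixedSub {H : Subgroup G} {n : G} (hn : n ∈ normalizer (H : Set G)) :
    ∀ z ∈ fixedSub ρ H, ρ n z ∈ fixedSub ρ H := by
  intro z hz h hh
  have := hz _ (conj_mem_of_mem_normalizer' hn hh)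
  conv_rhs => rw [← this, ← rho_mul]
  rw [← rho_mul]
  congr 2; group

theorem sum_mem_fixedSub [Fintype G] (H : Subgroup G) [DecidablePred (· ∈ H)] (z : Y) :
    (∑ h ∈ univ.filter (· ∈ H), ρ h) z ∈ fixedSub ρ H := by
  intro k hk
  rw [← End.mul_apply, mul_sum]
  congr 1
  exact sum_bij (fun h _ => k * h) (fun h hh => by simpa using H.mul_mem hk (by simpa using hh))
    (fun _ _ _ _ h => by simpa using h)
    (fun h hh => ⟨k⁻¹ * h, by simpa using H.mul_mem (H.inv_mem hk) (by simpa using hh), by simp⟩)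
    (fun _ _ => by rw [map_mul])

theorem sum_apply_of_fixed [Fintype G] {H : Subgroup G} [DecidablePred (· ∈ H)] {z : Y}
    (hz : z ∈ fixedSub ρ H) : (∑ h ∈ univ.filter (· ∈ H), ρ h) z = (Nat.card H : ℤ_[p]) • z := by
  rw [LinearMap.sum_apply, sum_congr rfl fun h hh => hz h (mem_filter.1 hh).2, sum_const,
    Nat.cast_smul_eq_nsmul, Nat.card_eq_fintype_card, Fintype.card_subtype]

theorem trace_mul_sum [Fintype G] (H : Subgroup G) [DecidablePred (· ∈ H)] {f : End ℤ_[p] Y}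
    (hf : ∀ z ∈ fixedSub ρ H, f z ∈ fixedSub ρ H) :
    LinearMap.trace ℤ_[p] Y (f * ∑ h ∈ univ.filter (· ∈ H), ρ h) =
      Nat.card H * LinearMap.trace ℤ_[p] _ (f.restrict hf) := by
  rw [← LinearMap.trace_restrict_eq_of_forall_mem (fixedSub ρ H) _
    (fun z => by exact hf _ (sum_mem_fixedSub ρ H z)), ← smul_eq_mul (Nat.card H : ℤ_[p]), ← map_smul]
  congr 1
  ext z
  change f ((∑ h ∈ univ.filter (· ∈ H), ρ h) z) = (Nat.card H : ℤ_[p]) • f z
  rw [sum_apply_of_fixed ρ z.2, map_smul]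

theorem trace_nrm {σ : End ℤ_[p] Y} (hσ : σ ^ p = 1) :
    LinearMap.trace ℤ_[p] Y (nrm σ) = p * finrank ℤ_[p] (LinearMap.ker (σ - 1)) := by
  rw [← LinearMap.trace_restrict_eq_of_forall_mem (LinearMap.ker (σ - 1)) _
    (fun z => sub_nrm hσ z), ← LinearMap.trace_one, ← smul_eq_mul, ← map_smul]
  congr 1
  ext z
  exact nrm_of_fixed z.2

theorem herbrand' {σ : End ℤ_[p] Y} (hσ : σ ^ p = 1) {a b : ℕ}
    (ha : (LinearMap.range (nrm σ)).toAddSubgroup.relIndex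
      (LinearMap.ker (σ - 1)).toAddSubgroup = p ^ a)
    (hb : (LinearMap.range (σ - 1)).toAddSubgroup.relIndex
      (LinearMap.ker (nrm σ)).toAddSubgroup = p ^ b) :
    LinearMap.trace ℤ_[p] Y (nrm σ) - LinearMap.trace ℤ_[p] Y 1 = (p - 1) * (a - b) := by
  have := congrArg (Nat.cast : ℕ → ℤ_[p]) (herbrand hσ ha hb)
  push_cast [Nat.cast_sub hp.out.pos] at this
  rw [trace_nrm hσ, LinearMap.trace_one]
  linear_combination this

/-- The local structure of a group with a Sylow subgroup of prime order. -/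
structure Loc1 (p : ℕ) (x : G) (V : Subgroup G) (y : G) : Prop where
  ord : orderOf x = p
  idx : ¬ p ∣ (zpowers x).index
  cent : V ≤ centralizer {x}
  norm : normalizer (zpowers x : Set G) ≤ normalizer (V : Set G)
  cop : ¬ p ∣ Nat.card V
  ymem : y ∈ normalizer (zpowers x : Set G)
  gen : ∀ n ∈ normalizer (zpowers x : Set G), ∃ k : ℕ, ∃ u ∈ zpowers x, ∃ v ∈ V, n = y ^ k * u * v
  ypow : ∃ u ∈ zpowers x, ∃ v ∈ V, y ^ p = y * u * v

theorem eigen_main {V : Subgroup G} {y : G} (h : Loc1 p x V y) {Z B : Submodule ℤ_[p] Y}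
    (hZ : ∀ n ∈ normalizer (zpowers x : Set G), ∀ z ∈ Z, ρ n z ∈ Z)
    (hB : ∀ n ∈ normalizer (zpowers x : Set G), ∀ z ∈ B, ρ n z ∈ B)
    (hu : ∀ u ∈ zpowers x, ∀ z ∈ Z, ρ u z - z ∈ B) (hp' : ∀ z ∈ Z, (p : ℤ_[p]) • z ∈ B)
    (hne : ¬ Z ⊓ fixedSub ρ V ≤ B) : ∃ w ∈ Z, w ∉ B ∧
      ∀ n ∈ normalizer (zpowers x : Set G), ∃ c : ℤ_[p], ρ n w - c • w ∈ B := by
  obtain ⟨z, hz, hzB⟩ := SetLike.not_le_iff_exists.1 hne
  obtain ⟨w, hw, hwB, c, hc⟩ := exists_eigen (Z := Z ⊓ fixedSub ρ V) (B := B) (y := ρ y)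
    (fun z hz => ⟨hZ _ h.ymem _ hz.1, rho_mem_fixedSub ρ (h.norm h.ymem) _ hz.2⟩)
    (fun z hz => hp' z hz.1) (fun z hz => by
      obtain ⟨u, hu', v, hv, e⟩ := h.ypow
      rw [← map_pow, e, rho_mul, rho_mul, hz.2 v hv, ← map_sub]
      exact hB _ h.ymem _ (hu u hu' z hz.1)) hz hzB
  refine ⟨w, hw.1, hwB, fun n hn => ?_⟩
  obtain ⟨k, u, hu', v, hv, rfl⟩ := h.gen n hn
  refine ⟨c ^ k, ?_⟩
  have h1 : ∀ k : ℕ, ρ (y ^ k) w - c ^ k • w ∈ B := by
    intro k
    induction k with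
    | zero => simp
    | succ k ih =>
      convert add_mem (hB _ h.ymem _ ih) (B.smul_mem (c ^ k) hc) using 1
      simp only [pow_succ' y, rho_mul, map_sub, map_smul, smul_sub, pow_succ c, mul_smul]
      abel
  rw [rho_mul, rho_mul, hw.2 v hv]
  convert add_mem (hB _ (pow_mem h.ymem k) _ (hu u hu' w hw.1)) (h1 k) using 1
  rw [map_sub]; abel

theorem lattice_cases [Fintype G] {V : Subgroup G} [DecidablePred (· ∈ V)] {y : G}
    (h : Loc1 p x V y)
    (hid : ∀ u : End ℤ_[p] Y, u * u = u → (∀ g, ρ g * u = u * ρ g) → u = 0 ∨ u = 1) :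
    (∑ i ∈ range p, LinearMap.trace ℤ_[p] Y (ρ (x ^ i))) - LinearMap.trace ℤ_[p] Y (ρ 1) = p - 1 ∨
    (∑ i ∈ range p, LinearMap.trace ℤ_[p] Y (ρ (x ^ i))) - LinearMap.trace ℤ_[p] Y (ρ 1) = -(p - 1) ∨
    ∑ v ∈ univ.filter (· ∈ V), ((∑ i ∈ range p, LinearMap.trace ℤ_[p] Y (ρ (x ^ i * v))) -
      LinearMap.trace ℤ_[p] Y (ρ v)) = 0 := by
  have hσ := rho_pow_eq_one ρ h.ord
  have e1 : ∑ i ∈ range p, LinearMap.trace ℤ_[p] Y (ρ (x ^ i)) =
      LinearMap.trace ℤ_[p] Y (nrm (ρ x)) := by simp [nrm, map_sum]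
  by_cases h0 : LinearMap.ker (ρ x - 1) ⊓ fixedSub ρ V ≤ LinearMap.range (nrm (ρ x))
  · by_cases h1 : LinearMap.ker (nrm (ρ x)) ⊓ fixedSub ρ V ≤ LinearMap.range (ρ x - 1)
    · right; right
      have hx : ∀ z ∈ fixedSub ρ V, ρ x z ∈ fixedSub ρ V :=
        rho_mem_fixedSub ρ (h.norm (le_normalizer (mem_zpowers x)))
      have hc : ρ x * ∑ v ∈ univ.filter (· ∈ V), ρ v = (∑ v ∈ univ.filter (· ∈ V), ρ v) * ρ x := by
        rw [mul_sum, sum_mul]
        refine sum_congr rfl fun v hv => ?_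
        rw [← map_mul, ← map_mul, mem_centralizer_singleton_iff.1 (h.cent (mem_filter.1 hv).2)]
      have hx' : ∀ z ∈ fixedSub ρ V, nrm (ρ x) z ∈ fixedSub ρ V := fun z hz => by
        rw [nrm, LinearMap.sum_apply]
        exact Submodule.sum_mem _ fun i _ => pow_mem_of_forall hx i z hz
      have hn : nrm ((ρ x).restrict hx) = (nrm (ρ x)).restrict hx' := by
        ext z
        rw [LinearMap.coe_restrict_apply, nrm, nrm, LinearMap.sum_apply, LinearMap.sum_apply,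
          Submodule.coe_sum]
        exact sum_congr rfl fun i _ => by rw [End.pow_restrict]; rfl
      obtain ⟨c, hc'⟩ := padic_isUnit_natCast h.cop
      have key : ∀ f : End ℤ_[p] Y, f * ∑ v ∈ univ.filter (· ∈ V), ρ v =
          (∑ v ∈ univ.filter (· ∈ V), ρ v) * f → ∀ z ∈ fixedSub ρ V, z ∈ LinearMap.range f →
          ∃ z' ∈ fixedSub ρ V, f z' = z := by
        rintro f hf _ hz ⟨z, rfl⟩
        refine ⟨((c⁻¹ : ℤ_[p]ˣ) : ℤ_[p]) • (∑ v ∈ univ.filter (· ∈ V), ρ v) z,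
          Submodule.smul_mem _ _ (sum_mem_fixedSub ρ V z), ?_⟩
        rw [map_smul, ← End.mul_apply, hf, End.mul_apply, sum_apply_of_fixed ρ hz, ← hc', ← mul_smul,
          Units.inv_mul, one_smul]
      have := herbrand' (σ := (ρ x).restrict hx) (a := 0) (b := 0)
        (by rw [End.pow_restrict]; ext z; rw [LinearMap.coe_restrict_apply, hσ]; rfl)
        (by
          rw [pow_zero, AddSubgroup.relIndex_eq_one]
          intro z hz
          have h2 : (z : Y) ∈ LinearMap.ker (ρ x - 1) := congrArg Subtype.val hz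
          obtain ⟨z', h3, h4⟩ := key _ (comm_nrm hc) z z.2 (h0 ⟨h2, z.2⟩)
          exact ⟨⟨z', h3⟩, Subtype.ext (by rw [hn]; exact h4)⟩)
        (by
          rw [pow_zero, AddSubgroup.relIndex_eq_one]
          intro z hz
          have h2 : (z : Y) ∈ LinearMap.ker (nrm (ρ x)) := by
            have : nrm ((ρ x).restrict hx) z = 0 := hz
            rw [hn] at this
            exact congrArg Subtype.val this
          obtain ⟨z', h3, h4⟩ := key _ (comm_sub hc) z z.2 (h1 ⟨h2, z.2⟩)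
          exact ⟨⟨z', h3⟩, Subtype.ext h4⟩)
      rw [sub_self, mul_zero, hn] at this
      have e2 := trace_mul_sum ρ V (f := 1) (fun z hz => hz)
      have e3 : ∑ v ∈ univ.filter (· ∈ V), ∑ i ∈ range p, LinearMap.trace ℤ_[p] Y (ρ (x ^ i * v)) =
          LinearMap.trace ℤ_[p] Y (nrm (ρ x) * ∑ v ∈ univ.filter (· ∈ V), ρ v) := by
        simp only [nrm, map_sum, mul_sum, sum_mul, map_mul, map_pow]
      rw [sum_sub_distrib, e3, trace_mul_sum ρ V hx', ← map_sum, ← one_mul (∑ v ∈ _, ρ v), e2, ← mul_sub]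
      exact mul_eq_zero_of_right _ this
    · right; left
      obtain ⟨w, hw, hwB, h4⟩ := eigen_main ρ h (fun n hn => mem_ker_of_comm (nrm_comm_rho ρ h.ord hn))
        (fun n hn => rho_mem_B1 ρ hn) (fun u hu z _ => rho_sub_mem ρ hu z) (fun z => p_smul_mem1) h1
      obtain ⟨φ, f1, f2, f3, f4⟩ := exists_phi1 hσ hw hwB
      obtain ⟨k1, k2⟩ := loc_main ρ h.ord h.idx hid (Or.inr ⟨rfl, rfl, rfl, rfl⟩) f1 hw hwB f2 f3 f4 h4
      rw [e1, map_one, herbrand' hσ (a := 0) (AddSubgroup.relIndex_eq_one.2 k2)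
        (relIndex_of_span (p_smul_mem1 hw) hw hwB k1)]
      simp
  · left
    obtain ⟨w, hw, hwB, h4⟩ := eigen_main ρ h (fun n hn => rho_mem_Y0 ρ hn)
      (fun n hn => mem_range_of_comm (nrm_comm_rho ρ h.ord hn))
      (fun u hu z hz => by rw [rho_fixed ρ hu hz, sub_self]; exact zero_mem _)
      (fun z => p_smul_mem0) h0
    obtain ⟨φ, f1, f2, f3⟩ := exists_phi0 hσ hw hwB
    obtain ⟨k1, k2⟩ := loc_main ρ h.ord h.idx hid (Or.inl ⟨rfl, rfl, rfl, rfl⟩) f1 hw hwB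
      (fun y => (Submodule.span_singleton_le_iff_mem _ _).2 hw (f2 y))
      (fun y => Submodule.mem_sup_left (f2 y)) (by rw [f3, sub_self]; exact zero_mem _) h4
    rw [e1, map_one, herbrand' hσ (b := 0) (relIndex_of_span (p_smul_mem0 hw) hw hwB k1)
      (AddSubgroup.relIndex_eq_one.2 k2)]
    simp

/-! ### construction of the lattice -/

/-- restriction to an invariant submodule -/
noncomputable def subRep (W : Submodule ℤ_[p] Y) (hW : ∀ g, ∀ z ∈ W, ρ g z ∈ W) : G →* End ℤ_[p] W where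
  toFun g := (ρ g).restrict (hW g)
  map_one' := by ext z; rw [LinearMap.coe_restrict_apply, map_one]; rfl
  map_mul' g h := by ext z; rw [LinearMap.coe_restrict_apply, map_mul]; rfl

theorem subRep_sum [Fintype G] (W : Submodule ℤ_[p] Y) (hW : ∀ g, ∀ z ∈ W, ρ g z ∈ W)
    (a : G → ℤ_[p]) (z : W) : ((∑ g, a g • subRep ρ W hW g) z : Y) = (∑ g, a g • ρ g) z := by
  rw [LinearMap.sum_apply, LinearMap.sum_apply, Submodule.coe_sum]; rfl

theorem exists_min_lattice [Fintype G] (a : G → ℤ_[p]) (c : ℤ_[p]) (n : ℕ) :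
    ∀ (Y : Type u) [AddCommGroup Y] [Module ℤ_[p] Y] [Module.Free ℤ_[p] Y] [Module.Finite ℤ_[p] Y]
      [Nontrivial Y] (ρ : G →* End ℤ_[p] Y), finrank ℤ_[p] Y = n → ∑ g, a g • ρ g = c • 1 →
    ∃ (Y : Type u) (_ : AddCommGroup Y) (_ : Module ℤ_[p] Y) (_ : Module.Free ℤ_[p] Y)
      (_ : Module.Finite ℤ_[p] Y) (_ : Nontrivial Y) (ρ : G →* End ℤ_[p] Y),
      ∑ g, a g • ρ g = c • 1 ∧
      ∀ u : End ℤ_[p] Y, u * u = u → (∀ g, ρ g * u = u * ρ g) → u = 0 ∨ u = 1 := by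
  induction n using Nat.strong_induction_on with
  | h n ih =>
    intro Y _ _ _ _ _ ρ hn ha
    by_cases hid : ∀ u : End ℤ_[p] Y, u * u = u → (∀ g, ρ g * u = u * ρ g) → u = 0 ∨ u = 1
    · exact ⟨Y, _, _, inferInstance, inferInstance, inferInstance, ρ, ha, hid⟩
    push Not at hid
    obtain ⟨u, h1, h2, h3, h4⟩ := hid
    have hW : ∀ g, ∀ z ∈ LinearMap.range u, ρ g z ∈ LinearMap.range u :=
      fun g => mem_range_of_comm (h2 g).symm
    have : Nontrivial (LinearMap.range u) :=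
      Submodule.nontrivial_iff_ne_bot.2 (by rwa [Ne, LinearMap.range_eq_bot])
    have : Nontrivial (LinearMap.ker u) := Submodule.nontrivial_iff_ne_bot.2 fun h => h4 (by
      ext y
      have : u y - y ∈ LinearMap.ker u := by
        rw [LinearMap.mem_ker, map_sub, ← End.mul_apply, h1, sub_self]
      rw [h, Submodule.mem_bot, sub_eq_zero] at this
      exact this)
    refine ih _ ?_ (LinearMap.range u) (subRep ρ _ hW) rfl ?_
    · have h7 := (LinearMap.ker u).finrank_quotient_add_finrank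
      rw [u.quotKerEquivRange.finrank_eq] at h7
      have := finrank_pos (R := ℤ_[p]) (M := LinearMap.ker u)
      omega
    · ext z
      rw [subRep_sum, ha]; rfl

theorem exists_lattice [Fintype G] (a : G → ℤ_[p]) (c : ℤ_[p]) (h1 : ∀ g h, a (g * h * g⁻¹) = a h)
    (h2 : ∀ g, ∑ h, a h * a (h⁻¹ * g) = c * a g) (h3 : a 1 ≠ 0) :
    ∃ (Y : Type u) (_ : AddCommGroup Y) (_ : Module ℤ_[p] Y) (_ : Module.Free ℤ_[p] Y)
      (_ : Module.Finite ℤ_[p] Y) (_ : Nontrivial Y) (ρ : G →* End ℤ_[p] Y),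
      ∑ g, a g • ρ g = c • 1 ∧
      ∀ u : End ℤ_[p] Y, u * u = u → (∀ g, ρ g * u = u * ρ g) → u = 0 ∨ u = 1 := by
  classical
  let ρ : G →* End ℤ_[p] (G → ℤ_[p]) :=
    { toFun := fun g => LinearMap.funLeft ℤ_[p] ℤ_[p] (fun k => g⁻¹ * k)
      map_one' := by ext f k; simp
      map_mul' := fun g h => by ext f k; simp [mul_assoc] }
  set A := ∑ g, a g • ρ g with hA
  have hc : ∀ g, A * ρ g = ρ g * A := by
    intro g
    rw [hA, sum_mul, mul_sum, ← Equiv.sum_comp (MulAut.conj g).toEquiv]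
    refine sum_congr rfl fun h _ => ?_
    simp only [MulEquiv.toEquiv_eq_coe, EquivLike.coe_coe, MulAut.conj_apply, h1, smul_mul_assoc,
      mul_smul_comm, ← map_mul, inv_mul_cancel_right]
  have hAA : A * A = c • A := by
    have : ∀ g, (a g • ρ g) * A = ∑ m, (a g * a (g⁻¹ * m)) • ρ m := by
      intro g
      rw [hA, mul_sum, ← Equiv.sum_comp (Equiv.mulLeft g⁻¹)]
      refine sum_congr rfl fun h _ => ?_
      simp only [Equiv.coe_mulLeft, smul_mul_smul_comm, ← map_mul, mul_inv_cancel_left]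
    conv_lhs => rw [hA, sum_mul]
    simp only [← hA, this]
    rw [sum_comm, hA, smul_sum]
    exact sum_congr rfl fun m _ => by rw [← sum_smul, h2, mul_smul]
  have hW : ∀ g, ∀ z ∈ LinearMap.range A, ρ g z ∈ LinearMap.range A :=
    fun g => mem_range_of_comm (hc g)
  have : Nontrivial (LinearMap.range A) := Submodule.nontrivial_iff_ne_bot.2 fun h => h3 (by
    rw [LinearMap.range_eq_bot] at h
    have := congrFun (LinearMap.congr_fun h (Pi.single 1 1)) 1
    rw [hA] at this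
    simpa [LinearMap.sum_apply, ρ, Pi.single_apply] using this)
  refine exists_min_lattice a c _ (LinearMap.range A) (subRep ρ _ hW) rfl ?_
  ext z
  obtain ⟨_, y, rfl⟩ := z
  rw [subRep_sum, ← hA, ← End.mul_apply, hAA]
  rfl

theorem isCharacter_trace (ι : ℤ_[p] →+* ℂ) :
    IsCharacter G (fun g => ι (LinearMap.trace ℤ_[p] Y (ρ g))) := by
  classical
  let b := Module.Free.chooseBasis ℤ_[p] Y
  let f : End ℤ_[p] Y →* End ℂ (Free.ChooseBasisIndex ℤ_[p] Y → ℂ) :=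
    ((Matrix.toLinAlgEquiv' (R := ℂ)).toRingEquiv.toRingHom.comp (ι.mapMatrix.comp
      (LinearMap.toMatrixAlgEquiv b).toRingEquiv.toRingHom)).toMonoidHom
  have := Char.isCharacter_rep (G := G) (V := Free.ChooseBasisIndex ℤ_[p] Y → ℂ) (f.comp ρ)
  convert this using 1
  ext g
  rw [LinearMap.trace_eq_matrix_trace ℤ_[p] b, AddMonoidHom.map_trace]
  exact (Matrix.trace_toLin'_eq _).symm

open Cfsg.Agent.Char in
theorem exists_char_comb {V : Subgroup G} {y : G} (h : Loc1 p x V y) (S : Finset (IrrCharacter G))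
    (hS : S.Nonempty)
    (hgal : ∀ σ : ℂ ≃+* ℂ, ∀ χ ∈ S, ∃ χ' ∈ S, ∀ g, (χ' : G → ℂ) g = σ ((χ : G → ℂ) g))
    (hV : ∀ χ ∈ S, ∀ u ∈ zpowers x, u ≠ 1 → ∀ v ∈ V, (χ : G → ℂ) (u * v) = (χ : G → ℂ) u) :
    ∃ m : IrrCharacter G → ℕ, (∃ χ ∈ S, m χ ≠ 0) ∧ ∃ ε : ℤ, (ε = 1 ∨ ε = -1 ∨ ε = 0) ∧
      ∑ χ ∈ S, m χ * ∑ i ∈ range (p - 1), (χ : G → ℂ) (x ^ (i + 1)) = ε * (p - 1) := by
  classical
  have := Fintype.ofFinite G
  obtain ⟨ι⟩ := exists_ringHom_padicInt (p := p)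
  have ha : ∀ g : G, ∃ n : ℤ, ∑ χ ∈ S, (χ : G → ℂ) 1 * (χ : G → ℂ) g⁻¹ = n := by
    intro g
    refine exists_int_of_fixed (IsIntegral.sum _ fun χ _ =>
      (χ.2.isCharacter.isIntegral _).mul (χ.2.isCharacter.isIntegral _)) fun σ => ?_
    choose! f hf1 hf2 using hgal σ
    rw [map_sum]
    refine sum_bij (fun χ _ => f χ) hf1 (fun χ h1 ψ h2 e => ?_) (fun ψ hψ => ?_) (fun χ h1 => ?_)
    · ext g
      apply σ.injective
      rw [← hf2 χ h1, ← hf2 ψ h2, e]
    · obtain ⟨χ, h1, h2⟩ := hgal σ.symm ψ hψ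
      refine ⟨χ, h1, ?_⟩
      ext g
      rw [hf2 χ h1, h2, RingEquiv.apply_symm_apply]
    · rw [map_mul, hf2 χ h1, hf2 χ h1]
  choose a ha using ha
  have hconv : ∀ (ψ : IrrCharacter G) (k : G), ∑ g, (a g : ℂ) * (ψ : G → ℂ) (g * k) =
      if ψ ∈ S then (Nat.card G : ℂ) * (ψ : G → ℂ) k else 0 := by
    intro ψ k
    simp only [← ha, sum_mul]
    rw [sum_comm]
    have : ∀ χ ∈ S, ∑ g, (χ : G → ℂ) 1 * (χ : G → ℂ) g⁻¹ * (ψ : G → ℂ) (g * k) =
        if ψ = χ then (Nat.card G : ℂ) * (ψ : G → ℂ) k else 0 := by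
      intro χ _
      simp only [mul_assoc, ← mul_sum]
      split_ifs with e
      · subst e
        rw [ψ.2.sum_inv_mul_mul]
        field_simp [ψ.2.one_ne_zero]
      · rw [ψ.2.sum_inv_mul_mul_of_ne χ.2 (fun e' => e (Subtype.ext e')), mul_zero]
    rw [sum_congr rfl this, sum_ite_eq]
  obtain ⟨Y, _, _, _, _, _, ρ, hρ, hid⟩ := exists_lattice (p := p) (fun g => (a g : ℤ_[p]))
    (Nat.card G) (fun g k => by
      congr 1
      apply Int.cast_injective (α := ℂ)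
      rw [← ha, ← ha]
      refine sum_congr rfl fun χ _ => ?_
      rw [show (g * k * g⁻¹)⁻¹ = g * k⁻¹ * g⁻¹ by group, χ.2.isClassFunction])
    (fun g => by
      have : ∑ h, a h * a (h⁻¹ * g) = Nat.card G * a g := by
        apply Int.cast_injective (α := ℂ)
        push_cast
        simp only [← ha (_ * _), mul_sum, mul_inv_rev, inv_inv]
        rw [sum_comm, ← ha g, mul_sum]
        refine sum_congr rfl fun χ hχ => ?_
        have := hconv χ g⁻¹
        rw [if_pos hχ] at this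
        rw [mul_left_comm, ← this, mul_sum]
        refine sum_congr rfl fun k _ => ?_
        rw [χ.2.isClassFunction.mul_comm g⁻¹ k]; ring
      exact_mod_cast congrArg (Int.cast : ℤ → ℤ_[p]) this)
    (by
      have h1 := ha 1
      have h2 : (0 : ℝ) < a 1 := by
        have h3 := congrArg Complex.re h1
        rw [Complex.re_sum, Complex.intCast_re] at h3
        rw [← h3]
        refine sum_pos (fun χ _ => ?_) hS
        obtain ⟨n, hn, e⟩ := χ.2.exists_nat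
        rw [inv_one, e]
        simpa using hn.ne'
      have h3 : a 1 ≠ 0 := by rintro e; simp [e] at h2
      exact_mod_cast h3)
  have hψ := isCharacter_trace ρ ι
  set ψ : G → ℂ := fun g => ι (LinearMap.trace ℤ_[p] Y (ρ g)) with hψd
  obtain ⟨m, -, hm⟩ := hψ.exists_mult
  have hm1 : ∀ k, ψ k = ∑ χ, (m χ : ℂ) * (χ : G → ℂ) k := fun k => by
    rw [hm]; simp
  have hm2 : ∀ k, ψ k = ∑ χ ∈ S, (m χ : ℂ) * (χ : G → ℂ) k := by
    intro k
    have h1 : ∑ g, (a g : ℂ) * ψ (g * k) = Nat.card G * ψ k := by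
      have := congrArg (fun f => ι (LinearMap.trace ℤ_[p] Y (f * ρ k))) hρ
      simpa [sum_mul, hψd] using this
    apply mul_left_cancel₀ (card_ne_zero G)
    rw [← h1]
    simp only [hm1 (_ * _), mul_sum]
    rw [sum_comm]
    simp only [mul_left_comm (a _ : ℂ), ← mul_sum, hconv, mul_ite, mul_zero]
    rw [← sum_filter, filter_mem_eq_inter, univ_inter, mul_sum]
    exact sum_congr rfl fun _ _ => by ring
  have hp1 : p - 1 + 1 = p := Nat.sub_add_cancel hp.out.pos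
  have hsum : ∀ v ∈ V, ∑ i ∈ range p, ψ (x ^ i * v) - ψ v =
      ∑ χ ∈ S, m χ * ∑ i ∈ range (p - 1), (χ : G → ℂ) (x ^ (i + 1)) := by
    intro v hv
    conv_lhs => rw [← hp1, sum_range_succ', pow_zero, one_mul, add_sub_cancel_right]
    simp only [hm2, mul_sum]
    rw [sum_comm]
    refine sum_congr rfl fun χ hχ => sum_congr rfl fun i hi => ?_
    rw [hV χ hχ _ (npow_mem_zpowers x _) (pow_ne_one_of_lt_orderOf (by omega) (by
      have := mem_range.1 hi; rw [h.ord]; omega)) v hv]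
  refine ⟨m, ?_, ?_⟩
  · by_contra hc
    push Not at hc
    have h1 := hm2 1
    rw [sum_eq_zero fun χ hχ => by rw [hc χ hχ]; simp] at h1
    simp only [hψd, map_one, LinearMap.trace_one, map_natCast, Nat.cast_eq_zero] at h1
    exact (finrank_pos (R := ℤ_[p]) (M := Y)).ne' h1
  have h1 := hsum 1 V.one_mem
  simp only [mul_one] at h1
  rcases lattice_cases ρ h hid with e | e | e
  · refine ⟨1, Or.inl rfl, ?_⟩
    have := congrArg ι e
    rw [← h1]
    simpa [hψd] using this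
  · refine ⟨-1, Or.inr (Or.inl rfl), ?_⟩
    have := congrArg ι e
    rw [← h1]
    simpa [hψd] using this
  · refine ⟨0, Or.inr (Or.inr rfl), ?_⟩
    have := congrArg ι e
    simp only [map_sum, map_sub, map_zero] at this
    rw [sum_congr rfl fun v hv => hsum v (mem_filter.1 hv).2, sum_const, nsmul_eq_mul,
      mul_eq_zero] at this
    rcases this with e | e
    · exact absurd (card_eq_zero.1 (Nat.cast_eq_zero.1 e))
        (ne_empty_of_mem (mem_filter.2 ⟨mem_univ 1, V.one_mem⟩))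
    · simpa using e

end Cfsg.Agent.Inv
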