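import Cfsg.Agent.Inv.QD

/-! Fusion in groups with quasi-dihedral Sylow 2-subgroups. -/

set_option autoImplicit false
set_option linter.unusedVariables false
set_option linter.unusedSectionVars false

namespace Cfsg.Agent.Inv

open Cfsg.Agent.PLoc Subgroup

variable {G : Type*} [Group G]

/-- some element of odd order acts nontrivially on `T` -/
def OddAct (T : Subgroup G) : Prop :=
  ∃ g ∈ normalizer (T : Set G), Odd (orderOf g) ∧ g ∉ centralizer (T : Set G)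

theorem OddAct.cj {T : Subgroup G} (h : OddAct T) (s : G) : OddAct (cj s T) := by
  obtain ⟨g, h1, h2, h3⟩ := h
  exact ⟨s * g * s⁻¹, by rwa [← cj_normalizer, conj_mem_cj], by rwa [Inv.orderOf_conj'],
    by rwa [← cj_centralizer, conj_mem_cj]⟩

theorem oddAct_of_six [Finite G] {T K : Subgroup G} (hK : centralizer (T : Set G) ≤ K)
    (h : K.relIndex (normalizer (T : Set G)) = 6) : OddAct T := by
  obtain ⟨g, h1, h2, h3⟩ := exists_coprime_not_mem (p := 2) (H := normalizer (T : Set G)) (K := K)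
    (by rw [h]; rintro ⟨k, hk⟩; exact six_ne_pow k hk)
  exact ⟨g, h1, Nat.coprime_two_right.1 h2, fun e => h3 (hK e)⟩

theorem not_oddAct_of_two [Finite G] {T : Subgroup G}
    (h : (centralizer (T : Set G)).relIndex (normalizer (T : Set G)) = 2) : ¬ OddAct T := by
  rintro ⟨g, h1, h2, h3⟩
  exact h3 (mem_of_coprime_of_relIndex (p := 2) (k := 1) (normalizer_le_normalizer_centralizer T) h h1
    (Nat.coprime_two_right.2 h2))

theorem not_oddAct_of_two' [Finite G] {T : Subgroup G} (hT : IsPGroup 2 T)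
    (h : (T ⊔ centralizer (T : Set G)).relIndex (normalizer (T : Set G)) = 2) : ¬ OddAct T := by
  rintro ⟨g, h1, h2, h3⟩
  exact h3 (mem_centralizer_of_mem_sup hT (mem_of_coprime_of_relIndex (p := 2) (k := 1)
    (le_normalizer_sup le_rfl (normalizer_le_normalizer_centralizer T)) h h1
    (Nat.coprime_two_right.2 h2)) (Nat.coprime_two_right.2 h2))

theorem odd_orderOf_of_mem_zpowers {g n : G} (hg : Odd (orderOf g)) (hn : n ∈ zpowers g) :
    Odd (orderOf n) := hg.of_dvd_nat (orderOf_dvd_of_mem_zpowers hn)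

def Fus4 (S : Subgroup G) : Prop := ∃ T ≤ S, IsKleinFour T ∧ OddAct T

def FusQ (S : Subgroup G) : Prop := ∃ Q ≤ S, Nonempty (Q ≃* QuaternionGroup 2) ∧ OddAct Q

/-- if `T < S` is self-centralizing modulo `T` in `S` then `|N(T) : T C(T)|` is even -/
theorem two_dvd_relIndex [Finite G] (P : Sylow 2 G) {T : Subgroup G} (hT : T < P)
    (hC : (P : Subgroup G) ⊓ centralizer (T : Set G) ≤ T) :
    2 ∣ (T ⊔ centralizer (T : Set G)).relIndex (normalizer (T : Set G)) := by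
  obtain ⟨g, h1, h2, h3⟩ := exists_mem_normalizer_not_mem P.2 hT
  obtain ⟨k, hk⟩ := isPGroup_iff_forall.1 P.2 g h1
  refine dvd_relIndex_of_not_mem
    (le_normalizer_sup le_rfl (normalizer_le_normalizer_centralizer T)) h2 (fun h => h3 ?_) hk
  obtain ⟨q, hq, c, hc, rfl⟩ := (mem_sup_of_le_normalizer_right
    (le_normalizer.trans (normalizer_le_normalizer_centralizer T))).1 h
  exact T.mul_mem hq (hC ⟨(mul_mem_cancel_left (hT.le hq)).1 h1, hc⟩)

theorem Q8.conj_not_mem [Finite G] {Q : Subgroup G} {z c g : G} (h : Q8 Q z) (hc : c ∈ Q)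
    (h4 : orderOf c = 4) (hg : g ∈ normalizer (Q : Set G)) (hodd : Odd (orderOf g))
    (hgc : g ∉ centralizer (Q : Set G)) : g * c * g⁻¹ ∉ zpowers c := by
  intro h1
  have hp := h.isPGroup.to_le (zpowers_le.2 hc)
  refine hgc (mem_centralizer_of_relIndex_two hp (relIndex_eq_two_of_card (zpowers_le.2 hc) ?_) hg
    hodd (mem_centralizer_of_isCyclic hp inferInstance (mem_normalizer_of_cj_le ?_) hodd))
  · rw [h.card, Nat.card_zpowers, h4]
  · rw [cj_zpowers]; exact zpowers_le.2 h1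

namespace QD

variable [Finite G] {P : Sylow 2 G} {S : Subgroup G} {x y : G} {l : ℕ}

theorem fus4_iff (h : QD S x y l) {T : Subgroup G} (hT : IsKleinFour T) (hTS : T ≤ S) :
    Fus4 S ↔ OddAct T := by
  refine ⟨?_, fun h1 => ⟨T, hTS, hT, h1⟩⟩
  rintro ⟨T', h1, h2, h3⟩
  obtain ⟨s, -, rfl⟩ := h.kf_conj h2 h1 hT hTS
  exact h3.cj s

theorem fusQ_iff (h : QD S x y l) {Q : Subgroup G} (e : Q ≃* QuaternionGroup 2) (hQS : Q ≤ S) :
    FusQ S ↔ OddAct Q := by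
  refine ⟨?_, fun h1 => ⟨Q, hQS, ⟨e⟩, h1⟩⟩
  rintro ⟨T', h1, ⟨e'⟩, h3⟩
  obtain ⟨z, hz⟩ := exists_Q8 e
  obtain ⟨z', hz'⟩ := exists_Q8 e'
  obtain ⟨s, -, rfl⟩ := h.q8_conj hz' h1 hz hQS
  exact h3.cj s

theorem fus4_exists (h : QD S x y l) (hf : Fus4 S) :
    ∃ g, Odd (orderOf g) ∧ ∃ k : ℤ, g * x ^ (4 * l : ℤ) * g⁻¹ = x ^ (2 * k) * y := by
  obtain ⟨T, h1, h2, g, h3, h4, h5⟩ := hf
  obtain ⟨k, rfl⟩ := h.kf h2 h1
  obtain ⟨n, hn, e⟩ := kf_conj_of_odd h2 h3 h4 h5 (mem_sup_left (mem_zpowers _))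
    (mem_sup_right (mem_zpowers _)) (ne_one_of_ord2 h.zord) (ne_one_of_ord2 (h.ord_even k))
  exact ⟨n, odd_orderOf_of_mem_zpowers h4 hn, k, e⟩

theorem fusQ_exists (h : QD S x y l) (hf : FusQ S) :
    ∃ g, Odd (orderOf g) ∧ ∃ k : ℤ, g * x ^ (2 * l : ℤ) * g⁻¹ = x ^ (2 * k + 1) * y := by
  obtain ⟨Q, h1, ⟨e⟩, g, h3, h4, h5⟩ := hf
  obtain ⟨z, hz⟩ := exists_Q8 e
  obtain ⟨-, h6, -⟩ := h.q8 hz h1
  have h7 := hz.conj_not_mem h6 h.cord h3 h4 h5
  rcases h.ord4 (h1 (conj_mem_of_mem_normalizer h3 h6)) ((Inv.orderOf_conj' _ _).trans h.cord)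
    with e | e | e
  · exact absurd (by rw [e]; exact mem_zpowers _) h7
  · exact absurd (by rw [e]; exact inv_mem (mem_zpowers _)) h7
  · exact ⟨g, h4, e⟩

theorem conj_z_eq (h : QD P x y l) (hf : ¬ Fus4 (P : Subgroup G)) {g : G}
    (hg : g * x ^ (4 * l : ℤ) * g⁻¹ ∈ (P : Subgroup G)) :
    g * x ^ (4 * l : ℤ) * g⁻¹ = x ^ (4 * l : ℤ) := by
  refine (fusion_principle P (equivalence_fix (· = x ^ (4 * l : ℤ))) ?_ ?_ (h.xmem _) hg
    (Or.inl rfl)).symm
  · rintro s hs a ha (rfl | e)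
    · exact (h.conj_z hs).symm
    · rw [← h.conj_z hs] at e
      rw [(mul_left_inj _).1 e, (mul_right_inj _).1 ((mul_left_inj _).1 e)]
      simp [h.z_comm hs]
  · intro T hT _ _ g hg hc hgc a ha
    rcases h.odd_or hT hg (Nat.coprime_two_right.1 hc) with h1 | h1 | ⟨⟨e⟩⟩
    · exact absurd h1 hgc
    · exact absurd ⟨T, hT, h1, g, hg, Nat.coprime_two_right.1 hc, hgc⟩ hf
    · obtain ⟨z, hz⟩ := exists_Q8 e
      obtain ⟨rfl, -⟩ := h.q8 hz hT
      have h2 := hz.conj_z hg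
      rintro (rfl | e)
      · exact h2.symm
      · rw [e, (mul_right_inj _).1 ((mul_left_inj _).1 (e.trans h2.symm))]

theorem conj_c_mem (h : QD P x y l) (hf : ¬ FusQ (P : Subgroup G)) {g : G}
    (hg : g * x ^ (2 * l : ℤ) * g⁻¹ ∈ (P : Subgroup G)) :
    g * x ^ (2 * l : ℤ) * g⁻¹ ∈ zpowers x := by
  have hr : Equivalence fun a b : G => orderOf a = orderOf b ∧
      (orderOf a = 4 → (a ∈ zpowers x ↔ b ∈ zpowers x)) :=
    ⟨fun _ => ⟨rfl, fun _ => Iff.rfl⟩, fun h => ⟨h.1.symm, fun e => (h.2 (h.1.trans e)).symm⟩,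
      fun h1 h2 => ⟨h1.1.trans h2.1, fun e => (h1.2 e).trans (h2.2 (h1.1.symm.trans e))⟩⟩
  refine ((fusion_principle P hr ?_ ?_ (h.xmem _) hg).2 h.cord).1 (zpow_mem (mem_zpowers x) _)
  · intro s hs a ha
    refine ⟨(Inv.orderOf_conj' _ _).symm, fun _ => ⟨h.conj_mem_X hs, fun e => ?_⟩⟩
    simpa [mul_assoc] using h.conj_mem_X (inv_mem hs) e
  · intro T hT _ _ g hg hc hgc a ha
    rcases h.odd_or hT hg (Nat.coprime_two_right.1 hc) with h1 | h1 | h1
    · exact absurd h1 hgc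
    · refine ⟨(Inv.orderOf_conj' _ _).symm, fun e => ?_⟩
      have := orderOf_dvd_of_pow_eq_one (show a ^ 2 = 1 by rw [pow_two, kf_sq h1 ha])
      rw [e] at this
      omega
    · exact absurd ⟨T, hT, h1, g, hg, Nat.coprime_two_right.1 hc, hgc⟩ hf

theorem invol_conj (h : QD P x y l) {t : G} (ht : orderOf t = 2) :
    IsConj (x ^ (4 * l : ℤ)) t ∨ IsConj y t := by
  obtain ⟨u, hu, h1, h2⟩ := exists_isConj_mem_sylow P (k := 1) ht
  rcases h.invol hu h2 with rfl | ⟨k, rfl⟩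
  · exact Or.inl h1
  · exact Or.inr ((h.isConj_y k).trans h1)

theorem ord4_conj (h : QD P x y l) {t : G} (ht : orderOf t = 4) :
    IsConj (x ^ (2 * l : ℤ)) t ∨ IsConj (x * y) t := by
  obtain ⟨u, hu, h1, h2⟩ := exists_isConj_mem_sylow P (k := 2) ht
  rcases h.ord4 hu h2 with rfl | rfl | ⟨k, rfl⟩
  · exact Or.inl h1
  · exact Or.inl (h.isConj_c.trans h1)
  · exact Or.inr ((h.isConj_xy k).trans h1)

theorem isConj_z (h : QD P x y l) (hf : Fus4 (P : Subgroup G)) {t : G} (ht : orderOf t = 2) :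
    IsConj (x ^ (4 * l : ℤ)) t := by
  obtain ⟨g, -, k, e⟩ := h.fus4_exists hf
  exact (h.invol_conj ht).elim id
    fun h1 => ((isConj_iff.2 ⟨g, e⟩).trans (h.isConj_y k).symm).trans h1

theorem classes2_one (h : QD P x y l) (hf : Fus4 (P : Subgroup G)) :
    Nat.card {C : ConjClasses G // ∃ t : G, orderOf t = 2 ∧ ConjClasses.mk t = C} = 1 :=
  card_classes_one h.zord fun t ht => h.isConj_z hf ht

theorem classes2_two (h : QD P x y l) (hf : ¬ Fus4 (P : Subgroup G)) :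
    Nat.card {C : ConjClasses G // ∃ t : G, orderOf t = 2 ∧ ConjClasses.mk t = C} = 2 := by
  refine card_classes_two h.zord h.yord (fun e => ?_) fun t ht => h.invol_conj ht
  obtain ⟨g, hg⟩ := isConj_iff.1 e
  have := h.conj_z_eq hf (hg ▸ h.ymem)
  rw [hg] at this
  exact h.y_not_mem (this ▸ zpow_mem (mem_zpowers x) _)

theorem classes4_one (h : QD P x y l) (hf : FusQ (P : Subgroup G)) :
    Nat.card {C : ConjClasses G // ∃ t : G, orderOf t = 4 ∧ ConjClasses.mk t = C} = 1 := by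
  obtain ⟨g, -, k, e⟩ := h.fusQ_exists hf
  exact card_classes_one h.cord fun t ht => (h.ord4_conj ht).elim id
    fun h1 => ((isConj_iff.2 ⟨g, e⟩).trans (h.isConj_xy k).symm).trans h1

theorem classes4_two (h : QD P x y l) (hf : ¬ FusQ (P : Subgroup G)) :
    Nat.card {C : ConjClasses G // ∃ t : G, orderOf t = 4 ∧ ConjClasses.mk t = C} = 2 := by
  refine card_classes_two h.cord h.xyord (fun e => ?_) fun t ht => h.ord4_conj ht
  obtain ⟨g, hg⟩ := isConj_iff.1 e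
  have := h.conj_c_mem hf (hg ▸ mul_mem h.x1mem h.ymem)
  rw [hg] at this
  exact h.o_not_mem 1 (by simpa using this)

theorem exists_K (h : QD P x y l) (k : ℤ)
    (hf : ∀ T ≤ (P : Subgroup G), IsKleinFour T ∨ Nonempty (T ≃* QuaternionGroup 2) → OddAct T →
      T ≤ closure {x ^ (2 : ℤ), x ^ k * y}) :
    ∃ K : Subgroup G, K.Normal ∧ K ⊓ P = closure {x ^ (2 : ℤ), x ^ k * y} ∧ K.index = 2 := by
  suffices ∃ K : Subgroup G, K.Normal ∧ K ⊓ P = closure {x ^ (2 : ℤ), x ^ k * y} ∧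
    K.index = (closure {x ^ (2 : ℤ), x ^ k * y} : Subgroup G).relIndex P by
    rwa [h.relIndex_M k] at this
  refine exists_normal_inf_eq P (h.M_le k) fun a ha g hg =>
    fusion_principle P (equivalence_mul_inv_mem _) ?_ ?_ ha hg
  · intro s hs a ha
    exact X2_le_M k (commutator_mem_of_sq (fun a ha => h.sq_mem_X2 ha) hs ha)
  · intro T hT _ _ g hg hc hgc a ha
    have hodd := Nat.coprime_two_right.1 hc
    have := hf T hT ((h.odd_or hT hg hodd).resolve_left hgc) ⟨g, hg, hodd, hgc⟩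
    exact this (mul_mem (conj_mem_of_mem_normalizer hg ha) (inv_mem ha))

theorem exists_KQ (h : QD P x y l) (hf : ¬ Fus4 (P : Subgroup G)) :
    ∃ K : Subgroup G, K.Normal ∧ K ⊓ P = closure {x ^ (2 : ℤ), x ^ (1 : ℤ) * y} ∧ K.index = 2 := by
  refine h.exists_K 1 ?_
  rintro T hT (h1 | ⟨⟨e⟩⟩) h2
  · exact absurd ⟨T, hT, h1, h2⟩ hf
  · obtain ⟨z, hz⟩ := exists_Q8 e
    obtain ⟨-, -, k, -, rfl⟩ := h.q8 hz hT
    exact sup_le (zpowers_le.2 (X2_le_M 1 (even_mem _))) (zpowers_le.2 ((h.mem_M 1).2 ⟨k, Or.inr rfl⟩))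

theorem exists_KD (h : QD P x y l) (hf : ¬ FusQ (P : Subgroup G)) :
    ∃ K : Subgroup G, K.Normal ∧ K ⊓ P = closure {x ^ (2 : ℤ), x ^ (0 : ℤ) * y} ∧ K.index = 2 := by
  refine h.exists_K 0 ?_
  rintro T hT (h1 | h1) h2
  · obtain ⟨k, rfl⟩ := h.kf h1 hT
    exact sup_le (zpowers_le.2 (X2_le_M 0 z_mem_X2))
      (zpowers_le.2 ((h.mem_M 0).2 ⟨k, Or.inr (by simp)⟩))
  · exact absurd ⟨T, hT, h1, h2⟩ hf

theorem D_le_pResidual (h : QD S x y l) (hf : Fus4 S) :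
    closure {x ^ (2 : ℤ), x ^ (0 : ℤ) * y} ≤ pResidual 2 G := by
  obtain ⟨g, hg, k, e⟩ := h.fus4_exists hf
  have := commutator_mem_pResidual (Nat.coprime_two_right.2 hg) (x ^ (4 * l : ℤ))
  rw [e, inv_of_ord2 h.zord, h.z_comm (h.omem _), ← mul_assoc, ← zpow_add,
    show 4 * (l : ℤ) + 2 * k = 2 * (2 * l + k) + 0 by ring] at this
  exact h.M_le_of (fun s _ a ha => Normal.conj_mem inferInstance a ha s) this

theorem Q_le_pResidual (h : QD S x y l) (hf : FusQ S) :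
    closure {x ^ (2 : ℤ), x ^ (1 : ℤ) * y} ≤ pResidual 2 G := by
  obtain ⟨g, hg, k, e⟩ := h.fusQ_exists hf
  have := commutator_mem_pResidual (Nat.coprime_two_right.2 hg) (x ^ (2 * l : ℤ))
  rw [e, ← zpow_neg, mul_assoc, show -(2 * (l : ℤ)) = 2 * (-l) by ring, h.y_mul_even, ← mul_assoc,
    ← zpow_add, show 2 * k + 1 + -(2 * -(l : ℤ)) = 2 * (k + l) + 1 by ring] at this
  exact h.M_le_of (fun s _ a ha => Normal.conj_mem inferInstance a ha s) this

theorem no_index_two (h : QD P x y l) (h4 : Fus4 (P : Subgroup G)) (hQ : FusQ (P : Subgroup G)) :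
    ∀ H : Subgroup G, H.index ≠ 2 := by
  rw [no_index_two_iff, eq_top_iff, ← sylow_sup_pResidual P, sup_le_iff, and_iff_left le_rfl]
  have h1 : y ∈ pResidual 2 G := by simpa using h.D_le_pResidual h4 (right_mem_closure_pair _ _)
  have h2 : x ∈ pResidual 2 G := by
    simpa using mul_mem (h.Q_le_pResidual hQ (right_mem_closure_pair _ _)) (inv_mem h1)
  intro g hg
  obtain ⟨k, rfl | rfl⟩ := (h.mem g).1 hg
  · exact zpow_mem h2 k
  · exact mul_mem (zpow_mem h2 k) h1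

theorem npc (h : QD P x y l) (h4 : ¬ Fus4 (P : Subgroup G)) (hQ : ¬ FusQ (P : Subgroup G)) :
    NPC 2 (⊤ : Subgroup G) := by
  refine npc_top_of_frobenius P fun T hT _ g hg hc => ?_
  by_contra hgc
  have hodd := Nat.coprime_two_right.1 hc
  rcases (h.odd_or hT hg hodd).resolve_left hgc with h1 | h1
  · exact h4 ⟨T, hT, h1, g, hg, hodd, hgc⟩
  · exact hQ ⟨T, hT, h1, g, hg, hodd, hgc⟩

theorem weaklyClosed (h : QD P x y l) (h4 : ¬ Fus4 (P : Subgroup G)) {Z : Subgroup G}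
    (hZ : Z ≤ (center (P : Subgroup G)).map (P : Subgroup G).subtype) :
    IsWeaklyClosed Z (P : Subgroup G) := by
  refine ⟨hZ.trans (map_subtype_le _), fun g hg => ?_⟩
  rw [map_center_subtype, h.center_eq] at hZ
  rw [cj_def] at hg ⊢
  refine eq_of_le_of_card_ge (cj_le_iff'.2 fun a ha => ?_) (card_cj g Z).ge
  rcases (mem_zpowers_ord2 (sq_of_ord2 h.zord)).1 (hZ ha) with rfl | rfl
  · simp
  · rwa [h.conj_z_eq h4 (cj_le_iff'.1 hg _ ha)]

theorem quaternion_case (h : QD P x y l) (h4 : ¬ Fus4 (P : Subgroup G))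
    (hQ : FusQ (P : Subgroup G)) : ∃ K : Subgroup G, K.Normal ∧ K.index = 2 ∧
      (∀ R : Sylow 2 ↥K, ∃ m : ℕ, 1 ≤ m ∧ Nonempty ((R : Subgroup ↥K) ≃* QuaternionGroup (2 ^ m))) ∧
      (∀ H : Subgroup ↥K, H.index ≠ 2) := by
  obtain ⟨K, h1, h2, h3⟩ := h.exists_KQ h4
  refine ⟨K, h1, h3, fun R => ?_, no_index_two_subgroup_iff.2
    (pResOf_eq_self_of_inf_le P ⟨1, h3⟩ (h2 ▸ h.Q_le_pResidual hQ))⟩
  obtain ⟨k, rfl⟩ := h.pw
  obtain ⟨e⟩ := sylow_equiv_of_isSylowOf (isSylowOf_inf_normal P K) R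
  obtain ⟨e2⟩ := h.equiv_Q
  rw [inf_comm, h2] at e
  exact ⟨k + 1, by omega, ⟨by rw [pow_succ']; exact e.trans e2⟩⟩

theorem fus_of_no_index_two (h : QD P x y l) (hG : ∀ H : Subgroup G, H.index ≠ 2) :
    Fus4 (P : Subgroup G) ∧ FusQ (P : Subgroup G) := by
  constructor
  · by_contra h1
    obtain ⟨K, -, -, h2⟩ := h.exists_KQ h1
    exact hG K h2
  · by_contra h1
    obtain ⟨K, -, -, h2⟩ := h.exists_KD h1
    exact hG K h2

end QD

theorem s1203 {G : Type*} [Group G] [Finite G] (S : Sylow 2 G) (hS : Cfsg.IsQuasiDihedral (S : Subgroup G)) (T : Subgroup G) (hT : IsKleinFour T) (hTS : T ≤ S) (Q : Subgroup G) (hQS : Q ≤ S) (eQ : Q ≃* QuaternionGroup 2) : ((Subgroup.centralizer (T : Set G)).relIndex (Subgroup.normalizer (T : Set G)) = 2 ∨ (Subgroup.centralizer (T : Set G)).relIndex (Subgroup.normalizer (T : Set G)) = 6) ∧ ((Q ⊔ Subgroup.centralizer (Q : Set G)).relIndex (Subgroup.normalizer (Q : Set G))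 = 2 ∨ (Q ⊔ Subgroup.centralizer (Q : Set G)).relIndex (Subgroup.normalizer (Q : Set G)) = 6) := by
  obtain ⟨x, y, l, h⟩ := exists_QD hS
  obtain ⟨z, hQ⟩ := exists_Q8 eQ
  have h1 := h.card
  have h2 := h.lpos
  constructor
  · refine eq_two_or_six (kf_relIndex_dvd_six hT le_rfl) ?_
    have := two_dvd_relIndex S (lt_of_le_of_ne hTS fun e => by
      have := kf_card hT
      rw [e] at this; omega) (h.kf_centralizer hT hTS)
    rwa [sup_eq_right.2 (fun a ha b hb => kf_comm hT hb ha)] at this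
  · exact eq_two_or_six (hQ.relIndex_dvd_six le_rfl) (two_dvd_relIndex S
      (lt_of_le_of_ne hQS fun e => by
        have := hQ.card
        rw [e] at this; omega) (h.q8_centralizer hQ hQS))

theorem s1204 {G : Type*} [Group G] [Finite G] (S : Sylow 2 G) (hS : Cfsg.IsQuasiDihedral (S : Subgroup G)) (T : Subgroup G) (hT : IsKleinFour T) (hTS : T ≤ S) (Q : Subgroup G) (hQS : Q ≤ S) (eQ : Q ≃* QuaternionGroup 2) (h₁ : (Subgroup.centralizer (T : Set G)).relIndex (Subgroup.normalizer (T : Set G)) = 6) (h₂ : (Q ⊔ Subgroup.centralizer (Q : Set G)).relIndex (Subgroup.normalizer (Q : Set G)) = 6) : (∀ H : Subgroup G, H.index ≠ 2) ∧ Nat.card {C : ConjClasses G // ∃ t : G, orderOf t = 2 ∧ ConjClasses.mk t = C} = 1 ∧ Nat.card {C : ConjClasses G // ∃ t : G, orderOf t = 4 ∧ ConjClasses.mk t = C} = 1 := by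
  obtain ⟨x, y, l, h⟩ := exists_QD hS
  have h4 := (h.fus4_iff hT hTS).2 (oddAct_of_six le_rfl h₁)
  have hQ := (h.fusQ_iff eQ hQS).2 (oddAct_of_six le_sup_right h₂)
  exact ⟨h.no_index_two h4 hQ, h.classes2_one h4, h.classes4_one hQ⟩

theorem s1205 {G : Type*} [Group G] [Finite G] (S : Sylow 2 G) (hS : Cfsg.IsQuasiDihedral (S : Subgroup G)) (T : Subgroup G) (hT : IsKleinFour T) (hTS : T ≤ S) (Q : Subgroup G) (hQS : Q ≤ S) (eQ : Q ≃* QuaternionGroup 2) (h₁ : (Subgroup.centralizer (T : Set G)).relIndex (Subgroup.normalizer (T : Set G)) = 2) (h₂ : (Q ⊔ Subgroup.centralizer (Q : Set G)).relIndex (Subgroup.normalizer (Q : Set G)) = 6) : (∃ K : Subgroup G, K.Normal ∧ K.index = 2 ∧ (∀ P : Sylow 2 ↥K, ∃ m : ℕ, 1 ≤ m ∧ Nonempty ((P : Subgroup ↥K) ≃* QuaternionGroup (2 ^ m))) ∧ (∀ H : Subgroup ↥K, H.index ≠ 2)) ∧ Cfsg.IsWeaklyClosed ((Subgroup.center (S : Subgroup G)).map (S : Subgroup G).subtype) (S : Subgroup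 G) ∧ Nat.card {C : ConjClasses G // ∃ t : G, orderOf t = 2 ∧ ConjClasses.mk t = C} = 2 ∧ Nat.card {C : ConjClasses G // ∃ t : G, orderOf t = 4 ∧ ConjClasses.mk t = C} = 1 := by
  obtain ⟨x, y, l, h⟩ := exists_QD hS
  have h4 := mt (h.fus4_iff hT hTS).1 (not_oddAct_of_two h₁)
  have hQ := (h.fusQ_iff eQ hQS).2 (oddAct_of_six le_sup_right h₂)
  exact ⟨h.quaternion_case h4 hQ, h.weaklyClosed h4 le_rfl, h.classes2_two h4, h.classes4_one hQ⟩

theorem s1206 {G : Type*} [Group G] [Finite G] (S : Sylow 2 G) (hS : Cfsg.IsQuasiDihedral (S : Subgroup G)) (T : Subgroup G) (hT : IsKleinFour T) (hTS : T ≤ S) (Q : Subgroup G) (hQS : Q ≤ S) (eQ : Q ≃* QuaternionGroup 2) (h₁ : (Subgroup.centralizer (T : Set G)).relIndex (Subgroup.normalizer (T : Set G)) = 6) (h₂ : (Q ⊔ Subgroup.centralizer (Q : Set G)).relIndex (Subgroup.normalizer (Q : Set G)) = 2) : (∃ K : Subgroup G, K.Normal ∧ K.index = 2 ∧ (∀ P : Sylow 2 ↥K, ∃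 m : ℕ, Nonempty ((P : Subgroup ↥K) ≃* DihedralGroup m)) ∧ (∀ H : Subgroup ↥K, H.index ≠ 2)) ∧ Nat.card {C : ConjClasses G // ∃ t : G, orderOf t = 2 ∧ ConjClasses.mk t = C} = 1 ∧ Nat.card {C : ConjClasses G // ∃ t : G, orderOf t = 4 ∧ ConjClasses.mk t = C} = 2 := by
  obtain ⟨x, y, l, h⟩ := exists_QD hS
  have h4 := (h.fus4_iff hT hTS).2 (oddAct_of_six le_rfl h₁)
  have hQ := mt (h.fusQ_iff eQ hQS).1 (not_oddAct_of_two' (S.2.to_le hQS) h₂)
  refine ⟨?_, h.classes2_one h4, h.classes4_two hQ⟩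
  obtain ⟨K, h1, h2, h3⟩ := h.exists_KD hQ
  refine ⟨K, h1, h3, fun R => ?_, no_index_two_subgroup_iff.2
    (pResOf_eq_self_of_inf_le S ⟨1, h3⟩ (h2 ▸ h.D_le_pResidual h4))⟩
  obtain ⟨e⟩ := sylow_equiv_of_isSylowOf (isSylowOf_inf_normal S K) R
  obtain ⟨e2⟩ := h.equiv_D
  rw [inf_comm, h2] at e
  exact ⟨_, ⟨e.trans e2⟩⟩

theorem s1207 {G : Type*} [Group G] [Finite G] (S : Sylow 2 G) (hS : Cfsg.IsQuasiDihedral (S : Subgroup G)) (T : Subgroup G) (hT : IsKleinFour T) (hTS : T ≤ S) (Q : Subgroup G) (hQS : Q ≤ S) (eQ : Q ≃* QuaternionGroup 2) (h₁ : (Subgroup.centralizer (T : Set G)).relIndex (Subgroup.normalizer (T : Set G)) = 2) (h₂ : (Q ⊔ Subgroup.centralizer (Q : Set G)).relIndex (Subgroup.normalizer (Q : Set G)) = 2) : Cfsg.HasNormalPComplement 2 G ∧ Nat.card {C : ConjClasses G // ∃ t : G, orderOf t = 2 ∧ ConjClasses.mk t = C} = 2 ∧ Nat.card {C : ConjClasses G // ∃ t : G, orderOf t = 4 ∧ ConjClasses.mk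 t = C} = 2 := by
  obtain ⟨x, y, l, h⟩ := exists_QD hS
  have h4 := mt (h.fus4_iff hT hTS).1 (not_oddAct_of_two h₁)
  have hQ := mt (h.fusQ_iff eQ hQS).1 (not_oddAct_of_two' (S.2.to_le hQS) h₂)
  exact ⟨hasNPC_iff_top.2 (h.npc h4 hQ), h.classes2_two h4, h.classes4_two hQ⟩

end Cfsg.Agent.Inv
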