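import Cfsg.Prelude.Def_LieRecognition
import Cfsg.Agent.Inv.Zas3

/-! Additive, biadditive and quadratic maps on a finite field of characteristic two. -/

set_option autoImplicit false
set_option linter.unusedVariables false
set_option linter.unusedSectionVars false

namespace Cfsg.Agent.Inv

open Finset

variable {F : Type*} [Field F]

theorem aut_eq_pow [Finite F] (p : ℕ) [Fact p.Prime] [CharP F p] (τ : F ≃+* F) :
    ∃ k : ℕ, τ = frobeniusEquiv F p ^ k := by
  let _ := ZMod.algebra F p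
  have := Fintype.ofFinite F
  obtain ⟨⟨k, hk'⟩, hk⟩ := (FiniteField.bijective_frobeniusAlgEquivOfAlgebraic_pow (ZMod p) F).2
    (AlgEquiv.ofRingEquiv (f := τ) fun x => DFunLike.congr_fun
      (RingHom.ext_zmod ((τ : F →+* F).comp (algebraMap _ _)) (algebraMap _ _)) x)
  refine ⟨k, RingEquiv.ext fun x => (DFunLike.congr_fun hk x).symm.trans ?_⟩
  clear hk
  dsimp only
  clear hk'
  induction k with
  | zero => rfl
  | succ k ih =>
    rw [pow_succ', pow_succ', RingAut.mul_apply, ← ih, frobeniusEquiv_def]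
    simp

theorem aut_isCyclic [Finite F] : IsCyclic (F ≃+* F) := by
  obtain ⟨p, hp⟩ := CharP.exists F
  have := Fact.mk (CharP.char_is_prime F p)
  exact ⟨frobeniusEquiv F p, fun τ => have ⟨k, hk⟩ := aut_eq_pow p τ; ⟨k, by simp [hk]⟩⟩

theorem aut_comm [Finite F] (σ τ : F ≃+* F) : σ * τ = τ * σ := aut_isCyclic.commGroup.mul_comm σ τ

theorem aut_li : LinearIndependent F (fun σ : F ≃+* F => ((σ : F →+* F) : F → F)) :=
  (linearIndependent_monoidHom F F).comp (fun σ : F ≃+* F => (σ : F →* F))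
    fun _ _ h => RingEquiv.ext fun x => DFunLike.congr_fun h x

noncomputable instance autFintype [Finite F] : Fintype (F ≃+* F) :=
  have : Finite (F ≃+* F) := Finite.of_injective _ DFunLike.coe_injective
  Fintype.ofFinite _

variable [Finite F]

theorem ind1 {c : (F ≃+* F) → F} (h : ∀ x, ∑ σ, c σ * σ x = 0) (σ : F ≃+* F) : c σ = 0 :=
  (Fintype.linearIndependent_iff.1 (aut_li (F := F))) c (funext fun x =>
    (Finset.sum_apply x _ _).trans (h x)) σ

theorem ind2 {c : (F ≃+* F) × (F ≃+* F) → F} (h : ∀ x y, ∑ p, c p * (p.1 x * p.2 y) = 0)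
    (p : (F ≃+* F) × (F ≃+* F)) : c p = 0 :=
  ind1 (c := fun τ => c (p.1, τ)) (fun y => ind1 (c := fun σ => ∑ τ, c (σ, τ) * τ y) (fun x => by
    rw [← h x y, Fintype.sum_prod_type]
    exact sum_congr rfl fun σ _ => by rw [sum_mul]; exact sum_congr rfl fun τ _ => by ring) p.1) p.2

variable [CharP F 2]

theorem lin_expand {f : F → F} (hf : ∀ x y, f (x + y) = f x + f y) :
    ∃ c : (F ≃+* F) → F, ∀ x, f x = ∑ σ, c σ * σ x := by
  classical
  let _ := ZMod.algebra F 2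
  let g : ((F ≃+* F) → F) → (F →ₗ[ZMod 2] F) := fun c => AddMonoidHom.toZModLinearMap 2
    (AddMonoidHom.mk' (fun x => ∑ σ, c σ * σ x) fun x y => by simp [mul_add, sum_add_distrib])
  have h1 : Function.Injective g := fun c d h => funext fun σ => sub_eq_zero.1
    (ind1 (c := fun σ => c σ - d σ) (fun x => by
      simp only [sub_mul, sum_sub_distrib]
      exact sub_eq_zero.2 (DFunLike.congr_fun h x)) σ)
  have : Finite (F →ₗ[ZMod 2] F) := Finite.of_injective _ DFunLike.coe_injective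
  have h2 : Nat.card (F ≃+* F) = Module.finrank (ZMod 2) F := by
    rw [← IsGalois.card_aut_eq_finrank]
    exact Nat.card_congr ⟨fun τ => AlgEquiv.ofRingEquiv (f := τ) fun x => DFunLike.congr_fun
      (RingHom.ext_zmod ((τ : F →+* F).comp (algebraMap _ _)) (algebraMap _ _)) x,
      fun τ => τ.toRingEquiv, fun _ => rfl, fun _ => rfl⟩
  obtain ⟨c, hc⟩ := (h1.bijective_of_nat_card_le (by
    rw [Nat.card_fun, h2, Module.natCard_eq_pow_finrank (K := ZMod 2),
      Module.natCard_eq_pow_finrank (K := ZMod 2) (V := F), Module.finrank_linearMap, ← pow_mul])).2 (AddMonoidHom.toZModLinearMap 2 (AddMonoidHom.mk' f hf))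
  exact ⟨c, fun x => (DFunLike.congr_fun hc x).symm⟩

/-- biadditive maps -/
structure Biadd (B : F → F → F) : Prop where
  l : ∀ x x' y, B (x + x') y = B x y + B x' y
  r : ∀ x y y', B x (y + y') = B x y + B x y'

theorem bil_expand {B : F → F → F} (hB : Biadd B) :
    ∃ c : (F ≃+* F) × (F ≃+* F) → F, ∀ x y, B x y = ∑ p, c p * (p.1 x * p.2 y) := by
  choose c hc using fun y => lin_expand (f := fun x => B x y) fun x x' => hB.l x x' y
  choose d hd using fun σ => lin_expand (f := fun y => c y σ) fun y y' => sub_eq_zero.1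
    (ind1 (c := fun σ => c (y + y') σ - (c y σ + c y' σ)) (fun x => by
      simp only [sub_mul, add_mul, sum_sub_distrib, sum_add_distrib, ← hc, hB.r, sub_self]) σ)
  refine ⟨fun p => d p.1 p.2, fun x y => ?_⟩
  rw [hc, Fintype.sum_prod_type]
  exact sum_congr rfl fun σ _ => by rw [hd, sum_mul]; exact sum_congr rfl fun τ _ => by ring

theorem s1140 {F : Type*} [Field F] [Fintype F] [CharP F 2] :
    LinearIndependent F (fun σ : F ≃+* F => ((σ : F →+* F) : F → F)) ∧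
      (∀ f : F →+ F, ∃ (s : Finset (F ≃+* F)) (c : (F ≃+* F) → F), ∀ x : F, f x = ∑ σ ∈ s, c σ * σ x) ∧
      ∀ B : F →+ F →+ F, ∃ (s : Finset ((F ≃+* F) × (F ≃+* F))) (c : (F ≃+* F) × (F ≃+* F) → F),
        ∀ x y : F, B x y = ∑ p ∈ s, c p * (p.1 x * p.2 y) :=
  ⟨aut_li, fun f => ⟨univ, lin_expand f.map_add⟩, fun B =>
    ⟨univ, bil_expand (B := fun x y => B x y) ⟨by simp, by simp⟩⟩⟩

theorem s1168 {F : Type*} [Field F] [Fintype F] [CharP F 2]
    (q : F → F)
    (hq : ∀ x y z : F, q (x + y + z) + q (x + y) + q (x + z) + q (y + z) + q x + q y + q z = 0) :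
    ∃ (s : Finset ((F ≃+* F) × (F ≃+* F))) (c : (F ≃+* F) × (F ≃+* F) → F),
      ∀ x : F, q x = ∑ p ∈ s, c p * (p.1 x * p.2 x) := by
  let _ := ZMod.algebra F 2
  have h2 : (2 : F) = 0 := CharTwo.two_eq_zero
  have h0 : q 0 = 0 := by
    have := hq 0 0 0
    simp only [add_zero] at this
    linear_combination this - 3 * q 0 * h2
  have hz : ∀ a : ZMod 2, a = 0 ∨ a = 1 := by decide
  let Q : QuadraticMap (ZMod 2) F F := QuadraticMap.ofPolar q
    (fun a x => by rcases hz a with rfl | rfl <;> simp [h0])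
    (fun x x' y => by
      simp only [QuadraticMap.polar]
      linear_combination hq x x' y - (q (x + x') + q (x + y) + q (x' + y)) * h2)
    (fun a x y => by rcases hz a with rfl | rfl <;> simp [QuadraticMap.polar, h0])
  obtain ⟨B, hB⟩ := LinearMap.BilinMap.toQuadraticMap_surjective Q
  obtain ⟨c, hc⟩ := bil_expand (B := fun x y => B x y) ⟨by simp, by simp⟩
  exact ⟨univ, c, fun x => (DFunLike.congr_fun hB x).symm.trans (hc x x)⟩

theorem lin_eq {f : F → F} (hf : ∀ x y, f (x + y) = f x + f y) {μ l : F}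
    (h : ∀ x, f (μ * x) = l * f x) (h0 : ∃ x, f x ≠ 0) : ∃ σ : F ≃+* F, σ μ = l := by
  obtain ⟨c, hc⟩ := lin_expand hf
  by_contra h1
  push Not at h1
  obtain ⟨x, hx⟩ := h0
  refine hx ((hc x).trans (sum_eq_zero fun σ _ => ?_))
  rw [(mul_eq_zero.1 (ind1 (c := fun σ => c σ * (σ μ - l)) (fun x => by
    rw [← sub_eq_zero.2 (h x), hc, hc, mul_sum, ← sum_sub_distrib]
    exact sum_congr rfl fun σ _ => by rw [map_mul]; ring) σ)).resolve_right (sub_ne_zero.2 (h1 σ)),
    zero_mul]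

theorem bil_eq {B : F → F → F} (hB : Biadd B) {μ ν l : F}
    (h : ∀ x y, B (μ * x) (ν * y) = l * B x y) : ∃ c : (F ≃+* F) × (F ≃+* F) → F,
      (∀ x y, B x y = ∑ p, c p * (p.1 x * p.2 y)) ∧ ∀ p, c p ≠ 0 → p.1 μ * p.2 ν = l := by
  obtain ⟨c, hc⟩ := bil_expand hB
  refine ⟨c, hc, fun p hp => sub_eq_zero.1 ((mul_eq_zero.1 (ind2
    (c := fun p => c p * (p.1 μ * p.2 ν - l)) (fun x y => ?_) p)).resolve_left hp)⟩
  rw [← sub_eq_zero.2 (h x y), hc, hc, mul_sum, ← sum_sub_distrib]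
  exact sum_congr rfl fun σ _ => by rw [map_mul, map_mul]; ring

theorem bil_mono {B : F → F → F} (hB : Biadd B) {μ ν l : F}
    (h : ∀ x y, B (μ * x) (ν * y) = l * B x y)
    (hu : ∀ α β γ δ : F ≃+* F, α μ * β ν = l → γ μ * δ ν = l → α = γ ∧ β = δ) :
    ∃ (c : F) (α β : F ≃+* F), (∀ x y, B x y = c * (α x * β y)) ∧ (c ≠ 0 → α μ * β ν = l) := by
  obtain ⟨c, h1, h2⟩ := bil_eq hB h
  by_cases h3 : ∀ p, c p = 0
  · exact ⟨0, 1, 1, by simp [h1, h3], by simp⟩
  push Not at h3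
  obtain ⟨p, hp⟩ := h3
  refine ⟨c p, p.1, p.2, fun x y => (h1 x y).trans (sum_eq_single p (fun p' _ h4 => ?_) (by simp)),
    h2 p⟩
  rw [not_not.1 fun e => h4 (Prod.ext_iff.2 (hu _ _ _ _ (h2 p' e) (h2 p hp))), zero_mul]

theorem coef4 {α β γ δ : F ≃+* F} {a b c d : F} (h : ∀ x, a * α x + b * β x + c * γ x + d * δ x = 0)
    (σ : F ≃+* F) [DecidableEq (F ≃+* F)] : (if σ = α then a else 0) + (if σ = β then b else 0) +
      (if σ = γ then c else 0) + (if σ = δ then d else 0) = 0 :=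
  ind1 (c := fun σ => (if σ = α then a else 0) + (if σ = β then b else 0) +
    (if σ = γ then c else 0) + (if σ = δ then d else 0)) (fun x => by
      simpa [add_mul, sum_add_distrib] using h x) σ

theorem two_eq {α β γ δ : F ≃+* F} (h : ∀ x, α x * β x = γ x * δ x) :
    (α = γ ∧ β = δ) ∨ (α = δ ∧ β = γ) := by
  classical
  have h2 : (2 : F) = 0 := CharTwo.two_eq_zero
  have E := fun y => coef4 (α := α) (β := β) (γ := γ) (δ := δ) (a := β y) (b := α y) (c := δ y)
    (d := γ y) fun x => by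
      have := h (x + y)
      simp only [map_add] at this
      linear_combination this - h x - h y + (δ y * γ x + γ y * δ x) * h2
  by_cases h3 : α = β
  · subst h3
    by_cases h4 : γ = δ
    · subst h4
      have : α = γ := RingEquiv.ext fun x => by
        have := h x
        rwa [← sq, ← sq, ← CharTwo.add_eq_zero, ← CharTwo.add_sq, sq_eq_zero_iff,
          CharTwo.add_eq_zero] at this
      exact Or.inl ⟨this, this⟩
    · have := E 1 γ
      simp [h4, CharTwo.add_self_eq_zero] at this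
  by_cases h4 : α = γ <;> by_cases h5 : α = δ
  · subst h4 h5
    have := E 1 α
    simp [h3, add_assoc, CharTwo.add_self_eq_zero] at this
  · exact Or.inl ⟨h4, RingEquiv.ext fun y => by
      subst h4; simpa [h3, h5, CharTwo.add_eq_zero] using E y α⟩
  · exact Or.inr ⟨h5, RingEquiv.ext fun y => by
      subst h5; simpa [h3, h4, CharTwo.add_eq_zero] using E y α⟩
  · simpa [h3, h4, h5] using E 1 α

theorem three_eq {α β γ δ ε : F ≃+* F} (h : ∀ x, α x * β x * γ x = δ x * ε x) :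
    α = β ∨ β = γ ∨ α = γ := by
  classical
  have h2 : (2 : F) = 0 := CharTwo.two_eq_zero
  by_contra h3
  push Not at h3
  refine h3.2.1 (RingEquiv.ext fun y => ?_)
  have := coef4 (α := α) (β := β) (γ := γ) (δ := α) (a := β y + γ y) (b := α y + γ y)
    (c := α y + β y) (d := 0) (fun x => by
      have e1 := h (x + y + 1)
      have e2 := h (x + y)
      have e3 := h (x + 1)
      have e4 := h (y + 1)
      simp only [map_add, map_one] at e1 e2 e3 e4
      linear_combination e1 - e2 - e3 - e4 + h x + h y) α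
  simpa [h3.1, h3.2.2, CharTwo.add_eq_zero] using this

/-- a generator of the multiplicative group -/
def Prim (μ : F) : Prop := ∀ x : F, x ≠ 0 → ∃ i : ℕ, μ ^ i = x

theorem Prim.three {μ : F} (h : Prim μ) {α β γ δ ε : F ≃+* F} (e : α μ * β μ * γ μ = δ μ * ε μ)
    (x : F) : α x * β x * γ x = δ x * ε x := by
  by_cases hx : x = 0
  · simp [hx]
  obtain ⟨i, rfl⟩ := h x hx
  simp only [map_pow, ← mul_pow, e]

theorem Prim.two {μ : F} (h : Prim μ) {α β δ ε : F ≃+* F} (e : α μ * β μ = δ μ * ε μ)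
    (x : F) : α x * β x = δ x * ε x := by
  by_cases hx : x = 0
  · simp [hx]
  obtain ⟨i, rfl⟩ := h x hx
  simp only [map_pow, ← mul_pow, e]

theorem Prim.map {μ : F} (h : Prim μ) (σ : F ≃+* F) : Prim (σ μ) := fun x hx => by
  obtain ⟨i, hi⟩ := h (σ.symm x) (by simpa using hx)
  exact ⟨i, by rw [← map_pow, hi, σ.apply_symm_apply]⟩

theorem exists_ne_zero_one (hq : 2 < Nat.card F) : ∃ x : F, x ≠ 0 ∧ x ≠ 1 := by
  have := Fintype.ofFinite F
  classical
  obtain ⟨c, -, hc⟩ := exists_mem_notMem_of_card_lt_card (s := ({0, 1} : Finset F)) (t := univ)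
    (card_le_two.trans_lt (by rwa [card_univ, ← Nat.card_eq_fintype_card]))
  exact ⟨c, by simpa using hc⟩

theorem Prim.ne_one {μ : F} (h : Prim μ) (hq : 2 < Nat.card F) : μ ≠ 1 := fun e => by
  obtain ⟨x, h1, h2⟩ := exists_ne_zero_one hq
  obtain ⟨i, hi⟩ := h x h1
  exact h2 (by rw [← hi, e, one_pow])

theorem Prim.ne_zero {μ : F} (h : Prim μ) (hq : 2 < Nat.card F) : μ ≠ 0 := fun e => by
  obtain ⟨x, h1, h2⟩ := exists_ne_zero_one hq
  obtain ⟨i, hi⟩ := h x h1
  cases i with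
  | zero => exact h2 (by rw [← hi, pow_zero])
  | succ i => exact h1 (by rw [← hi, e, pow_succ, mul_zero])

local notation "Fr" => frobeniusEquiv F 2

theorem frob_ne_one (hq : 2 < Nat.card F) : Fr ≠ 1 := fun e => by
  obtain ⟨x, h1, h2⟩ := exists_ne_zero_one hq
  have : x ^ 2 = x := DFunLike.congr_fun e x
  exact h2 (mul_left_cancel₀ h1 (by rw [← sq, this, mul_one]))

theorem mul_self_eq (α : F ≃+* F) (x : F) : α x * α x = (Fr * α) x := by
  rw [RingAut.mul_apply, frobeniusEquiv_def, sq]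

theorem mul_self_eq' (α : F ≃+* F) (x : F) : α x = (Fr⁻¹ * α) x * (Fr⁻¹ * α) x := by
  rw [mul_self_eq, mul_inv_cancel_left]

theorem pair_unique (hq : 2 < Nat.card F) {μ l : F} (hμ : Prim μ) {σ τ : F ≃+* F}
    (hl : l = σ μ * τ μ) (α β γ δ : F ≃+* F) (h1 : α l * β μ = l) (h2 : γ l * δ μ = l) :
    α = γ ∧ β = δ := by
  let _ := (aut_isCyclic (F := F)).commGroup
  have F1 := frob_ne_one hq
  have key : ∀ α β : F ≃+* F, α l * β μ = l → (σ = τ ∧ α = Fr⁻¹ ∧ β = σ) ∨
      (σ ≠ τ ∧ α = σ * τ⁻¹ ∧ β = α * σ ∧ Fr * α * α = 1) ∨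
      (σ ≠ τ ∧ α = τ * σ⁻¹ ∧ β = α * τ ∧ Fr * α * α = 1) := fun α β h => by
    have h3 := hμ.three (α := α * σ) (β := α * τ) (γ := β) (δ := σ) (ε := τ) (by
      rw [RingAut.mul_apply, RingAut.mul_apply, ← map_mul, ← hl, h])
    by_cases h4 : σ = τ
    · subst h4
      simp only [mul_self_eq (α * σ)] at h3
      obtain ⟨e1, e2⟩ := (or_self_iff.1 (two_eq h3))
      exact Or.inl ⟨rfl, eq_inv_of_mul_eq_one_right (by simpa [← mul_assoc] using e1), e2⟩
    right
    rcases three_eq h3 with e | e | e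
    · exact absurd (mul_left_cancel e) h4
    · subst e
      simp only [mul_assoc, mul_self_eq (α * τ)] at h3
      rcases two_eq h3 with ⟨e1, e2⟩ | ⟨e1, e2⟩
      · rw [mul_eq_right.1 e1] at e2
        exact absurd (by simpa using e2) F1
      · refine Or.inr ⟨h4, eq_mul_inv_of_mul_eq e1, rfl, ?_⟩
        rw [← e1, ← mul_assoc, ← mul_assoc] at e2
        exact mul_eq_right.1 e2
    · subst e
      simp only [mul_right_comm _ ((α * τ) _), mul_self_eq (α * σ)] at h3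
      rcases two_eq h3 with ⟨e1, e2⟩ | ⟨e1, e2⟩
      · rw [mul_eq_right.1 e2] at e1
        exact absurd (by simpa using e1) F1
      · refine Or.inl ⟨h4, eq_mul_inv_of_mul_eq e2, rfl, ?_⟩
        rw [← e2, ← mul_assoc, ← mul_assoc] at e1
        exact mul_eq_right.1 e1
  have cross : ∀ α : F ≃+* F, Fr * α * α = 1 → Fr * α⁻¹ * α⁻¹ = 1 → False := fun α e1 e2 => by
    obtain ⟨k, rfl⟩ := aut_eq_pow 2 α
    have e3 : Fr * Fr = 1 := by
      calc Fr * Fr = (Fr * Fr ^ k * Fr ^ k) * (Fr * (Fr ^ k)⁻¹ * (Fr ^ k)⁻¹) := by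
            rw [← sq]; group
        _ = 1 := by rw [e1, e2, one_mul]
    rw [mul_assoc, ← (Commute.refl _).mul_pow, e3, one_pow, mul_one] at e1
    exact F1 e1
  rcases key α β h1 with ⟨a1, a2, a3⟩ | ⟨a1, a2, a3, a4⟩ | ⟨a1, a2, a3, a4⟩ <;>
    rcases key γ δ h2 with ⟨b1, b2, b3⟩ | ⟨b1, b2, b3, b4⟩ | ⟨b1, b2, b3, b4⟩
  · exact ⟨by rw [a2, b2], by rw [a3, b3]⟩
  · exact absurd a1 b1
  · exact absurd a1 b1
  · exact absurd b1 a1
  · exact ⟨by rw [a2, b2], by rw [a3, b3, a2, b2]⟩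
  · exact (cross α a4 (by rwa [b2, show τ * σ⁻¹ = α⁻¹ by simp [a2]] at b4)).elim
  · exact absurd b1 a1
  · exact (cross α a4 (by rwa [b2, show σ * τ⁻¹ = α⁻¹ by simp [a2]] at b4)).elim
  · exact ⟨by rw [a2, b2], by rw [a3, b3, a2, b2]⟩

/-- equivariant biadditive maps are monomials -/
theorem mono_of_eq (hq : 2 < Nat.card F) {μ l : F} (hμ : Prim μ) (hl : ∃ σ τ : F ≃+* F, l = σ μ * τ μ)
    {B : F → F → F} (hB : Biadd B) (h : ∀ x y, B (l * x) (μ * y) = l * B x y) :
    ∃ (c : F) (α β : F ≃+* F), (∀ x y, B x y = c * (α x * β y)) ∧ (c ≠ 0 → α l * β μ = l) :=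
  have ⟨_, _, hl⟩ := hl
  bil_mono hB h (pair_unique hq hμ hl)

theorem alt_eq_zero {l : F} (hl : Prim l) {B : F → F → F} (hB : Biadd B)
    (h : ∀ x y, B (l * x) (l * y) = l * B x y) (h0 : B 1 1 = 0) (x y : F) : B x y = 0 := by
  have key : ∀ α β : F ≃+* F, α l * β l = l → α = Fr⁻¹ * 1 ∧ β = Fr⁻¹ * 1 := fun α β e =>
    or_self_iff.1 (two_eq (hl.two (e.trans (mul_self_eq' 1 l))))
  obtain ⟨c, α, β, h1, -⟩ := bil_mono hB h fun α β γ δ e1 e2 =>
    ⟨(key _ _ e1).1.trans (key _ _ e2).1.symm, (key _ _ e1).2.trans (key _ _ e2).2.symm⟩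
  rw [h1] at h0 ⊢
  simp only [map_one, mul_one] at h0
  rw [h0, zero_mul]

theorem bil_exists {B : F → F → F} (hB : Biadd B) {μ l : F}
    (h : ∀ x y, B (μ * x) (μ * y) = l * B x y) (h0 : ∃ x y, B x y ≠ 0) :
    ∃ σ τ : F ≃+* F, l = σ μ * τ μ := by
  obtain ⟨c, h1, h2⟩ := bil_eq hB h
  obtain ⟨x, y, h0⟩ := h0
  obtain ⟨p, -, hp⟩ := exists_ne_zero_of_sum_ne_zero (h1 x y ▸ h0)
  exact ⟨p.1, p.2, (h2 p (left_ne_zero_of_mul hp)).symm⟩

theorem quad_exists {Q : F → F} (hB : Biadd fun x y => Q (x + y) + Q x + Q y) {μ l : F}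
    (h : ∀ x, Q (μ * x) = l * Q x) (h0 : ∃ x, Q x ≠ 0) : ∃ σ τ : F ≃+* F, l = σ μ * τ μ := by
  by_cases h1 : ∃ x y, Q (x + y) + Q x + Q y ≠ 0
  · exact bil_exists hB (fun x y => by rw [← mul_add, h, h, h]; ring) h1
  push Not at h1
  obtain ⟨σ, rfl⟩ := lin_eq (f := Q) (fun x y => by
    rw [← CharTwo.add_eq_zero, ← add_assoc, h1]) h h0
  exact ⟨_, _, mul_self_eq' σ μ⟩

/-- the final step in Higman's theorem -/
theorem jacobi_zero (hq : 2 < Nat.card F) {l μ ν : F} (hl : Prim l) (m1 : μ ≠ 1) (n1 : ν ≠ 1) {γ : F → F → F}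
    (h : ∀ x y, γ (μ * x) (ν * y) = l * γ x y) {α β α' β' : F ≃+* F} (e : α l * β μ = l)
    (e' : α' l * β' ν = l) (h1 : ∀ x y, α (γ x y) = α (γ 1 y) * β x)
    (h2 : ∀ x y, α' (γ x y) = α' (γ x 1) * β' y) (x y : F) : γ x y = 0 := by
  have h3 : ∀ x y, γ x y = γ 1 1 * α.symm (β x) * α'.symm (β' y) := fun x y => by
    rw [← α'.symm_apply_apply (γ x y), h2, map_mul, α'.symm_apply_apply,
      ← α.symm_apply_apply (γ x 1), h1, map_mul, α.symm_apply_apply]
  suffices γ 1 1 = 0 by rw [h3, this, zero_mul, zero_mul]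
  by_contra h4
  have h5 := h 1 1
  rw [mul_one, mul_one, h3, mul_assoc, mul_comm l, mul_right_inj' h4] at h5
  have a1 : l * α.symm (β μ) = α.symm l := by
    nth_rw 2 [← e]; rw [map_mul, α.symm_apply_apply]
  have a2 : l * α'.symm (β' ν) = α'.symm l := by
    nth_rw 2 [← e']; rw [map_mul, α'.symm_apply_apply]
  have l0 := hl.ne_zero hq
  have l1 := hl.ne_one hq
  have h6 := hl.two (α := α.symm) (β := α'.symm) (δ := 1) (ε := Fr) (by
    rw [← a1, ← a2, frobeniusEquiv_def, mul_mul_mul_comm, h5]; simp; ring)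
  rcases two_eq h6 with ⟨e1, -⟩ | ⟨-, e1⟩
  · rw [e1] at a1
    exact m1 (by simpa using (mul_eq_left₀ l0).1 a1)
  · rw [e1] at a2
    exact n1 (by simpa using (mul_eq_left₀ l0).1 a2)

end Cfsg.Agent.Inv
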