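import Cfsg.Agent.Inv.R1a
import Cfsg.Agent.Inv.Zas5
import Cfsg.Agent.BG.S04a
import Cfsg.Agent.Inv.Suz1

/-! Odd order groups acting transitively on vectors; the cyclic group of inverted elements. -/

set_option autoImplicit false
set_option linter.unusedVariables false
set_option linter.unusedSectionVars false

namespace Cfsg.Agent.Inv

open Subgroup MulAction Cfsg.Agent.PLoc
open scoped Pointwise commutatorElement

section Const

variable {P E : Type*} [Group P] [Finite P] [AddCommGroup E] [DistribMulAction P E]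

theorem stab_eq_of_const (hconst : ∀ a b : E, a ≠ 0 → b ≠ 0 →
      Nat.card (stabilizer P a) = Nat.card (stabilizer P b)) {a b : E} (ha : a ≠ 0) (hb : b ≠ 0)
    (h : ∀ x : P, x • a = a → x • b = b) (x : P) (hx : x • b = b) : x • a = a :=
  (eq_of_le_of_card_ge (H := stabilizer P a) (K := stabilizer P b) h (hconst b a hb ha).le).ge hx

theorem central_fpf [FaithfulSMul P E] {p : ℕ} (hp : ∀ e : E, p • e = 0 → e = 0)
    (hconst : ∀ a b : E, a ≠ 0 → b ≠ 0 → Nat.card (stabilizer P a) = Nat.card (stabilizer P b))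
    {z : P} (hz : z ∈ center P) (h1 : z ≠ 1) (h2 : z ^ p = 1) {a : E} (ha : z • a = a) : a = 0 := by
  by_contra a0
  obtain ⟨c, hc⟩ : ∃ c : E, z • c ≠ c := by
    by_contra h
    push Not at h
    exact h1 (eq_of_smul_eq_smul (α := E) (by simpa using h))
  have h3 : z • (z • c - c) ≠ z • c - c := fun e => hc (sub_eq_zero.1 (hp _ (by
    have : ∀ n : ℕ, z ^ n • c = c + n • (z • c - c) := fun n => by
      induction n with
      | zero => simp
      | succ n ih => rw [pow_succ', mul_smul, ih, smul_add, smul_comm, e, succ_nsmul]; abel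
    simpa [h2] using (this p).symm)))
  set b := z • c - c with hb
  have N1 : ∀ (x : P) (v : E), ∑ i ∈ Finset.range p, z ^ i • x • v =
      x • ∑ i ∈ Finset.range p, z ^ i • v := fun x v => by
    rw [Finset.smul_sum]
    exact Finset.sum_congr rfl fun i _ => by
      rw [← mul_smul, ← mul_smul, mem_center_iff.1 (pow_mem hz i)]
  have N2 : ∑ i ∈ Finset.range p, z ^ i • (a + b) = p • a := by
    have e1 : ∀ i : ℕ, z ^ i • a = a := fun i => (stabilizer P a).pow_mem ha i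
    simp only [smul_add, e1, Finset.sum_add_distrib, hb, smul_sub, ← mul_smul, ← pow_succ]
    rw [Finset.sum_range_sub fun i => z ^ i • c]
    simp [h2]
  have h4 : a + b ≠ 0 := fun e => h3 (by rw [← neg_eq_of_add_eq_zero_right e, smul_neg, ha])
  refine h3 (add_left_cancel (a := a) ?_)
  have := stab_eq_of_const hconst h4 a0 (fun x hx => sub_eq_zero.1 (hp _ ?_)) z ha
  · rwa [smul_add, ha] at this
  · have := N1 x (a + b)
    rw [hx, N2] at this
    rw [smul_sub, ← smul_comm, ← this, sub_self]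

theorem s1160 {P E : Type*} [Group P] [Finite P]
    [AddCommGroup E] [Finite E] [DistribMulAction P E] [FaithfulSMul P E]
    {p q : ℕ} [Fact p.Prime] (hp2 : p ≠ 2) (hP : IsPGroup p P) (hq : q.Prime) (hE : ∀ e : E, q • e = 0)
    (hconst : ∀ a b : E, a ≠ 0 → b ≠ 0 →
      Nat.card (MulAction.stabilizer P a) = Nat.card (MulAction.stabilizer P b)) :
    IsCyclic P ∧ ∀ g : P, g ≠ 1 → ∀ a : E, g • a = a → a = 0 := by
  have hp : p.Prime := Fact.out
  have triv : (∀ g : P, ∀ a : E, g • a = a) → IsCyclic P ∧ ∀ g : P, g ≠ 1 → ∀ a : E, g • a = a → a = 0 :=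
    fun h => by
      have : Subsingleton P := ⟨fun x y => eq_of_smul_eq_smul (α := E) (by simp [h])⟩
      exact ⟨inferInstance, fun g hg => absurd (Subsingleton.elim _ _) hg⟩
  by_cases hE0 : ∀ a : E, a = 0
  · exact triv fun g a => by rw [hE0 a, smul_zero]
  by_cases hpq : q = p
  · subst hpq
    have h1 : q ∣ Nat.card E := by
      push Not at hE0
      obtain ⟨a, ha⟩ := hE0
      rw [← addOrderOf_eq_prime (hE a) ha]
      exact addOrderOf_dvd_natCard a
    obtain ⟨b, hb, h2⟩ := hP.exists_fixed_point_of_prime_dvd_card_of_fixed_point E h1 (a := 0)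
      fun g => smul_zero g
    refine triv fun g a => ?_
    by_cases ha : a = 0
    · simp [ha]
    exact (eq_of_le_of_card_ge (H := stabilizer P a) (K := stabilizer P b) (fun x _ => hb x)
      (hconst b a h2.symm ha).le).ge (hb g)
  have hp0 : ∀ e : E, p • e = 0 → e = 0 := fun e he => by
    have := Nat.dvd_gcd (addOrderOf_dvd_iff_nsmul_eq_zero.2 he)
      (addOrderOf_dvd_iff_nsmul_eq_zero.2 (hE e))
    rwa [(Nat.coprime_primes hp hq).2 (Ne.symm hpq), Nat.dvd_one, AddMonoid.addOrderOf_eq_one_iff]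
      at this
  have cf := fun z => central_fpf hp0 hconst (z := z)
  suffices hc : IsCyclic P by
    refine ⟨hc, fun g hg a ha => ?_⟩
    obtain ⟨k, hk⟩ := (IsPGroup.iff_orderOf.1 hP) g
    have h1 : p ∣ orderOf g := by
      rw [hk]; exact dvd_pow_self _ fun e => hg (orderOf_eq_one_iff.1 (by rw [hk, e, pow_zero]))
    have h2 := orderOf_pow_orderOf_div (orderOf_pos g).ne' h1
    exact cf _ (mem_center_iff.2 fun x => (hc.commGroup.mul_comm _ _))
      (fun e => hp.one_lt.ne' (by rw [← h2, e, orderOf_one])) (by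
        have := pow_orderOf_eq_one (g ^ (orderOf g / p)); rwa [h2] at this)
      ((stabilizer P a).pow_mem ha _)
  by_contra hc
  have hodd : Odd (Nat.card P) := by
    obtain ⟨k, hk⟩ := hP.exists_card_eq
    exact hk ▸ (hp.odd_of_ne_two hp2).pow
  obtain ⟨R, hR, hn⟩ := BG.odd_normal_p2Elem_self (R := (⊤ : Subgroup P))
    (BG.pig_of_pg hp (hP.to_subgroup _)) (by rwa [card_top]) fun h => hc (topEquiv.isCyclic.1 h)
  have := normal_of_top_le_normalizer hn
  obtain ⟨r, hr, r1, a, ha, a0⟩ : ∃ r ∈ R, r ≠ 1 ∧ ∃ a : E, r • a = a ∧ a ≠ 0 := by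
    by_contra h
    push Not at h
    obtain ⟨p', x, y, h1, h2, h3, h4, h5, h6, h7⟩ :=
      Core.exists_pp_of_not_isCyclic hR.abel.comm (hR.not_cyc hp)
    refine hE0 fun v => hp0 _ ?_
    exact Core.pow_eq_one_of_pp (V := Multiplicative E)
      { toFun g := AddEquiv.toMultiplicative (DistribMulAction.toAddEquiv E g)
        map_one' := by ext; simp
        map_mul' x y := by ext; simp [mul_smul] } hp (comm_of_mem hR.abel.comm h2 h3)
      (hR.ab.pow x h2) (hR.ab.pow y h3)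
      (fun t ht v hv => h _ (mul_mem h2 (zpowers_le.2 h3 ht))
        (Core.mul_ne_one_of_not_mem_zpowers h7 ht) v hv) (fun v hv => h y h3 h6 v hv) v
  set W := ⁅R, (⊤ : Subgroup P)⁆ with hW
  have hWR : W < R := Core.commutator_lt_of_isPGroup (hP.to_subgroup _) (hP.to_subgroup _) hn
    (hR.ne_bot hp)
  have hmem : ∀ y : P, r * y * r⁻¹ * y⁻¹ ∈ W := fun y => commutator_mem_commutator hr (mem_top y)
  have W0 : W ≠ ⊥ := fun e => a0 (cf r (mem_center_iff.2 fun y => by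
    have := hmem y
    rw [e, mem_bot, mul_inv_eq_one, mul_inv_eq_iff_eq_mul] at this
    exact this.symm) r1 (hR.ab.pow r hr) ha)
  have WZ : W ≤ center P := by
    have h1 : Nat.card W = p := by
      have h2 := card_dvd_of_le hWR.le
      have h3 := card_lt_of_lt hWR
      rw [hR.card] at h2 h3
      obtain ⟨k, hk, h4⟩ := (Nat.dvd_prime_pow hp).1 h2
      have : k ≠ 0 := fun e => W0 (card_eq_one.1 (by rw [h4, e, pow_zero]))
      have : k ≠ 2 := fun e => by simp [h4, e] at h3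
      rw [h4, show k = 1 by omega, pow_one]
    have h2 := card_dvd_of_le (inf_le_left : W ⊓ center P ≤ W)
    rw [h1, Nat.dvd_prime hp] at h2
    exact inf_eq_left.1 (eq_of_le_of_card_ge inf_le_left (by
      rw [h2.resolve_left (mt card_eq_one.1 (inf_center_ne_bot hP W0)), h1]))
  -- eigenvectors
  have zero : ∀ w ∈ W, ∀ w' ∈ W, w ≠ w' → ∀ v : E, w • v = w' • v → v = 0 := fun w hw w' hw' h v e =>
    cf (w'⁻¹ * w) (WZ (mul_mem (inv_mem hw') hw)) (by rwa [Ne, inv_mul_eq_one, eq_comm])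
      (hR.ab.pow _ (hWR.le (mul_mem (inv_mem hw') hw))) (by rw [mul_smul, e, inv_smul_smul])
  have move : ∀ y : P, ∀ w ∈ W, ∀ v : E, r • v = w • v →
      r • y • v = (w * (r * y * r⁻¹ * y⁻¹)) • y • v := fun y w hw v e => by
    rw [← mem_center_iff.1 (WZ hw), mul_smul, ← mul_smul w, ← mem_center_iff.1 (WZ hw), mul_smul y,
      ← e]
    simp [mul_smul]
  have step : ∀ w ∈ W, ∀ w' ∈ W, ∀ v : E, r • v = w • v →
      r • (r • v - w' • v) = w • (r • v - w' • v) := fun w hw w' hw' v e => by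
    rw [smul_sub, smul_sub, ← mul_smul r w', ← mul_smul w r, ← mul_smul w w',
      mem_center_iff.1 (WZ hw') r, ← mem_center_iff.1 (WZ hw) r, mem_center_iff.1 (WZ hw') w,
      mul_smul, mul_smul, mul_smul, e]
  have ind1 : ∀ w ∈ W, ∀ w₁ ∈ W, w ≠ w₁ → ∀ v : E, r • v = w • v → r • v = w₁ • v → v = 0 :=
    fun w hw w₁ h1 h v e e1 => zero w hw w₁ h1 h v (e.symm.trans e1)
  have ind2 : ∀ w ∈ W, ∀ w₁ ∈ W, ∀ w₂ ∈ W, w ≠ w₁ → w ≠ w₂ → ∀ v₁ v₂ : E,
      r • (v₁ + v₂) = w • (v₁ + v₂) → r • v₁ = w₁ • v₁ → r • v₂ = w₂ • v₂ → v₁ + v₂ = 0 :=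
    fun w hw w₁ h1 w₂ h2 n1 n2 v₁ v₂ e e1 e2 => ind1 w hw w₂ h2 n2 _ e (sub_eq_zero.1
      (ind1 w hw w₁ h1 n1 _ (step w hw w₂ h2 _ e) (by
        rw [show r • (v₁ + v₂) - w₂ • (v₁ + v₂) = r • v₁ - w₂ • v₁ by
          rw [smul_add, smul_add, e2]; abel]
        exact step w₁ h1 w₂ h2 _ e1)))
  have ind3 : ∀ w ∈ W, ∀ w₁ ∈ W, ∀ w₂ ∈ W, ∀ w₃ ∈ W, w ≠ w₁ → w ≠ w₂ → w ≠ w₃ → ∀ v₁ v₂ v₃ : E,
      r • (v₁ + v₂ + v₃) = w • (v₁ + v₂ + v₃) → r • v₁ = w₁ • v₁ → r • v₂ = w₂ • v₂ →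
      r • v₃ = w₃ • v₃ → v₁ + v₂ + v₃ = 0 :=
    fun w hw w₁ h1 w₂ h2 w₃ h3 n1 n2 n3 v₁ v₂ v₃ e e1 e2 e3 => ind1 w hw w₃ h3 n3 _ e (sub_eq_zero.1 (by
      have e4 := step w hw w₃ h3 _ e
      rw [show r • (v₁ + v₂ + v₃) - w₃ • (v₁ + v₂ + v₃) = (r • v₁ - w₃ • v₁) + (r • v₂ - w₃ • v₂) by
          simp only [smul_add, e3]; abel] at e4 ⊢
      exact ind2 w hw w₁ h1 w₂ h2 n1 n2 _ _ e4 (step w₁ h1 w₃ h3 _ e1) (step w₂ h2 w₃ h3 _ e2)))
  obtain ⟨g, hg⟩ : ∃ g : P, r * g * r⁻¹ * g⁻¹ ≠ 1 := by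
    by_contra h
    push Not at h
    exact a0 (cf r (mem_center_iff.2 fun y => by
      have := h y
      rw [mul_inv_eq_one, mul_inv_eq_iff_eq_mul] at this
      exact this.symm) r1 (hR.ab.pow r hr) ha)
  have ha' : r • a = (1 : P) • a := by rwa [one_smul]
  have hb := move g 1 (one_mem _) a ha'
  rw [one_mul] at hb
  have b0 : g • a ≠ 0 := fun e => a0 (by rw [← inv_smul_smul g a, e, smul_zero])
  have hj := hmem g
  generalize r * g * r⁻¹ * g⁻¹ = j at hg hb hj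
  generalize g • a = b at hb b0
  have ab : a + b ≠ 0 := fun e => b0 (ind1 j hj 1 (one_mem _) hg b hb (by
    rw [← neg_eq_of_add_eq_zero_right e, smul_neg, ha, one_smul]))
  have key : ∀ x : P, x • (a + b) = a + b → x • a = a := fun x hx => by
    have h1 := move x 1 (one_mem _) a ha'
    have h2 := move x j hj b hb
    rw [one_mul] at h1
    have hm := hmem x
    generalize r * x * r⁻¹ * x⁻¹ = m at h1 h2 hm
    rw [smul_add] at hx
    by_cases m1 : m = 1
    · subst m1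
      rw [mul_one] at h2
      refine sub_eq_zero.1 (ind1 j hj 1 (one_mem _) hg _ ?_ (by rw [smul_sub, smul_sub, h1, ha']))
      rw [show x • a - a = b - x • b by rw [sub_eq_sub_iff_add_eq_add, hx, add_comm], smul_sub,
        smul_sub, hb, h2]
    exfalso
    have nb : r • -b = j • -b := by rw [smul_neg, smul_neg, hb]
    have na : r • -a = (1 : P) • -a := by rw [smul_neg, smul_neg, ha']
    have jm : j * m = 1 := by
      by_contra h
      refine a0 ?_
      have e : x • a + x • b + -b = a := by rw [hx]; abel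
      rw [← e]
      exact ind3 1 (one_mem _) m hm _ (mul_mem hj hm) j hj (Ne.symm m1) (Ne.symm h) (Ne.symm hg) _ _ _
        (by rw [e, ha']) h1 h2 nb
    have mj : j = m := by
      by_contra h
      refine b0 ?_
      have e : x • a + x • b + -a = b := by rw [hx]; abel
      rw [← e]
      exact ind3 j hj m hm _ (mul_mem hj hm) 1 (one_mem _) h (by rwa [jm]) hg _ _ _
        (by rw [e, hb]) h1 h2 na
    subst mj
    exact hg (eq_one_of_odd_of_sq (hodd.of_dvd_nat (orderOf_dvd_natCard j)) jm)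
  have := stab_eq_of_const hconst ab a0 key r ha
  rw [smul_add, ha, add_right_inj] at this
  exact b0 (ind1 j hj 1 (one_mem _) hg b hb (by rwa [one_smul]))

theorem fit_of_trans {D E : Type*} [Group D] [Finite D]
    [AddCommGroup E] [Finite E] [DistribMulAction D E] [FaithfulSMul D E]
    (hodd : Odd (Nat.card D)) {q : ℕ} (hq : q.Prime) (hE : ∀ e : E, q • e = 0)
    (htrans : ∀ a b : E, a ≠ 0 → b ≠ 0 → ∃ d : D, d • a = b) (hs : Group.IsSolvable D) :
    IsCyclic ↥(Cfsg.fittingSubgroup D) ∧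
      (∀ g ∈ Cfsg.fittingSubgroup D, g ≠ 1 → ∀ a : E, g • a = a → a = 0) ∧
      commutator D ≤ Cfsg.fittingSubgroup D := by
  have key : ∀ (p : ℕ) [Fact p.Prime], IsCyclic (pCore p D) ∧
      ∀ g : pCore p D, g ≠ 1 → ∀ a : E, g • a = a → a = 0 := fun p hp => by
    by_cases h2 : p = 2
    · have : Subsingleton (pCore p D) := by
        obtain ⟨k, hk⟩ := (Core.pCore_isPGroup p (G := D)).exists_card_eq
        have h3 := hodd.of_dvd_nat (card_subgroup_dvd_card (pCore p D))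
        rw [hk, h2] at h3
        have : k = 0 := by_contra fun e => h3.not_two_dvd_nat (dvd_pow_self 2 e)
        exact (Nat.card_eq_one_iff_unique.1 (by rw [hk, this, pow_zero])).1
      exact ⟨inferInstance, fun g hg => absurd (Subsingleton.elim _ _) hg⟩
    refine s1160 h2 (Core.pCore_isPGroup p) hq hE fun a b ha hb => ?_
    obtain ⟨d, rfl⟩ := htrans a b ha hb
    have hn : (pCore p D).Normal := inferInstance
    refine Nat.card_congr ⟨fun x => ⟨⟨d * x * d⁻¹, hn.conj_mem _ x.1.2 d⟩, conj_smul_eq_iff.2 x.2⟩,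
      fun x => ⟨⟨d⁻¹ * x * d, hn.conj_mem' _ x.1.2 d⟩, ?_⟩, fun x => by ext; simp [mul_assoc],
      fun x => by ext; simp [mul_assoc]⟩
    have : (x.1 : D) • d • a = d • a := x.2
    change (d⁻¹ * x * d) • a = a
    simp [mul_smul, this]
  have mem : ∀ (p : ℕ) [Fact p.Prime], ∀ S : Subgroup D, S ≤ fittingSubgroup D → IsPGroup p S →
      S ≤ pCore p D := fun p hp S h1 h2 => by
    obtain ⟨k, hk⟩ := h2.exists_card_eq
    have := Core.le_of_coprime_index (H := S.subgroupOf (fittingSubgroup D))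
      (N := (pCore p D).subgroupOf (fittingSubgroup D)) (by
        rw [card_subgroupOf_of_le h1, hk]
        exact (hp.out.coprime_iff_not_dvd.2 (Core.not_dvd_relIndex_pCore_fitting p)).pow_left k)
    exact fun x hx => this (x := ⟨x, h1 hx⟩) hx
  have hc : IsCyclic (fittingSubgroup D) := by
    have := Core.fitting_isNilpotent (G := D)
    have : IsZGroup (fittingSubgroup D) := ⟨fun p hp S => by
      have := Fact.mk hp
      have := (key p).1
      exact (Subgroup.equivMapOfInjective _ _ (fittingSubgroup D).subtype_injective).isCyclic.2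
        (isCyclic_of_le (mem p _ (map_subtype_le _) (S.isPGroup'.map _)))⟩
    infer_instance
  refine ⟨hc, fun g hg g1 a ha => ?_, ?_⟩
  · obtain ⟨p, hp, hd⟩ := Nat.exists_prime_and_dvd (mt orderOf_eq_one_iff.1 g1)
    have := Fact.mk hp
    have h2 := orderOf_pow_orderOf_div (orderOf_pos g).ne' hd
    refine (key p).2 ⟨g ^ (orderOf g / p), mem p (zpowers _) (zpowers_le.2 (pow_mem hg _))
      (IsPGroup.of_card (n := 1) (by simp [h2])) (mem_zpowers _)⟩
      (fun e => hp.one_lt.ne' (h2.symm.trans (orderOf_eq_one_iff.2 (Subtype.ext_iff.1 e)))) a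
      ((stabilizer D a).pow_mem ha _)
  · refine le_trans ?_ Core.centralizer_fitting_le
    simpa [normalizer_eq_top, _root_.commutator_def] using comm_le_cent_of_isCyclic hc

theorem fit_mul {V : Type*} [CommGroup V] [Finite V] (A : Subgroup (MulAut V))
    (hodd : Odd (Nat.card A)) {q : ℕ} (hq : q.Prime) (hE : ∀ e : V, e ^ q = 1)
    (htrans : ∀ a b : V, a ≠ 1 → b ≠ 1 → ∃ d ∈ A, d a = b) (hs : Group.IsSolvable A) :
    IsCyclic ↥(Cfsg.fittingSubgroup A) ∧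
      ∀ g ∈ commutator A, ∀ a : V, (g : MulAut V) a = a → a ≠ 1 → g = 1 := by
  let _ : DistribMulAction A (Additive V) :=
    { smul g v := Additive.ofMul ((g : MulAut V) v.toMul)
      one_smul _ := rfl
      mul_smul _ _ _ := rfl
      smul_zero g := map_one (g : MulAut V)
      smul_add g v w := map_mul (g : MulAut V) _ _ }
  have : FaithfulSMul A (Additive V) := ⟨fun h => Subtype.ext (MulEquiv.ext h)⟩
  obtain ⟨h1, h2, h3⟩ := fit_of_trans (D := A) (E := Additive V) hodd hq hE (fun a b ha hb =>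
    have ⟨d, h1, h2⟩ := htrans a b ha hb; ⟨⟨d, h1⟩, h2⟩) hs
  exact ⟨h1, fun g hg a h4 h5 => by_contra fun h => h5 (h2 g (h3 hg) h a h4)⟩

end Const

variable {G Ω : Type*} [Group G] [MulAction G Ω]

namespace R1

variable {a : Ω} {t : G} {Q : Subgroup G} [Finite G] (S : R1 G Ω a t Q)
  (h2 : ∃ x y : G, x ≠ 1 ∧ y ≠ 1 ∧ x ≠ y ∧ x * x = 1 ∧ y * y = 1 ∧ x * y = y * x)
include S h2

local notation "𝓗" => stabilizer G a
local notation "𝓓" => St2 G a (t • a)

/-- the involutions of the stabilizer, and the identity -/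
def Q0 : Subgroup G where
  carrier := {s | s • a = a ∧ s * s = 1}
  one_mem' := by simp
  mul_mem' {x y} hx hy := ⟨by rw [mul_smul, hy.1, hx.1], by
    rw [← Commute.mul_mul_mul_comm (S.central h2 hx.2 hx.1 (S.inv_Q hy.2 hy.1)), hx.2, hy.2, one_mul]⟩
  inv_mem' {x} hx := ⟨smul_eq_iff_inv.1 hx.1, by rw [← mul_inv_rev, hx.2, inv_one]⟩

theorem Q0_le : S.Q0 h2 ≤ Q := fun _ h => S.inv_Q h.2 h.1

theorem Q0_comm : IsMulCommutative (S.Q0 h2) :=
  ⟨⟨fun x y => Subtype.ext (S.central h2 x.2.2 x.2.1 (S.Q0_le h2 y.2))⟩⟩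

theorem Q0_norm : 𝓗 ≤ normalizer (S.Q0 h2 : Set G) := fun h hh =>
  mem_normalizer_of_conj_mem fun x hx => ⟨S.fix (S.conjQ hh (S.Q0_le h2 hx)), by
    rw [conj_mul, hx.2]; simp⟩

theorem K_cyc (hs : Group.IsSolvable 𝓓) : IsCyclic (Subgroup.closure (invertedBy 𝓓 t)) ∧
    ∀ x ∈ Subgroup.closure (invertedBy 𝓓 t), t * x * t⁻¹ = x⁻¹ := by
  have := S.Q0_comm h2
  open scoped IsMulCommutative in
  let φ : 𝓓 →* MulAut (S.Q0 h2) := (S.Q0 h2).normalizerMonoidHom.comp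
    (inclusion (inf_le_left.trans (S.Q0_norm h2)))
  have hφ : ∀ d v, (φ d v : G) = d * v * (d : G)⁻¹ := fun _ _ => rfl
  open scoped IsMulCommutative in
  obtain ⟨h3, h4⟩ := fit_mul φ.range (S.odd_card.of_dvd_nat (card_range_dvd φ)) Nat.prime_two
    (fun e => Subtype.ext (by simpa [sq] using e.2.2)) (fun x y hx hy => by
      obtain ⟨k, k1, -, k2⟩ := S.K_trans (ord2_iff.2 ⟨x.2.2, by simpa using hx⟩) x.2.1
        (ord2_iff.2 ⟨y.2.2, by simpa using hy⟩) y.2.1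
      exact ⟨_, ⟨⟨k, k1⟩, rfl⟩, Subtype.ext k2⟩)
    (solvable_of_surjective φ.rangeRestrict_surjective)
  obtain ⟨s, r, s1, s2, s3, s4⟩ := S.struct
  set L := Subgroup.closure (invertedBy 𝓓 t) with hL
  have LD : L ≤ 𝓓 := (closure_le _).2 fun x hx => hx.1
  -- the kernel centralizes `t` and `L`
  have ker : ∀ w : 𝓓, φ w = 1 → t * w * t⁻¹ = w ∧ ∀ k ∈ L, k * w = w * k := fun w hw => by
    have := (s1127 S).2.ge (x := w) ⟨w.2, fun s' hs' => by
      have := hφ w ⟨s', hs'.1, hs'.2.2⟩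
      rw [hw, eq_mul_inv_iff_mul_eq] at this
      exact this⟩
    exact ⟨mem_cent_iff_conj.1 this.1.2, (centralizer_closure _).ge this.2⟩
  have hc : ∀ k k' : 𝓓, t * k * t⁻¹ = (k : G)⁻¹ → t * k' * t⁻¹ = (k' : G)⁻¹ →
      φ k * φ k' = φ k' * φ k := fun k k' e e' => by
    obtain ⟨c, hc, m, hm, h5, h6, h7⟩ := exists_cent_mul_inv S.mul_self S.odd_card
      (fun x => S.conjD) (k * k').2
    rw [Subgroup.coe_mul] at h7
    have h8 : (k : G)⁻¹ * (k' : G)⁻¹ = c * m⁻¹ := by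
      rw [← e, ← e', ← h6, conj_mul, h7]; nth_rw 2 [← h5]; group
    have h9 : (⟨c, hc⟩ * ⟨c, hc⟩ : 𝓓) ∈ commutator 𝓓 := by
      rw [← QuotientGroup.eq_one_iff]
      let π := Abelianization.of (G := 𝓓)
      have e1 : π k * π k' = π ⟨c, hc⟩ * π ⟨m, hm⟩ := by
        rw [← map_mul, ← map_mul]; exact congrArg _ (Subtype.ext h7)
      have e2 : (π k)⁻¹ * (π k')⁻¹ = π ⟨c, hc⟩ * (π ⟨m, hm⟩)⁻¹ := by
        simp only [← map_inv, ← map_mul]; exact congrArg _ (Subtype.ext h8)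
      change π _ = 1
      rw [map_mul]
      calc _ = (π ⟨c, hc⟩ * π ⟨m, hm⟩) * (π ⟨c, hc⟩ * (π ⟨m, hm⟩)⁻¹) := by
            rw [mul_mul_mul_comm, mul_inv_cancel, mul_one]
        _ = 1 := by rw [← e1, ← e2, mul_mul_mul_comm, mul_inv_cancel, mul_inv_cancel, mul_one]
    have h10 : φ ⟨c, hc⟩ = 1 := by
      have e1 := h4 (φ.rangeRestrict (⟨c, hc⟩ * ⟨c, hc⟩)) (by
        have := mem_map_of_mem φ.rangeRestrict h9
        rw [_root_.commutator_def, map_commutator] at this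
        exact commutator_mono le_top le_top this) ⟨s, s2, sq_of_ord2 s1⟩ (Subtype.ext (by
          have := (S.cent_eq s1 s2 s3 s4 hc).1 h5
          change c * c * s * (c * c)⁻¹ = s
          rw [mul_inv_rev, mul_assoc c c, ← mul_assoc, mul_assoc c, this, this]))
        (fun e => ne_one_of_ord2 s1 (congrArg Subtype.val e))
      refine eq_one_of_odd_of_sq ((S.oddD hc).of_dvd_nat ?_) (by
        rw [← map_mul]; exact congrArg Subtype.val e1)
      exact (orderOf_map_dvd φ _).trans (by simp)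
    have e1 : φ k * φ k' = φ ⟨m, hm⟩ := by
      rw [← map_mul, show k * k' = ⟨c, hc⟩ * ⟨m, hm⟩ from Subtype.ext h7, map_mul, h10, one_mul]
    have e2 : (φ k)⁻¹ * (φ k')⁻¹ = (φ ⟨m, hm⟩)⁻¹ := by
      rw [← map_inv, ← map_inv, ← map_mul, show k⁻¹ * k'⁻¹ = ⟨c, hc⟩ * ⟨m, hm⟩⁻¹ from Subtype.ext h8,
        map_mul, h10, one_mul, map_inv]
    rw [e1, ← inv_inj, ← e2, mul_inv_rev]
  let ψ : L →* φ.range := φ.rangeRestrict.comp (inclusion LD)
  have hψ : IsCyclic ψ.range := by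
    refine isCyclic_of_le (Core.le_fitting ⟨?_⟩ ?_)
    · rintro _ ⟨x, rfl⟩ ⟨_, d, rfl⟩
      refine ⟨⟨d * x * (d : G)⁻¹, ?_⟩, Subtype.ext ?_⟩
      · exact ((s1124 t S.ord _ S.odd_card fun x => S.conjD).2.2 d d.2).le ⟨x, x.2, rfl⟩
      · change φ (d * inclusion LD x * d⁻¹) = φ d * φ _ * (φ d)⁻¹
        simp
    · have : IsMulCommutative ψ.range := ⟨⟨by
        rintro ⟨_, ⟨x, hx⟩, rfl⟩ ⟨_, ⟨y, hy⟩, rfl⟩
        refine Subtype.ext (Subtype.ext ?_)
        change Commute (φ ⟨x, LD hx⟩) (φ ⟨y, LD hy⟩)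
        induction hx, hy using closure_induction₂ with
        | mem x y hx hy => exact hc _ _ hx.2 hy.2
        | one_left => exact (show φ ⟨1, _⟩ = 1 from map_one φ) ▸ Commute.one_left _
        | one_right => exact (show φ ⟨1, _⟩ = 1 from map_one φ) ▸ Commute.one_right _
        | mul_left x y z hx hy hz h h' =>
          exact (show φ ⟨x * y, _⟩ = _ from map_mul φ ⟨x, LD hx⟩ ⟨y, LD hy⟩) ▸ h.mul_left h'
        | mul_right x y z hx hy hz h h' =>
          exact (show φ ⟨x * y, _⟩ = _ from map_mul φ ⟨x, LD hx⟩ ⟨y, LD hy⟩) ▸ h.mul_right h'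
        | inv_left x y hx hy h => exact (show φ ⟨x⁻¹, _⟩ = _ from map_inv φ ⟨x, LD hx⟩) ▸ h.inv_left
        | inv_right x y hx hy h =>
          exact (show φ ⟨y⁻¹, _⟩ = _ from map_inv φ ⟨y, LD hy⟩) ▸ h.inv_right⟩⟩
      open scoped IsMulCommutative in infer_instance
  have hk : ∀ x : L, ψ.rangeRestrict x = 1 → φ (inclusion LD x) = 1 := fun x h =>
    congrArg (fun y : ψ.range => (y.1 : MulAut (S.Q0 h2))) h
  have Lc := commutative_of_cyclic_center_quotient ψ.rangeRestrict fun x hx =>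
    mem_center_iff.2 fun y => Subtype.ext ((ker _ (hk x hx)).2 y y.2)
  have inv : ∀ x ∈ L, t * x * t⁻¹ = x⁻¹ := fun x hx => by
    induction hx using closure_induction with
    | mem x hx => exact hx.2
    | one => simp
    | mul x y hx hy h h' =>
      rw [← conj_mul, h, h', ← mul_inv_rev]
      exact congrArg _ (congrArg Subtype.val (Lc ⟨y, hy⟩ ⟨x, hx⟩))
    | inv x hx h => rw [← conj_inv, h]
  refine ⟨isCyclic_of_injective ψ.rangeRestrict ((injective_iff_map_eq_one _).2 fun x hx =>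
    Subtype.ext (eq_one_of_odd_of_sq (S.oddD (LD x.2)) ?_)), inv⟩
  exact mul_eq_one_iff_eq_inv.2 ((ker _ (hk x hx)).1.symm.trans (inv x x.2))

theorem irr {L : Subgroup G} (hL : invertedBy 𝓓 t ⊆ L) (U : Subgroup G) (hU : U ≤ S.Q0 h2)
    (h : ∀ k ∈ L, ∀ u ∈ U, k * u * k⁻¹ ∈ U) : U = ⊥ ∨ U = S.Q0 h2 := by
  refine or_iff_not_imp_left.2 fun h1 => le_antisymm hU fun y hy => ?_
  obtain ⟨x, hx, x1⟩ := exists_ne_one h1
  by_cases y1 : y = 1
  · exact y1 ▸ one_mem _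
  obtain ⟨k, k1, k2, rfl⟩ := S.K_trans (ord2_iff.2 ⟨(hU hx).2, x1⟩) (hU hx).1 (ord2_iff.2 ⟨hy.2, y1⟩)
    hy.1
  exact h k (hL ⟨k1, k2⟩) x hx

end R1

theorem IsSuzukiTwoGroup.congr' {P P' : Type*} [Group P] [Group P'] (e : P ≃* P')
    (h : IsSuzukiTwoGroup P) : IsSuzukiTwoGroup P' := by
  obtain ⟨h1, h2, ⟨x, y, h3⟩, ⟨u, v, h4⟩, K, h5, h6⟩ := h
  refine ⟨Finite.of_equiv _ e.toEquiv, h2.of_equiv e, ⟨e x, e y, by simpa [← map_mul] using h3⟩,
    ⟨e u, e v, by simpa [← map_mul] using h4⟩, K.map (MulAut.congr e).toMonoidHom,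
    isCyclic_of_surjective _ (MonoidHom.subgroupMap_surjective _ K), fun x y a1 a2 a3 a4 => ?_⟩
  obtain ⟨k, hk, hu⟩ := h6 (e.symm x) (e.symm y) (by simpa using a1) (by simpa [← map_mul] using a2)
    (by simpa using a3) (by simpa [← map_mul] using a4)
  refine ⟨⟨_, k, k.2, rfl⟩, by simp [hk], ?_⟩
  rintro ⟨_, k', hk', rfl⟩ h
  rw [← hu ⟨k', hk'⟩ (by simpa [MulEquiv.eq_symm_apply] using h)]

theorem suzuki_of_conj [Finite G] {S L : Subgroup G} (hS : IsPGroup 2 S) (h1 : ¬ IsMulCommutative S)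
    (h2 : ∃ x ∈ S, ∃ y ∈ S, orderOf x = 2 ∧ orderOf y = 2 ∧ x ≠ y) (hL : IsCyclic L)
    (hn : L ≤ normalizer (S : Set G))
    (h3 : ∀ x ∈ S, ∀ y ∈ S, orderOf x = 2 → orderOf y = 2 → ∃ k ∈ L, k * x * k⁻¹ = y)
    (h4 : ∀ x ∈ S, orderOf x = 2 → ∀ k ∈ L, k * x * k⁻¹ = x → k = 1) : IsSuzukiTwoGroup S := by
  let φ : L →* MulAut S := S.normalizerMonoidHom.comp (inclusion hn)
  refine ⟨inferInstance, hS, by_contra fun h => h1 ⟨⟨by simpa using h⟩⟩, ?_, φ.range,
    isCyclic_of_surjective _ φ.rangeRestrict_surjective, fun x y a1 a2 a3 a4 => ?_⟩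
  · obtain ⟨x, hx, y, hy, a1, a2, a3⟩ := h2
    exact ⟨⟨x, hx⟩, ⟨y, hy⟩, by simpa using a3, by simpa using ne_one_of_ord2 a1,
      Subtype.ext (sq_of_ord2 a1), by simpa using ne_one_of_ord2 a2, Subtype.ext (sq_of_ord2 a2)⟩
  have hx : orderOf (x : G) = 2 := by rw [orderOf_coe]; exact ord2_iff.2 ⟨a2, a1⟩
  obtain ⟨k, hk, e⟩ := h3 x x.2 y y.2 hx (by rw [orderOf_coe]; exact ord2_iff.2 ⟨a4, a3⟩)
  refine ⟨⟨_, ⟨k, hk⟩, rfl⟩, Subtype.ext e, ?_⟩
  rintro ⟨_, k', rfl⟩ h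
  have e' : (k' : G) * x * (k' : G)⁻¹ = y := congrArg Subtype.val h
  have := h4 x x.2 hx (k⁻¹ * k') (mul_mem (inv_mem hk) k'.2) (by
    calc _ = k⁻¹ * (k' * x * (k' : G)⁻¹) * k := by group
      _ = _ := by rw [e', ← e]; group)
  rw [inv_mul_eq_one] at this
  subst this
  rfl

section
variable {G Ω : Type*} [Group G] [Finite G] [MulAction G Ω] {a : Ω} {t : G} {Q : Subgroup G}
    (hS : Cfsg.IsRankOneSetup G Ω a t Q)
    (h2 : ∃ x y : G, x ≠ 1 ∧ y ≠ 1 ∧ x ≠ y ∧ x * x = 1 ∧ y * y = 1 ∧ x * y = y * x)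
    (hs : Group.IsSolvable (St2 G a (t • a)))
include hS h2 hs

theorem s1131' :
    ∃ C : Subgroup G, (C : Set G) = Cfsg.invertedBy (MulAction.stabilizer G a ⊓ MulAction.stabilizer G (t • a)) t ∧ IsCyclic C ∧
      ∀ d ∈ (MulAction.stabilizer G a ⊓ MulAction.stabilizer G (t • a)), ∀ c ∈ C, d * c * d⁻¹ ∈ C := by
  have S : R1 G Ω a t Q := hS
  obtain ⟨h3, h4⟩ := S.K_cyc h2 hs
  exact ⟨_, subset_antisymm (fun x hx => ⟨(closure_le _).2 (fun x hx => hx.1) hx, h4 x hx⟩)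
    subset_closure, h3, fun d hd c hc =>
      ((s1124 t S.ord _ S.odd_card fun x => S.conjD).2.2 d hd).le ⟨c, hc, rfl⟩⟩

theorem s1132' (S : Sylow 2 ↥Q) :
    IsMulCommutative (S : Subgroup ↥Q) ∨ Cfsg.IsSuzukiTwoGroup ↥(S : Subgroup ↥Q) := by
  have R : R1 G Ω a t Q := hS
  obtain ⟨C, h3, h4, h5⟩ := s1131' hS h2 hs
  have hC : ∀ k ∈ C, k ∈ invertedBy (St2 G a (t • a)) t := fun k hk => h3.le hk
  refine or_iff_not_imp_left.2 fun h => ?_
  have e := (S : Subgroup Q).equivMapOfInjective _ Q.subtype_injective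
  have := R.nilp h2
  have hn : (S : Subgroup Q).Normal := inferInstance
  have mem : ∀ x ∈ Q, IsPGroup 2 (zpowers x) → x ∈ (S : Subgroup Q).map Q.subtype := fun x hx h => by
    obtain ⟨T, hT⟩ := (h.comap_subtype (K := Q)).exists_le_sylow
    have := Sylow.unique_of_normal S hn
    exact ⟨⟨x, hx⟩, (Subsingleton.elim T S ▸ hT) (mem_zpowers x), rfl⟩
  have inv : ∀ x ∈ Q, orderOf x = 2 → x ∈ (S : Subgroup Q).map Q.subtype := fun x hx h =>
    mem x hx (IsPGroup.of_card (n := 1) (by simp [h]))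
  refine IsSuzukiTwoGroup.congr' e.symm (suzuki_of_conj (S.isPGroup'.map _)
    (fun hc => h ⟨⟨fun x y => e.injective (by rw [map_mul, map_mul, hc.1.1])⟩⟩) ?_ h4
    (fun k hk => mem_normalizer_of_conj_mem fun x hx => mem _ (R.conjQ (hC k hk).1.1
      (map_subtype_le _ hx)) ?_) (fun x hx y hy a1 a2 => ?_) fun x hx a1 k hk e =>
    R.K_free (hC k hk).1 (hC k hk).2 a1 (R.fix (map_subtype_le _ hx)) e)
  · obtain ⟨x, hx, y, hy, a1, a2, a3, -⟩ := R.exists_four h2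
    exact ⟨x, inv x hx a1, y, inv y hy a2, a1, a2, a3⟩
  · obtain ⟨m, hm⟩ := (IsPGroup.iff_orderOf.1 (S.isPGroup'.map Q.subtype)) ⟨x, hx⟩
    exact IsPGroup.of_card (n := m) (by rw [Nat.card_zpowers, orderOf_conj', ← hm, ← orderOf_coe])
  · obtain ⟨k, k1, k2, k3⟩ := R.K_trans a1 (R.fix (map_subtype_le _ hx)) a2
      (R.fix (map_subtype_le _ hy))
    exact ⟨k, h3.ge ⟨k1, k2⟩, k3⟩

theorem s1133' :
    ∃ v ∈ (MulAction.stabilizer G a ⊓ MulAction.stabilizer G (t • a)) ⊓ Subgroup.centralizer {t},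
      ((MulAction.stabilizer G a ⊓ MulAction.stabilizer G (t • a)) ⊓ Subgroup.centralizer {t} ⊓ Subgroup.centralizer (Cfsg.invertedBy (MulAction.stabilizer G a ⊓ MulAction.stabilizer G (t • a)) t)) ⊔ Subgroup.closure {v} =
        (MulAction.stabilizer G a ⊓ MulAction.stabilizer G (t • a)) ⊓ Subgroup.centralizer {t} := by
  have S : R1 G Ω a t Q := hS
  obtain ⟨C, h3, h4, h5⟩ := s1131' hS h2 hs
  obtain ⟨s, r, s1, s2, s3, s4⟩ := S.struct
  obtain ⟨F, _, _, e, hC, e1⟩ := exists_Crd (S.Q0_comm h2) (S := C) ⟨⟨h4.commGroup.mul_comm⟩⟩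
    (fun k hk => S.Q0_norm h2 (h3.le hk).1.1) (S.irr h2 h3.ge) (v := s) ⟨s2, sq_of_ord2 s1⟩
    (ne_one_of_ord2 s1)
  let V := St2 G a (t • a) ⊓ centralizer {t}
  have key : ∀ v : V, ∃ τ : F ≃+* F, ∀ x, v * e x * (v : G)⁻¹ = e (τ x) := fun v => by
    obtain ⟨c, τ, -, h6⟩ := hC.semilin (S.Q0_norm h2 v.2.1.1)
      (mem_normalizer_of_conj_mem (h5 v v.2.1))
    have h7 := h6 1
    rw [e1, (S.cent_eq s1 s2 s3 s4 v.2.1).1 (mem_cent_iff_conj.1 v.2.2), map_one, mul_one,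
      ← e1] at h7
    exact ⟨τ, by simpa [← hC.inj h7] using h6⟩
  choose τ hτ using key
  let φ : V →* (F ≃+* F) := MonoidHom.mk' τ fun v w => RingEquiv.ext fun x => hC.inj (by
    rw [RingAut.mul_apply, ← hτ, ← hτ, ← hτ, Subgroup.coe_mul]; group)
  have := aut_isCyclic (F := F)
  obtain ⟨⟨_, v, rfl⟩, hv⟩ := IsCyclic.exists_zpow_surjective (G := φ.range)
  refine ⟨v, v.2, le_antisymm (sup_le inf_le_left ((closure_le _).2 (Set.singleton_subset_iff.2 v.2)))
    fun x hx => ?_⟩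
  obtain ⟨k, hk⟩ := hv ⟨_, ⟨x, hx⟩, rfl⟩
  have h6 : φ (⟨x, hx⟩ * (v ^ k)⁻¹) = 1 := by
    rw [map_mul, map_inv, map_zpow, mul_inv_eq_one]
    exact (congrArg Subtype.val hk).symm
  rw [show x = (x * ((v : G) ^ k)⁻¹) * v ^ k by simp]
  have h8 : x * ((v : G) ^ k)⁻¹ ∈ V := V.mul_mem hx (V.inv_mem (V.zpow_mem v.2 k))
  refine mul_mem_sup ((s1127 hS).2.ge (mem_inf.2 ⟨h8.1, fun s' hs' => ?_⟩))
    (Subgroup.zpow_mem _ (subset_closure (Set.mem_singleton _)) k)
  obtain ⟨y, rfl⟩ := hC.surj s' ⟨hs'.1, hs'.2.2⟩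
  have h7 := hτ (⟨x, hx⟩ * (v ^ k)⁻¹) y
  have h9 : τ (⟨x, hx⟩ * (v ^ k)⁻¹) = 1 := h6
  rw [h9, mul_inv_eq_iff_eq_mul] at h7
  exact h7.symm

end

end Cfsg.Agent.Inv
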