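import Cfsg.Agent.Inv.R1b
import Cfsg.Agent.Inv.Suz4
import Cfsg.Agent.PF.FT

/-! The cyclic group `K` of the rank one set-up, and the orbit of the involutions. -/

set_option autoImplicit false
set_option linter.unusedVariables false
set_option linter.unusedSectionVars false

namespace Cfsg.Agent.Inv

open Subgroup MulAction Cfsg.Agent.PLoc
open scoped Pointwise commutatorElement

variable {G Ω : Type*} [Group G] [MulAction G Ω]

/-- two distinct commuting involutions -/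
abbrev Four (G : Type*) [Group G] : Prop :=
  ∃ x y : G, x ≠ 1 ∧ y ≠ 1 ∧ x ≠ y ∧ x * x = 1 ∧ y * y = 1 ∧ x * y = y * x

theorem card_orbit_dvd [Finite G] (M : Subgroup G) (a : Ω) :
    (orbit M a).ncard ∣ Nat.card M := by
  rw [← index_stabilizer]; exact index_dvd_card _

namespace R1

variable {a : Ω} {t : G} {Q : Subgroup G} [Finite G] (S : R1 G Ω a t Q)
include S

local notation "𝓗" => stabilizer G a
local notation "𝓓" => St2 G a (t • a)

theorem finite : Finite Ω :=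
  Finite.of_surjective (fun g : G => g • a) S.tr1

theorem tconj (k x : G) : t * (k * x * k⁻¹) * t = (t * k * t⁻¹) * (t * x * t) * (t * k * t⁻¹)⁻¹ := by
  calc _ = t * k * x * (t * t) * k⁻¹ * t * (t * t)⁻¹ := by rw [S.mul_self]; group
    _ = _ := by group

theorem three {k : G} (hk : k ∈ 𝓓) (h : t * k * t⁻¹ = k⁻¹) (h3 : orderOf k = 3) :
    ∃ s, orderOf s = 2 ∧ s • a = a ∧ t * s * t = s⁻¹ * t * s := by
  obtain ⟨i2, -⟩ := S.ord_mul hk h
  obtain ⟨c, hc⟩ := S.exists_fix i2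
  have k1 : k ≠ 1 := by rintro rfl; simp at h3
  have k3 : k * k * k = 1 := by rw [← pow_orderOf_eq_one k, h3]; simp [pow_succ]
  have tc : t • c ≠ c := fun e => by
    have kc : k • c = c := by
      have := congrArg (t • ·) hc
      simpa only [← mul_smul, ← mul_assoc, S.mul_self, one_mul, e] using this
    obtain ⟨g, rfl⟩ := S.tr1 c
    have m1 : g⁻¹ * t * g ∈ Q := S.inv_Q (by
      rw [show g⁻¹ * t * g * (g⁻¹ * t * g) = g⁻¹ * (t * t) * g by group, S.mul_self]; simp)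
      (by rw [mul_smul, mul_smul, e, inv_smul_smul])
    have m2 : g⁻¹ * (t * k) * g ∈ Q := S.inv_Q (by
      rw [show g⁻¹ * (t * k) * g * (g⁻¹ * (t * k) * g) = g⁻¹ * (t * k * (t * k)) * g by group,
        (ord2_iff.1 i2).1]; simp) (by rw [mul_smul, mul_smul, hc, inv_smul_smul])
    have m3 : g⁻¹ * k * g ∈ Q := by
      have := Q.mul_mem m1 m2
      rwa [show g⁻¹ * t * g * (g⁻¹ * (t * k) * g) = g⁻¹ * (t * t) * k * g by group, S.mul_self,
        mul_one] at this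
    have fx : ∀ d, k • d = d → g⁻¹ • d = a := fun d hd => by
      by_contra hne
      have := S.free m3 hne (by rw [mul_smul, mul_smul, smul_inv_smul, hd])
      exact k1 (by simpa [mul_assoc, inv_mul_eq_one] using this)
    exact S.ne (smul_left_cancel g⁻¹ ((fx _ hk.2).trans (fx _ hk.1).symm))
  obtain ⟨g, g1, g2⟩ := S.tr2 tc.symm S.ne.symm
  have j2 : g * t * g⁻¹ * (g * t * g⁻¹) = 1 := by rw [conj_mul, S.mul_self]; simp
  obtain ⟨d1, d2⟩ := S.swap_inv j2 (by rw [← g1, mul_smul, mul_smul, inv_smul_smul, g2, g1])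
  obtain ⟨m, hm⟩ := exists_sqrt_of_odd (S.oddD d1)
  generalize hk' : t * (g * t * g⁻¹) = k' at d1 d2 hm
  have d3 : t * k' ^ m * t⁻¹ = (k' ^ m)⁻¹ := by rw [← conj_pow, d2, inv_pow]
  have d4 : k' ^ m * (g * t * g⁻¹) * (k' ^ m)⁻¹ = t := by
    have e1 : g * t * g⁻¹ = t * k' := by rw [← hk', ← mul_assoc, S.mul_self, one_mul]
    have e2 : k' ^ m * t = t * (k' ^ m)⁻¹ := by
      rw [← d3, S.tinv, ← mul_assoc, ← mul_assoc, S.mul_self, one_mul]
    rw [e1, ← mul_assoc, e2]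
    calc t * (k' ^ m)⁻¹ * k' * (k' ^ m)⁻¹ = t * (k' ^ m)⁻¹ * (k' ^ m * k' ^ m) * (k' ^ m)⁻¹ := by
          rw [hm]
      _ = t := by group
  have d5 := (𝓓).pow_mem d1 m
  generalize k' ^ m = w at d4 d5
  refine ⟨w * g * (t * k) * (w * g)⁻¹, by rw [orderOf_conj', i2], ?_, ?_⟩
  · have e : (w * g) • c = a := by rw [mul_smul, g1, d5.1]
    rw [mul_smul, smul_eq_iff_inv.1 e, mul_smul, hc, e]
  · have e : t = w * g * t * (w * g)⁻¹ := d4.symm.trans (by group)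
    generalize w * g = y at e
    have e2 : k * t = t * k⁻¹ := by rw [← h, S.tinv, ← mul_assoc, ← mul_assoc, S.mul_self, one_mul]
    have e3 : t * (t * k) * t = (t * k)⁻¹ * t * (t * k) := by
      rw [mul_inv_rev, S.tinv, ← mul_assoc, S.mul_self, one_mul, mul_assoc k⁻¹, S.mul_self, mul_one]
      have : k⁻¹ * t = t * k := by rw [eq_comm, ← mul_inv_eq_iff_eq_mul, h]
      rw [e2, ← mul_assoc, this, mul_assoc, show k⁻¹ = k * k from inv_eq_of_mul_eq_one_left k3]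
    calc t * (y * (t * k) * y⁻¹) * t = y * t * y⁻¹ * (y * (t * k) * y⁻¹) * (y * t * y⁻¹) := by
          rw [← e]
      _ = y * (t * (t * k) * t) * y⁻¹ := by group
      _ = (y * (t * k) * y⁻¹)⁻¹ * (y * t * y⁻¹) * (y * (t * k) * y⁻¹) := by rw [e3]; group
      _ = _ := by rw [← e]

variable (h2 : Four G)
include h2

/-- the cyclic group of elements of `D` inverted by `t` -/
def K : Subgroup G where
  carrier := invertedBy 𝓓 t
  one_mem' := ⟨one_mem _, by simp⟩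
  mul_mem' {x y} hx hy := ⟨mul_mem hx.1 hy.1, (S.K_cyc h2 (PF.feit_thompson S.odd_card)).2 _
    (mul_mem (subset_closure hx) (subset_closure hy))⟩
  inv_mem' {x} hx := ⟨inv_mem hx.1, by rw [← conj_inv, hx.2]⟩

theorem mem_K {k : G} : k ∈ S.K h2 ↔ k ∈ 𝓓 ∧ t * k * t⁻¹ = k⁻¹ := Iff.rfl
theorem mem_Q0 {s : G} : s ∈ S.Q0 h2 ↔ s • a = a ∧ s * s = 1 := Iff.rfl

theorem K_le : S.K h2 ≤ 𝓓 := fun _ h => h.1

theorem isCyclic_K : IsCyclic (S.K h2) := by
  have := (S.K_cyc h2 (PF.feit_thompson S.odd_card)).1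
  rwa [show invertedBy 𝓓 t = (S.K h2 : Set G) from rfl, closure_eq] at this

theorem K_comm {x y : G} (hx : x ∈ S.K h2) (hy : y ∈ S.K h2) : x * y = y * x := by
  have := S.isCyclic_K h2
  exact congrArg Subtype.val (IsCyclic.commGroup.mul_comm (⟨x, hx⟩ : S.K h2) ⟨y, hy⟩)

theorem conj_K {d k : G} (hd : d ∈ 𝓓) (hk : k ∈ S.K h2) : d * k * d⁻¹ ∈ S.K h2 := by
  have := ((s1124 t S.ord _ S.odd_card fun x => S.conjD).2.2 d hd).le
    ⟨k, subset_closure hk, rfl⟩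
  rwa [show invertedBy 𝓓 t = (S.K h2 : Set G) from rfl, closure_eq] at this

theorem card_K' : Nat.card (S.K h2) + 1 = Nat.card (S.Q0 h2) := by
  have e : (S.Q0 h2 : Set G) = insert 1 (involutionsIn (𝓗 : Set G)) := by
    ext x
    refine ⟨fun h => (em _).imp id fun h1 => ⟨h.1, h1, h.2⟩, ?_⟩
    rintro (rfl | h)
    · exact one_mem _
    · exact ⟨h.1, h.2.2⟩
  have := S.card_K
  change Nat.card (invertedBy 𝓓 t) + 1 = (S.Q0 h2 : Set G).ncard
  rw [e, Set.ncard_insert_of_notMem (fun h => h.2.1 rfl), this]; rfl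

theorem Q0_cent {s x : G} (hs : s ∈ S.Q0 h2) (hx : x ∈ Q) : s * x = x * s :=
  S.central h2 hs.2 hs.1 hx

theorem conj_Q0 {h s : G} (hh : h • a = a) (hs : s ∈ S.Q0 h2) : h * s * h⁻¹ ∈ S.Q0 h2 :=
  (mem_normalizer_iff.1 (S.Q0_norm h2 hh) s).1 hs

theorem four_le : 4 ≤ Nat.card (S.Q0 h2) := by
  obtain ⟨x, hx, y, hy, x2, y2, xy, -⟩ := S.exists_four h2
  have a1 : x ∈ S.Q0 h2 := ⟨S.fix hx, (ord2_iff.1 x2).1⟩
  have a2 : y ∈ S.Q0 h2 := ⟨S.fix hy, (ord2_iff.1 y2).1⟩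
  have b1 := (ord2_iff.1 x2).2
  have b2 := (ord2_iff.1 y2).2
  have : ({1, x, y, x * y} : Set G).ncard = 4 := by
    rw [Set.ncard_insert_of_notMem, Set.ncard_insert_of_notMem, Set.ncard_pair]
    · simpa using b1
    · simpa using ⟨xy, b2⟩
    · simp only [Set.mem_insert_iff, Set.mem_singleton_iff, not_or]
      exact ⟨b1.symm, b2.symm, fun e => xy (by
        rw [← inv_of_ord2 y2]; exact eq_inv_of_mul_eq_one_left e.symm)⟩
  rw [← this]
  exact Set.ncard_le_ncard (t := (S.Q0 h2 : Set G)) (by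
    rintro z (rfl | rfl | rfl | rfl)
    exacts [one_mem _, a1, a2, mul_mem a1 a2])

theorem pQ0 : IsPGroup 2 (S.Q0 h2) := fun x => ⟨1, Subtype.ext (by simpa [sq] using x.2.2)⟩

theorem card_Q0 : ∃ n, 2 ≤ n ∧ Nat.card (S.Q0 h2) = 2 ^ n := by
  obtain ⟨n, hn⟩ := IsPGroup.iff_card.1 (S.pQ0 h2)
  refine ⟨n, ?_, hn⟩
  have := S.four_le h2
  rw [hn] at this
  exact (Nat.pow_le_pow_iff_right (a := 2) one_lt_two).1 this

/-- If the element `r` of the structure equation is an involution, the orbit of `t • a` under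
the involutions, with `a`, is an orbit of a subgroup. -/
theorem delta {s r : G} (hs : orderOf s = 2) (hsa : s • a = a) (hr : r ∈ S.Q0 h2)
    (e : t * s * t = r⁻¹ * t * r) : ∃ M : Subgroup G, S.Q0 h2 ≤ M ∧ 𝓓 ≤ M ∧ t ∈ M ∧
      orbit M a = insert a (orbit (S.Q0 h2) (t • a)) ∧
      (orbit M a).ncard = Nat.card (S.Q0 h2) + 1 := by
  have := S.finite
  let Δ : Set Ω := insert a (orbit (S.Q0 h2) (t • a))
  have key : ∀ g : G, (∀ x ∈ Δ, g • x ∈ Δ) → g ∈ stabilizer G Δ := fun g hg =>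
    Set.eq_of_subset_of_ncard_le (Set.smul_set_subset_iff.2 hg) (Set.ncard_smul_set g Δ).ge
  have m1 : S.Q0 h2 ≤ stabilizer G Δ := fun u hu => key u <| by
    rintro x (rfl | ⟨v, rfl⟩)
    · exact Or.inl hu.1
    · exact Or.inr ⟨⟨u, hu⟩ * v, mul_smul _ _ _⟩
  have m2 : 𝓓 ≤ stabilizer G Δ := fun d hd => key d <| by
    rintro x (rfl | ⟨v, rfl⟩)
    · exact Or.inl hd.1
    · refine Or.inr ⟨⟨_, S.conj_Q0 h2 hd.1 v.2⟩, ?_⟩
      change (d * v * d⁻¹) • t • a = d • (v : G) • t • a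
      rw [mul_smul, mul_smul, smul_eq_iff_inv.1 hd.2]
  have m3 : t ∈ stabilizer G Δ := key t <| by
    rintro x (rfl | ⟨v, rfl⟩)
    · exact Or.inr ⟨1, one_smul _ _⟩
    by_cases hv : (v : G) = 1
    · exact Or.inl (by change t • (v : G) • t • a = a; rw [hv, one_smul, S.tt])
    obtain ⟨k, k1, k2, k3⟩ := S.K_trans hs hsa (ord2_iff.2 ⟨v.2.2, hv⟩) v.2.1
    refine Or.inr ⟨⟨_, S.conj_Q0 h2 (inv_mem k1).1 (inv_mem hr)⟩, ?_⟩
    change (k⁻¹ * r⁻¹ * k⁻¹⁻¹) • t • a = t • (v : G) • t • a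
    have e2 : t * (k * s * k⁻¹) * t = k⁻¹ * (r⁻¹ * t * r) * k := by
      rw [← e, S.tconj, k2, inv_inv]
    rw [← k3, ← mul_smul t, ← mul_smul (t * _) t a, e2]
    simp only [mul_smul, inv_inv]
    rw [show k • a = a from k1.1, show k • t • a = t • a from k1.2, hr.1]
  have e1 : orbit (stabilizer G Δ) a = Δ := by
    refine subset_antisymm ?_ ?_
    · rintro _ ⟨g, rfl⟩
      exact g.2.le ⟨a, Or.inl rfl, rfl⟩
    · rintro x (rfl | ⟨v, rfl⟩)
      · exact mem_orbit_self _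
      · exact ⟨⟨v * t, mul_mem (m1 v.2) m3⟩, mul_smul _ _ _⟩
  refine ⟨_, m1, m2, m3, e1, ?_⟩
  have e2 : stabilizer (S.Q0 h2) (t • a) = ⊥ := (eq_bot_iff_forall _).2 fun u hu =>
    Subtype.ext (S.free (S.Q0_le h2 u.2) S.ne hu)
  rw [e1, Set.ncard_insert_of_notMem, ← index_stabilizer, e2, index_bot]
  rintro ⟨v, hv⟩
  exact S.smul_ne v.2.1 S.ne hv

theorem suzuki (hQ : IsPGroup 2 Q) (hn : ¬ IsMulCommutative Q) : IsSuzukiTwoGroup Q := by
  refine suzuki_of_conj hQ hn ?_ (S.isCyclic_K h2) (((S.K_le h2).trans inf_le_left).trans S.norm)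
    (fun x hx y hy a1 a2 => ?_) fun x hx a1 k hk e => S.K_free hk.1 hk.2 a1 (S.fix hx) e
  · obtain ⟨x, hx, y, hy, a1, a2, a3, -⟩ := S.exists_four h2
    exact ⟨x, hx, y, hy, a1, a2, a3⟩
  · obtain ⟨k, k1, k2, k3⟩ := S.K_trans a1 (S.fix hx) a2 (S.fix hy)
    exact ⟨k, ⟨k1, k2⟩, k3⟩

theorem center_eq (hQ : IsPGroup 2 Q) (hn : ¬ IsMulCommutative Q) :
    center Q = (S.Q0 h2).subgroupOf Q := by
  ext x
  refine ⟨fun h => ⟨S.fix x.2, congrArg Subtype.val ((s1137 (S.suzuki h2 hQ hn)).2 x h)⟩,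
    fun h => mem_center_iff.2 fun y => Subtype.ext (S.Q0_cent h2 h y.2).symm⟩

theorem card_center (hQ : IsPGroup 2 Q) (hn : ¬ IsMulCommutative Q) :
    Nat.card (center Q) = Nat.card (S.Q0 h2) := by
  rw [S.center_eq h2 hQ hn, Nat.card_congr (subgroupOfEquivOfLe (S.Q0_le h2)).toEquiv]

theorem suz_sq (hQ : IsPGroup 2 Q) (hn : ¬ IsMulCommutative Q) {x : G} (hx : x ∈ Q) :
    x * x ∈ S.Q0 h2 := by
  have := (s1138 (S.suzuki h2 hQ hn)).1 ⟨x, hx⟩
  rwa [S.center_eq h2 hQ hn] at this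

theorem suz_comm (hQ : IsPGroup 2 Q) (hn : ¬ IsMulCommutative Q) {x y : G} (hx : x ∈ Q)
    (hy : y ∈ Q) : ⁅x, y⁆ ∈ S.Q0 h2 := by
  have := (s1138 (S.suzuki h2 hQ hn)).2.1 ⟨x, hx⟩⁻¹ ⟨y, hy⟩⁻¹
  rw [S.center_eq h2 hQ hn] at this
  simpa [mem_subgroupOf, commutatorElement_def] using this

theorem suz_card (hQ : IsPGroup 2 Q) (hn : ¬ IsMulCommutative Q) :
    Nat.card Q = Nat.card (S.Q0 h2) ^ 2 ∨ Nat.card Q = Nat.card (S.Q0 h2) ^ 3 := by
  rw [← S.card_center h2 hQ hn]; exact (s1138 (S.suzuki h2 hQ hn)).2.2.1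

end R1

end Cfsg.Agent.Inv
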