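import Cfsg.Agent.Inv.TC2

/-! The rank one set-up: the inductive claim and its transfer to subgroups and quotients. -/

set_option autoImplicit false
set_option linter.unusedVariables false
set_option linter.unusedSectionVars false

namespace Cfsg.Agent.Inv

open Subgroup MulAction Cfsg.Agent.PLoc
open scoped Pointwise commutatorElement

universe u v

variable {G Ω : Type*} [Group G] [MulAction G Ω]

/-- the number of solutions of `z * z = 1` in `Q` -/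
noncomputable def n2 (Q : Subgroup G) : ℕ := {z ∈ Q | z * z = 1}.ncard

/-- the structure of `Q` proved by induction -/
structure TT (t : G) (Q D : Subgroup G) : Prop where
  two : IsPGroup 2 Q
  cases : (∀ u ∈ Q, u * u = 1) ∨ ¬ IsMulCommutative Q ∧ (Nat.card Q = n2 Q ^ 2 ∨
    Nat.card Q = n2 Q ^ 3 ∧ (∀ s ∈ Q, ∀ r ∈ Q, t * s * t = r⁻¹ * t * r → r = s) ∧
      ∃ w ∈ D, (∀ z ∈ Q, z * z = 1 → w * z = z * w) ∧ ∃ u ∈ Q, w * u ≠ u * w)

section Map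

variable {G' : Type*} [Group G'] {f : G →* G'} {Q D : Subgroup G} {t : G} (hf : Set.InjOn f Q)
include hf

theorem card_map_of_injOn : Nat.card (Q.map f) = Nat.card Q := Set.ncard_image_of_injOn hf

theorem n2_map : n2 (Q.map f) = n2 Q := by
  rw [n2, n2, ← Set.ncard_image_of_injOn (hf.mono fun z hz => hz.1)]
  congr 1; ext y
  refine ⟨?_, ?_⟩
  · rintro ⟨⟨x, hx, rfl⟩, h⟩
    exact ⟨x, ⟨hx, hf (mul_mem hx hx) (one_mem Q) (by simpa using h)⟩, rfl⟩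
  · rintro ⟨x, hx, rfl⟩
    exact ⟨⟨x, hx.1, rfl⟩, by rw [← map_mul, hx.2, map_one]⟩

theorem comm_map_iff : IsMulCommutative (Q.map f) ↔ IsMulCommutative Q := by
  refine ⟨fun h => isMulCommutative_of_forall fun x hx y hy => hf (mul_mem hx hy) (mul_mem hy hx) ?_,
    fun h => inferInstance⟩
  rw [map_mul, map_mul]
  exact congrArg Subtype.val (h.1.1 ⟨_, x, hx, rfl⟩ ⟨_, y, hy, rfl⟩)

theorem TT.of_map [Finite G] (hn : ∀ d ∈ D, ∀ u ∈ Q, d * u * d⁻¹ ∈ Q)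
    (h : TT (f t) (Q.map f) (D.map f)) : TT t Q D := by
  refine ⟨?_, h.cases.imp (fun h u hu => hf (mul_mem hu hu) (one_mem Q) (by
    simpa using h _ ⟨u, hu, rfl⟩)) fun ⟨h1, h2⟩ => ⟨mt (comm_map_iff hf).2 h1, ?_⟩⟩
  · have : Finite (Q.map f) := Finite.Set.finite_image _ _
    obtain ⟨n, hn⟩ := IsPGroup.iff_card.1 h.two
    exact IsPGroup.of_card ((card_map_of_injOn hf).symm.trans hn)
  rw [card_map_of_injOn hf, n2_map hf] at h2
  refine h2.imp_right fun ⟨h3, h4, _, ⟨w, hw, rfl⟩, h5, _, ⟨u, hu, rfl⟩, h6⟩ =>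
    ⟨h3, fun s hs r hr e => hf hr hs (h4 _ ⟨s, hs, rfl⟩ _ ⟨r, hr, rfl⟩ (by simpa using congrArg f e)),
      w, hw, fun z hz e => mul_inv_eq_iff_eq_mul.1 (hf (hn w hw z hz) hz ?_), u, hu,
      fun e => h6 (by simpa using congrArg f e)⟩
  rw [map_mul, map_mul, h5 _ ⟨z, hz, rfl⟩ (by rw [← map_mul, e, map_one]), map_inv,
    mul_inv_cancel_right]

omit hf in
theorem TT.map (hf : Function.Injective f) (h : TT t Q D) : TT (f t) (Q.map f) (D.map f) := by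
  refine ⟨h.two.map f, h.cases.imp ?_ fun ⟨h1, h2⟩ => ⟨mt (comm_map_iff hf.injOn).1 h1, ?_⟩⟩
  · rintro h _ ⟨u, hu, rfl⟩; rw [← map_mul, h u hu, map_one]
  rw [card_map_of_injOn hf.injOn, n2_map hf.injOn]
  refine h2.imp_right fun ⟨h3, h4, w, hw, h5, u, hu, h6⟩ => ⟨h3, ?_, _, ⟨w, hw, rfl⟩, ?_, _,
    ⟨u, hu, rfl⟩, fun e => h6 (hf (by simpa using e))⟩
  · rintro _ ⟨s, hs, rfl⟩ _ ⟨r, hr, rfl⟩ e
    rw [h4 s hs r hr (hf (by simpa using e))]
  · rintro _ ⟨z, hz, rfl⟩ e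
    rw [← map_mul, ← map_mul, h5 z hz (hf (by simpa using e))]

end Map

theorem TT.mono {t : G} {Q D D' : Subgroup G} (h : TT t Q D) (hD : D ≤ D') : TT t Q D' :=
  ⟨h.two, h.cases.imp_right fun h => h.imp_right fun h => h.imp_right fun ⟨a, b, w, c, d⟩ =>
    ⟨a, b, w, hD c, d⟩⟩

theorem four_sub {M : Subgroup G} {x y : G} (hx : x ∈ M) (hy : y ∈ M) (h1 : x ≠ 1) (h2 : y ≠ 1)
    (h3 : x ≠ y) (h4 : x * x = 1) (h5 : y * y = 1) (h6 : x * y = y * x) : Four M :=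
  ⟨⟨x, hx⟩, ⟨y, hy⟩, mt (congrArg Subtype.val) h1, mt (congrArg Subtype.val) h2,
    mt (congrArg Subtype.val) h3, Subtype.ext h4, Subtype.ext h5, Subtype.ext h6⟩

theorem mp_of_tr2 (h : ∀ a b c d : Ω, a ≠ b → c ≠ d → ∃ g : G, g • a = c ∧ g • b = d) :
    IsMultiplyPretransitive G Ω 2 := is_two_pretransitive_iff.2 fun h1 h2 => h _ _ _ _ h1 h2

namespace R1

variable {a : Ω} {t : G} {Q : Subgroup G} [Finite G] (S : R1 G Ω a t Q)
include S

local notation "𝓗" => stabilizer G a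
local notation "𝓓" => St2 G a (t • a)

theorem sub {M : Subgroup G} (ht : t ∈ M) (hev : Even (Nat.card ↥(Q ⊓ M)))
    (h : ∀ g ∈ M, g • a ≠ a → ∃ u ∈ Q ⊓ M, u • t • a = g • a) :
    R1 M (orbit M a) ⟨a, mem_orbit_self a⟩ ⟨t, ht⟩ (Q.subgroupOf M) := by
  have h1 : ∀ c d : orbit M a, c ≠ d → ∃ g : M, g • c = ⟨a, mem_orbit_self a⟩ ∧
      g • d = (⟨t, ht⟩ : M) • ⟨a, mem_orbit_self a⟩ := by
    rintro ⟨_, g, rfl⟩ ⟨_, g', rfl⟩ ne
    obtain ⟨u, hu, e⟩ := h _ (g⁻¹ * g').2 fun e => ne (Subtype.ext (by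
      rw [coe_mul, mul_smul, smul_eq_iff_inv, coe_inv, inv_inv] at e; exact e))
    refine ⟨⟨u, hu.2⟩⁻¹ * g⁻¹, Subtype.ext ?_, Subtype.ext ?_⟩
    · change (u⁻¹ * (g : G)⁻¹) • (g : G) • a = a
      rw [mul_smul, inv_smul_smul, S.fix (inv_mem hu.1)]
    · change (u⁻¹ * (g : G)⁻¹) • (g' : G) • a = t • a
      rw [mul_smul, ← mul_smul (g : G)⁻¹, ← smul_eq_iff_inv.1 e]; rfl
  have h2 : ∀ g : M, g ∈ stabilizer M (⟨a, mem_orbit_self a⟩ : orbit M a) ↔ (g : G) • a = a :=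
    fun g => Subtype.ext_iff
  have h3 : ∀ g : M, g ∈ stabilizer M ((⟨t, ht⟩ : M) • (⟨a, mem_orbit_self a⟩ : orbit M a)) ↔
      (g : G) • t • a = t • a := fun g => Subtype.ext_iff
  refine ⟨mp_of_tr2 fun c d c' d' e e' => ?_, Subtype.ext S.mul_self, mt (congrArg Subtype.val) S.ne_one,
    mt (h2 _).1 S.ne, fun u hu => (h2 u).2 (S.fix hu), fun g hg u hu => S.conjQ ((h2 g).1 hg) hu,
    (eq_bot_iff_forall _).2 fun u hu => Subtype.ext (S.free hu.1 S.ne ((h3 u).1 hu.2)),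
    le_antisymm (sup_le (fun u hu => (h2 u).2 (S.fix hu)) inf_le_left) fun g hg => ?_, ?_, ?_⟩
  · obtain ⟨g, g1, g2⟩ := h1 c d e
    obtain ⟨g', g3, g4⟩ := h1 c' d' e'
    exact ⟨g'⁻¹ * g, by rw [mul_smul, g1, ← g3, inv_smul_smul], by rw [mul_smul, g2, ← g4, inv_smul_smul]⟩
  · obtain ⟨u, hu, e⟩ := h _ (mul_mem g.2 ht) (by rw [mul_smul]; exact S.smul_ne ((h2 g).1 hg) S.ne)
    rw [show g = ⟨u, hu.2⟩ * (⟨u, hu.2⟩⁻¹ * g) by simp]
    refine mul_mem_sup hu.1 ⟨(h2 _).2 ?_, (h3 _).2 ?_⟩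
    · change (u⁻¹ * g) • a = a
      rw [mul_smul, (h2 g).1 hg, S.fix (inv_mem hu.1)]
    · change (u⁻¹ * g) • t • a = t • a
      rw [mul_smul, ← mul_smul (g : G), ← e, inv_smul_smul]
  · rwa [← inf_subgroupOf_right, Nat.card_congr (subgroupOfEquivOfLe inf_le_right).toEquiv]
  · refine S.odd_card.of_dvd_nat (card_dvd_of_injective
      ((M.subtype.comp (Subgroup.subtype _)).codRestrict _ fun g =>
        mem_inf.2 ⟨(h2 _).1 g.2.1, (h3 _).1 g.2.2⟩) fun x y e => ?_)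
    exact Subtype.ext (Subtype.ext (congrArg Subtype.val e :))

theorem tt_of_sub {M : Subgroup G} (ht : t ∈ M)
    (h : TT (⟨t, ht⟩ : M) (Q.subgroupOf M) (St2 M (⟨a, mem_orbit_self a⟩ : orbit M a)
      ((⟨t, ht⟩ : M) • ⟨a, mem_orbit_self a⟩))) : TT t (Q ⊓ M) (𝓓 ⊓ M) := by
  have := h.map M.subtype_injective
  rw [subgroupOf_map_subtype] at this
  refine this.mono ?_
  rintro _ ⟨g, hg, rfl⟩
  exact ⟨⟨congrArg Subtype.val hg.1, congrArg Subtype.val hg.2⟩, g.2⟩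

theorem map {G' : Type*} [Group G'] [MulAction G' Ω] {f : G →* G'} (hf : Function.Surjective f)
    (h : ∀ g (c : Ω), f g • c = g • c) : R1 G' Ω a (f t) (Q.map f) ∧ Set.InjOn f Q ∧
      St2 G' a (f t • a) = (𝓓).map f := by
  have h1 : Set.InjOn f Q := fun u hu v hv e => S.inj hu hv S.ne (by rw [← h u, ← h v, e])
  have h2 : ∀ c : Ω, stabilizer G' c = (stabilizer G c).map f := fun c => by
    ext g; obtain ⟨g, rfl⟩ := hf g
    refine ⟨fun e => ⟨g, (h g c).symm.trans e, rfl⟩, fun ⟨x, hx, e⟩ => ?_⟩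
    rw [← e]; exact (h x c).trans hx
  have h3 : St2 G' a (f t • a) = (𝓓).map f := by
    ext g; obtain ⟨g, rfl⟩ := hf g
    refine ⟨fun e => ⟨g, mem_St2.2 (by simpa only [h] using mem_St2.1 e), rfl⟩, fun ⟨x, hx, e⟩ => ?_⟩
    rw [← e]; exact mem_St2.2 (by simpa only [h] using mem_St2.1 hx)
  refine ⟨⟨mp_of_tr2 fun c d c' d' e e' => ?_, by rw [← map_mul, S.mul_self, map_one],
    fun e => S.ne (by rw [← h, e, one_smul]), fun e => S.ne ((h t a).symm.trans e),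
    h2 a ▸ map_mono S.le, ?_, ?_, ?_, card_map_of_injOn h1 ▸ S.even_card, ?_⟩, h1, h3⟩
  · obtain ⟨g, g1, g2⟩ := S.tr2 e e'
    exact ⟨f g, by rw [h, g1], by rw [h, g2]⟩
  · rw [h2]
    rintro _ ⟨g, hg, rfl⟩ _ ⟨u, hu, rfl⟩
    exact ⟨_, S.conjQ hg hu, by simp⟩
  · refine (eq_bot_iff_forall _).2 ?_
    rintro _ ⟨⟨u, hu, rfl⟩, e⟩
    rw [S.free hu S.ne (by simpa only [h] using mem_stabilizer_iff.1 e), map_one]
  · rw [show stabilizer G' a ⊓ stabilizer G' (f t • a) = _ from h3, ← Subgroup.map_sup, h2]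
    exact congrArg _ S.sup_eq
  · rw [show stabilizer G' a ⊓ stabilizer G' (f t • a) = _ from h3]
    exact S.odd_card.of_dvd_nat (card_map_dvd _ _)

omit S in
/-- the inductive hypothesis -/
def IH (S : R1 G Ω a t Q) : Prop := ∀ M : Subgroup G, M ≠ ⊤ → t ∈ M → Four M → Even (Nat.card ↥(Q ⊓ M)) →
  (∀ g ∈ M, g • a ≠ a → ∃ u ∈ Q ⊓ M, u • t • a = g • a) → TT t (Q ⊓ M) (𝓓 ⊓ M)

end R1

theorem tt_ind (step : ∀ {G : Type u} {Ω : Type v} [Group G] [Finite G] [MulAction G Ω]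
    [FaithfulSMul G Ω] {a : Ω} {t : G} {Q : Subgroup G} (S : R1 G Ω a t Q), Four G → S.IH →
      TT t Q (St2 G a (t • a))) (n : ℕ) :
    ∀ {G : Type u} {Ω : Type v} [Group G] [Finite G] [MulAction G Ω] {a : Ω} {t : G} {Q : Subgroup G},
      Nat.card G = n → R1 G Ω a t Q → Four G → TT t Q (St2 G a (t • a)) := by
  induction n using Nat.strong_induction_on with | _ n ih => ?_
  intro G Ω _ _ _ a t Q hn S h2
  rw [← hn] at ih
  by_cases hk : (toPermHom G Ω).ker = ⊥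
  · have : FaithfulSMul G Ω := ⟨fun h => (toPermHom G Ω).ker_eq_bot_iff.1 hk (Equiv.ext h)⟩
    refine step S h2 fun M hM ht h4 he h => S.tt_of_sub ht (ih _ ?_ rfl (S.sub ht he h) h4)
    rw [← card_top (G := G)]; exact card_lt_of_lt (lt_top_iff_ne_top.2 hM)
  let _ : MulAction (G ⧸ (toPermHom G Ω).ker) Ω :=
    MulAction.compHom Ω (QuotientGroup.kerLift (toPermHom G Ω))
  obtain ⟨S', h3, h4⟩ := S.map (QuotientGroup.mk'_surjective (toPermHom G Ω).ker) fun _ _ => rfl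
  refine TT.of_map h3 (fun d hd u hu => S.conjQ hd.1 hu) (h4 ▸ ih _ ?_ rfl S' ?_)
  · rw [card_eq_card_quotient_mul_card_subgroup (toPermHom G Ω).ker]
    exact lt_mul_of_one_lt_right Nat.card_pos ((one_lt_card_iff_ne_bot _).2 hk)
  · obtain ⟨x, hx, y, hy, x2, y2, xy, c⟩ := S.exists_four h2
    exact ⟨_, _, fun e => (ord2_iff.1 x2).2 (h3 hx (one_mem Q) e),
      fun e => (ord2_iff.1 y2).2 (h3 hy (one_mem Q) e), fun e => xy (h3 hx hy e),
      by rw [← map_mul, (ord2_iff.1 x2).1, map_one], by rw [← map_mul, (ord2_iff.1 y2).1, map_one],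
      by rw [← map_mul, ← map_mul, c]⟩

end Cfsg.Agent.Inv
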