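import Cfsg.Agent.Inv.R1d
import Cfsg.Agent.BG.S03a

/-! The rank one set-up: reductions, the Galois action of `V`, and the case of centralizers of
2-rank at least two. -/

set_option autoImplicit false
set_option linter.unusedVariables false
set_option linter.unusedSectionVars false

namespace Cfsg.Agent.Inv

open Subgroup MulAction Cfsg.Agent.PLoc
open scoped Pointwise commutatorElement

variable {G Ω : Type*} [Group G] [MulAction G Ω]

theorem ncard_modEq {α : Type*} {X : Set α} (hX : X.Finite) {f : α → α} (h : Set.MapsTo f X X)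
    {p : ℕ} (hp : p.Prime) (hf : ∀ y ∈ X, f^[p] y = y) :
    X.ncard ≡ {y ∈ X | f y = y}.ncard [MOD p] := by
  classical
  have := hX.fintype
  have : Fact p.Prime := ⟨hp⟩
  have h1 := Equiv.Perm.card_fixedPoints_modEq (f := (h.restrict f X X : Function.End X)) (p := p)
    (n := 1) (funext fun y => Subtype.ext (by
      rw [pow_one]
      change ((h.restrict f X X)^[p] y : α) = y
      rw [Set.MapsTo.iterate_restrict]; exact hf y y.2))
  rw [← Nat.card_eq_fintype_card, ← Nat.card_eq_fintype_card] at h1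
  refine h1.trans (Eq.subst (motive := fun n => _ ≡ n [MOD p]) ?_ (Nat.ModEq.refl _))
  exact Nat.card_congr ⟨fun y => ⟨y.1, y.1.2, congrArg Subtype.val y.2⟩,
    fun y => ⟨⟨y, y.2.1⟩, Subtype.ext y.2.2⟩, fun _ => rfl, fun _ => rfl⟩

theorem conj_iterate (x y : G) (n : ℕ) : (fun y => x * y * x⁻¹)^[n] y = x ^ n * y * (x ^ n)⁻¹ := by
  induction n with
  | zero => simp
  | succ n ih => rw [Function.iterate_succ_apply', ih, pow_succ']; group

theorem geom_ne_pow {l p k : ℕ} (hl : 1 ≤ l) (hp : p.Prime) (p2 : p ≠ 2) :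
    l * p ^ k + 1 ≠ (l + 1) ^ p := fun h => by
  have : Fact p.Prime := ⟨hp⟩
  have h1 : ∑ i ∈ Finset.range p, (l + 1) ^ i = p ^ k := Nat.eq_of_mul_eq_mul_right hl (by
    have := geom_sum_mul_add l p
    rw [← h, mul_comm l] at this; omega)
  have h2 : p < p ^ k := by
    rw [← h1]
    calc p = ∑ i ∈ Finset.range p, 1 := by simp
      _ < _ := Finset.sum_lt_sum (fun i _ => Nat.one_le_pow _ _ (by omega))
        ⟨1, Finset.mem_range.2 hp.one_lt, by rw [pow_one]; omega⟩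
  have h3 : 2 ≤ k := by
    by_contra h3
    interval_cases k <;> simp at h2
    exact hp.ne_zero h2
  have h4 : p ∣ l := by
    have := congrArg (Nat.cast (R := ZMod p)) h
    push_cast at this
    rw [ZMod.pow_card, ZMod.natCast_self, zero_pow (by omega), mul_zero, add_left_inj] at this
    exact (ZMod.natCast_eq_zero_iff _ _).1 this.symm
  obtain ⟨b, rfl⟩ := h4
  have h5 := odd_sq_dvd_geom_sum₂_sub (R := ℤ) 1 b (hp.odd_of_ne_two p2)
  simp only [one_pow, mul_one] at h5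
  have h6 : ∑ i ∈ Finset.range p, (1 + (p : ℤ) * b) ^ i = p ^ k := by
    rw [add_comm]; exact_mod_cast h1
  rw [h6] at h5
  have h7 : (p : ℤ) ^ 2 ∣ p := by simpa using dvd_sub (pow_dvd_pow (p : ℤ) h3) h5
  have := Nat.le_of_dvd hp.pos (show p ^ 2 ∣ p by exact_mod_cast h7)
  nlinarith [hp.one_lt]

theorem inf_cent_zpowers (U : Subgroup G) (x : G) :
    U ⊓ centralizer (zpowers x : Set G) = U ⊓ centralizer {x} := by
  rw [zpowers_eq_closure, centralizer_closure]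

/-- the centralizer of `t` in the two-point stabilizer -/
abbrev V1 (G : Type*) {Ω : Type*} [Group G] [MulAction G Ω] (a : Ω) (t : G) : Subgroup G :=
  St2 G a (t • a) ⊓ centralizer {t}

namespace R1

variable {a : Ω} {t : G} {Q : Subgroup G} [Finite G] (S : R1 G Ω a t Q)
include S

local notation "𝓗" => stabilizer G a
local notation "𝓓" => St2 G a (t • a)
local notation "𝓥" => V1 G a t

theorem ord_s {s r : G} (e : t * s * t = r⁻¹ * t * r) : orderOf s = 2 := by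
  rw [← orderOf_conj' t, S.tinv, e, ← S.ord, ← orderOf_conj' r⁻¹ t, inv_inv]

theorem cent_s {s r : G} (hs : s ∈ Q) (hr : r ∈ Q) (e : t * s * t = r⁻¹ * t * r) {d : G}
    (hd : d ∈ 𝓓) : d ∈ 𝓥 ↔ d * s * d⁻¹ = s :=
  (and_iff_right hd).trans (mem_cent_iff_conj.trans (S.cent_eq (S.ord_s e) (S.fix hs) hr e hd))

theorem cent_r {s r : G} (hs : s ∈ Q) (hr : r ∈ Q) (e : t * s * t = r⁻¹ * t * r) {d : G}
    (hd : d ∈ 𝓥) : d * r * d⁻¹ = r := by
  have h1 : d * t * d⁻¹ = t := by rw [mem_centralizer_singleton_iff.1 hd.2, mul_inv_cancel_right]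
  refine (S.struct_unique (S.fix hs) (S.conjQ hd.1.1 hr) ?_ (S.fix hs) hr e).2
  have := congrArg (fun x => d * x * d⁻¹) e
  simp only [← conj_mul, h1, (S.cent_s hs hr e hd.1).1 hd] at this
  rw [this, conj_inv]

theorem struct' : ∃ s ∈ Q, ∃ r ∈ Q, t * s * t = r⁻¹ * t * r := by
  obtain ⟨s, r, s1, s2, s3, s4⟩ := S.struct
  exact ⟨s, S.inv_Q (ord2_iff.1 s1).1 s2, r, s3, s4⟩

theorem eq_of_sq {s r : G} (hs : s ∈ Q) (hr : r ∈ Q) (e : t * s * t = r⁻¹ * t * r) (h : r * r = 1) :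
    r = s := by
  have s2 := (ord2_iff.1 (S.ord_s e)).1
  rw [inv_eq_of_mul_eq_one_left h] at e
  have h1 : t * r * t = s * t * r := by
    calc t * r * t = t * (r * t * r) * r := by rw [mul_assoc, mul_assoc, mul_assoc, mul_assoc, h, mul_one]
      _ = _ := by rw [← e, ← mul_assoc, ← mul_assoc, S.mul_self, one_mul]
  have h2 : (t * r * t)⁻¹ = t * r * t := by
    rw [mul_inv_rev, mul_inv_rev, S.tinv, inv_eq_of_mul_eq_one_left h, mul_assoc]
  rw [h1, mul_inv_rev, mul_inv_rev, S.tinv, inv_eq_of_mul_eq_one_left h,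
    inv_eq_of_mul_eq_one_left s2, ← mul_assoc] at h2
  exact (S.bruhat_unique (S.fix hr) hs (S.fix hs) hr h2).1

theorem eq_one_of_cent [FaithfulSMul G Ω] {d : G} (hd : d ∈ 𝓓) (h : ∀ u ∈ Q, d * u = u * d) :
    d = 1 := eq_of_smul_eq_smul (α := Ω) fun c => by
  by_cases e : c = a
  · rw [e, one_smul]; exact hd.1
  · obtain ⟨u, hu, rfl⟩ := S.trans0 e
    rw [one_smul, ← mul_smul, h u hu, mul_smul, show d • t • a = t • a from hd.2]

theorem fix_iff {d u : G} (hd : d ∈ 𝓓) (hu : u ∈ Q) : d • u • t • a = u • t • a ↔ d * u = u * d := by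
  have : d • u • t • a = (d * u * d⁻¹) • t • a := by
    rw [mul_smul, mul_smul, smul_eq_iff_inv.1 hd.2]
  rw [this, ← mul_inv_eq_iff_eq_mul]
  exact ⟨S.inj (S.conjQ hd.1 hu) hu S.ne, fun h => by rw [h]⟩

theorem conj_V {d u : G} (hd : d ∈ 𝓓) (hu : u ∈ Q) (u1 : u ≠ 1) (h : d * u = u * d) :
    ∃ k ∈ 𝓓, k * d * k⁻¹ ∈ 𝓥 := by
  obtain ⟨k, hk, e⟩ := s1126 S {d} (by simpa using hd) ⟨a, t • a, u • t • a, S.ne.symm,
    (S.smul_ne (S.fix hu) S.ne).symm, fun e => u1 (S.free hu S.ne e.symm), by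
      rintro _ rfl; exact ⟨hd.1, hd.2, (S.fix_iff hd hu).2 h⟩⟩
  exact ⟨k, hk, mul_mem (mul_mem hk hd) ((𝓓).inv_mem hk), mem_centralizer_singleton_iff.2 (e d rfl)⟩

theorem tt_cent [FaithfulSMul G Ω] (ih : S.IH) {x : G} (hx : x ∈ 𝓥) (x1 : x ≠ 1)
    (h4 : Four (centralizer ({x} : Set G))) :
    TT t (Q ⊓ centralizer {x}) (𝓓 ⊓ centralizer {x}) := by
  have ht : t ∈ centralizer ({x} : Set G) :=
    mem_centralizer_singleton_iff.2 (mem_centralizer_singleton_iff.1 hx.2).symm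
  refine ih _ (fun h => x1 (S.eq_one_of_cent hx.1 fun u _ => (h.ge (mem_top u)) x rfl)) ht h4 ?_
    fun g hg ne => ?_
  · obtain ⟨s, hs, r, hr, e⟩ := S.struct'
    rw [even_iff_two_dvd, ← S.ord_s e]
    exact orderOf_dvd_natCard _ ⟨hs, mem_centralizer_singleton_iff.2
      (mul_inv_eq_iff_eq_mul.1 ((S.cent_s hs hr e hx.1).1 hx)).symm⟩
  · have h1 : ∀ y ∈ ({x} : Set G), y • a = a := by rintro _ rfl; exact hx.1.1
    obtain ⟨u, u1, -, u2, u3⟩ := S.cent_trans1 h1 (S.fix_smul ht h1) (S.fix_smul hg h1) S.ne ne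
    exact ⟨u, ⟨u3 rfl, u1⟩, u2⟩

variable (h2 : Four G)
include h2

theorem n2_inf (M : Subgroup G) : n2 (Q ⊓ M) = Nat.card ↥(S.Q0 h2 ⊓ M) :=
  congrArg Set.ncard (Set.ext fun z => ⟨fun h => ⟨⟨S.fix h.1.1, h.2⟩, h.1.2⟩,
    fun h => ⟨⟨S.Q0_le h2 h.1, h.2⟩, h.1.2⟩⟩)

theorem n2_eq : n2 Q = Nat.card (S.Q0 h2) := by simpa using S.n2_inf h2 ⊤

theorem K_ne : S.K h2 ≠ ⊥ := fun h => by
  have := S.card_K' h2
  have := S.four_le h2
  rw [h, card_bot] at *; omega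

theorem le_of_normal [FaithfulSMul G Ω] {N : Subgroup G} [hN : N.Normal] (h : N ≠ ⊥) :
    t ∈ N ∧ Q ≤ N ∧ S.K h2 ≤ N := by
  have ev : 2 ∣ Nat.card N := by_contra fun ho => h (eq_bot_iff.2 (((Core.le_pPrimeCore hN
    ((Nat.Prime.coprime_iff_not_dvd Nat.prime_two).2 ho).symm).trans (s1120 S h2).le).trans fun g hg =>
      eq_of_smul_eq_smul (α := Ω) fun c => by
        obtain ⟨y, rfl⟩ := S.tr1 c
        have : (y⁻¹ * g * y⁻¹⁻¹) • a = a := hg y⁻¹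
        rw [conj_smul_fix, inv_inv] at this
        rw [this, one_smul]))
  obtain ⟨j, hj⟩ := exists_prime_orderOf_dvd_card' 2 ev
  have inv : ∀ u, orderOf u = 2 → u ∈ N := fun u hu => by
    have := ord2_iff.1 ((orderOf_coe j).trans hj)
    obtain ⟨g, rfl⟩ := (s1121 S).2 j u this.2 this.1 (ord2_iff.1 hu).2 (ord2_iff.1 hu).1
    exact hN.conj_mem _ j.2 g
  have hK : S.K h2 ≤ N := fun k hk => by
    have := N.mul_mem (inv t S.ord) (inv _ (S.ord_mul hk.1 hk.2).1)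
    rwa [← mul_assoc, S.mul_self, one_mul] at this
  refine ⟨inv t S.ord, fun u hu => ?_, hK⟩
  obtain ⟨k, hk, k1⟩ := exists_ne_one (S.K_ne h2)
  obtain ⟨y, -, e⟩ := Char.exists_conj_of_centralizer_trivial Q (fun h hh => S.conjQ hk.1.1 hh)
    (fun h hh e => (S.fpf hk.1 hk.2 k1).le ⟨hh, mem_centralizer_singleton_iff.2 e⟩) hu
  rw [eq_mul_inv_of_mul_eq e.symm]
  exact mul_mem (hN.conj_mem _ (hK hk) y) (inv_mem (hK hk))

theorem step_nonsimple [FaithfulSMul G Ω] (ih : S.IH) (h : ¬ IsSimpleGroup G) : TT t Q 𝓓 := by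
  have : Nontrivial G := ⟨t, 1, S.ne_one⟩
  obtain ⟨N, hN, h1, h3⟩ : ∃ N : Subgroup G, N.Normal ∧ N ≠ ⊥ ∧ N ≠ ⊤ := by
    by_contra h'
    exact h ⟨fun N hN => by_contra fun e => h' ⟨N, hN, not_or.1 e⟩⟩
  obtain ⟨a1, a2, -⟩ := S.le_of_normal h2 h1
  obtain ⟨x, hx, y, hy, x2, y2, xy, c⟩ := S.exists_four h2
  have := ih N h3 a1 (four_sub (a2 hx) (a2 hy) (ord2_iff.1 x2).2 (ord2_iff.1 y2).2 xy
    (ord2_iff.1 x2).1 (ord2_iff.1 y2).1 c) (by rw [inf_eq_left.2 a2]; exact S.even_card)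
    fun g _ ne => by rw [inf_eq_left.2 a2]; exact S.trans0 ne
  rw [inf_eq_left.2 a2] at this
  exact this.mono inf_le_left

theorem zass [FaithfulSMul G Ω] [IsSimpleGroup G] (hK : S.K h2 = 𝓓) :
    IsZassenhausGroup G Ω ∧ zk G a = Q := by
  have hZ : IsZassenhausGroup G Ω := by
    refine ⟨inferInstance, S.two_transitive, fun g c d e h1 h3 h4 a1 a2 a3 => ?_, ?_, fun N hN tr => ?_⟩
    · obtain ⟨y, rfl, rfl⟩ : ∃ y : G, c = y • a ∧ d = y • t • a :=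
        (S.tr2 S.ne.symm h1).imp fun y h => ⟨h.1.symm, h.2.symm⟩
      have m : y⁻¹ * g * y⁻¹⁻¹ ∈ 𝓓 := ⟨conj_smul_fix.2 (by rwa [inv_inv]), conj_smul_fix.2 (by rwa [inv_inv])⟩
      obtain ⟨u, hu, e1⟩ := S.trans0 (c := y⁻¹ • e) fun h => h4 (by rw [← h, smul_inv_smul])
      have := (S.fix_iff m hu).1 (by rw [e1, conj_smul_fix]; simpa using a3)
      by_contra g1
      have u1 : u = 1 := (S.fpf m (hK.ge m).2 (mt conj_eq_one_iff.1 g1)).le
        ⟨hu, mem_centralizer_singleton_iff.2 this.symm⟩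
      exact h3 (by rw [u1, one_smul] at e1; rw [e1, smul_inv_smul])
    · obtain ⟨k, hk, k1⟩ := exists_ne_one (S.K_ne h2)
      exact ⟨k, k1, a, t • a, S.ne.symm, hk.1⟩
    · rcases hN.eq_bot_or_eq_top with rfl | rfl
      · obtain ⟨g, hg⟩ := tr.1 a (t • a)
        rw [Subsingleton.elim g 1, one_smul] at hg
        exact absurd hg.symm S.ne
      · obtain ⟨s, hs, s2⟩ := S.exists_inv
        exact ⟨a, fun h => (ord2_iff.1 s2).2 (congrArg Subtype.val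
          (h.le (show (⟨s, mem_top s⟩ : (⊤ : Subgroup G)) ∈ stabilizer _ a from S.fix hs)))⟩
  exact ⟨hZ, (hZ.z0.eq_zk_of_card S.le S.card_Ω.symm fun u hu u1 c hc =>
    by_contra fun h => u1 (S.free hu h hc)).symm⟩

theorem step_zass [FaithfulSMul G Ω] [IsSimpleGroup G] (hK : S.K h2 = 𝓓) : TT t Q 𝓓 := by
  have := S.finite
  obtain ⟨hZ, e⟩ := S.zass h2 hK
  rcases feit_two hZ S.ne.symm S.odd_card with h | ⟨h1, h3, -⟩
  · obtain ⟨-, p, f, hp, h1, h3⟩ := hZ.z0.elem_of_large S.ne.symm h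
    rw [e] at h1 h3
    obtain rfl := hp.even_iff.1 (Nat.even_pow.1 (h3 ▸ S.even_card)).1
    exact ⟨IsPGroup.of_card h3, Or.inl fun u hu => by rw [← sq, h1 u hu]⟩
  · obtain ⟨n, -, -, h4, h5, -⟩ := zas_suz hZ S.ne.symm h1 h3
    rw [e] at h1 h3 h4
    exact ⟨h1, Or.inr ⟨h3, Or.inl (by rw [S.n2_eq h2, ← S.card_K' h2, hK, h5, h4])⟩⟩

theorem galois : ∃ (F : Type) (_ : Field F) (_ : Fintype F) (e : F → G) (φ : ↥𝓥 →* (F ≃+* F)),
    Crd (S.Q0 h2) (S.K h2) e ∧ ∀ (v : ↥𝓥) x, v * e x * (v : G)⁻¹ = e (φ v x) := by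
  obtain ⟨s, s1, r, s3, s4⟩ := S.struct'
  have s2 := ord2_iff.1 (S.ord_s s4)
  obtain ⟨F, _, _, e, hC, e1⟩ := exists_Crd (S.Q0_comm h2) (S := S.K h2)
    (isMulCommutative_of_forall fun x hx y hy => S.K_comm h2 hx hy)
    (fun k hk => S.Q0_norm h2 hk.1.1) (S.irr h2 subset_rfl) (v := s) ⟨S.fix s1, s2.1⟩ s2.2
  have key : ∀ v : ↥𝓥, ∃ τ : F ≃+* F, ∀ x, v * e x * (v : G)⁻¹ = e (τ x) := fun v => by
    obtain ⟨c, τ, -, h6⟩ := hC.semilin (S.Q0_norm h2 v.2.1.1)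
      (mem_normalizer_of_conj_mem fun k hk => S.conj_K h2 v.2.1 hk)
    have h7 := h6 1
    rw [e1, (S.cent_s s1 s3 s4 v.2.1).1 v.2, map_one, mul_one, ← e1] at h7
    exact ⟨τ, by simpa [← hC.inj h7] using h6⟩
  choose τ hτ using key
  exact ⟨F, inferInstance, inferInstance, e, MonoidHom.mk' τ fun v w => RingEquiv.ext fun x => hC.inj (by
    rw [RingAut.mul_apply, ← hτ, ← hτ, ← hτ, Subgroup.coe_mul]; group), hC, hτ⟩

theorem gal {x : G} (hx : x ∈ 𝓥) {p : ℕ} (hp : p.Prime) (xp : orderOf x = p)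
    (hW : x ∉ centralizer (S.Q0 h2 : Set G)) :
    Nat.card (S.Q0 h2) = Nat.card ↥(S.Q0 h2 ⊓ centralizer {x}) ^ p ∧
      ∀ w ∈ 𝓥, S.Q0 h2 ⊓ centralizer {x} ≤ centralizer {w} →
        ∃ y ∈ zpowers x, w * y ∈ centralizer (S.Q0 h2 : Set G) := by
  obtain ⟨F, _, _, e, φ, hC, hφ⟩ := S.galois h2
  have fx : ∀ (v : ↥𝓥) y, φ v y = y ↔ e y ∈ centralizer {(v : G)} := fun v y => by
    rw [mem_centralizer_singleton_iff, eq_comm (a := e y * _), ← mul_inv_eq_iff_eq_mul, hφ, hC.inj.eq_iff]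
  have ker : ∀ v : ↥𝓥, φ v = 1 ↔ (v : G) ∈ centralizer (S.Q0 h2 : Set G) := fun v => by
    refine ⟨fun h z hz => ?_, fun h => RingEquiv.ext fun y => (fx v y).2
      (mem_centralizer_singleton_iff.2 (h _ (hC.mem y)))⟩
    obtain ⟨y, rfl⟩ := hC.surj z hz
    exact mem_centralizer_singleton_iff.1 ((fx v y).1 (by rw [h]; rfl))
  have : Fact p.Prime := ⟨hp⟩
  have o1 : orderOf (φ ⟨x, hx⟩) = p := orderOf_eq_prime (by
    rw [← map_pow, show (⟨x, hx⟩ : ↥𝓥) ^ p = 1 from Subtype.ext (xp ▸ pow_orderOf_eq_one x), map_one])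
    (mt (ker _).1 hW)
  have c1 := card_eq_pow_orderOf (φ ⟨x, hx⟩)
  refine ⟨?_, fun w hw h => ?_⟩
  · rw [hC.card, c1, o1]
    congr 1
    refine Nat.card_congr (Equiv.ofBijective (fun y => ⟨e y, hC.mem y, (fx _ _).1 y.2⟩)
      ⟨fun y z h => Subtype.ext (hC.inj (congrArg Subtype.val h)), fun ⟨z, hz⟩ => ?_⟩)
    obtain ⟨y, rfl⟩ := hC.surj z hz.1
    exact ⟨⟨y, (fx _ _).2 hz.2⟩, rfl⟩
  have := aut_isCyclic (F := F)
  let U : Subgroup (F ≃+* F) := ⨅ y : {y // φ ⟨x, hx⟩ y = y}, stabilizer (F ≃+* F) (y : F)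
  have mU : ∀ g, g ∈ U ↔ ∀ y, φ ⟨x, hx⟩ y = y → g y = y := fun g => by
    simp only [U, mem_iInf, Subtype.forall]; rfl
  obtain ⟨g, hg⟩ := IsCyclic.exists_zpow_surjective (G := U)
  have le : Nat.card U ≤ p := by
    have c2 := card_eq_pow_orderOf (g : F ≃+* F)
    rw [← orderOf_eq_card_of_forall_mem_zpowers hg, ← orderOf_coe]
    have c3 : Nat.card {y // φ ⟨x, hx⟩ y = y} ≤ Nat.card {y // (g : F ≃+* F) y = y} :=
      Nat.card_le_card_of_injective (fun y => ⟨y, (mU _).1 g.2 _ y.2⟩)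
        fun y z h => Subtype.ext (congrArg Subtype.val h :)
    have c4 : 1 < Nat.card {y // φ ⟨x, hx⟩ y = y} := Finite.one_lt_card_iff_nontrivial.2
      ⟨⟨0, map_zero _⟩, ⟨1, map_one _⟩, by simp⟩
    rw [c1, o1] at c2
    exact (Nat.pow_le_pow_iff_right c4).1 (c2 ▸ Nat.pow_le_pow_left c3 _)
  have e1 : zpowers (φ ⟨x, hx⟩) = U := eq_of_le_of_card_ge (zpowers_le.2 ((mU _).2 fun y h => h))
    (by rwa [Nat.card_zpowers, o1])
  obtain ⟨i, hi⟩ := e1.ge ((mU (φ ⟨w, hw⟩)).2 fun y hy => (fx _ _).2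
    (mem_centralizer_singleton_iff.2 (mem_centralizer_singleton_iff.1 (h ⟨hC.mem y, (fx _ _).1 hy⟩))))
  exact ⟨(x ^ i)⁻¹, inv_mem (zpow_mem (mem_zpowers x) i), (ker (⟨w, hw⟩ * (⟨x, hx⟩ ^ i)⁻¹)).1 (by
    rw [map_mul, map_inv, map_zpow, ← hi, mul_inv_cancel])⟩

theorem card_K_cent {x : G} (hx : x ∈ 𝓥) :
    Nat.card ↥(S.K h2 ⊓ centralizer {x}) + 1 = Nat.card ↥(S.Q0 h2 ⊓ centralizer {x}) := by
  obtain ⟨s, s1, r, s3, s4⟩ := S.struct'
  have s2 := S.ord_s s4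
  have xs := (S.cent_s s1 s3 s4 hx.1).1 hx
  have cj : ∀ k, x * (k * s * k⁻¹) * x⁻¹ = (x * k * x⁻¹) * s * (x * k * x⁻¹)⁻¹ := fun k => by
    conv_rhs => rw [← xs]
    group
  have e : ((S.Q0 h2 ⊓ centralizer {x} : Subgroup G) : Set G) =
      insert 1 ((fun k => k * s * k⁻¹) '' (S.K h2 ⊓ centralizer {x} : Subgroup G)) := by
    ext z
    refine ⟨fun h => (em _).imp id fun h1 => ?_, ?_⟩
    · obtain ⟨k, k1, k2, rfl⟩ := S.K_trans s2 (S.fix s1) (ord2_iff.2 ⟨h.1.2, h1⟩) h.1.1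
      have k3 := S.conj_K h2 hx.1 (k := k) ⟨k1, k2⟩
      refine ⟨k, ⟨⟨k1, k2⟩, mem_centralizer_singleton_iff.2 (mul_inv_eq_iff_eq_mul.1
        (S.K_inj k3.1 k3.2 k1 k2 s2 (S.fix s1) ?_)).symm⟩, rfl⟩
      rw [← cj, ← mem_centralizer_singleton_iff.1 h.2, mul_inv_cancel_right]
    rintro (rfl | ⟨k, hk, rfl⟩)
    · exact one_mem _
    · refine ⟨S.conj_Q0 h2 hk.1.1.1 ⟨S.fix s1, (ord2_iff.1 s2).1⟩, mem_centralizer_singleton_iff.2
        (mul_inv_eq_iff_eq_mul.1 ?_).symm⟩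
      rw [cj, ← mem_centralizer_singleton_iff.1 hk.2, mul_inv_cancel_right]
  change Set.ncard _ + 1 = Set.ncard _
  rw [e, Set.ncard_insert_of_notMem, Set.ncard_image_of_injOn fun k hk k' hk' h =>
    S.K_inj hk.1.1 hk.1.2 hk'.1.1 hk'.1.2 s2 (S.fix s1) h]
  rintro ⟨k, -, h⟩
  exact (ord2_iff.1 s2).2 (conj_eq_one_iff.1 h)

theorem wiel {x : G} (hx : x ∈ 𝓥) {p : ℕ} (hp : p.Prime) (xp : orderOf x = p)
    (hW : x ∉ centralizer (S.Q0 h2 : Set G)) {U : Subgroup G} (hU : U ≤ Q)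
    (h1 : S.K h2 ≤ normalizer (U : Set G)) (h3 : x ∈ normalizer (U : Set G)) (h4 : ¬ p ∣ Nat.card U) :
    Nat.card U = Nat.card ↥(U ⊓ centralizer {x}) ^ p := by
  have p2 : p ≠ 2 := by rintro rfl; exact (xp ▸ S.oddD hx.1).not_two_dvd_nat dvd_rfl
  have ab : BG.Abel (S.K h2) := fun x hx y hy => S.K_comm h2 hy hx
  have cP : Nat.card (zpowers x) = p := by rw [Nat.card_zpowers, xp]
  have nK : zpowers x ≤ normalizer (S.K h2 : Set G) :=
    zpowers_le.2 (mem_normalizer_of_conj_mem fun k hk => S.conj_K h2 hx.1 hk)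
  let K' := piCoreOf {p}ᶜ (S.K h2)
  have a1 : K' ≤ S.K h2 := BG.O_le _ _
  have a2 : zpowers x ≤ normalizer (K' : Set G) := BG.normO _ nK
  have a3 : (Nat.card (zpowers x)).Coprime (Nat.card K') :=
    cP ▸ ((BG.pin_compl_cop hp).1 (BG.O_pig _ _)).symm
  have a4 := BG.cop_abel_C_comm (BG.Abel.of_le ab a1) a2 a3
  have a5 : ⁅K', zpowers x⁆ ≤ K' := BG.comm_le_l.2 a2
  have a6 : ⁅K', zpowers x⁆ ≠ ⊥ := fun h => by
    have b1 : K' ≤ S.K h2 ⊓ centralizer {x} :=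
      inf_cent_zpowers _ x ▸ le_inf a1 (commutator_eq_bot_iff_le_centralizer.1 h)
    obtain ⟨k, hk⟩ := (BG.pin_single hp (BG.relIndex_pos _ _).ne').1 (by
      simpa using (ab.nil.hall_O {p}ᶜ).idx.of_dvd (relIndex_dvd_of_le_left (S.K h2) b1))
    have b2 := BG.card_mul_relIndex (inf_le_left : S.K h2 ⊓ centralizer {x} ≤ _)
    refine geom_ne_pow (k := k) (Nat.card_pos (α := ↥(S.K h2 ⊓ centralizer {x}))) hp p2 ?_
    rw [← hk, b2, S.card_K' h2, S.card_K_cent h2 hx, (S.gal h2 hx hp xp hW).1]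
  have b1 : ∀ k ∈ ⁅K', zpowers x⁆, k ≠ 1 → U ⊓ centralizer {k} = ⊥ := fun k hk k1 =>
    eq_bot_iff.2 ((inf_le_inf_right _ hU).trans (S.fpf (a1 (a5 hk)).1 (a1 (a5 hk)).2 k1).le)
  obtain ⟨k, hk, k1⟩ := exists_ne_one a6
  have b2 : U ⊓ centralizer (⁅K', zpowers x⁆ : Subgroup G) = ⊥ := eq_bot_iff.2
    ((inf_le_inf_left _ (centralizer_le (Set.singleton_subset_iff.2 hk))).trans (b1 k hk k1).le)
  have n1 : ⁅K', zpowers x⁆ ≤ normalizer (U : Set G) := (a5.trans a1).trans h1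
  have nil := S.nilp h2
  have w := BG.wielandt_aux _ (K := ⁅K', zpowers x⁆) (R := zpowers x) (M := U) rfl
    (BG.semireg_of_prime (cP ▸ hp) a4) (BG.normR a2 le_normalizer) n1 (zpowers_le.2 h3) ?_
    (BG.Nil.of_le nil hU).sol
  · rwa [b2, eq_bot_iff.2 ((inf_le_inf_left _ (centralizer_le (SetLike.coe_subset_coe.2
      le_sup_left))).trans b2.le), card_bot, one_pow, one_mul, mul_one, cP, inf_cent_zpowers] at w
  refine Nat.Coprime.coprime_dvd_left (BG.card_sup_dvd_l (BG.normR a2 le_normalizer)) (Nat.Coprime.mul_left ?_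
    (cP ▸ (Nat.Prime.coprime_iff_not_dvd hp).2 h4))
  exact BG.Semireg.coprime (fun k hk k1 => b1 k hk k1) n1

end R1

end Cfsg.Agent.Inv
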