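import Cfsg.Agent.Inv.R1e

/-! The rank one set-up: the case of centralizers of 2-rank at least two. -/

set_option autoImplicit false
set_option linter.unusedVariables false
set_option linter.unusedSectionVars false

namespace Cfsg.Agent.Inv

open Subgroup MulAction Cfsg.Agent.PLoc
open scoped Pointwise commutatorElement

variable {G Ω : Type*} [Group G] [MulAction G Ω]

theorem roots_modEq [Finite G] {U : Subgroup G} {x s : G} {p : ℕ} (hp : p.Prime) (xp : x ^ p = 1)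
    (hU : ∀ u ∈ U, x * u * x⁻¹ ∈ U) (hs : x * s * x⁻¹ = s) :
    {y ∈ U | y * y = s}.ncard ≡ {y ∈ U ⊓ centralizer {x} | y * y = s}.ncard [MOD p] := by
  have := ncard_modEq (X := {y ∈ U | y * y = s}) (Set.toFinite _) (f := fun y => x * y * x⁻¹)
    (fun y hy => ⟨hU y hy.1, by rw [conj_mul, hy.2, hs]⟩) hp
    fun y _ => by rw [conj_iterate, xp]; simp
  convert this using 2
  ext y
  simp only [Set.mem_setOf_eq, mem_inf, mem_centralizer_singleton_iff, mul_inv_eq_iff_eq_mul]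
  exact ⟨fun h => ⟨⟨h.1.1, h.2⟩, h.1.2.symm⟩, fun h => ⟨⟨h.1.1, h.2.symm⟩, h.1.2⟩⟩

namespace R1

variable {a : Ω} {t : G} {Q : Subgroup G} [Finite G] (S : R1 G Ω a t Q) (h2 : Four G)
include S h2

local notation "𝓗" => stabilizer G a
local notation "𝓓" => St2 G a (t • a)
local notation "𝓥" => V1 G a t

theorem roots {U : Subgroup G} (h0 : U ≤ Q) (h1 : S.Q0 h2 ≤ U)
    (h3 : ∀ k ∈ S.K h2, ∀ u ∈ U, k * u * k⁻¹ ∈ U)
    (h4 : ∀ u ∈ U, u * u ∈ S.Q0 h2) {s : G} (hs : orderOf s = 2) (hsa : s • a = a) :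
    Nat.card U = Nat.card (S.Q0 h2) + Nat.card (S.K h2) * {y ∈ U | y * y = s}.ncard := by
  have e : (U : Set G) = (S.Q0 h2 : Set G) ∪ (fun p : G × G => p.1 * p.2 * p.1⁻¹) ''
      ((S.K h2 : Set G) ×ˢ {y ∈ U | y * y = s}) := by
    ext u
    refine ⟨fun hu => (em _).imp id fun h => ?_, ?_⟩
    · obtain ⟨k, k1, k2, k3⟩ := S.K_trans hs hsa (s' := u * u) (ord2_iff.2 ⟨(h4 u hu).2, fun e =>
        h ⟨S.fix (h0 hu), e⟩⟩) (h4 u hu).1
      refine ⟨(k, k⁻¹ * u * k⁻¹⁻¹), ⟨⟨k1, k2⟩, h3 _ (inv_mem ⟨k1, k2⟩) u hu, ?_⟩, by simp [mul_assoc]⟩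
      rw [conj_mul, ← k3]; group
    · rintro (h | ⟨⟨k, y⟩, ⟨a1, a2⟩, rfl⟩)
      exacts [h1 h, h3 k a1 y a2.1]
  change (U : Set G).ncard = _
  rw [e, Set.ncard_union_eq, Set.ncard_image_of_injOn, Set.ncard_prod]
  · rfl
  · rintro ⟨k, y⟩ ⟨a1, a2⟩ ⟨k', y'⟩ ⟨b1, b2⟩ h
    have h' : k * y * k⁻¹ = k' * y' * k'⁻¹ := h
    obtain rfl : k = k' := S.K_inj a1.1 a1.2 b1.1 b1.2 hs hsa (by
      rw [← show y * y = s from a2.2, ← conj_mul, h', conj_mul, show y' * y' = s from b2.2,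
        show y * y = s from a2.2])
    simpa using h'
  · refine Set.disjoint_left.2 ?_
    rintro _ h ⟨⟨k, y⟩, ⟨a1, a2⟩, rfl⟩
    have := h.2
    rw [conj_mul, conj_eq_one_iff, show y * y = s from a2.2] at this
    exact (ord2_iff.1 hs).2 this

theorem exists_prime_V (hK : S.K h2 ≠ 𝓓) : ∃ x ∈ 𝓥, (orderOf x).Prime := by
  by_contra h
  refine hK (le_antisymm (S.K_le h2) fun d hd => ?_)
  obtain ⟨c, c1, k, k1, c2, rfl⟩ := S.decomp h2 hd
  by_cases e : c = 1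
  · simpa [e] using k1
  obtain ⟨y, y1, y2⟩ := BG.exists_prime_pow_mem e
  exact (h ⟨y, zpowers_le.2 (show c ∈ 𝓥 from ⟨c1, mem_cent_iff_conj.2 c2⟩) y1, y2⟩).elim

theorem K_cent {w : G} (hw : w ∈ 𝓓) (h : w ∈ centralizer (S.Q0 h2 : Set G)) :
    w ∈ 𝓥 ∧ S.K h2 ≤ centralizer {w} := by
  obtain ⟨s, s1, r, s3, s4⟩ := S.struct'
  have s2 := S.ord_s s4
  have s0 : s ∈ S.Q0 h2 := ⟨S.fix s1, (ord2_iff.1 s2).1⟩
  have ws : w * s * w⁻¹ = s := by rw [← h s s0, mul_inv_cancel_right]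
  refine ⟨(S.cent_s s1 s3 s4 hw).2 ws, fun k hk => ?_⟩
  have k3 := S.conj_K h2 hw hk
  refine mem_centralizer_singleton_iff.2 (mul_inv_eq_iff_eq_mul.1
    (S.K_inj k3.1 k3.2 hk.1 hk.2 s2 (S.fix s1) ?_)).symm
  calc _ = w * (k * (w⁻¹ * (w * s * w⁻¹) * w) * k⁻¹) * w⁻¹ := by rw [ws]; group
    _ = w * (k * s * k⁻¹) * w⁻¹ := by group
    _ = _ := by rw [← h _ (S.conj_Q0 h2 hk.1.1 s0), mul_inv_cancel_right]

theorem normK : S.K h2 ≤ normalizer (Q : Set G) :=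
  ((S.K_le h2).trans inf_le_left).trans S.norm

theorem step_C1 [FaithfulSMul G Ω] [IsSimpleGroup G] (ih : S.IH) (hK : S.K h2 ≠ 𝓓)
    (hC : ∀ x ∈ 𝓥, (orderOf x).Prime → Four (centralizer ({x} : Set G))) : TT t Q 𝓓 := by
  have ne1 : ∀ x : G, (orderOf x).Prime → x ≠ 1 := by rintro _ h rfl; simp at h; exact Nat.not_prime_one h
  have T : ∀ x ∈ 𝓥, (orderOf x).Prime → TT t (Q ⊓ centralizer {x}) (𝓓 ⊓ centralizer {x}) :=
    fun x hx hp => S.tt_cent ih hx (ne1 x hp) (hC x hx hp)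
  have two : IsPGroup 2 Q := S.thmC h2 hK fun d hd u hu e ho => by
    by_contra h
    obtain ⟨d1, u1⟩ := not_or.1 h
    obtain ⟨y, y1, y2⟩ := BG.exists_prime_pow_mem d1
    have e' : y * u = u * y := by obtain ⟨i, rfl⟩ := y1; exact Commute.zpow_left e i
    obtain ⟨k, hk, k2⟩ := S.conj_V (zpowers_le.2 hd y1) hu u1 e'
    obtain ⟨n, hn⟩ := IsPGroup.iff_orderOf.1 (T _ k2 (by rwa [orderOf_conj'])).two
      ⟨k * u * k⁻¹, S.conjQ hk.1 hu, mem_centralizer_singleton_iff.2 (by rw [conj_mul, conj_mul, e'])⟩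
    rw [← orderOf_coe, orderOf_conj'] at hn
    rw [hn] at ho
    rw [Nat.eq_zero_of_not_pos fun h => (Nat.not_even_iff_odd.2 ho)
      ((Nat.even_pow' h.ne').2 even_two), pow_zero] at hn
    exact u1 (orderOf_eq_one_iff.1 hn)
  obtain ⟨s, s1, r, s3, s4⟩ := S.struct'
  have s2 := S.ord_s s4
  obtain ⟨n, n2, hq⟩ := S.card_Q0 h2
  have nd : ∀ x ∈ 𝓓, (orderOf x).Prime → ∀ m, ¬ orderOf x ∣ 2 ^ m := fun x hx hp m h =>
    (S.oddD hx).not_two_dvd_nat ((Nat.prime_dvd_prime_iff_eq hp Nat.prime_two).1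
      (hp.dvd_of_dvd_pow h)).symm.dvd
  have rt : ∀ x ∈ 𝓥, (orderOf x).Prime → {y ∈ Q | y * y = s}.ncard ≡
      {y ∈ Q ⊓ centralizer {x} | y * y = s}.ncard [MOD orderOf x] := fun x hx hp =>
    roots_modEq hp (pow_orderOf_eq_one x) (fun u => S.conjQ hx.1.1) ((S.cent_s s1 s3 s4 hx.1).1 hx)
  have cK := S.card_K' h2
  have c4 := S.four_le h2
  refine ⟨two, ?_⟩
  by_cases hc : IsMulCommutative Q
  · refine Or.inl (by_contra fun h => ?_)
    push Not at h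
    obtain ⟨u, hu, u1⟩ := h
    obtain ⟨i, i1, i2⟩ := exists_invol_pow two (x := ⟨u, hu⟩ * ⟨u, hu⟩) fun e => u1 (congrArg Subtype.val e)
    have c : ∀ x ∈ Q, ∀ y ∈ Q, x * y = y * x := fun x hx y hy =>
      congrArg Subtype.val (hc.1.1 ⟨x, hx⟩ ⟨y, hy⟩)
    have e1 : (u * u) ^ i = u ^ i * u ^ i := (Commute.refl u).mul_pow i
    obtain ⟨k, k1, -, k3⟩ := S.K_trans (s := u ^ i * u ^ i) (e1 ▸ ord2_iff.2
      ⟨congrArg Subtype.val i2, fun e => i1 (Subtype.ext e)⟩)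
      (S.fix (mul_mem (pow_mem hu i) (pow_mem hu i))) s2 (S.fix s1)
    have y1 := S.conjQ k1.1 (pow_mem hu i)
    rw [← conj_mul] at k3
    generalize k * u ^ i * k⁻¹ = y at y1 k3
    obtain ⟨x, hx, hp⟩ := S.exists_prime_V h2 hK
    have a1 : {z ∈ Q | z * z = s} = (fun z => y * z) '' S.Q0 h2 := by
      ext z
      refine ⟨fun h => ⟨y⁻¹ * z, ⟨S.fix (mul_mem (inv_mem y1) h.1), ?_⟩, by simp⟩, ?_⟩
      · rw [Commute.mul_mul_mul_comm (c _ h.1 _ (inv_mem y1)).symm.symm, h.2, ← mul_inv_rev, k3,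
          inv_mul_cancel]
      · rintro ⟨w, hw, rfl⟩
        exact ⟨mul_mem y1 (S.Q0_le h2 hw), by
          rw [Commute.mul_mul_mul_comm (c _ (S.Q0_le h2 hw) _ y1), k3, hw.2, mul_one]⟩
    have a2 : {y ∈ Q ⊓ centralizer {x} | y * y = s} = ∅ := Set.eq_empty_of_forall_notMem fun z hz => by
      rcases (T x hx hp).cases with h | h
      · exact (ord2_iff.1 s2).2 (hz.2.symm.trans (h z hz.1))
      · exact h.1 (isMulCommutative_of_forall fun a ha b hb => c a ha.1 b hb.1)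
    have := rt x hx hp
    rw [a1, a2, Set.ncard_image_of_injective _ (mul_right_injective y), Set.ncard_empty] at this
    exact nd x hx.1 hp n (hq ▸ Nat.modEq_zero_iff_dvd.1 this)
  refine Or.inr ⟨hc, ?_⟩
  rw [S.n2_eq h2]
  refine (S.suz_card h2 two hc).imp_right fun h3 => ⟨h3, ?_⟩
  have sq := fun x => S.suz_sq h2 two hc (x := x)
  by_cases hW : 𝓓 ⊓ centralizer (S.Q0 h2) = ⊥
  · exfalso
    obtain ⟨x, hx, hp⟩ := S.exists_prime_V h2 hK
    have xW : x ∉ centralizer (S.Q0 h2 : Set G) := fun h => ne1 x hp (hW.le ⟨hx.1, h⟩)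
    obtain ⟨g1, g2⟩ := S.gal h2 hx hp rfl xW
    have a1 := S.wiel h2 hx hp rfl xW le_rfl (S.normK h2) (S.norm hx.1.1)
      (by rw [h3, hq, ← pow_mul]; exact nd x hx.1 hp _)
    rw [h3, g1, ← pow_mul, mul_comm, pow_mul] at a1
    have a2 := Nat.pow_left_injective hp.ne_zero a1
    have a3 : 1 < Nat.card ↥(S.Q0 h2 ⊓ centralizer {x}) := by
      by_contra h
      rw [show Nat.card ↥(S.Q0 h2 ⊓ centralizer {x}) = 1 from le_antisymm (not_lt.1 h) Nat.card_pos,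
        one_pow] at g1
      omega
    rcases (T x hx hp).cases with h | ⟨-, h | ⟨-, -, w, hw, w1, u, hu, w2⟩⟩
    · have := card_le_of_le (show Q ⊓ centralizer {x} ≤ S.Q0 h2 ⊓ centralizer {x} from
        fun u hu => ⟨⟨S.fix hu.1, h u hu⟩, hu.2⟩)
      rw [← a2] at this
      exact (lt_self_pow₀ a3 (by norm_num)).not_ge this
    · rw [S.n2_inf h2, ← a2] at h
      exact absurd (Nat.pow_right_injective a3 h) (by norm_num)
    · have c1 : S.Q0 h2 ⊓ centralizer {x} ≤ centralizer {w} := fun z hz =>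
        mem_centralizer_singleton_iff.2 (w1 z ⟨S.Q0_le h2 hz.1, hz.2⟩ hz.1.2).symm
      obtain ⟨y, y1, y2⟩ := g2 w ((S.cent_s s1 s3 s4 hw.1).2 (mul_inv_eq_iff_eq_mul.2 (w1 s
        ⟨s1, mem_centralizer_singleton_iff.2 (mul_inv_eq_iff_eq_mul.1
          ((S.cent_s s1 s3 s4 hx.1).1 hx)).symm⟩ (ord2_iff.1 s2).1))) c1
      obtain rfl : w = y⁻¹ := eq_inv_of_mul_eq_one_left
        (hW.le ⟨mul_mem hw.1 (zpowers_le.2 hx.1 y1), y2⟩)
      obtain ⟨i, rfl⟩ := y1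
      exact w2 (Commute.inv_left (Commute.zpow_left (mem_centralizer_singleton_iff.1 hu.2).symm i))
  obtain ⟨w, hw, w1⟩ := exists_ne_one hW
  obtain ⟨x, x1, hp⟩ := BG.exists_prime_pow_mem w1
  replace x1 := zpowers_le.2 hw x1
  obtain ⟨hx, xK⟩ := S.K_cent h2 x1.1 x1.2
  have nc : ¬ ∀ u ∈ Q, x * u = u * x := fun h => ne1 x hp (S.eq_one_of_cent x1.1 h)
  have le : S.Q0 h2 ≤ centralizer {x} := fun z hz => mem_centralizer_singleton_iff.2 (x1.2 z hz)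
  refine ⟨fun s' s5 r' s6 s7 => ?_, x, x1.1, fun z hz e => (x1.2 z ⟨S.fix hz, e⟩).symm,
    by simpa using nc⟩
  obtain ⟨rfl, rfl⟩ := S.struct_unique (S.fix s1) s3 s4 (S.fix s5) s6 s7
  rcases (T x hx hp).cases with h | ⟨-, h | ⟨h, -⟩⟩
  · exact S.eq_of_sq s1 s3 s4 (h r ⟨s3, mem_centralizer_singleton_iff.2
      (mul_inv_eq_iff_eq_mul.1 (S.cent_r s1 s3 s4 hx)).symm⟩)
  · exfalso
    rw [S.n2_inf h2, inf_eq_left.2 le] at h
    have a1 := S.roots h2 le_rfl (S.Q0_le h2) (fun k hk u => S.conjQ hk.1.1) sq s2 (S.fix s1)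
    have a2 := S.roots h2 (U := Q ⊓ centralizer {x}) inf_le_left (le_inf (S.Q0_le h2) le)
      (fun k hk u hu => ⟨S.conjQ hk.1.1 hu.1, mul_mem (mul_mem (xK hk) hu.2)
        ((centralizer {x}).inv_mem (xK hk))⟩)
      (fun u hu => sq u hu.1) s2 (S.fix s1)
    have a3 := rt x hx hp
    rw [h] at a2
    rw [h3] at a1
    rw [← cK] at a1 a2 hq c4
    generalize Nat.card (S.K h2) = m at *
    have b1 : {y ∈ Q | y * y = s}.ncard = (m + 1) * (m + 1) + (m + 1) :=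
      Nat.eq_of_mul_eq_mul_left (by omega : 0 < m) (by nlinarith)
    have b2 : {y ∈ Q ⊓ centralizer {x} | y * y = s}.ncard = m + 1 :=
      Nat.eq_of_mul_eq_mul_left (by omega : 0 < m) (by nlinarith)
    rw [b1, b2] at a3
    refine nd x hx.1 hp (n + n) ?_
    rw [pow_add, ← hq]
    exact Nat.modEq_zero_iff_dvd.1 (Nat.ModEq.add_right_cancel' (m + 1) (by simpa using a3))
  · rw [S.n2_inf h2, inf_eq_left.2 le, ← h3] at h
    exact (nc fun u hu => (mem_centralizer_singleton_iff.1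
      ((eq_of_le_of_card_ge inf_le_left h.ge).ge hu).2).symm).elim

end R1

end Cfsg.Agent.Inv
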