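import Cfsg.Agent.Inv.R1f
import Cfsg.Agent.Blk.ZStar

/-! The rank one set-up: an element of prime order whose centralizer has 2-rank one. -/

set_option autoImplicit false
set_option linter.unusedVariables false
set_option linter.unusedSectionVars false

namespace Cfsg.Agent.Inv

open Subgroup MulAction Cfsg.Agent.BG
open scoped Pointwise commutatorElement

variable {G Ω : Type*} [Group G] [MulAction G Ω]

theorem relIndex_stab (M : Subgroup G) (a : Ω) :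
    (stabilizer G a).relIndex M = (orbit M a).ncard := index_stabilizer M a

theorem relIndex_C1 (M : Subgroup G) (x : G) :
    C1[x].relIndex M = ((fun g => g * x * g⁻¹) '' M).ncard := by
  let A : MulAction G G := MulAction.compHom G MulAut.conj
  have := @relIndex_stab G G _ A M x
  convert this using 2
  · ext g; exact mem_C1.trans mul_inv_eq_iff_eq_mul.symm
  · ext y; exact ⟨fun ⟨g, hg, e⟩ => ⟨⟨g, hg⟩, e⟩, fun ⟨g, e⟩ => ⟨g, g.2, e⟩⟩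

theorem hom_eq_one_of_simple [IsSimpleGroup G] (h : Four G) {A : Type*} [CommGroup A] [Finite G]
    (f : G →* A) : f = 1 := by
  rcases (MonoidHom.normal_ker f).eq_bot_or_eq_top with e | e
  · have c : IsMulCommutative G := ⟨⟨fun x y => (MonoidHom.ker_eq_bot_iff f).1 e (by simp [mul_comm])⟩⟩
    obtain ⟨x, y, x1, y1, xy, x2, y2, -⟩ := h
    have : (zpowers x).Normal := inferInstance
    obtain ⟨i, rfl⟩ := (this.eq_bot_or_eq_top.resolve_left (by simpa using x1)).ge (mem_top y)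
    rcases Int.even_or_odd' i with ⟨j, rfl | rfl⟩
    · exact absurd (by simp only [zpow_mul, zpow_two, x2, one_zpow]) y1
    · exact absurd (by simp only [zpow_add_one, zpow_mul, zpow_two, x2, one_zpow, one_mul]) xy
  · exact MonoidHom.ext fun x => e.ge (mem_top x)

variable {a : Ω} {t : G} {Q : Subgroup G} [Finite G]

/-- the hypotheses of the first case -/
structure B1 (S : R1 G Ω a t Q) (x : G) (p : ℕ) (s r : G) : Prop where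
  hx : x ∈ V1 G a t
  hp : p.Prime
  xp : orderOf x = p
  n4 : ¬ Four C1[x]
  hs : s ∈ Q
  hr : r ∈ Q
  e : t * s * t = r⁻¹ * t * r

namespace B1

variable {S : R1 G Ω a t Q} {x : G} {p : ℕ} {s r : G} (B : B1 S x p s r) (h2 : Four G)
include B

local notation "𝓗" => stabilizer G a
local notation "𝓓" => St2 G a (t • a)
local notation "𝓥" => V1 G a t
local notation "𝓟" => zpowers x
local notation "𝓒" => centralizer (Singleton.singleton x : Set G)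
local notation "𝓨" => Q ⊓ centralizer (Singleton.singleton x : Set G)
local notation "𝓦" => St2 G a (t • a) ⊓ C[R1.Q0 S h2]

theorem s2 : orderOf s = 2 := S.ord_s B.e
theorem ss : s * s = 1 := (ord2_iff.1 B.s2).1
theorem s1 : s ≠ 1 := (ord2_iff.1 B.s2).2
theorem cP : #𝓟 = p := by rw [Nat.card_zpowers, B.xp]
theorem pP : (#𝓟).Prime := B.cP ▸ B.hp
theorem x1 : x ≠ 1 := fun h => B.hp.one_lt.ne' (by rw [← B.xp, h, orderOf_one])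
theorem odd : Odd p := B.xp ▸ S.oddD B.hx.1
theorem PV : 𝓟 ≤ 𝓥 := zpowers_le.2 B.hx
theorem PD : 𝓟 ≤ 𝓓 := zpowers_le.2 B.hx.1
theorem PC : 𝓟 ≤ 𝓒 := zpowers_le.2 (mem_C1_self x)
theorem pig : PiG {p} 𝓟 := pig_of_card' B.hp B.cP
theorem Vs {v : G} (hv : v ∈ 𝓥) : v * s = s * v :=
  mul_inv_eq_iff_eq_mul.1 ((S.cent_s B.hs B.hr B.e hv.1).1 hv)
theorem sC : s ∈ 𝓒 := mem_C1'.2 (B.Vs B.hx)
theorem tC : t ∈ 𝓒 := C1_symm B.hx.2
theorem sQ0 : s ∈ S.Q0 h2 := ⟨S.fix B.hs, B.ss⟩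
theorem CP : C[𝓟] = 𝓒 := C_zpowers x

theorem fixP {y : G} (hy : y ∈ 𝓟) {c : Ω} (hc : x • c = c) : y • c = c :=
  zpowers_le.2 (show x ∈ stabilizer G c from hc) hy

theorem fixC {g : G} (hg : g ∈ 𝓒) {c : Ω} (hc : x • c = c) : x • g • c = g • c := by
  rw [← mul_smul, ← mem_C1.1 hg, mul_smul, hc]

theorem tr2 {c d c' d' : Ω} (h1 : x • c = c) (h3 : x • d = d) (h4 : x • c' = c') (h5 : x • d' = d')
    (n1 : c ≠ d) (n2 : c' ≠ d') : ∃ g ∈ 𝓒, g • c = c' ∧ g • d = d' :=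
  S.cent_trans2 ⟨a, t • a, s • t • a, S.ne.symm, (S.smul_ne (S.fix B.hs) S.ne).symm,
    fun e => B.s1 (S.free B.hs S.ne e.symm), by
      rintro _ rfl; exact ⟨B.hx.1.1, B.hx.1.2, B.fixC B.sC B.hx.1.2⟩⟩
    (by rintro _ rfl; exact ⟨h1, h3, h4, h5⟩) n1 n2

theorem tr1 {c d : Ω} (h1 : x • c = c) (h3 : x • d = d) (n1 : c ≠ a) (n2 : d ≠ a) :
    ∃ u ∈ 𝓨, u • c = d := by
  obtain ⟨g, g1, -, g2, g3⟩ := S.cent_trans1 (X := {x}) (c := a) (by rintro _ rfl; exact B.hx.1.1)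
    (by rintro _ rfl; exact h1) (by rintro _ rfl; exact h3) n1 n2
  exact ⟨g, ⟨g3 rfl, g1⟩, g2⟩

theorem ncard_fix : (fixedBy Ω x).ncard = #𝓨 + 1 := by
  have := S.finite
  have e : fixedBy Ω x = insert a ((fun u => u • t • a) '' ((𝓨 : Subgroup G) : Set G)) := by
    ext c
    refine ⟨fun h => (em _).imp id fun n => B.tr1 B.hx.1.2 h S.ne n, ?_⟩
    rintro (rfl | ⟨u, hu, rfl⟩)
    exacts [B.hx.1.1, B.fixC hu.2 B.hx.1.2]
  rw [e, Set.ncard_insert_of_notMem, Set.ncard_image_of_injOn fun u hu v hv => S.inj hu.1 hv.1 S.ne]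
  · rfl
  · rintro ⟨u, hu, h⟩; exact S.smul_ne (S.fix hu.1) S.ne h

theorem inv_eq {z : G} (hz : z ∈ 𝓒) (h : z * z = 1) (c : s * z = z * s) : z = 1 ∨ z = s := by
  by_contra n
  exact B.n4 (four_sub B.sC hz B.s1 (not_or.1 n).1 (Ne.symm (not_or.1 n).2) B.ss h c)

include h2

theorem Q0_inf : S.Q0 h2 ⊓ 𝓒 = zpowers s := by
  refine le_antisymm (fun z hz => ?_) (zpowers_le.2 ⟨B.sQ0 h2, B.sC⟩)
  rcases B.inv_eq hz.2 hz.1.2 (S.Q0_cent h2 hz.1 B.hs).symm with rfl | rfl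
  exacts [one_mem _, mem_zpowers _]

theorem card_Q0_inf : #(S.Q0 h2 ⊓ 𝓒) = 2 := by rw [B.Q0_inf h2, Nat.card_zpowers, B.s2]

theorem notW : x ∉ C[S.Q0 h2] := fun h => by
  have := B.card_Q0_inf h2
  have := S.four_le h2
  rw [inf_eq_left.2 (le_C1_iff.2 h)] at *
  omega

theorem card_Q0 : #(S.Q0 h2) = 2 ^ p := by
  rw [(S.gal h2 B.hx B.hp B.xp (B.notW h2)).1, B.card_Q0_inf h2]

theorem K_inf : S.K h2 ⊓ 𝓒 = ⊥ := by
  have := S.card_K_cent h2 B.hx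
  rw [B.card_Q0_inf h2] at this
  exact eq_bot_of_card_eq _ (by omega)

theorem normK : 𝓓 ≤ N[S.K h2] := le_N_iff.2 fun d hd k hk => S.conj_K h2 hd hk

theorem ndK : ¬ p ∣ #(S.K h2) := fun h => by
  have := B.pig.card_modEq B.hp (B.PD.trans (B.normK h2))
  rw [B.CP, B.K_inf h2, card_bot] at this
  exact B.hp.one_lt.ne' (Nat.dvd_one.1 ((Nat.modEq_zero_iff_dvd).1
    (this.symm.trans (Nat.modEq_zero_iff_dvd.2 h))))

theorem WV : 𝓦 ≤ 𝓥 := fun w hw => (S.K_cent h2 hw.1 hw.2).1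

theorem normW : 𝓓 ≤ N[𝓦] := normI (normG _) (normC (inf_le_left.trans (S.Q0_norm h2)))

theorem PW : 𝓟 ⊓ 𝓦 = ⊥ := inf_bot_of_prime B.pP fun h => B.notW h2 (h (mem_zpowers x)).2

theorem prodV : IsProd 𝓦 𝓟 𝓥 := ⟨B.WV h2, B.PV, fun v hv => by
  obtain ⟨y, hy, h⟩ := (S.gal h2 B.hx B.hp B.xp (B.notW h2)).2 v hv
    (by rw [B.Q0_inf h2]; exact zpowers_le.2 (mem_C1'.2 (B.Vs hv)))
  exact ⟨v * y, ⟨mul_mem hv.1 (B.PD hy), h⟩, y⁻¹, inv_mem hy, by simp⟩⟩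

theorem VK : 𝓥 ⊓ S.K h2 = ⊥ := eq_bot_iff.2 fun k hk =>
  S.K_free hk.2.1 hk.2.2 B.s2 (S.fix B.hs) (mul_inv_eq_iff_eq_mul.2 (B.Vs hk.1))

theorem prodD : IsProd 𝓥 (S.K h2) 𝓓 := ⟨inf_le_left, S.K_le h2, fun d hd => by
  obtain ⟨c, c1, k, k1, c2, e⟩ := S.decomp h2 hd
  exact ⟨c, ⟨c1, mem_cent_iff_conj.2 c2⟩, k, k1, e⟩⟩

theorem DN {d : G} (hd : d ∈ 𝓓) (h : d ∈ N[𝓟]) : d ∈ 𝓥 ⊓ 𝓒 := by
  have tN : t ∈ N[𝓟] := C_le_N _ (B.CP ▸ B.tC)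
  obtain ⟨c, c1, k, k1, c2, k2, rfl⟩ := exists_cent_mul_inv S.mul_self (X := 𝓓 ⊓ N[𝓟])
    (S.odd_card.of_dvd_nat (cardS inf_le_left))
    (fun y hy => ⟨S.conjD hy.1, mul_mem (mul_mem tN hy.2) (N[𝓟].inv_mem tN)⟩) ⟨hd, h⟩
  have a1 : S.K h2 ⊓ N[𝓟] ≤ ⊥ := by
    rw [inf_N_eq_inf_C (B.PD.trans (B.normK h2)) (eq_bot_iff.2
      ((inf_le_inf_right _ B.PV).trans (B.VK h2).le)), B.CP, B.K_inf h2]
  obtain rfl : k = 1 := a1 ⟨⟨k1.1, k2⟩, k1.2⟩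
  have cV : c ∈ 𝓥 := ⟨c1.1, mem_cent_iff_conj.2 c2⟩
  obtain ⟨w, hw, y, hy, rfl⟩ := (B.prodV h2).ex c cV
  have a2 := (inf_N_eq_inf_C (B.PD.trans (B.normW h2)) (B.PW h2)).le
    ⟨hw, (mul_mem_cancel_right (normG _ hy)).1 c1.2⟩
  rw [mul_one]
  exact ⟨cV, mul_mem (B.CP ▸ a2.2) (B.PC hy)⟩

theorem NP : N[𝓟] ≤ 𝓒 := fun g hg => by
  have f : ∀ c : Ω, x • c = c → x • g • c = g • c := fun c hc => by
    rw [← mul_smul, show x * g = g * (g⁻¹ * x * g) by group, mul_smul,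
      B.fixP (conj_mem' hg (mem_zpowers x)) hc]
  obtain ⟨c, c1, c2, c3⟩ := B.tr2 B.hx.1.1 B.hx.1.2 (f _ B.hx.1.1) (f _ B.hx.1.2) S.ne.symm
    fun e => S.ne.symm (smul_left_cancel g e)
  have := (B.DN h2 (d := c⁻¹ * g) ⟨by simp [mul_smul, ← c2], by simp [mul_smul, ← c3]⟩
    (mul_mem (inv_mem (C_le_N _ (B.CP ▸ c1))) hg)).2
  exact (mul_mem_cancel_left (inv_mem c1)).1 this

theorem conj_P {g y : G} (hy : y ∈ 𝓟) (y1 : y ≠ 1) (h : g * y * g⁻¹ ∈ 𝓟) : g ∈ 𝓒 :=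
  B.NP h2 (mem_N_of_cj_le (by
    nth_rw 1 [← eq_zpowers_of_prime B.pP hy y1]
    rw [BG.cj_zpowers]; exact zpowers_le.2 h))

theorem prodDC : IsProd (𝓦 ⊓ 𝓒) 𝓟 (𝓓 ⊓ 𝓒) := by
  convert (B.prodV h2).modr B.PC using 1
  exact le_antisymm (fun d hd => B.DN h2 hd.1 (C_le_N _ (B.CP ▸ hd.2))) (inf_le_inf_right _ inf_le_left)

omit h2 in
theorem prodHC : IsProd 𝓨 (𝓓 ⊓ 𝓒) (𝓗 ⊓ 𝓒) :=
  ⟨inf_le_inf_right _ S.le, inf_le_inf_right _ inf_le_left, fun h hh => by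
    obtain ⟨u, hu, e⟩ := B.tr1 B.hx.1.2 (B.fixC hh.2 B.hx.1.2) S.ne (S.smul_ne hh.1 S.ne)
    exact ⟨u, hu, u⁻¹ * h, ⟨⟨(𝓗).mul_mem (inv_mem (S.le hu.1)) hh.1, by simp [mul_smul, ← e]⟩,
      (𝓒).mul_mem (inv_mem hu.2) hh.2⟩, by simp⟩⟩

theorem dvdQ [IsSimpleGroup G] : p ∣ #Q + 1 := by
  have nQ : 𝓓 ≤ N[Q] := inf_le_left.trans S.norm
  have KW : S.K h2 ⊔ 𝓦 ≤ 𝓓 := sup_le (S.K_le h2) inf_le_left
  obtain ⟨l, l1, l2⟩ := S.exists_lin h2 (B := Q ⊔ (S.K h2 ⊔ 𝓦)) (by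
    rw [← S.sup_eq]
    exact sup_le (normsG le_sup_left) (normY nQ (normY (B.normK h2) (B.normW h2)))) fun h => by
    obtain ⟨u, hu, d, hd, e⟩ := (mem_sup_l (KW.trans nQ)).1 (h B.hx.1.1)
    rw [S.eq_one hu (by rw [eq_mul_inv_of_mul_eq e.symm]; exact mul_mem B.hx.1 (inv_mem (KW hd))),
      one_mul] at e
    obtain ⟨k, hk, w, hw, rfl⟩ := (mem_sup_l (inf_le_left.trans (B.normK h2))).1 hd
    rw [(B.VK h2).le ⟨(mul_mem_cancel_right (B.WV h2 hw)).1 (e ▸ B.hx), hk⟩, one_mul] at e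
    exact B.notW h2 (e ▸ hw.2)
  have a1 := transfer_eq_pow_of_ctrl l ⟨x, B.hx.1.1⟩ fun m g h => by
    rw [← map_pow]
    exact S.lconj h2 l (fun k hk => l2 k (mem_sup_right (mem_sup_left hk))) g⁻¹ _ _ (by simp)
  rw [hom_eq_one_of_simple h2 (MonoidHom.transfer l), S.index_H] at a1
  have : Fact p.Prime := ⟨B.hp⟩
  rw [← orderOf_eq_prime (p := p) (x := l ⟨x, B.hx.1.1⟩) (by
    rw [← map_pow, show (⟨x, B.hx.1.1⟩ : 𝓗) ^ p = 1 from Subtype.ext (B.xp ▸ pow_orderOf_eq_one x),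
      map_one]) fun h => l1 (MonoidHom.ext fun g => ?_)]
  · exact orderOf_dvd_of_pow_eq_one a1.symm
  obtain ⟨u, hu, d, hd, e⟩ := S.exists_mul g.2
  obtain ⟨v, hv, k, hk, rfl⟩ := (B.prodD h2).ex d hd
  obtain ⟨w, hw, _, ⟨i, rfl⟩, rfl⟩ := (B.prodV h2).ex v hv
  rw [show g = ⟨u, S.le hu⟩ * (⟨w, hw.1.1⟩ * ⟨x, B.hx.1.1⟩ ^ i * ⟨k, hk.1.1⟩) from Subtype.ext e.symm,
    map_mul, map_mul, map_mul, map_zpow, h, l2 _ (mem_sup_left hu),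
    l2 ⟨k, _⟩ (mem_sup_right (mem_sup_left hk)), l2 ⟨w, _⟩ (mem_sup_right (mem_sup_right hw))]
  simp

variable [IsSimpleGroup G]

theorem ndQ : ¬ p ∣ #Q := fun h =>
  B.hp.one_lt.ne' (Nat.dvd_one.1 ((Nat.dvd_add_right h).1 (B.dvdQ h2)))

theorem wiel {U : Subgroup G} (hU : U ≤ Q) (h1 : S.K h2 ≤ N[U]) (h3 : x ∈ N[U]) :
    #U = #(U ⊓ 𝓒) ^ p :=
  S.wiel h2 B.hx B.hp B.xp (B.notW h2) hU h1 h3 fun h => B.ndQ h2 (h.trans (cardS hU))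

theorem cardQ : #Q = #𝓨 ^ p := B.wiel h2 le_rfl (S.normK h2) (S.norm B.hx.1.1)

theorem dvdY : p ∣ #𝓨 + 1 := by
  have := B.pig.card_modEq B.hp ((B.PD.trans inf_le_left).trans S.norm)
  rw [B.CP] at this
  exact Nat.modEq_zero_iff_dvd.1 ((this.add_right 1).symm.trans (Nat.modEq_zero_iff_dvd.2 (B.dvdQ h2)))

theorem wielW {w : G} (hw : w ∈ 𝓦 ⊓ 𝓒) : #(Q ⊓ C1[w]) = #(𝓨 ⊓ C1[w]) ^ p := by
  rw [inf_right_comm]
  exact B.wiel h2 inf_le_left (normI (S.normK h2) (normC1 (S.K_cent h2 hw.1.1 hw.1.2).2))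
    (normI (zpowers_le.2 (S.norm B.hx.1.1)) (normC1 (zpowers_le.2 (C1_symm hw.2))) (mem_zpowers x))

variable [FaithfulSMul G Ω]

theorem kerW {w : G} (hw : w ∈ 𝓦 ⊓ 𝓒) (h : 𝓨 ≤ C1[w]) : w = 1 := by
  have := B.wielW h2 hw
  rw [inf_eq_left.2 h, ← B.cardQ h2] at this
  exact S.eq_one_of_cent hw.1.1 fun u hu =>
    mem_C1'.1 ((eq_of_card_le inf_le_left this.ge).ge hu).2

theorem ker {g : G} (hg : g ∈ 𝓒) (h : ∀ c : Ω, x • c = c → g • c = c) : g ∈ 𝓟 := by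
  have gD : g ∈ 𝓓 := ⟨h _ B.hx.1.1, h _ B.hx.1.2⟩
  obtain ⟨w, hw, y, hy, rfl⟩ := (B.prodDC h2).ex g ⟨gD, hg⟩
  rw [B.kerW h2 hw fun u hu => ?_, one_mul]
  · exact hy
  have := (S.fix_iff gD hu.1).1 (h _ (B.fixC hu.2 B.hx.1.2))
  rw [mul_assoc, mem_C1'.1 (C1_le_of_mem_zpowers hy hu.2), ← mul_assoc, ← mul_assoc] at this
  exact mem_C1'.2 (mul_right_cancel this)

end B1

end Cfsg.Agent.Inv
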