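import Cfsg.Agent.Inv.R1g
import Cfsg.Agent.Comp.Conn

/-! The rank one set-up: the regular normal section of the centralizer in the first case. -/

set_option autoImplicit false
set_option linter.unusedVariables false
set_option linter.unusedSectionVars false

namespace Cfsg.Agent.Inv

open Subgroup MulAction Cfsg.Agent.BG
open scoped Pointwise commutatorElement IsMulCommutative

variable {G Ω : Type*} [Group G] [MulAction G Ω] [Finite G]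

theorem card_le_pow_five {E : Subgroup G} (hE : Abelem 5 E) {x : G} (hx : x ∈ N[E]) (h2 : x ^ 5 = 1) :
    #E ≤ #(E ⊓ C1[x]) ^ 5 := by
  have := hE.1.comm
  refine Comp.card_le_pow_centralizer this hx 5 fun σ hσ e => ?_
  have h3 : σ (σ (σ (σ (σ e)))) = e := Subtype.ext (by
    rw [hσ, hσ, hσ, hσ, hσ]
    calc _ = x ^ 5 * e * (x ^ 5)⁻¹ := by simp only [pow_succ, pow_zero]; group
      _ = _ := by rw [h2]; group)
  have h4 : ∀ y : E, y ^ 5 = 1 := fun y => Subtype.ext (hE.2 y y.2)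
  simp only [Function.iterate_succ, Function.iterate_zero, Function.comp, id,
    MonoidHom.div_apply, MonoidHom.id_apply, map_div, h3]
  rw [← h4 (σ e * σ (σ (σ e)) ^ 2 / (σ (σ (σ (σ e))) * σ (σ e) ^ 2))]
  generalize σ (σ (σ (σ e))) = f
  generalize σ (σ (σ e)) = d
  generalize σ (σ e) = c
  generalize σ e = b
  apply Additive.ofMul.injective
  simp only [ofMul_div, ofMul_pow, ofMul_mul]
  abel

variable {a : Ω} {t : G} {Q : Subgroup G}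

namespace B1

variable {S : R1 G Ω a t Q} {x : G} {p : ℕ} {s r : G} (B : B1 S x p s r) (h2 : Four G)
include B

local notation "𝓗" => stabilizer G a
local notation "𝓓" => St2 G a (t • a)
local notation "𝓥" => V1 G a t
local notation "𝓟" => zpowers x
local notation "𝓒" => centralizer (Singleton.singleton x : Set G)
local notation "𝓨" => Q ⊓ centralizer (Singleton.singleton x : Set G)
local notation "𝓦" => St2 G a (t • a) ⊓ C[R1.Q0 S h2]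

theorem CN : 𝓒 ≤ N[𝓟] := norm_zpowers le_rfl

theorem exists_R : ∃ R, Chief 𝓟 R 𝓒 ∧ R ≤ 𝓒 ∧ Sol R := by
  have iso : IsIsolatedInvolution (⟨s, B.sC⟩ : 𝓒) := ⟨by rw [← orderOf_coe]; exact B.s2, fun g h =>
    Subtype.ext ((B.inv_eq (g * ⟨s, B.sC⟩ * g⁻¹).2 (by simp [B.ss]) (congrArg Subtype.val h)).resolve_left
      (by simpa using B.s1))⟩
  have a1 : s * t * s⁻¹ * t⁻¹ ∈ O[{2}ᶜ](𝓒) :=
    pPrimeCore_map Nat.prime_two (𝓒) ▸ ⟨_, Blk.zstar iso ⟨t, B.tC⟩, rfl⟩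
  have a2 : PiG {2}ᶜ 𝓟 := (pin_compl Nat.prime_two).2 (B.cP ▸ B.odd.not_two_dvd_nat)
  obtain ⟨R, h1, h3⟩ := exists_chief_le (lt_of_le_of_ne (le_O B.PC B.CN a2) fun e => by
    have : (s * t * s⁻¹ * t⁻¹) • a = a := (B.PD (e.ge a1)).1
    rw [S.tinv, mul_smul, mul_smul, mul_smul, smul_eq_iff_eq_inv_smul, S.fix (inv_mem B.hs),
      smul_eq_iff_eq_inv_smul, S.tinv] at this
    exact B.s1 (inv_eq_one.1 (S.free (inv_mem B.hs) S.ne this))) B.CN (O_norm _ _) ((O_le _ _).trans B.CN)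
  exact ⟨R, h3, h1.trans (O_le _ _), Sol.of_le (PF.feit_thompson (Nat.coprime_two_right.1
    ((pin_compl_cop Nat.prime_two).1 (O_pig _ _)))) h1⟩

variable [IsSimpleGroup G] [FaithfulSMul G Ω] {R : Subgroup G} (hR : Chief (zpowers x) R C1[x])
  (RC : R ≤ C1[x]) (sR : Sol R)
include h2 hR RC

theorem Rtr {c d : Ω} (hc : x • c = c) (hd : x • d = d) : ∃ ρ ∈ R, ρ • c = d := by
  by_cases e : c = d
  · exact ⟨1, one_mem _, by rw [e, one_smul]⟩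
  obtain ⟨ρ, h1, h3⟩ := SetLike.exists_of_lt hR.lt
  obtain ⟨c', h4, h5⟩ : ∃ c' : Ω, x • c' = c' ∧ c' ≠ ρ • c' := by
    by_contra h
    exact h3 (B.ker h2 (RC h1) fun c hc => by_contra fun n => h ⟨c, hc, Ne.symm n⟩)
  obtain ⟨g, g1, rfl, rfl⟩ := B.tr2 h4 (B.fixC (RC h1) h4) hc hd h5 e
  exact ⟨_, conj_mem (hR.nU g1) h1, by simp [mul_smul]⟩

include sR

theorem Rder : ⁅R, R⁆ ≤ 𝓟 := (quo_abel_iff hR.nUV).1 (hR.abelem sR).choose_spec.2.1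

theorem Rstab {ρ : G} (h : ρ ∈ R) (h1 : ρ • a = a) : ρ ∈ 𝓟 := B.ker h2 (RC h) fun c hc => by
  obtain ⟨σ, h3, rfl⟩ := B.Rtr h2 hR RC B.hx.1.1 hc
  have : (σ⁻¹ * ρ * σ⁻¹⁻¹ * ρ⁻¹) • a = a := (B.PD (B.Rder h2 hR RC sR (comm_mem (inv_mem h3) h))).1
  rwa [mul_smul, smul_eq_iff_inv.1 h1, conj_smul_fix, inv_inv] at this

theorem HR : 𝓗 ⊓ R = 𝓟 :=
  le_antisymm (fun ρ h => B.Rstab h2 hR RC sR h.2 h.1) (le_inf (B.PD.trans inf_le_left) hR.lt.le)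

theorem rel_sub {U : Subgroup G} (h : U ≤ R) : (𝓟).relIndex U = (orbit U a).ncard := by
  rw [← B.HR h2 hR RC sR, ← relIndex_stab, ← inf_relIndex_right, inf_assoc, inf_eq_right.2 h,
    inf_relIndex_right]

theorem relR : (𝓟).relIndex R = #𝓨 + 1 := by
  rw [B.rel_sub h2 hR RC sR le_rfl, ← B.ncard_fix]
  congr 1; ext c
  exact ⟨fun ⟨g, e⟩ => e ▸ B.fixC (RC g.2) B.hx.1.1, fun h => by
    obtain ⟨ρ, h1, e⟩ := B.Rtr h2 hR RC B.hx.1.1 h; exact ⟨⟨ρ, h1⟩, e⟩⟩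

theorem Rab : Abelem p (R ÷ 𝓟) := by
  obtain ⟨q, hq, h⟩ := hR.abelem sR
  rwa [(h.pig hq).eq_prime B.hp (by rw [card_quo hR.nUV, B.relR h2 hR RC sR]; exact B.dvdY h2)]

theorem pigR : PiG {p} R := pig_of_im (φ := quo 𝓟) hR.nUV (B.pig.of_le (by simp [quo_ker]))
  ((B.Rab h2 hR RC sR).pig B.hp)

theorem powY : ∃ m, #𝓨 + 1 = p ^ m := by
  rw [← B.relR h2 hR RC sR, ← card_quo hR.nUV]
  exact ((B.Rab h2 hR RC sR).pig B.hp).card_pow B.hp

theorem Ytr {ρ σ : G} (h : ρ ∈ R) (h' : σ ∈ R) (n : ρ ∉ 𝓟) (n' : σ ∉ 𝓟) :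
    ∃ u ∈ 𝓨, σ⁻¹ * (u * ρ * u⁻¹) ∈ 𝓟 := by
  obtain ⟨u, hu, e⟩ := B.tr1 (B.fixC (RC h) B.hx.1.1) (B.fixC (RC h') B.hx.1.1)
    (mt (B.Rstab h2 hR RC sR h) n) (mt (B.Rstab h2 hR RC sR h') n')
  exact ⟨u, hu, B.Rstab h2 hR RC sR (mul_mem (inv_mem h') (conj_mem (hR.nU hu.2) h)) (by
    simp [mul_smul, S.fix (inv_mem hu.1), e])⟩

theorem Yfree {ρ u : G} (h : ρ ∈ R) (n : ρ ∉ 𝓟) (hu : u ∈ Q) (e : ρ⁻¹ * (u * ρ * u⁻¹) ∈ 𝓟) :
    u = 1 := by
  have : (ρ⁻¹ * (u * ρ * u⁻¹)) • a = a := (B.PD e).1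
  rw [mul_smul, inv_smul_eq_iff, mul_smul, S.fix (inv_mem hu), mul_smul] at this
  exact S.free hu (mt (B.Rstab h2 hR RC sR h) n) this

theorem cent_le {w : G} (hw : w ∈ 𝓓 ⊓ 𝓒) :
    #(R ÷ 𝓟 ⊓ C1[(quo 𝓟).app w]) ≤ #(𝓨 ⊓ C1[w]) + 1 := by
  rw [← PHom.im_inf_pre, card_quo (inf_le_left.trans hR.nUV), B.rel_sub h2 hR RC sR inf_le_left]
  refine (Set.ncard_le_ncard (t := insert a ((fun u => u • t • a) '' ((𝓨 ⊓ C1[w] : Subgroup G) : Set G)))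
    ?_ (have := S.finite; Set.toFinite _)).trans ((Set.ncard_insert_le _ _).trans (Nat.succ_le_succ Set.ncard_image_le))
  rintro _ ⟨⟨ρ, h1, h3⟩, rfl⟩
  obtain ⟨h3, h4⟩ := PHom.mem_pre.1 h3
  refine (em _).imp id fun n => ?_
  obtain ⟨u, hu, e⟩ := B.tr1 B.hx.1.2 (B.fixC (RC h1) B.hx.1.1) S.ne n
  refine ⟨u, ⟨hu, mem_C1'.2 ((S.fix_iff hw.1 hu.1).1 ?_)⟩, e⟩
  have wN : w ∈ (quo 𝓟).dom := B.CN hw.2
  have : ((ρ * w)⁻¹ * (w * ρ)) • a = a := (B.PD (quo_ker 𝓟 ▸ (PHom.app_eq_iff (mul_mem h3 wN)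
    (mul_mem wN h3)).1 (by rw [PHom.app_mul h3 wN, PHom.app_mul wN h3]; exact mem_C1.1 h4))).1
  rw [mul_smul, inv_smul_eq_iff, mul_smul, mul_smul, show w • a = a from hw.1.1] at this
  rw [e]; exact this

theorem caseB (ih : S.IH) (h : p ∣ #(𝓦 ⊓ 𝓒)) : TT t Q 𝓓 := by
  obtain ⟨w, hw, wp⟩ := cauchy B.hp h
  have w1 : w ≠ 1 := fun e => B.hp.one_lt.ne' (by rw [← wp, e, orderOf_one])
  have wV := B.WV h2 hw.1
  have Q0w : S.Q0 h2 ≤ C1[w] := le_C1_iff.2 hw.1.2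
  have T := S.tt_cent ih wV w1 (by
    obtain ⟨y, hy, z, hz, y2, z2, yz, c⟩ := S.exists_four h2
    exact four_sub (Q0w ⟨S.fix hy, (ord2_iff.1 y2).1⟩) (Q0w ⟨S.fix hz, (ord2_iff.1 z2).1⟩)
      (ord2_iff.1 y2).2 (ord2_iff.1 z2).2 yz (ord2_iff.1 y2).1 (ord2_iff.1 z2).1 c)
  have a1 := B.wielW h2 hw
  have n2 : n2 (Q ⊓ C1[w]) = 2 ^ p := by rw [S.n2_inf h2, inf_eq_left.2 Q0w, B.card_Q0 h2]
  have pw : PiG {p} (zpowers w) := pig_of_card' B.hp (by rw [Nat.card_zpowers, wp])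
  have nY : zpowers w ≤ N[𝓨] := normI (zpowers_le.2 (S.norm hw.1.1.1)) (normC1 (zpowers_le.2 hw.2))
  have a2 : p ∣ #(𝓨 ⊓ C1[w]) + 1 := by
    have := pw.card_modEq B.hp nY
    rw [C_zpowers] at this
    exact Nat.modEq_zero_iff_dvd.1 ((this.add_right 1).symm.trans (Nat.modEq_zero_iff_dvd.2 (B.dvdY h2)))
  have a3 : #(𝓨 ⊓ C1[w]) ≠ #𝓨 := fun e =>
    w1 (B.kerW h2 hw (inf_eq_left.1 (eq_of_card_le inf_le_left e.ge)))
  have a4 : #(𝓨 ⊓ C1[w]) ∣ #𝓨 := cardS inf_le_left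
  obtain ⟨m, hm⟩ := B.powY h2 hR RC sR
  have a5 : 2 ^ p - 1 ∣ #𝓨 ^ p - 1 := by
    rw [← B.cardQ h2, ← B.card_Q0 h2, ← S.card_K' h2]
    exact Semireg.card_dvd (fun k hk k1 => S.fpf hk.1 hk.2 k1) (S.normK h2)
  have wN : w ∈ (quo 𝓟).dom := B.CN hw.2
  have a6 : p = 3 ∨ p = 5 → p ^ m ≤ (#(𝓨 ⊓ C1[w]) + 1) ^ p := fun hp => by
    have b1 := B.Rab h2 hR RC sR
    have b2 : (quo 𝓟).app w ∈ N[R ÷ 𝓟] := PHom.app_mem_N (hR.nU hw.2) wN
    have b3 : (quo 𝓟).app w ^ p = 1 := by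
      rw [← PHom.app_pow wN, ← wp, pow_orderOf_eq_one, PHom.app_one]
    rw [← hm, ← B.relR h2 hR RC sR, ← card_quo hR.nUV]
    refine le_trans ?_ (Nat.pow_le_pow_left (B.cent_le h2 hR RC sR ⟨hw.1.1, hw.2⟩) p)
    rcases hp with rfl | rfl
    exacts [Comp.card_le_cube_centralizer (abelem_iff.1 b1) b2 b3, card_le_pow_five b1 b2 b3]
  have inj := Nat.pow_left_injective B.hp.ne_zero
  have y0 := card_pos (𝓨)
  have a7 := T.cases
  rw [n2, a1, ← pow_mul, ← pow_mul, mul_comm, mul_comm p, pow_mul, pow_mul] at a7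
  rcases a7 with el | ⟨-, h | ⟨h, -⟩⟩
  · have e : Q ⊓ C1[w] = S.Q0 h2 :=
      le_antisymm (fun u hu => ⟨S.fix hu.1, el u hu⟩) (le_inf (S.Q0_le h2) Q0w)
    rw [e, B.card_Q0 h2] at a1
    rw [← inj a1] at a2 a3 a6
    obtain rfl := (Nat.prime_dvd_prime_iff_eq B.hp Nat.prime_three).1 a2
    have b1 : m ≤ 3 := (Nat.pow_le_pow_iff_right (by norm_num)).1 (a6 (Or.inl rfl))
    have b2 : #𝓨 = 8 := by
      generalize #𝓨 = n at *
      interval_cases m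
      · omega
      · omega
      · omega
      · obtain rfl : n = 26 := by omega
        norm_num at a5
    have b3 : #Q = 2 ^ 9 := by rw [B.cardQ h2, b2]; norm_num
    have nc : ¬ w ∈ C[Q] := fun h => w1 (S.eq_one_of_cent hw.1.1 fun u hu => (h u hu).symm)
    refine ⟨IsPGroup.of_card b3, Or.inr ⟨fun hc => nc (zpowers_le.1 (cop_abel_faithful_Om (abel_of hc)
      (pig_of_card_pow Nat.prime_two b3) (zpowers_le.2 (S.norm hw.1.1.1)) (by
        rw [Nat.card_zpowers, wp, b3]; norm_num) (zpowers_le.2 (centS (Om_le_iff.2 fun z hz e =>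
          (S.mem_Q0 h2).2 ⟨S.fix hz, sq z ▸ e⟩) hw.1.2)))), Or.inr ⟨by
      rw [S.n2_eq h2, B.card_Q0 h2, b3]; norm_num, fun s' s1 r' r1 e' => S.eq_of_sq s1 r1 e' (el _ ⟨r1,
        mem_C1'.2 (mul_inv_eq_iff_eq_mul.1 (S.cent_r s1 r1 e' wV))⟩), w, hw.1.1,
      fun z hz e => (hw.1.2 z ⟨S.fix hz, e⟩).symm, by_contra fun h => nc fun u hu =>
        by_contra fun e => h ⟨u, hu, Ne.symm e⟩⟩⟩⟩
  · exfalso
    have c4 := inj h
    rw [c4] at a2 a3 a4 a6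
    obtain rfl := (Nat.prime_dvd_prime_iff_eq B.hp Nat.prime_five).1 a2
    have b1 : m ≤ 5 := (Nat.pow_le_pow_iff_right (by norm_num)).1 (a6 (Or.inr rfl))
    have b2 : #𝓨 = 624 := by
      generalize #𝓨 = n at *
      interval_cases m
      · omega
      · omega
      · obtain rfl : n = 24 := by omega
        norm_num at a5
      · obtain rfl : n = 124 := by omega
        norm_num at a5
      · omega
      · obtain rfl : n = 3124 := by omega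
        norm_num at a5
    have nil : Nil (𝓨) := Nil.of_le (S.nilp h2) inf_le_left
    obtain ⟨k, hk⟩ := (O_pig {3} (𝓨)).card_pow Nat.prime_three
    have o1 := (nil.hall_O {3}).dvd Nat.prime_three rfl (by rw [b2]; norm_num)
    have o2 := cardS (O_le {3} (𝓨))
    have o3 := pw.card_modEq B.hp (normO {3} nY)
    have o4 := cardS (inf_le_left : O[{3}](𝓨) ⊓ C[zpowers w] ≤ _)
    have o5 := cardS (inf_le_inf (O_le {3} (𝓨)) (C_zpowers w).le)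
    rw [hk] at o1 o2 o3 o4
    rw [c4] at o5
    rw [b2] at o2
    rcases k with _ | _ | k
    · norm_num at o1
    · rw [Nat.eq_one_of_dvd_coprimes (by norm_num) o4 o5] at o3
      exact absurd o3 (by decide)
    · exact absurd ((pow_dvd_pow 3 (by omega : 2 ≤ k + 1 + 1)).trans o2) (by norm_num)
  · exfalso
    rw [inj h] at a2 a3 a4 a6
    obtain rfl := (Nat.prime_dvd_prime_iff_eq B.hp Nat.prime_three).1
      (B.hp.dvd_of_dvd_pow (n := 2) a2)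
    have b1 : m ≤ 6 := (Nat.pow_le_pow_iff_right (by norm_num)).1 ((a6 (Or.inl rfl)).trans (by norm_num))
    generalize #𝓨 = n at *
    interval_cases m
    iterate 4 omega
    · obtain rfl : n = 80 := by omega
      norm_num at a5
    · omega
    · obtain rfl : n = 728 := by omega
      norm_num at a5

end B1

end Cfsg.Agent.Inv
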