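import Cfsg.Agent.Inv.R1h

/-! The rank one set-up: end of the first case and the structure of `Q`. -/

set_option autoImplicit false
set_option linter.unusedVariables false
set_option linter.unusedSectionVars false

namespace Cfsg.Agent.Inv

open Subgroup MulAction Cfsg.Agent.BG
open scoped Pointwise commutatorElement

variable {G Ω : Type*} [Group G] [MulAction G Ω] [Finite G]

theorem card_dvd_ncard_of_free {Y : Subgroup G} {X : Set G} (h1 : ∀ u ∈ Y, ∀ z ∈ X, u * z * u⁻¹ ∈ X)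
    (h2 : ∀ u ∈ Y, ∀ z ∈ X, u * z * u⁻¹ = z → u = 1) : #Y ∣ X.ncard := by
  classical
  have := Fintype.ofFinite Y
  let A : MulAction Y G := MulAction.compHom G (MulAut.conj.comp Y.subtype)
  have := dvd_sum_of_free (Γ := Y) (fun _ : G => 1) (fun _ _ => rfl) (Set.toFinite X).toFinset
    (fun u z hz => (Set.Finite.mem_toFinset _).2 (h1 u u.2 z (by simpa using hz)))
    fun z hz u e => Subtype.ext (h2 u u.2 z (by simpa using hz) e)
  rwa [Finset.sum_const, smul_eq_mul, mul_one, ← Set.ncard_eq_toFinset_card] at this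

/-- the elements of an abelian subgroup inverted by `s` -/
def invSub {R : Subgroup G} (h : Abel R) (s : G) : Subgroup G where
  carrier := {ρ ∈ R | s * ρ * s⁻¹ = ρ⁻¹}
  one_mem' := ⟨one_mem _, by simp⟩
  mul_mem' := fun {x y} hx hy => ⟨mul_mem hx.1 hy.1, by
    rw [← conj_mul, hx.2, hy.2, ← mul_inv_rev, mem_C_comm h hx.1 hy.1]⟩
  inv_mem' := fun {x} hx => ⟨inv_mem hx.1, by rw [← conj_inv, hx.2]⟩

variable {a : Ω} {t : G} {Q : Subgroup G}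

namespace B1

variable {S : R1 G Ω a t Q} {x : G} {p : ℕ} {s r : G} (B : B1 S x p s r) (h2 : Four G)
include B

local notation "𝓗" => stabilizer G a
local notation "𝓓" => St2 G a (t • a)
local notation "𝓥" => V1 G a t
local notation "𝓟" => zpowers x
local notation "𝓒" => centralizer (Singleton.singleton x : Set G)
local notation "𝓨" => Q ⊓ centralizer (Singleton.singleton x : Set G)
local notation "𝓦" => St2 G a (t • a) ⊓ C[R1.Q0 S h2]

variable [IsSimpleGroup G] [FaithfulSMul G Ω] {R : Subgroup G} (hR : Chief (zpowers x) R C1[x])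
  (RC : R ≤ C1[x]) (sR : Sol R) (hA : ¬ p ∣ #(St2 G a (t • a) ⊓ C[R1.Q0 S h2] ⊓ C1[x]))
include h2 hR RC sR hA

theorem ndY : ¬ p ∣ #𝓨 := fun h => B.ndQ h2 (h.trans (cardS inf_le_left))

theorem cardR : #R = p * (#𝓨 + 1) := by
  rw [← card_mul_relIndex hR.lt.le, B.cP, B.relR h2 hR RC sR]

theorem sylR : Syl p R 𝓒 := syl_mk B.hp RC (B.pigR h2 hR RC sR) fun h => by
  have a1 : IsProd R (𝓗 ⊓ 𝓒) 𝓒 := ⟨RC, inf_le_right, fun g hg => by
    obtain ⟨ρ, h1, e⟩ := B.Rtr h2 hR RC B.hx.1.1 (B.fixC hg B.hx.1.1)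
    exact ⟨ρ, h1, ρ⁻¹ * g, ⟨by simp [mul_smul, ← e], (𝓒).mul_mem (inv_mem (RC h1)) hg⟩, by simp⟩⟩
  have a2 := card_inf_mul_relIndex R (𝓗 ⊓ 𝓒)
  have a3 := B.prodHC.card
  have a4 := (B.prodDC h2).card
  rw [show 𝓨 ⊓ (𝓓 ⊓ 𝓒) = ⊥ from eq_bot_iff.2 fun u hu => S.eq_one hu.1.1 hu.2.1, card_bot,
    mul_one] at a3
  rw [inf_comm _ 𝓟, ← inf_assoc 𝓟, B.PW h2, bot_inf_eq, card_bot, mul_one, B.cP] at a4
  rw [← a1.relIndex, ← inf_assoc, inf_comm R, B.HR h2 hR RC sR, inf_eq_left.2 B.PC, B.cP, a3, a4,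
    ← mul_assoc, mul_comm _ p] at a2
  rw [Nat.eq_of_mul_eq_mul_left B.hp.pos a2] at h
  exact (B.hp.dvd_mul.1 h).elim (B.ndY h2 hR RC sR hA) hA

theorem card_syl {R1 : Subgroup G} (h1 : Syl p R1 ⊤) : #R1 = #R * p := by
  have hp := B.hp
  have : Fact p.Prime := ⟨hp⟩
  have a1 : ¬ p ∣ #𝓦 := fun h => by
    have := B.pig.card_modEq hp (B.PD.trans (B.normW h2))
    rw [B.CP] at this
    exact hA (Nat.modEq_zero_iff_dvd.1 (this.symm.trans (Nat.modEq_zero_iff_dvd.2 h)))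
  obtain ⟨m, hm⟩ := B.powY h2 hR RC sR
  have a2 := padicValNat.pow_add_pow B.odd (B.dvdY h2) (B.ndY h2 hR RC sR hA) B.odd
  rw [one_pow, ← B.cardQ h2, hm, padicValNat.prime_pow, padicValNat_self] at a2
  obtain ⟨u, hu⟩ := pow_padicValNat_dvd (p := p) (n := #Q + 1)
  have a3 := pow_succ_padicValNat_not_dvd (p := p) (n := #Q + 1) (Nat.succ_ne_zero _)
  rw [a2] at hu a3
  have a4 : ¬ p ∣ u := fun h => a3 (by
    rw [hu, pow_succ _ (m + 1)]; exact Nat.mul_dvd_mul_left _ h)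
  have a5 := (B.prodD h2).card
  have a6 := (B.prodV h2).card
  rw [B.VK h2, card_bot, mul_one] at a5
  rw [inf_comm _ 𝓟, B.PW h2, card_bot, mul_one, B.cP] at a6
  have a7 : #(⊤ : Subgroup G) = #R * p * (#Q * #𝓦 * #(S.K h2) * u) := by
    rw [card_top, S.card_G, a5, a6, hu, B.cardR h2 hR RC sR hA, hm]; ring
  refine Nat.dvd_antisymm (PiN.dvd_of_dvd_mul h1.pi ((pin_compl hp).2 ?_) ((cardS le_top).trans a7.dvd))
    (h1.dvd_of_pin (pin_mul.2 ⟨B.pigR h2 hR RC sR, pin_single_self hp⟩) (a7 ▸ dvd_mul_right _ _))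
  simp only [hp.dvd_mul, not_or]
  exact ⟨⟨⟨B.ndQ h2, a1⟩, B.ndK h2⟩, a4⟩

theorem caseA : False := by
  have hp := B.hp
  have pR := B.pigR h2 hR RC sR
  have sy := B.sylR h2 hR RC sR hA
  have NP := B.NP h2
  have xR : x ∈ R := hR.lt.le (mem_zpowers x)
  obtain ⟨R1, h1, RR⟩ := syl_superset hp le_top pR
  have c1 := B.card_syl h2 hR RC sR hA h1
  have i1 : R.relIndex R1 = p :=
    Nat.eq_of_mul_eq_mul_left (card_pos R) ((card_mul_relIndex RR).trans c1)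
  have n1 : R1 ≤ N[R] := h1.pi.norm_of_relIndex hp RR i1
  have nC : ¬ R1 ≤ 𝓒 := fun h => by
    rw [sy.max h1.pi h RR, relIndex_self] at i1; exact hp.one_lt.ne i1
  have ab : Abel R := by_contra fun h => nC (((hR.max Z[R] (le_inf hR.lt.le (cent_symm (B.CP ▸ RC)))
    (lt_of_le_of_ne inf_le_left fun e => h (inf_eq_left.1 e)) (normZ hR.nU)) ▸ normZ n1).trans NP)
  have oR : Odd #R := Nat.coprime_two_right.1 ((pin_compl_cop Nat.prime_two).1 (pR.ne_compl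
    fun e => B.odd.not_two_dvd_nat e.symm.dvd))
  let T := invSub ab s
  have TR : T ≤ R := fun τ h => h.1
  have sN := hR.nU B.sC
  have pr : IsProd 𝓟 T R := ⟨hR.lt.le, TR, fun ρ h => by
    obtain ⟨c, c1, k, k1, c2, k2, rfl⟩ := exists_cent_mul_inv B.ss oR (fun y => conj_mem sN) h
    exact ⟨c, by_contra fun n => B.s1 (B.Yfree h2 hR RC sR c1 n B.hs (by simp [c2])), k, ⟨k1, k2⟩, rfl⟩⟩
  have Tsq : ∀ τ ∈ T, τ * τ = 1 → τ = 1 := fun τ h e =>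
    sq_inj_of_odd (odd_orderOf_of_mem oR h.1) (by simp) (by simpa using e)
  have A5 : ∀ τ ∈ T, ∀ g, g * τ * g⁻¹ ∈ 𝓟 → τ = 1 := fun τ h g e => by_contra fun n => by
    have si := inv_eq_of_mul_eq_one_left B.ss
    have b1 : s * (s * τ) = τ := by rw [← mul_assoc, B.ss, one_mul]
    have := (s1135 S h2 s (s * τ) B.s1 B.ss (fun e => (odd_orderOf_of_mem oR h.1).not_two_dvd_nat (by
      rw [eq_inv_of_mul_eq_one_right e, si, B.s2])) (by
      rw [show s * τ * (s * τ) = s * τ * s⁻¹ * τ by rw [si, mul_assoc (s * τ)], h.2, inv_mul_cancel])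
      (by rw [b1]; exact mt (Tsq τ h) n)).2
    rw [b1, ← card_cj g, cj_C1] at this
    exact this.not_two_dvd_nat (B.s2 ▸ orderOf_dvd (C1_le_of_mem_zpowers e B.sC))
  have PT : 𝓟 ⊓ T = ⊥ := eq_bot_iff.2 fun y hy => A5 y hy.2 1 (by simpa using hy.1)
  have cT : #T = #𝓨 + 1 := by
    have := pr.card
    rw [PT, card_bot, mul_one, B.cP, B.cardR h2 hR RC sR hA] at this
    exact (Nat.eq_of_mul_eq_mul_left hp.pos this).symm
  have iT : T.relIndex R = p := Nat.eq_of_mul_eq_mul_left (card_pos T) (by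
    rw [card_mul_relIndex TR, B.cardR h2 hR RC sR hA, cT, mul_comm])
  have nP : ∀ τ ∈ T, τ ≠ 1 → τ ∉ 𝓟 := fun τ h n e => n (PT.le ⟨e, h⟩)
  have Ytr : ∀ τ ∈ T, ∀ τ' ∈ T, τ ≠ 1 → τ' ≠ 1 → ∃ u ∈ 𝓨, u * τ * u⁻¹ = τ' := fun τ h τ' h' n n' => by
    obtain ⟨u, hu, e⟩ := B.Ytr h2 hR RC sR h.1 h'.1 (nP τ h n) (nP τ' h' n')
    refine ⟨u, hu, (inv_mul_eq_one.1 (PT.le ⟨e, T.mul_mem (inv_mem h') ⟨conj_mem (hR.nU hu.2) h.1, ?_⟩⟩)).symm⟩
    rw [conj_inv, ← h.2, ← mul_assoc, ← mul_assoc, S.Q0_cent h2 (B.sQ0 h2) hu.1, mul_assoc _ u⁻¹,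
      ← S.Q0_cent h2 (inv_mem (B.sQ0 h2)) (inv_mem hu.1)]
    group
  obtain ⟨g, g1, gC⟩ := SetLike.not_le_iff_exists.1 nC
  have A6 : ∀ ρ ∈ R, ρ ∉ T → ∃ h ∈ N[R], h * ρ * h⁻¹ ∈ 𝓟 := fun ρ h n => by
    obtain ⟨y, hy, τ, hτ, e⟩ := pr.ex _ (conj_mem (n1 g1) xR)
    have y1 : y ≠ 1 := by
      rintro rfl
      exact B.x1 (conj_eq_one_iff.1 (A5 _ (by rw [e, one_mul]; exact hτ) g⁻¹ (by simp [mul_assoc])))
    obtain ⟨y', hy', τ', hτ', rfl⟩ := pr.ex ρ h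
    obtain ⟨i, rfl⟩ := (eq_zpowers_of_prime B.pP hy y1).ge hy'
    by_cases t1 : τ' = 1
    · exact ⟨1, one_mem _, by simpa [t1] using hy'⟩
    have e' : g * x ^ i * g⁻¹ = y ^ i * τ ^ i := by
      rw [← conj_zpow, e, Commute.mul_zpow (mem_C_comm ab (hR.lt.le hy) hτ.1)]
    obtain ⟨u, hu, e2⟩ := Ytr _ (zpow_mem hτ i) τ' hτ' (fun e2 => gC (B.conj_P h2 (zpow_mem
      (mem_zpowers x) i) (fun e3 => n (by
        rw [e2, e3, mul_one, mul_one, mul_inv_cancel] at e'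
        simpa [← e'] using hτ')) (by rw [e', e2, mul_one]; exact hy'))) t1
    refine ⟨(u * g)⁻¹, inv_mem (mul_mem (hR.nU hu.2) (n1 g1)), ?_⟩
    rw [show (fun n : ℤ => y ^ n) i * τ' = u * (g * x ^ i * g⁻¹) * u⁻¹ by
      rw [e', ← conj_mul, e2, mem_C1.1 (C1_le_of_mem_zpowers hy' hu.2), mul_inv_cancel_right]]
    simp [mul_assoc]
  have NT : N[R] ≤ N[T] := le_N_iff.2 fun h hh τ hτ => by_contra fun n => by
    obtain ⟨k, -, e⟩ := A6 _ (conj_mem hh hτ.1) n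
    rw [A5 τ hτ (k * h) (by simpa [mul_assoc] using e)] at n
    exact n (by simp)
  have RT : R ≤ N[T] := (normG R).trans NT
  have A7 : ⁅R1, R⁆ ≤ T := (quo_cent_iff (n1.trans NT) RT).1 (PiG.cent_of_prime (h1.pi.im _) hp
    ((card_quo RT).trans iT) (PHom.im_norm n1))
  have xT : ∀ τ ∈ T, ∃ h ∈ N[R], h * x * h⁻¹ = x * τ := fun τ h => by
    by_cases t1 : τ = 1
    · exact ⟨1, one_mem _, by simp [t1]⟩
    have b1 := A7 (comm_mem g1 xR)
    obtain ⟨u, hu, e⟩ := Ytr _ b1 τ h (fun e => gC (mem_C1.2 (by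
      rwa [mul_inv_eq_one, mul_inv_eq_iff_eq_mul] at e))) t1
    refine ⟨u * g, mul_mem (hR.nU hu.2) (n1 g1), ?_⟩
    rw [mem_C_comm ab xR h.1, ← e, mul_assoc _ u⁻¹, mem_C1.1 (inv_mem hu.2)]
    group
  have Nx : ∀ h ∈ N[R], ∃ τ ∈ T, x * τ = h * x * h⁻¹ := fun h hh => by
    obtain ⟨y, hy, τ, hτ, e⟩ := pr.ex _ (conj_mem hh xR)
    obtain ⟨k, hk, e'⟩ := xT _ (conj_mem' (NT hh) (inv_mem hτ))
    have b1 : h * k * x * (h * k)⁻¹ = y := by
      rw [eq_mul_inv_of_mul_eq e.symm, show h * k * x * (h * k)⁻¹ = h * (k * x * k⁻¹) * h⁻¹ by group, e']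
      group
    rw [mem_C1.1 (B.conj_P h2 (mem_zpowers x) B.x1 (b1 ▸ hy)), mul_inv_cancel_right] at b1
    exact ⟨τ, hτ, by rw [e, b1]⟩
  have cl : (fun h => h * x * h⁻¹) '' N[R] = (fun τ => x * τ) '' T :=
    Set.ext fun z => ⟨fun ⟨h, hh, e⟩ => e ▸ Nx h hh, fun ⟨τ, h, e⟩ => e ▸ xT τ h⟩
  have iN : (𝓒).relIndex N[R] = #T := by
    rw [relIndex_C1, cl, Set.ncard_image_of_injective _ (mul_right_injective x)]; rfl
  have syN := h1.sub n1 le_top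
  have Tp : #T = p := by
    have b1 := relIndex_dvd_left RC N[R]
    rw [iN, ← relIndex_mul_relIndex R R1 _ RR n1, i1] at b1
    refine (hp.eq_one_or_self_of_dvd _ (PiN.dvd_of_dvd_mul (pR.of_le TR) syN.idx b1)).resolve_left ?_
    have := card_pos (𝓨)
    omega
  have Rp : #R = p * p := by rw [B.cardR h2 hR RC sR hA, ← cT, Tp]
  have R1T : R1 ≤ C[T] := h1.pi.cent_of_prime hp Tp (n1.trans NT)
  have CT : C[T] ⊓ 𝓒 ≤ R := fun k hk => by
    obtain ⟨ρ, b1, e⟩ := B.Rtr h2 hR RC B.hx.1.1 (B.fixC hk.2 B.hx.1.1)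
    have b2 : ρ⁻¹ * k ∈ C[R] := mul_mem (inv_mem (ab b1)) (pr.sup ▸ C_sup 𝓟 T ▸ ⟨B.CP ▸ hk.2, hk.1⟩)
    refine (mul_mem_cancel_left (inv_mem b1)).1 (hR.lt.le (B.ker h2 (mul_mem (inv_mem (RC b1)) hk.2)
      fun c hc => ?_))
    obtain ⟨σ, b3, rfl⟩ := B.Rtr h2 hR RC B.hx.1.1 hc
    rw [← mul_smul, ← b2 σ b3, mul_smul, mul_smul, ← e, inv_smul_smul]
  have e1 : R1 = N[R] ⊓ C[T] := eq_of_card_le (le_inf n1 R1T) (by
    rw [← card_inf_mul_relIndex (𝓒), c1]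
    exact Nat.mul_le_mul (card_le fun k hk => CT ⟨hk.2.2, hk.1⟩)
      ((relIndex_le_of_le_right inf_le_left (relIndex_pos _ _).ne').trans (iN.trans Tp).le))
  have NR1 : N[R] ≤ N[R1] := e1 ▸ normI (normG _) (normC NT)
  have key : ∀ b, b * x * b⁻¹ ∈ R1 → R1 ⊓ C1[b * x * b⁻¹] = cj b R ∧ b ∈ N[R1] := fun b hb => by
    have b1 : R1 ⊓ C1[b * x * b⁻¹] ≤ cj b R := by
      rw [le_cj_iff]
      exact sy.le_of_normal hR.nU ((h1.pi.of_le inf_le_left).cj _)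
        (by rw [cj_le_iff, inv_inv, cj_C1]; exact inf_le_right)
    have b2 : T ≤ R1 ⊓ C1[b * x * b⁻¹] := le_inf (TR.trans RR) (le_C1_iff.2 (R1T hb))
    have b3 : T.relIndex (cj b R) = p := Nat.eq_of_mul_eq_mul_left hp.pos (by
      rw [← Rp, ← card_cj b, ← card_mul_relIndex (b2.trans b1), Tp])
    have b4 := (eq_or_eq_of_relIndex_prime (b3 ▸ hp) b2 b1).resolve_left fun e =>
      B.x1 (conj_eq_one_iff.1 (A5 _ (e.le ⟨hb, mem_C1_self _⟩) b⁻¹ (by simp [mul_assoc])))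
    have b5 : cj b R ≤ R1 := b4 ▸ inf_le_left
    have b6 := h1.pi.norm_of_relIndex hp b5 (Nat.eq_of_mul_eq_mul_left (card_pos R) (by
      rw [← c1, ← card_mul_relIndex b5, card_cj]))
    rw [← cj_N, le_cj_iff] at b6
    exact ⟨b4, inv_mem_iff.1 (mem_N_of_cj_le (syN.le_of_normal NR1 (h1.pi.cj _) b6))⟩
  have K3 : ∀ b, b * x * b⁻¹ ∈ R → b ∈ N[R] := fun b hb => inv_mem_iff.1 (mem_N_of_cj_le (by
    rw [← le_cj_iff, ← (key b (RR hb)).1]; exact le_inf RR (le_C1_iff.2 (ab hb))))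
  have d1 : ⁅R1, R1⁆ ≤ T := (quo_abel_iff (n1.trans NT)).1 (abel_of_card_sq hp (by
    rw [card_quo (n1.trans NT), ← relIndex_mul_relIndex T R _ TR RR, iT, i1, sq]))
  let X := (fun h => h * x * h⁻¹) '' N[R1]
  have XR : X ⊆ R1 := by rintro _ ⟨h, hh, rfl⟩; exact conj_mem hh (RR xR)
  have cX : X.ncard = p * N[R].relIndex N[R1] := by
    rw [← relIndex_C1, ← relIndex_mul_relIndex _ _ _ hR.nU NR1, iN, Tp]
  have c2 : (X ∩ R).ncard = p := by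
    rw [← Tp, ← iN, relIndex_C1]
    congr 1; ext z
    exact ⟨fun ⟨⟨h, _, e⟩, hz⟩ => ⟨h, K3 h (show (fun h => h * x * h⁻¹) h ∈ R from e ▸ hz), e⟩,
      fun ⟨h, hh, e⟩ => ⟨⟨h, NR1 hh, e⟩, e ▸ conj_mem hh xR⟩⟩
  have c3 : #𝓨 ∣ (X \ R).ncard := card_dvd_ncard_of_free (by
    rintro u hu _ ⟨⟨h, hh, rfl⟩, n⟩
    exact ⟨⟨u * h, mul_mem (NR1 (hR.nU hu.2)) hh, by simp [mul_assoc]⟩,
      fun e => n ((mem_N.1 (hR.nU hu.2) _).2 e)⟩) fun u hu z hz e => by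
    have b1 := d1 (comm_mem (XR hz.1) (RR xR))
    refine B.Yfree h2 hR RC sR b1.1 (nP _ b1 fun e => hz.2 ?_) hu.1 ?_
    · rw [← sy.max (h1.pi.of_le inf_le_left) inf_le_right (le_inf RR RC)]
      exact ⟨XR hz.1, mem_C1.2 (by rwa [mul_inv_eq_one, mul_inv_eq_iff_eq_mul] at e)⟩
    · have b2 : u * x * u⁻¹ = x := by rw [mem_C1.1 hu.2, mul_inv_cancel_right]
      rw [← conj_mul, ← conj_mul, ← conj_mul, ← conj_inv, ← conj_inv, e, b2, inv_mul_cancel]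
      exact one_mem _
  have c4 : X.ncard * (p - 1) ≤ p * p * p - p := by
    have x1 : ∀ i ∈ Set.Ioo 0 p, x ^ i ≠ 1 := fun i hi =>
      pow_ne_one_of_lt_orderOf hi.1.ne' (B.xp ▸ hi.2)
    have := Set.ncard_le_ncard_of_injOn (s := X ×ˢ Set.Ioo 0 p) (t := (R1 : Set G) \ T)
      (fun q => q.1 ^ q.2) (by
        rintro ⟨_, i⟩ ⟨⟨h, hh, rfl⟩, hi⟩
        refine ⟨pow_mem (XR ⟨h, hh, rfl⟩) i, fun e => x1 i hi ?_⟩
        simpa [conj_pow] using A5 _ e h⁻¹ (by simp only [conj_pow]; simp [mul_assoc])) (by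
      rintro ⟨_, i⟩ ⟨⟨h, -, rfl⟩, hi⟩ ⟨_, j⟩ ⟨⟨k, -, rfl⟩, hj⟩ e
      have b1 : k⁻¹ * h * x ^ i * (k⁻¹ * h)⁻¹ = x ^ j := by
        simp only [conj_pow] at e
        rw [show k⁻¹ * h * x ^ i * (k⁻¹ * h)⁻¹ = k⁻¹ * (h * x ^ i * h⁻¹) * k by group, e]; group
      have b2 := B.conj_P h2 (pow_mem (mem_zpowers x) i) (x1 i hi) (b1 ▸ pow_mem (mem_zpowers x) j)
      rw [mem_C1.1 (C1_pow x i b2), mul_inv_cancel_right] at b1
      refine Prod.ext ?_ (pow_injOn_Iio_orderOf (B.xp ▸ hi.2) (B.xp ▸ hj.2) b1)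
      calc h * x * h⁻¹ = k * (k⁻¹ * h * x) * h⁻¹ := by group
        _ = k * x * k⁻¹ := by rw [mem_C1.1 b2]; group)
    rwa [Set.ncard_prod, Set.ncard_Ioo_nat, Set.ncard_sdiff (TR.trans RR), show (R1 : Set G).ncard = _ from
      c1, show (T : Set G).ncard = _ from Tp, Rp] at this
  have MN : N[R1] ≤ N[R] := by
    have b1 : ¬ p ∣ N[R].relIndex N[R1] := fun h =>
      Syl.not_dvd (h1.sub (normG _) le_top) hp (h.trans (relIndex_dvd_left n1 _))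
    have b2 := Set.ncard_inter_add_ncard_sdiff_eq_ncard X R
    have b3 := relIndex_pos N[R] N[R1]
    rw [← relIndex_eq_one]
    rw [cX] at c4 b2
    rw [c2] at b2
    rw [Tp] at cT
    obtain ⟨n, hn⟩ := Nat.exists_eq_add_of_lt b3
    rw [hn, zero_add] at b1 b2 c4 ⊢
    rw [show (X \ R).ncard = n * p by nlinarith] at c3
    generalize #𝓨 = y at *
    obtain ⟨j, rfl⟩ := (cT ▸ Nat.coprime_self_add_right.2 (Nat.coprime_one_right y) :
      y.Coprime p).dvd_of_dvd_mul_right c3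
    have b4 := B.odd
    subst cT
    rcases j with _ | _ | j
    · simp
    · simp at b1
    · exfalso
      have b5 : 2 ≤ y := by have := hp.two_le; obtain ⟨i, hi⟩ := b4; omega
      have b6 := Nat.add_le_of_le_sub (by nlinarith) c4
      rw [Nat.add_sub_cancel] at b6
      have : 0 ≤ (y + 1) * y * j * y := Nat.zero_le _
      nlinarith [Nat.mul_le_mul_left ((y + 1) * y) b5]
  have : Fact p.Prime := ⟨hp⟩
  refine s1241 (p := p) R1 T (TR.trans RR) (normal_subgroupOf (n1.trans NT))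
    (fun y hy z hz => d1 (comm_mem hy hz)) ((hp.coprime_iff_not_dvd).2 (relIndex_top_right R1 ▸ h1.not_dvd hp))
    x (RR xR) (fun h => B.x1 (PT.le ⟨mem_zpowers x, h⟩)) ⟨1, by rw [B.xp, pow_one]⟩ (fun m b hb => ?_)
    ((QuotientGroup.eq_one_iff x).1 (DFunLike.congr_fun (hom_eq_one_of_simple h2 Abelianization.of) x))
  by_cases e : x ^ m = 1
  · simp [e, T.one_mem]
  obtain ⟨i, hi⟩ := (eq_zpowers_of_prime B.pP (zpow_mem (mem_zpowers x) m) e).ge (mem_zpowers x)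
  obtain ⟨τ, hτ, e'⟩ := Nx b (MN (key b (by rw [← hi, ← conj_zpow]; exact zpow_mem hb i)).2)
  rw [← conj_zpow, ← e', mem_C_comm ab xR hτ.1, Commute.mul_zpow (mem_C_comm ab hτ.1 xR),
    mul_inv_cancel_right]
  exact zpow_mem hτ m

end B1

theorem R1.isTT (S : R1 G Ω a t Q) (h2 : Four G) : TT t Q (St2 G a (t • a)) :=
  tt_ind (fun {G Ω _ _ _ _ a t Q} S h2 ih => by
    by_cases hs : IsSimpleGroup G
    swap
    · exact S.step_nonsimple h2 ih hs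
    by_cases hK : S.K h2 = St2 G a (t • a)
    · exact S.step_zass h2 hK
    by_cases hC : ∀ x ∈ V1 G a t, (orderOf x).Prime → Four C1[x]
    · exact S.step_C1 h2 ih hK hC
    obtain ⟨x, hx, hp, n4⟩ : ∃ x ∈ V1 G a t, (orderOf x).Prime ∧ ¬ Four C1[x] := by
      by_contra h; exact hC fun x hx hp => by_contra fun n => h ⟨x, hx, hp, n⟩
    obtain ⟨s, hs, r, hr, e⟩ := S.struct'
    have B : B1 S x _ s r := ⟨hx, hp, rfl, n4, hs, hr, e⟩
    obtain ⟨R, h1, h3, h4⟩ := B.exists_R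
    exact B.caseB h2 h1 h3 h4 ih (by_contra (B.caseA h2 h1 h3 h4))) _ rfl S h2

end Cfsg.Agent.Inv
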