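import Cfsg.Agent.Inv.R1i

/-! The rank one set-up: Bruhat closure, the subgroup generated by the involutions fixing a block,
and the Zassenhaus cases. -/

set_option autoImplicit false
set_option linter.unusedVariables false
set_option linter.unusedSectionVars false

namespace Cfsg.Agent.Inv

open Subgroup MulAction Cfsg.Agent.BG
open scoped Pointwise commutatorElement MatrixGroups

variable {G Ω : Type*} [Group G] [MulAction G Ω]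

theorem bruhat_sub {U E : Subgroup G} {t : G} (tt : t * t = 1) (nU : E ≤ N[U]) (tE : t ∈ N[E])
    (h : ∀ u ∈ U, u ≠ 1 → ∃ g ∈ U, ∃ e ∈ E, ∃ f ∈ U, t * u * t = g * e * t * f) {g : G}
    (hg : g ∈ U ⊔ E ⊔ zpowers t) :
    (∃ u ∈ U, ∃ e ∈ E, g = u * e) ∨ ∃ u ∈ U, ∃ e ∈ E, ∃ v ∈ U, g = u * e * t * v := by
  let Λ : Set G := {g | (∃ u ∈ U, ∃ e ∈ E, g = u * e) ∨ ∃ u ∈ U, ∃ e ∈ E, ∃ v ∈ U, g = u * e * t * v}
  have ti : t⁻¹ = t := inv_eq_of_mul_eq_one_left tt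
  let T : Subgroup G :=
    { carrier := {g | (∀ x ∈ Λ, x * g ∈ Λ) ∧ ∀ x ∈ Λ, x * g⁻¹ ∈ Λ}
      one_mem' := by simp
      mul_mem' := fun {a b} ha hb => ⟨fun x hx => mul_assoc x a b ▸ hb.1 _ (ha.1 x hx), fun x hx => by
        rw [mul_inv_rev, ← mul_assoc]; exact ha.2 _ (hb.2 x hx)⟩
      inv_mem' := fun {a} ha => ⟨ha.2, by simpa using ha.1⟩ }
  have hU : ∀ y ∈ U, ∀ x ∈ Λ, x * y ∈ Λ := by
    rintro y hy _ (⟨u, hu, e, he, rfl⟩ | ⟨u, hu, e, he, v, hv, rfl⟩)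
    · exact Or.inl ⟨_, mul_mem hu (conj_mem (nU he) hy), e, he, by group⟩
    · exact Or.inr ⟨u, hu, e, he, _, mul_mem hv hy, by group⟩
  have hE : ∀ y ∈ E, ∀ x ∈ Λ, x * y ∈ Λ := by
    rintro y hy _ (⟨u, hu, e, he, rfl⟩ | ⟨u, hu, e, he, v, hv, rfl⟩)
    · exact Or.inl ⟨u, hu, _, mul_mem he hy, by group⟩
    · exact Or.inr ⟨u, hu, _, mul_mem he (conj_mem tE hy), _, conj_mem' (nU hy) hv, by group⟩
  have ht : ∀ x ∈ Λ, x * t ∈ Λ := by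
    rintro _ (⟨u, hu, e, he, rfl⟩ | ⟨u, hu, e, he, v, hv, rfl⟩)
    · exact Or.inr ⟨u, hu, e, he, 1, one_mem _, by group⟩
    by_cases v1 : v = 1
    · exact Or.inl ⟨u, hu, e, he, by rw [v1, mul_one, mul_assoc, tt, mul_one]⟩
    obtain ⟨g, hg, e', he', f, hf, e1⟩ := h v hv v1
    refine Or.inr ⟨_, mul_mem hu (conj_mem (nU he) hg), _, mul_mem he he', f, hf, ?_⟩
    rw [show u * e * t * v * t = u * e * (t * v * t) by group, e1]; group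
  have : g ∈ T := sup_le (sup_le (fun y hy => ⟨hU y hy, hU _ (inv_mem hy)⟩)
    fun y hy => ⟨hE y hy, hE _ (inv_mem hy)⟩) (zpowers_le.2 (show t ∈ T from ⟨ht, ti.symm ▸ ht⟩)) hg
  exact one_mul g ▸ this.1 1 (Or.inl ⟨1, one_mem _, 1, one_mem _, by simp⟩)

variable [Finite G]

theorem card_dvd_of_free_act {Y : Subgroup G} {X : Set Ω} (hX : X.Finite)
    (h1 : ∀ u ∈ Y, ∀ c ∈ X, u • c ∈ X) (h2 : ∀ u ∈ Y, ∀ c ∈ X, u • c = c → u = 1) : #Y ∣ X.ncard := by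
  classical
  have := Fintype.ofFinite Y
  have := dvd_sum_of_free (Γ := Y) (fun _ : Ω => 1) (fun _ _ => rfl) hX.toFinset
    (fun u z hz => (Set.Finite.mem_toFinset _).2 (h1 u u.2 z (by simpa using hz)))
    fun z hz u e => Subtype.ext (h2 u u.2 z (by simpa using hz) e)
  rwa [Finset.sum_const, smul_eq_mul, mul_one, ← Set.ncard_eq_toFinset_card _ hX] at this

namespace R1

variable {a : Ω} {t : G} {Q : Subgroup G} (S : R1 G Ω a t Q) (h2 : Four G)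
include S h2

local notation "𝓗" => stabilizer G a
local notation "𝓓" => St2 G a (t • a)
local notation "𝓥" => V1 G a t

theorem VK {k : G} (h1 : k ∈ 𝓥) (h3 : k ∈ S.K h2) : k = 1 :=
  sq_inj_of_odd (S.oddD h1.1) (by simp) (by
    nth_rw 1 [← mem_cent_iff_conj.1 h1.2]; rw [h3.2]; simp)

theorem mem_K_of {d : G} (hd : d ∈ 𝓓) (h : d * (t * d * t⁻¹) ∈ S.K h2) : d ∈ S.K h2 := by
  obtain ⟨c, c1, k, k1, c2, rfl⟩ := S.decomp h2 hd
  have cV : c ∈ 𝓥 := ⟨c1, mem_cent_iff_conj.2 c2⟩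
  rw [← conj_mul, c2, k1.2, show c * k * (c * k⁻¹) = c * c * (c⁻¹ * k * c⁻¹⁻¹ * k⁻¹) by group,
    mul_mem_cancel_right (mul_mem (S.conj_K h2 (inv_mem c1) k1) (inv_mem k1))] at h
  rwa [sq_inj_of_odd (S.oddD c1) (y := 1) (by simp) (by simpa using S.VK h2 (mul_mem cV cV) h), one_mul]

theorem tK : t ∈ N[S.K h2] := mem_N_of fun k hk => hk.2 ▸ inv_mem hk

theorem K_t {k : G} (hk : k ∈ S.K h2) : k * t * k = t := by
  rw [eq_mul_of_mul_inv_eq hk.2 |> (mul_assoc k t k).trans ∘ congrArg (k * ·), mul_inv_cancel_left]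

theorem normK' : 𝓓 ≤ N[S.K h2] := le_N_iff.2 fun d hd k hk => S.conj_K h2 hd hk

theorem gen [IsSimpleGroup G] {E : Subgroup G} (KE : S.K h2 ≤ E) (nE : 𝓓 ≤ N[E]) :
    Q ⊔ E ⊔ zpowers t = ⊤ := by
  have nQ : 𝓓 ≤ N[Q] := inf_le_left.trans S.norm
  have a1 : 𝓓 ≤ N[Q ⊔ E ⊔ zpowers t] := le_N_iff.2 fun d hd => by
    refine fun g hg => (show Q ⊔ E ⊔ zpowers t ≤ cj d⁻¹ _ from sup_le (sup_le (fun u hu => ?_)
      fun u hu => ?_) (zpowers_le.2 ?_)) hg |> mem_cj_inv.1 <;> rw [mem_cj_inv]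
    · exact mem_sup_left (mem_sup_left (conj_mem (nQ hd) hu))
    · exact mem_sup_left (mem_sup_right (conj_mem (nE hd) hu))
    · rw [show d * t * d⁻¹ = d * (t * d⁻¹ * t⁻¹) * t by group]
      refine mul_mem (mem_sup_left (mem_sup_right (KE ⟨mul_mem hd (S.conjD (inv_mem hd)), ?_⟩)))
        (mem_sup_right (mem_zpowers t))
      rw [S.tinv, ← mul_assoc t, mul_inv_rev, mul_inv_rev, mul_inv_rev, S.tinv, mul_assoc _ _ t,
        mul_assoc _ t t, S.mul_self]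
      group
  have a2 : 𝓗 ≤ N[Q ⊔ E ⊔ zpowers t] := S.sup_eq ▸ sup_le (normsG (le_sup_left.trans le_sup_left)) a1
  refine ((BG.normal_iff.2 fun g _ => ?_).eq_bot_or_eq_top).resolve_left fun h =>
    S.ne_one (h.le (mem_sup_right (mem_zpowers t)))
  by_cases hg : g • a = a
  · exact a2 hg
  obtain ⟨x, hx, y, hy, rfl⟩ := S.bruhat hg
  exact mul_mem (mul_mem (a2 hx) (normG _ (mem_sup_right (mem_zpowers t)))) (a2 (S.le hy))

theorem eq_D [IsSimpleGroup G] {E : Subgroup G} (KE : S.K h2 ≤ E) (ED : E ≤ 𝓓) (nE : 𝓓 ≤ N[E])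
    (tE : t ∈ N[E]) (h : ∀ u ∈ Q, u ≠ 1 → ∃ g ∈ Q, ∃ e ∈ E, ∃ f ∈ Q, t * u * t = g * e * t * f) :
    E = 𝓓 := le_antisymm ED fun d hd => by
  rcases bruhat_sub S.mul_self ((ED.trans inf_le_left).trans S.norm) tE h
    ((S.gen h2 KE nE).ge (mem_top d)) with ⟨u, hu, e, he, rfl⟩ | ⟨u, hu, e, he, v, hv, rfl⟩
  · rwa [S.eq_one hu ((mul_mem_cancel_right (ED he)).1 hd), one_mul]
  · exact absurd (show (u * e * t * v) • a = a from hd.1) (by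
      rw [mul_smul, S.fix hv, mul_smul]; exact S.smul_ne (mul_mem (S.le hu) (ED he).1) S.ne)

theorem h_conj {U : Subgroup G} (nU : S.K h2 ≤ N[U]) {u k : G} (hk : k ∈ S.K h2)
    (h : ∃ g ∈ U, ∃ e ∈ S.K h2, ∃ f ∈ U, t * u * t = g * e * t * f) :
    ∃ g ∈ U, ∃ e ∈ S.K h2, ∃ f ∈ U, t * (k * u * k⁻¹) * t = g * e * t * f := by
  obtain ⟨g, hg, e, he, f, hf, e1⟩ := h
  refine ⟨_, conj_mem' (nU hk) hg, _, mul_mem (mul_mem (inv_mem hk) he) (inv_mem hk), _,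
    conj_mem' (nU hk) hf, ?_⟩
  rw [S.tconj, e1, hk.2]
  nth_rw 1 [← S.K_t h2 (inv_mem hk)]
  group

theorem h_Q0 {U : Subgroup G} (nU : S.K h2 ≤ N[U]) {s r : G} (hs : s ∈ Q) (hr : r ∈ U)
    (e : t * s * t = r⁻¹ * t * r) {z : G} (hz : z ∈ S.Q0 h2) (z1 : z ≠ 1) :
    ∃ g ∈ U, ∃ e ∈ S.K h2, ∃ f ∈ U, t * z * t = g * e * t * f := by
  obtain ⟨k, k1, k2, rfl⟩ := S.K_trans (S.ord_s e) (S.fix hs) (ord2_iff.2 ⟨hz.2, z1⟩) hz.1
  exact S.h_conj h2 nU ⟨k1, k2⟩ ⟨_, inv_mem hr, 1, one_mem _, r, hr, by rw [e, mul_one]⟩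

/-- the block through `a` and `t • a` -/
def Δ : Set Ω := insert a (orbit (S.Q0 h2) (t • a))

theorem mem_Δ {c : Ω} : c ∈ S.Δ h2 ↔ c = a ∨ ∃ z ∈ S.Q0 h2, z • t • a = c :=
  or_congr_right ⟨fun ⟨z, e⟩ => ⟨z, z.2, e⟩, fun ⟨z, h, e⟩ => ⟨⟨z, h⟩, e⟩⟩

theorem smul_mem_Δ {u : G} (hu : u ∈ Q) : u • t • a ∈ S.Δ h2 ↔ u ∈ S.Q0 h2 :=
  ⟨fun h => ((S.mem_Δ h2).1 h).elim (fun e => (S.smul_ne (S.fix hu) S.ne e).elim) fun ⟨z, hz, e⟩ =>
    S.inj (S.Q0_le h2 hz) hu S.ne e ▸ hz, fun h => (S.mem_Δ h2).2 (Or.inr ⟨u, h, rfl⟩)⟩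

variable {s : G} (hs : s ∈ Q) (e : t * s * t = s⁻¹ * t * s)
include hs e

theorem Δ_stab : S.Q0 h2 ⊔ 𝓓 ⊔ zpowers t ≤ stabilizer G (S.Δ h2) ∧
    (S.Δ h2).ncard = #(S.Q0 h2) + 1 := by
  obtain ⟨M, h1, h3, h4, h5, h6⟩ := S.delta h2 (S.ord_s e) (S.fix hs)
    ⟨S.fix hs, (ord2_iff.1 (S.ord_s e)).1⟩ e
  rw [Δ, ← h5]
  exact ⟨(sup_le (sup_le h1 h3) (zpowers_le.2 h4)).trans fun g hg => smul_orbit (⟨g, hg⟩ : M) a, h6⟩

theorem smul_Δ {g : G} (hg : g ∈ S.Q0 h2 ⊔ 𝓓 ⊔ zpowers t) {c : Ω} : g • c ∈ S.Δ h2 ↔ c ∈ S.Δ h2 := by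
  nth_rw 1 [← mem_stabilizer_iff.1 ((S.Δ_stab h2 hs e).1 hg)]
  exact Set.smul_mem_smul_set_iff

theorem semireg {g : G} (hg : g ∈ S.Q0 h2 ⊔ S.K h2 ⊔ zpowers t) {c : Ω} (hc : c ∉ S.Δ h2)
    (h : g • c = c) : g = 1 := by
  have := S.finite
  have s2 := ord2_iff.1 (S.ord_s e)
  have s0 : s ∈ S.Q0 h2 := ⟨S.fix hs, s2.1⟩
  have nK : S.K h2 ≤ N[S.Q0 h2] := ((S.K_le h2).trans inf_le_left).trans (S.Q0_norm h2)
  have fK : ∀ k ∈ S.K h2, k ≠ 1 → ∀ c : Ω, k • c = c → c = a ∨ c = t • a := fun k hk k1 c h =>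
    (em _).imp id fun n => by
      obtain ⟨u, hu, rfl⟩ := S.trans0 n
      rw [(S.fpf hk.1 hk.2 k1).le ⟨hu, mem_C1'.2 ((S.fix_iff hk.1 hu).1 h)⟩, one_smul]
  have na : ∀ c, c ∉ S.Δ h2 → c ≠ a := fun c h e => h (Or.inl e)
  have mQ : ∀ z ∈ S.Q0 h2, z ∈ S.Q0 h2 ⊔ 𝓓 ⊔ zpowers t := fun z hz => mem_sup_left (mem_sup_left hz)
  have mK : ∀ z ∈ S.K h2, z ∈ S.Q0 h2 ⊔ 𝓓 ⊔ zpowers t := fun z hz => mem_sup_left (mem_sup_right hz.1)
  have bΔ : t • a ∈ S.Δ h2 := Or.inr (mem_orbit_self _)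
  rcases bruhat_sub S.mul_self nK (S.tK h2) (fun z => S.h_Q0 h2 nK hs s0 e) hg with
    ⟨z, hz, k, hk, rfl⟩ | ⟨z, hz, k, hk, z', hz', rfl⟩
  · by_cases k1 : k = 1
    · rw [k1, mul_one] at h ⊢; exact S.free (S.Q0_le h2 hz) (na c hc) h
    obtain ⟨y, hy, e1⟩ := Char.exists_conj_of_centralizer_trivial (S.Q0 h2) (fun u => conj_mem (nK hk))
      (fun u hu e => (S.fpf hk.1 hk.2 k1).le ⟨S.Q0_le h2 hu, mem_C1.2 e⟩) hz
    rw [← e1, conj_smul_fix] at h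
    refine (hc ((S.smul_Δ h2 hs e (mQ _ (inv_mem hy))).1 ?_)).elim
    rcases fK k hk k1 _ h with h | h <;> rw [h]
    exacts [Or.inl rfl, bΔ]
  exfalso
  have hc' := mt (S.smul_Δ h2 hs e (mQ _ hz')).1 hc
  have h' : (z' * z * (k * t)) • z' • c = z' • c := by
    nth_rw 2 [← h]; simp only [mul_smul]
  have i0 := mul_mem hz' hz
  generalize z' • c = c' at hc' h'
  generalize z' * z = i at h' i0
  have kt : k * t * (k * t) = 1 := by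
    rw [show k * t * (k * t) = k * (t * k * t⁻¹) by rw [S.tinv]; group, hk.2, mul_inv_cancel]
  have mv : (i * (k * t)) • a ≠ a := by
    rw [mul_smul, mul_smul]; exact S.smul_ne i0.1 (S.smul_ne hk.1.1 S.ne)
  by_cases i1 : i = 1
  · rw [i1, one_mul] at h' mv
    obtain ⟨m, hm⟩ := exists_sqrt_of_odd (S.oddD hk.1)
    have m1 := pow_mem hk m
    generalize k ^ m = y at hm m1
    have e1 : k * t = y * t * y⁻¹ := by
      rw [← hm, ← m1.2, S.tinv, mul_assoc, mul_assoc, ← mul_assoc t, ← mul_assoc t, S.mul_self, one_mul]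
    have e2 : t • s • t • a = s • t • a := by
      rw [← mul_smul, ← mul_smul, e, mul_smul, mul_smul, S.fix hs, inv_eq_of_mul_eq_one_left s2.1]
    rw [S.inv_fix (c := c') (d := y • s • t • a) (ord2_iff.2 ⟨kt, fun e => mv (by rw [e, one_smul])⟩) h'
      (by rw [e1, conj_smul_fix, inv_smul_smul, e2])] at hc'
    exact hc' ((S.smul_Δ h2 hs e (mK _ m1)).2 ((S.smul_Δ h2 hs e (mQ _ s0)).2 bΔ))
  have ii : i⁻¹ = i := inv_eq_of_mul_eq_one_left i0.2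
  have inv : i * (i * (k * t)) * i = (i * (k * t))⁻¹ := by
    rw [← mul_assoc, i0.2, one_mul, mul_inv_rev, ii, inv_eq_of_mul_eq_one_left kt]
  have gM : i * (k * t) ∈ S.Q0 h2 ⊔ 𝓓 ⊔ zpowers t :=
    mul_mem (mQ _ i0) (mul_mem (mK _ hk) (mem_sup_right (mem_zpowers t)))
  generalize i * (k * t) = g at h' mv inv gM
  have h'' : g • i • c' = i • c' := by
    rw [← mul_smul, show g * i = i * g⁻¹ by rw [← inv, ← mul_assoc, ← mul_assoc, i0.2, one_mul],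
      mul_smul, smul_eq_iff_inv.1 h']
  obtain ⟨y, y1, y2⟩ := S.tr2 (fun e => i1 (S.free (S.Q0_le h2 i0) (na c' hc') e.symm)) S.ne.symm
  have d1 : y * g * y⁻¹ ∈ 𝓓 := ⟨conj_smul_fix.2 (by rwa [smul_eq_iff_inv.1 y1]),
    conj_smul_fix.2 (by rwa [smul_eq_iff_inv.1 y2])⟩
  have w1 := S.swap_inv (w := y * i * y⁻¹) (by rw [conj_mul, i0.2]; simp)
    (by rw [mul_smul, smul_eq_iff_inv.1 y1, mul_smul, y2])
  have d2 : y * g * y⁻¹ ∈ S.K h2 := S.mem_K_of h2 d1 (by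
    have e1 : t * (y * g * y⁻¹) * t⁻¹ = t * (y * i * y⁻¹) * (y * g * y⁻¹)⁻¹ * (t * (y * i * y⁻¹))⁻¹ := by
      rw [conj_inv, ← inv]
      calc _ = t * (y * (i * i) * g * (i * i⁻¹) * y⁻¹) * t⁻¹ := by rw [i0.2]; group
        _ = _ := by group
    rw [e1, ← mul_assoc, ← mul_assoc]
    exact mul_mem (S.conj_K h2 d1 w1) (inv_mem w1))
  have o1 := card_dvd_of_free_act (Y := zpowers g) (Set.toFinite (S.Δ h2))
    (fun u hu c => (S.smul_Δ h2 hs e (zpowers_le.2 gM hu)).2) (by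
      rintro _ ⟨n, rfl⟩ c hc h
      by_contra n1
      rcases fK _ (zpow_mem d2 n) (by rwa [conj_zpow, Ne, conj_eq_one_iff]) (y • c) (by
        rw [conj_zpow, conj_smul_fix, inv_smul_smul]; exact h) with h | h
      · exact hc' (smul_left_cancel y (h.trans y1.symm) ▸ hc)
      · exact hc' ((S.smul_Δ h2 hs e (mQ _ i0)).1 (smul_left_cancel y (h.trans y2.symm) ▸ hc)))
  have o2 := orderOf_dvd d2
  have o3 := S.oddD d2.1
  rw [orderOf_conj'] at o2 o3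
  rw [Nat.card_zpowers, (S.Δ_stab h2 hs e).2, ← S.card_K' h2, add_assoc, Nat.dvd_add_right o2] at o1
  rw [orderOf_eq_one_iff.1 (Nat.Coprime.eq_one_of_dvd (Nat.coprime_two_right.2 o3) o1)] at mv
  exact mv (one_smul _ _)

theorem card_L0 : #(S.Q0 h2 ⊔ S.K h2 ⊔ zpowers t) = #(S.Q0 h2) * #(S.K h2) * (#(S.Q0 h2) + 1) := by
  have s0 : s ∈ S.Q0 h2 := ⟨S.fix hs, (ord2_iff.1 (S.ord_s e)).1⟩
  have nK : S.K h2 ≤ N[S.Q0 h2] := ((S.K_le h2).trans inf_le_left).trans (S.Q0_norm h2)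
  rw [← card_inf_mul_relIndex 𝓗, relIndex_stab, ← (S.Δ_stab h2 hs e).2,
    (sdprod_sup (H := S.K h2) (eq_bot_iff.2 fun z hz => S.eq_one (S.Q0_le h2 hz.1) hz.2.1) nK).card]
  refine congrArg₂ (· * ·) (congrArg (fun X : Subgroup G => #X) ?_) (congrArg Set.ncard ?_)
  · refine le_antisymm (fun g hg => ?_) (le_inf (sup_le ((S.Q0_le h2).trans S.le)
      ((S.K_le h2).trans inf_le_left)) le_sup_left)
    rcases bruhat_sub S.mul_self nK (S.tK h2) (fun z => S.h_Q0 h2 nK hs s0 e) hg.2 with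
      ⟨z, hz, k, hk, rfl⟩ | ⟨z, hz, k, hk, z', hz', rfl⟩
    · exact mul_mem_sup hz hk
    · exact absurd (show (z * k * t * z') • a = a from hg.1) (by
        rw [mul_smul, hz'.1, mul_smul]; exact S.smul_ne (mul_mem (S.le (S.Q0_le h2 hz)) hk.1.1) S.ne)
  · refine subset_antisymm ?_ fun c hc => ?_
    · rintro _ ⟨g, rfl⟩
      exact (S.smul_Δ h2 hs e (sup_le_sup_right (sup_le_sup_left (S.K_le h2) _) _ g.2)).2 (Or.inl rfl)
    · rcases (S.mem_Δ h2).1 hc with rfl | ⟨z, hz, rfl⟩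
      · exact mem_orbit_self _
      · exact ⟨⟨z * t, mul_mem_sup (mem_sup_left hz) (mem_zpowers t)⟩, mul_smul _ _ _⟩

theorem ncard_compl : (S.Δ h2)ᶜ.ncard + #(S.Q0 h2) = #Q := by
  have := S.finite
  have h := Set.ncard_add_ncard_compl (S.Δ h2)
  rw [(S.Δ_stab h2 hs e).2, S.card_Ω] at h
  omega

theorem L0_dvd : #(S.Q0 h2) * #(S.K h2) * (#(S.Q0 h2) + 1) ∣ (S.Δ h2)ᶜ.ncard := by
  have := S.finite
  rw [← S.card_L0 h2 hs e]
  exact card_dvd_of_free_act (Set.toFinite _) (fun u hu c hc => mt (S.smul_Δ h2 hs e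
    (sup_le_sup_right (sup_le_sup_left (S.K_le h2) _) _ hu)).1 hc) fun u hu c => S.semireg h2 hs e hu

omit hs e

theorem K_eq_a [IsSimpleGroup G] (h : ∀ u ∈ Q, u * u = 1) : S.K h2 = 𝓓 := by
  obtain ⟨s, hs, r, hr, e⟩ := S.struct'
  exact S.eq_D h2 le_rfl (S.K_le h2) (S.normK' h2) (S.tK h2) fun u hu =>
    S.h_Q0 h2 (S.normK h2) hs hr e ⟨S.fix hu, h u hu⟩

theorem r_notMem (hc : #Q = #(S.Q0 h2) ^ 2) {s r : G} (hs : s ∈ Q) (hr : r ∈ Q)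
    (e : t * s * t = r⁻¹ * t * r) : r * r ≠ 1 := fun h => by
  obtain rfl := S.eq_of_sq hs hr e h
  have h1 := S.L0_dvd h2 hs e
  have h3 := S.ncard_compl h2 hs e
  have h4 := S.four_le h2
  rw [hc, ← S.card_K' h2] at *
  generalize #(S.K h2) = m at *
  have := Nat.le_of_dvd (by nlinarith) h1
  nlinarith

theorem K_eq_b [IsSimpleGroup G] (hQ : IsPGroup 2 Q) (hn : ¬ IsMulCommutative Q)
    (hc : #Q = #(S.Q0 h2) ^ 2) : S.K h2 = 𝓓 := by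
  obtain ⟨s, hs, r, hr, e⟩ := S.struct'
  have r1 := S.r_notMem h2 hc hs hr e
  have sq := fun x => S.suz_sq h2 hQ hn (x := x)
  have s2 := ord2_iff.1 (S.ord_s e)
  have nK := S.normK h2
  have tt := S.mul_self
  have e1 : t * r * t = r * t * s := by
    calc _ = r * (r⁻¹ * t * r) * t := by group
      _ = r * t * s * (t * t) := by rw [← e]; group
      _ = _ := by rw [tt, mul_one]
  refine S.eq_D h2 le_rfl (S.K_le h2) (S.normK' h2) (S.tK h2) fun u hu u1 => ?_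
  by_cases u2 : u * u = 1
  · exact S.h_Q0 h2 nK hs hr e ⟨S.fix hu, u2⟩ u1
  have r2 : orderOf (r * r) = 2 := ord2_iff.2 ⟨(sq r hr).2, r1⟩
  obtain ⟨k, k1, k2, k3⟩ := S.K_trans r2 (sq r hr).1 (ord2_iff.2 ⟨(sq u hu).2, u2⟩) (sq u hu).1
  have a1 := S.roots h2 le_rfl (S.Q0_le h2) (fun k hk u => S.conjQ hk.1.1) sq r2 (sq r hr).1
  have a2 : (fun z => z * r) '' S.Q0 h2 = {y ∈ Q | y * y = r * r} := Set.eq_of_subset_of_ncard_le (by
    rintro _ ⟨z, hz, rfl⟩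
    exact ⟨mul_mem (S.Q0_le h2 hz) hr, by
      rw [mul_assoc, ← mul_assoc r, ← S.Q0_cent h2 hz hr, ← mul_assoc, ← mul_assoc, hz.2, one_mul]⟩) (by
    rw [Set.ncard_image_of_injective _ (mul_left_injective r)]
    change _ ≤ #(S.Q0 h2)
    have := S.four_le h2
    rw [hc, ← S.card_K' h2] at *
    exact (Nat.eq_of_mul_eq_mul_left (by omega : 0 < #(S.K h2)) (by nlinarith)).le)
  obtain ⟨z, hz, e2⟩ := a2.ge (show k⁻¹ * u * k ∈ _ from ⟨S.conjQ' k1.1 hu, by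
    rw [show k⁻¹ * u * k * (k⁻¹ * u * k) = k⁻¹ * (u * u) * k by group, ← k3]; group⟩)
  rw [show u = k * (z * r) * k⁻¹ by rw [show z * r = _ from e2]; group]
  refine S.h_conj h2 nK ⟨k1, k2⟩ ?_
  by_cases z1 : z = 1
  · exact ⟨r, hr, 1, one_mem _, s, hs, by rw [z1, one_mul, mul_one, e1]⟩
  obtain ⟨c, c1, c2, c3⟩ := S.K_trans (S.ord_s e) (S.fix hs) (ord2_iff.2 ⟨hz.2, z1⟩) hz.1
  have v1 := mul_mem (S.Q0_le h2 hz) hr
  obtain ⟨x, hx, y, hy, e3⟩ := S.bruhat (g := t * (z * r) * t) (by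
    rw [mul_smul, mul_smul, Ne, smul_eq_iff_inv, S.tinv]
    exact fun h => r1 (by
      rw [eq_inv_of_mul_eq_one_right (S.free v1 S.ne h.symm), ← mul_inv_rev, hz.2, inv_one]))
  obtain ⟨g, hg, h, hh, rfl⟩ := S.exists_mul hx
  refine ⟨g, hg, h, S.mem_K_of h2 hh ?_, y, hy, e3⟩
  have e4 : t * (z * r) * t = r * c * (t * (z * r) * t)⁻¹ * r * c := by
    calc _ = t * r * t * (t * (c * s * c⁻¹) * t) := by
          rw [c3, S.Q0_cent h2 hz hr, show t * r * t * (t * z * t) = t * r * (t * t) * z * t by group, tt]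
          group
      _ = r * (t * c⁻¹ * t⁻¹) * t * (c * s * c⁻¹ * r⁻¹) * t * r * c := by
          rw [S.tconj, e1, e, c2]; group
      _ = _ := by
          rw [c3, ← conj_inv, c2, inv_inv, S.Q0_cent h2 hz (inv_mem hr), mul_inv_rev, mul_inv_rev, mul_inv_rev,
            S.tinv, inv_eq_of_mul_eq_one_left hz.2]
          group
  have e5 := (S.bruhat_unique3 hg hh hy (mul_mem hr (S.conjQ c1.1 (inv_mem hy)))
    (mul_mem (mul_mem c1 (S.conjD (inv_mem hh))) (inv_mem c1))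
    (S.conjQ' c1.1 (mul_mem (inv_mem hg) hr)) (by
      rw [← e3, e4, e3, mul_inv_rev, mul_inv_rev, S.tinv]
      nth_rw 4 [← S.K_t h2 (k := c) ⟨c1, c2⟩]
      rw [show y⁻¹ * (t * (g * h)⁻¹) = y⁻¹ * (t * h⁻¹ * (t * t) * g⁻¹) by rw [tt]; group]
      group)).1
  rw [show t * h * t⁻¹ = c⁻¹ * h⁻¹ * c by nth_rw 2 [e5]; group, ← mul_assoc, ← mul_assoc]
  exact mul_mem (S.conj_K h2 hh (inv_mem ⟨c1, c2⟩)) ⟨c1, c2⟩

theorem psl_a [FaithfulSMul G Ω] [IsSimpleGroup G] (h : ∀ u ∈ Q, u * u = 1) :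
    ∃ (F : Type) (_ : Field F) (_ : Fintype F), (∃ n : ℕ, 2 ≤ n ∧ Fintype.card F = 2 ^ n) ∧
      Nonempty (G ≃* PSL(2, F)) := by
  have := S.finite
  have hK := S.K_eq_a h2 h
  obtain ⟨hZ, e⟩ := S.zass h2 hK
  have e1 : S.Q0 h2 = Q := le_antisymm (S.Q0_le h2) fun u hu => ⟨S.fix hu, h u hu⟩
  obtain ⟨F, _, _, hF, ⟨f⟩⟩ := hZ.z0.pgl_of_invE S.ne.symm (hZ.z0.invE_simple S.ne.symm)
    (by rw [e, ← hK, S.card_K' h2, e1])
  obtain ⟨f'⟩ := psl_of_pgl (F := F) (by rw [hF, e]; exact S.even_card)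
  exact ⟨F, inferInstance, inferInstance, by rw [hF, e, ← e1]; exact S.card_Q0 h2, ⟨f.trans f'.symm⟩⟩

end R1

end Cfsg.Agent.Inv
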