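import Cfsg.Agent.Inv.U3e
import Cfsg.Agent.Blk.ZStar

/-! Suzuki's theorem for simple groups. -/

set_option autoImplicit false
set_option linter.unusedVariables false
set_option linter.unusedSectionVars false

namespace Cfsg.Agent.Inv

open Subgroup MulAction Cfsg.Agent.BG
open scoped Pointwise commutatorElement MatrixGroups

variable {G Ω : Type*} [Group G] [Finite G]

theorem exists_conj_comm [IsSimpleGroup G] (hG : ¬ IsCyclic G) {t : G} (ht : orderOf t = 2) :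
    ∃ g : G, g * t * g⁻¹ ≠ t ∧ t * (g * t * g⁻¹) = g * t * g⁻¹ * t := by
  have hna : ¬ ∀ a b : G, a * b = b * a := fun h => hG (by
    let _ : CommGroup G := { (inferInstance : Group G) with mul_comm := h }
    exact IsSimpleGroup.isCyclic)
  by_contra! h
  have hi : IsIsolatedInvolution t := ⟨ht, fun g hc => by_contra fun e => h g e hc⟩
  have h0 : pPrimeCore 2 G = ⊥ := (Normal.eq_bot_or_eq_top inferInstance).resolve_right
    fun e => Core.not_dvd_card_pPrimeCore (G := G) 2 (by rw [e, ← ht]; exact orderOf_dvd (mem_top t))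
  have hz : t ∈ center G := mem_center_iff.2 fun g => by
    have := Blk.zstar hi g
    rw [h0, mem_bot, mul_inv_eq_one, mul_inv_eq_iff_eq_mul] at this
    exact this.symm
  rcases (inferInstance : (center G).Normal).eq_bot_or_eq_top with e | e
  · rw [e, mem_bot] at hz; simp [hz] at ht
  · exact hna fun a b => mem_center_iff.1 (e ▸ mem_top b) a

theorem four_of_simple [IsSimpleGroup G] (hG : ¬ IsCyclic G) {t : G} (ht : orderOf t = 2) : Four G :=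
  have ⟨g, h1, h2⟩ := exists_conj_comm hG ht
  have h3 := ord2_iff.1 ((orderOf_conj' g t).trans ht)
  ⟨t, _, (ord2_iff.1 ht).2, h3.2, h1.symm, (ord2_iff.1 ht).1, h3.1, h2⟩

variable [MulAction G Ω]

theorem tr2_of_trans {a : Ω} (h1 : ∀ c, ∃ g : G, g • a = c)
    (h2 : ∀ c d, c ≠ a → d ≠ a → ∃ g : G, g • a = a ∧ g • c = d) {b c d e : Ω} (n1 : b ≠ c) (n2 : d ≠ e) :
    ∃ g : G, g • b = d ∧ g • c = e := by
  obtain ⟨x, rfl⟩ := h1 b
  obtain ⟨y, rfl⟩ := h1 d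
  obtain ⟨g, e1, e2⟩ := h2 (x⁻¹ • c) (y⁻¹ • e) (fun h => n1 (inv_smul_eq_iff.1 h).symm)
    fun h => n2 (inv_smul_eq_iff.1 h).symm
  exact ⟨y * g * x⁻¹, by simp [mul_smul, e1], by simp [mul_smul, e2]⟩

theorem exists_R1 {a b : Ω} (hab : b ≠ a) (h1 : ∀ c, ∃ g : G, g • a = c) {Q : Subgroup G}
    (h2 : Q ≤ stabilizer G a) (h3 : stabilizer G a ≤ N[Q]) (h4 : ∀ c, c ≠ a → ∃ u ∈ Q, u • b = c)
    (h5 : ∀ u ∈ Q, u • b = b → u = 1) (h6 : Even #(stabilizer G a)) (h7 : Odd #(St2 G a b)) :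
    ∃ t : G, t • a = b ∧ R1 G Ω a t Q := by
  have tr : ∀ {b c d e : Ω}, b ≠ c → d ≠ e → ∃ g : G, g • b = d ∧ g • c = e :=
    tr2_of_trans h1 fun c d hc hd => by
      obtain ⟨u, hu, rfl⟩ := h4 c hc
      obtain ⟨v, hv, rfl⟩ := h4 d hd
      exact ⟨v * u⁻¹, h2 (mul_mem hv (inv_mem hu)), by simp [mul_smul]⟩
  obtain ⟨g, g1, g2⟩ := tr hab.symm hab
  obtain ⟨m, m1, m2, m3⟩ := exists_swap_pow g1 g2 h7
  generalize g ^ m = t at m1 m2 m3
  subst m2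
  have i1 : Q ⊓ stabilizer G (t • a) = ⊥ := eq_bot_iff.2 fun u hu => h5 u hu.1 hu.2
  have i2 : Q ⊔ St2 G a (t • a) = stabilizer G a := le_antisymm (sup_le h2 inf_le_left) fun h hh => by
    obtain ⟨u, hu, e⟩ := h4 (h • t • a) fun e => hab (smul_left_cancel h (e.trans hh.symm))
    rw [show h = u * (u⁻¹ * h) by group]
    exact mul_mem_sup hu ⟨(stabilizer G a).mul_mem (inv_mem (h2 hu)) hh, mem_stabilizer_iff.2 (by
      rw [mul_smul, ← e, inv_smul_smul])⟩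
  refine ⟨t, rfl, mp_of_tr2 fun _ _ _ _ => tr, m1, fun e => hab (by rw [e, one_smul]), hab, h2,
    fun h hh x => conj_mem (h3 hh), i1, i2, ?_, h7⟩
  rw [← i2, ← (sdprod_sup (H := St2 G a (t • a)) (eq_bot_iff.2 fun u hu => h5 u hu.1 hu.2.2)
    (inf_le_left.trans h3)).card] at h6
  exact (Nat.even_mul.1 h6).resolve_right (Nat.not_even_iff_odd.2 h7)

theorem R1.simple_class {a : Ω} {t : G} {Q : Subgroup G} (S : R1 G Ω a t Q) (h2 : Four G)
    [FaithfulSMul G Ω] [IsSimpleGroup G] :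
    (∃ (F : Type) (_ : Field F) (_ : Fintype F), (∃ n : ℕ, 2 ≤ n ∧ Fintype.card F = 2 ^ n) ∧
      Nonempty (G ≃* PSL(2, F))) ∨
    (IsZassenhausGroup G Ω ∧ IsPGroup 2 (zk G a) ∧ ¬ IsMulCommutative (zk G a)) ∨
    ∃ (F : Type) (_ : Field F) (_ : Fintype F) (n : ℕ), 2 ≤ n ∧ Fintype.card F = (2 ^ n) ^ 2 ∧
      Nonempty (G ≃* Cfsg.PSU 3 F (2 ^ n)) := by
  obtain ⟨h1, h | ⟨h3, h | ⟨h, h4, h5⟩⟩⟩ := S.isTT h2
  · exact Or.inl (S.psl_a h2 h)
  · obtain ⟨Z, e⟩ := S.zass h2 (S.K_eq_b h2 h1 h3 (S.n2_eq h2 ▸ h))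
    exact Or.inr (Or.inl ⟨Z, e ▸ h1, e ▸ h3⟩)
  · exact Or.inr (Or.inr (S.psu_c h2 h1 h3 (S.n2_eq h2 ▸ h) h4 h5))

theorem faithful_quot [IsSimpleGroup G] {H : Subgroup G} (h : H ≠ ⊤) : FaithfulSMul G (G ⧸ H) :=
  ⟨fun e => (MonoidHom.ker_eq_bot_iff _).1
    ((normalCore_eq_ker H).symm.trans (H.normalCore_normal.eq_bot_or_eq_top.resolve_right
      fun e => h (eq_top_iff.2 (e.ge.trans H.normalCore_le)))) (Equiv.ext e)⟩

theorem not_cyclic_of_sub [IsSimpleGroup G] {H : Subgroup G} (h : H ≠ ⊤) (h' : H ≠ ⊥) : ¬ IsCyclic G :=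
  fun c => (Normal.eq_bot_or_eq_top (H := H) ⟨fun x hx g => by
    rwa [c.commGroup.mul_comm g x, mul_inv_cancel_right]⟩).elim h' h

theorem s1222 {G : Type*} [Group G] [Finite G] [IsSimpleGroup G] (H : Subgroup G) (hH : Cfsg.IsStronglyEmbedded H) (Q : Subgroup G) (hQH : Q ≤ H) (hQn : (Q.subgroupOf H).Normal) (htrans : ∀ g₁ g₂ : G, g₁ ∉ H → g₂ ∉ H → ∃ u ∈ Q, g₂⁻¹ * (u * g₁) ∈ H) (hreg : ∀ g : G, g ∉ H → ∀ u ∈ Q, g⁻¹ * (u * g) ∈ H → u = 1) : (∃ (F : Type) (_ : Field F) (_ : Fintype F), CharP F 2 ∧ 4 ≤ Fintype.card F ∧ Nonempty (G ≃* Matrix.ProjectiveSpecialLinearGroup (Fin 2) F)) ∨ Cfsg.IsSuzuki G ∨ (∃ (F : Type) (_ : Field F) (_ : Fintype F) (q : ℕ), Fintype.card F = q ^ 2 ∧ Even q ∧ 4 ≤ q ∧ Nonempty (G ≃* Cfsg.PSU 3 F q)) := by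
  have := faithful_quot hH.1
  obtain ⟨g, hg⟩ : ∃ g, g ∉ H := by_contra fun h => hH.1 (eq_top_iff.2 fun g _ => by_contra fun e => h ⟨g, e⟩)
  have st : stabilizer G ((1 : G) : G ⧸ H) = H := stabilizer_quotient H
  have ne : ∀ g : G, (g : G ⧸ H) ≠ (1 : G) ↔ g ∉ H := fun g => by simp [QuotientGroup.eq]
  obtain ⟨t, -, S⟩ := exists_R1 (Q := Q) ((ne g).2 hg) (fun c => QuotientGroup.induction_on c fun x => ⟨x, by simp⟩)
    (by rwa [st]) (by rw [st]; exact (normal_subgroupOf_iff_le_normalizer hQH).1 hQn)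
    (fun c => QuotientGroup.induction_on c fun x hx => (htrans g x hg ((ne x).1 hx)).imp fun u hu =>
      ⟨hu.1, (QuotientGroup.eq.2 hu.2).symm⟩)
    (fun u hu e => hreg g hg u hu (QuotientGroup.eq.1 e.symm)) (by rw [st]; exact hH.2.1) (by
      have : stabilizer G (g : G ⧸ H) = H.map (MulAut.conj g).toMonoidHom := by
        simpa [st] using stabilizer_smul_eq_stabilizer_map_conj g ((1 : G) : G ⧸ H)
      rw [St2, st, this]; exact hH.2.2 g hg)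
  have p4 : ∀ n, 2 ≤ n → 4 ≤ 2 ^ n := fun n h => Nat.pow_le_pow_right (n := 2) two_pos h
  rcases S.simple_class (four_of_simple (not_cyclic_of_sub hH.1 fun e => by
    simpa [e] using hH.2.1) S.ord) with ⟨F, _, _, ⟨n, h1, h2⟩, h3⟩ | ⟨h1, h2, h3⟩ | ⟨F, _, _, n, h1, h2, h3⟩
  · exact Or.inl ⟨F, inferInstance, inferInstance, charP_of_card_eq_prime_pow h2, h2 ▸ p4 n h1, h3⟩
  · exact Or.inr (Or.inl (zas_isSuzuki h1 h2 h3))
  · exact Or.inr (Or.inr ⟨F, inferInstance, inferInstance, _, h2, Nat.even_pow.2 ⟨even_two, by omega⟩,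
      p4 n h1, h3⟩)

end Cfsg.Agent.Inv
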