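import Cfsg.Agent.Inv.R1k

/-! Doubly transitive simple groups of odd degree whose point stabiliser has a nilpotent normal subgroup of odd
index transitive on the remaining points: basic facts and the elimination of the odd part. -/

set_option autoImplicit false
set_option linter.unusedVariables false
set_option linter.unusedSectionVars false

namespace Cfsg.Agent.Inv

open Subgroup MulAction Cfsg.Agent.BG
open scoped Pointwise commutatorElement MatrixGroups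

variable {G Ω : Type*} [Group G] [MulAction G Ω]

theorem refl_conj {x y : G} (hx : x * x = 1) (hy : y * y = 1) (k : ℤ) :
    ∃ g, (x * y) ^ k * x = g * x * g⁻¹ ∨ (x * y) ^ k * x = g * y * g⁻¹ := by
  obtain ⟨i, rfl | rfl⟩ := Int.even_or_odd' k
  · exact ⟨_, Or.inl (conj_by_zpow hx hy i).symm⟩
  · refine ⟨(x * y) ^ (i + 1), Or.inr ?_⟩
    rw [mul_assoc _ y, ← zpow_neg, mul_zpow_of_inverts (inverts_right hx hy), neg_neg, ← mul_assoc, ← zpow_add,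
      show i + 1 + (i + 1) = 2 * i + 1 + 1 by ring, zpow_add_one _ (2 * i + 1), mul_assoc, mul_assoc x, hy, mul_one]

/-- the set-up -/
structure SB (G : Type*) {Ω : Type*} [Group G] [MulAction G Ω] (U : Ω → Subgroup G) : Prop where
  cj : ∀ g x, cj g (U x) = U (g • x)
  le : ∀ x, U x ≤ stabilizer G x
  trans : ∀ {x y z}, y ≠ x → z ≠ x → ∃ u ∈ U x, u • y = z
  tr1 : ∀ x y : Ω, ∃ g : G, g • x = y
  nil : ∀ x, Nil (U x)
  two : ∀ x, ¬ 2 ∣ (U x).index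
  ncyc : ¬ IsCyclic G

namespace SB

variable [Finite G] [FaithfulSMul G Ω] [IsSimpleGroup G] {U : Ω → Subgroup G} (S : SB G U)
include S

set_option quotPrecheck false
local notation "𝓟" x:max => O[{2}](U x)
local notation "𝓡" x:max => O[{2}ᶜ](U x)

variable {a b c d x y : Ω} {g t w z e : G}

theorem cjO (π : Set ℕ) (g : G) (x : Ω) : BG.cj g O[π](U x) = O[π](U (g • x)) := by rw [cj_O, S.cj]

theorem conjO {π : Set ℕ} (g : G) (h : e ∈ O[π](U x)) : g * e * g⁻¹ ∈ O[π](U (g • x)) :=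
  S.cjO π g x ▸ mem_cj_conj.2 h

theorem normO' {π : Set ℕ} (h : g • x = x) : g ∈ N[O[π](U x)] := mem_N_iff_cj.2 (by rw [S.cjO, h])

theorem fixO {π : Set ℕ} (h : e ∈ O[π](U x)) : e • x = x := S.le x (O_le _ _ h)

theorem syl (x : Ω) : Syl 2 (𝓟 x) ⊤ := ((S.nil x).hall_O {2}).trans' le_top
  ((pin_compl Nat.prime_two).2 (by simpa using S.two x))

theorem memP (h : g • x = x) (h2 : PiE {2} g) : g ∈ 𝓟 x :=
  ((S.syl x).sub ((O_le _ _).trans (S.le x)) le_top).mem_of_normal (fun _ h => S.normO' h) h2 h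

theorem le_P {A : Subgroup G} (h : PiG {2} A) (x : Ω) : ∃ y, A ≤ 𝓟 y :=
  have ⟨g, _, h⟩ := (S.syl x).sub_cj Nat.prime_two le_top h; ⟨_, S.cjO _ g x ▸ h⟩

theorem decomp {u : G} (hu : u ∈ U x) : ∃ p ∈ 𝓟 x, ∃ r ∈ 𝓡 x, u = p * r := ((S.nil x).dprod_O {2}).prod.ex u hu

theorem semi (hz : z ∈ Z[𝓟 x]) (h : z • y = y) (hy : y ≠ x) : z = 1 := eq_of_smul_eq_smul (α := Ω) fun c => by
  rw [one_smul]
  by_cases hc : c = x
  · exact hc ▸ S.fixO hz.1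
  obtain ⟨u, hu, rfl⟩ := S.trans hy hc
  obtain ⟨p, hp, r, hr, rfl⟩ := S.decomp hu
  rw [← mul_smul, ← mul_assoc, ← hz.2 p hp, mul_assoc, ← O_cent_O {2} _ hz.1 r hr, ← mul_assoc, mul_smul, h]

end SB

/-- central involutions of the Sylow 2-subgroup fixing `x` -/
def ZI (U : Ω → Subgroup G) (x : Ω) (z : G) : Prop := z ∈ Z[O[{2}](U x)] ∧ orderOf z = 2

namespace SB

variable [Finite G] [FaithfulSMul G Ω] [IsSimpleGroup G] {U : Ω → Subgroup G} (S : SB G U)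
include S

set_option quotPrecheck false
local notation "𝓟" x:max => O[{2}](U x)
local notation "𝓡" x:max => O[{2}ᶜ](U x)

variable {a b c d x y : Ω} {g t w z e : G}

theorem conjZ (g : G) (h : z ∈ Z[𝓟 x]) : g * z * g⁻¹ ∈ Z[𝓟 (g • x)] := by
  rw [← S.cjO, ← cj_C, ← cj_inf]; exact mem_cj_conj.2 h

theorem zi_conj (g : G) (h : ZI U x z) : ZI U (g • x) (g * z * g⁻¹) := ⟨S.conjZ g h.1, (orderOf_conj' g z).trans h.2⟩

theorem zi_fix (h : ZI U x z) (e : z • y = y) : y = x := by_contra fun n => ne_one_of_ord2 h.2 (S.semi h.1 e n)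

theorem zi_self (h : ZI U x z) : z • x = x := S.fixO h.1.1

theorem zi_comm (h : ZI U x z) (e : g * z = z * g) : g • x = x :=
  S.zi_fix h (by rw [← mul_smul, ← e, mul_smul, S.zi_self h])

theorem zi_refl (h : ZI U x z) (h' : ZI U y w) (k : ℤ) : ∃ c, ZI U c ((z * w) ^ k * z) := by
  obtain ⟨g, e | e⟩ := refl_conj (sq_of_ord2 h.2) (sq_of_ord2 h'.2) k <;> rw [e]
  exacts [⟨_, S.zi_conj g h⟩, ⟨_, S.zi_conj g h'⟩]

theorem zi_half (h : ZI U x z) (h' : ZI U y w) (he : Even (orderOf (z * w))) :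
    (z * w) ^ (orderOf (z * w) / 2) ∈ Z[𝓟 x] := by
  obtain ⟨c, hc⟩ := S.zi_refl h h' (orderOf (z * w) / 2 : ℕ)
  rw [zpow_natCast] at hc
  obtain rfl : x = c := S.zi_fix hc (S.zi_comm h (by rw [mul_assoc, ← mul_assoc z, ← (s0209 z w h.2 h'.2 he).2.1.eq,
    mul_assoc]))
  simpa [mul_assoc, sq_of_ord2 h.2] using mul_mem hc.1 h.1

theorem zi_odd (h : ZI U x z) (h' : ZI U y w) (n : x ≠ y) : Odd (orderOf (z * w)) := by
  by_contra he
  rw [Nat.not_odd_iff_even] at he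
  have := s0209 z w h.2 h'.2 he
  exact ne_one_of_ord2 this.1 (S.semi (S.zi_half h h' he) (S.zi_comm h' this.2.2) n.symm)

theorem zi_odd' (h : ZI U x z) (h' : ZI U y w) (e : (z * w) • a = a) (n : a ≠ x) : Odd (orderOf (z * w)) := by
  by_cases hxy : x = y
  · subst hxy; simp [S.semi (mul_mem h.1 h'.1) e n]
  · exact S.zi_odd h h' hxy

theorem zi_swap (h : ZI U x z) (h' : ZI U y w) (n : x ≠ y) : ∃ v c, ZI U c v ∧ v * z * v⁻¹ = w ∧ v • x = y := by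
  obtain ⟨k, hk⟩ := exists_zpow_conj_of_odd (sq_of_ord2 h.2) (sq_of_ord2 h'.2) (S.zi_odd h h' n)
  obtain ⟨c, hc⟩ := S.zi_refl h h' k
  have e := (conj_by_zpow_mul (sq_of_ord2 h.2) (sq_of_ord2 h'.2) k).trans
    ((conj_by_zpow (sq_of_ord2 h.2) (sq_of_ord2 h'.2) k).symm.trans hk)
  exact ⟨_, c, hc, e, S.zi_fix h' (by have := S.zi_self (S.zi_conj ((z * w) ^ k * z) h); rwa [e] at this)⟩

theorem exists_zi (x : Ω) : ∃ z z', ZI U x z ∧ ZI U x z' ∧ z ≠ z' := by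
  have h0 : 𝓟 x ≠ ⊥ := (S.syl x).ne_bot' Nat.prime_two (by
    rw [card_top]
    by_contra h
    have := PF.feit_thompson (G := G) (Nat.odd_iff.2 (by omega))
    exact S.ncyc (by
      let _ : CommGroup G := { (inferInstance : Group G) with mul_comm := IsSimpleGroup.comm_iff_isSolvable.2 this }
      exact IsSimpleGroup.isCyclic))
  have h1 := O_pig {2} (U x)
  obtain ⟨z, hz, z2⟩ := cauchy Nat.prime_two ((h1.of_le inf_le_left).dvd (h1.nil.Z_ne_bot h0))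
  obtain ⟨g, n, e⟩ := exists_conj_comm S.ncyc z2
  have := S.zi_conj g ⟨hz, z2⟩
  exact ⟨_, _, S.zi_fix this (S.zi_comm ⟨hz, z2⟩ e.symm) ▸ this, ⟨hz, z2⟩, n⟩

theorem exists_T (n : a ≠ b) : ∃ t c, ZI U c t ∧ t • a = b :=
  have ⟨_, _, h, _⟩ := S.exists_zi a
  have ⟨_, _, h', _⟩ := S.exists_zi b
  have ⟨v, c, h1, _, h2⟩ := S.zi_swap h h' n
  ⟨v, c, h1, h2⟩

theorem T_smul (h : ZI U c t) (e : t • a = b) : t • b = a := by rw [← e, ← mul_smul, sq_of_ord2 h.2, one_smul]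

theorem T_ne (h : ZI U c t) (e : t • a = b) (n : a ≠ b) : a ≠ c := by rintro rfl; exact n ((S.zi_self h).symm.trans e)

theorem P0_comm (a b : Ω) : 𝓟 a ⊓ stabilizer G b = 𝓟 b ⊓ stabilizer G a := by
  have : ∀ a b : Ω, 𝓟 a ⊓ stabilizer G b ≤ 𝓟 b ⊓ stabilizer G a := fun a b g h =>
    ⟨S.memP h.2 ((O_pig _ _).elt h.1), S.fixO h.1⟩
  exact le_antisymm (this a b) (this b a)

omit S in
theorem cj_stab (g : G) (x : Ω) : BG.cj g (stabilizer G x) = stabilizer G (g • x) :=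
  (stabilizer_smul_eq_stabilizer_map_conj g x).symm

theorem T_cent (h : ZI U c t) (e : t • a = b) : 𝓟 a ⊓ stabilizer G b ≤ C1[t] := by
  obtain ⟨y, hy⟩ := S.le_P (((O_pig {2} (U a)).of_le (inf_le_left (b := stabilizer G b))).sup_l
    (pig_zpowers.2 ((O_pig _ _).elt h.1.1)) (zpowers_le.2 (mem_N_iff_cj.2 (by
      rw [cj_inf, S.cjO, cj_stab, e, S.T_smul h e, S.P0_comm])))) a
  obtain rfl : y = c := S.zi_fix h (S.fixO (hy (mem_sup_right (mem_zpowers t))))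
  exact fun g hg => mem_C1.2 (h.1.2 g (hy (mem_sup_left hg)))

theorem K_trans {z' : G} (h : ZI U c t) (e : t • a = b) (n : a ≠ b) (hz : ZI U a z) (hz' : ZI U a z') :
    ∃ w d, ZI U d w ∧ w • a = b ∧ t * w * z * (t * w)⁻¹ = z' := by
  obtain ⟨w, d, h1, h2, h3⟩ := S.zi_swap hz (e ▸ S.zi_conj t hz') n
  exact ⟨w, d, h1, h3, by
    rw [show t * w * z * (t * w)⁻¹ = t * (w * z * w⁻¹) * t⁻¹ by group, h2, inv_of_ord2 h.2]
    simp [mul_assoc, mul_mul_of_ord2 h.2, sq_of_ord2 h.2]⟩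

theorem K_fix (h : ZI U c t) (e : t • a = b) (e' : w • a = b) : (t * w) • a = a := by
  rw [mul_smul, e', S.T_smul h e]

theorem K_odd (h : ZI U c t) (e : t • a = b) (h' : ZI U d w) (e' : w • a = b) (n : a ≠ b) : Odd (orderOf (t * w)) :=
  S.zi_odd' h h' (S.K_fix h e e') (S.T_ne h e n)

theorem K_free (h : ZI U c t) (e : t • a = b) (h' : ZI U d w) (e' : w • a = b) (n : a ≠ b) (hz : ZI U a z)
    (hc : t * w * z = z * (t * w)) : t * w = 1 :=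
  sq_inj_of_odd (S.K_odd h e h' e' n) (by simp) ((sq_eq_one_of_centralized_inverted (S.zi_odd hz h (S.T_ne h e n)) hc
    (inverts_left (sq_of_ord2 h.2) (sq_of_ord2 h'.2))).trans (mul_one 1).symm)

theorem tr2 {x' y' : Ω} (n : x ≠ y) (n' : x' ≠ y') : ∃ g : G, g • x = x' ∧ g • y = y' :=
  tr2_of_trans (S.tr1 x) (fun c d h h' => (S.trans h h').imp fun u hu => ⟨S.le x hu.1, hu.2⟩) n n'

theorem cjO2 (π : Set ℕ) (g : G) (x y : Ω) : BG.cj g (O[π](U x) ⊓ stabilizer G y) =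
    O[π](U (g • x)) ⊓ stabilizer G (g • y) := by rw [cj_inf, S.cjO, cj_stab]

theorem cardO2 (π : Set ℕ) {x' y' : Ω} (n : x ≠ y) (n' : x' ≠ y') :
    #(O[π](U x) ⊓ stabilizer G y) = #(O[π](U x') ⊓ stabilizer G y') := by
  obtain ⟨g, rfl, rfl⟩ := S.tr2 n n'
  rw [← S.cjO2, card_cj]

theorem normO2 {π : Set ℕ} (h : g • x = x) (h' : g • y = y) : g ∈ N[O[π](U x) ⊓ stabilizer G y] :=
  mem_N_iff_cj.2 (by rw [S.cjO2, h, h'])

theorem decomp2 {u : G} (hu : u ∈ U x) (h : u • y = y) :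
    ∃ p ∈ 𝓟 x ⊓ stabilizer G y, ∃ r ∈ 𝓡 x ⊓ stabilizer G y, u = p * r := by
  have := (((S.nil x).of_le (inf_le_left (b := stabilizer G y))).dprod_O {2}).prod.ex u ⟨hu, h⟩
  rwa [(S.nil x).O_eq_inf _ inf_le_left, (S.nil x).O_eq_inf _ inf_le_left, ← inf_assoc, ← inf_assoc,
    inf_eq_left.2 (O_le _ _), inf_eq_left.2 (O_le _ _)] at this

theorem R_comm (n : a ≠ b) : 𝓡 a ⊓ stabilizer G b = 𝓡 b ⊓ stabilizer G a := by
  obtain ⟨t, c, h, e⟩ := S.exists_T n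
  have e' := S.T_smul h e
  have ac := S.T_ne h e n
  have bc := S.T_ne h e' n.symm
  have Yt : 𝓡 c ⊓ stabilizer G a ≤ C1[t] := inf_le_left.trans ((O_cent_O' {2} _).trans (C_le_C1 h.1.1))
  have Yb : 𝓡 c ⊓ stabilizer G a ≤ stabilizer G b := fun y hy => by
    rw [mem_stabilizer_iff, ← e, ← mul_smul, mem_C1.1 (Yt hy), mul_smul, show y • a = a from hy.2]
  have t0 : BG.cj t (𝓡 a ⊓ stabilizer G b) = 𝓡 b ⊓ stabilizer G a := by rw [S.cjO2, e, e']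
  suffices 𝓡 c ⊓ stabilizer G a = 𝓡 a ⊓ stabilizer G b by
    rw [← t0, ← this, cj_of_mem_C (le_C1_iff.1 Yt)]
  by_cases hg : ∃ g ∈ N[𝓡 c ⊓ stabilizer G a], g • c ≠ c
  · obtain ⟨g, hg, n'⟩ := hg
    have h1 : 𝓡 c ⊓ stabilizer G a = 𝓡 c ⊓ stabilizer G (g • c) := eq_of_card_le (le_inf inf_le_left (by
      rw [← cj_of_mem_N hg, ← cj_stab, cj_le_cj]; exact fun y hy => S.fixO hy.1)) (S.cardO2 _ n'.symm ac.symm).le
    obtain ⟨u, hu, e1⟩ := S.trans n' ac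
    have h2 : BG.cj (u * g) (𝓡 c ⊓ stabilizer G a) = 𝓡 c ⊓ stabilizer G a := by
      rw [cj_mul, cj_of_mem_N hg, h1, S.cjO2, e1, show u • c = c from S.le c hu, h1]
    exact eq_of_card_le (le_inf (by rw [← h2, S.cjO2, mul_smul, e1]; exact inf_le_left) Yb) (S.cardO2 _ n ac.symm).le
  push Not at hg
  obtain ⟨r, hr, e1⟩ := S.trans n.symm ac.symm
  have Yr : BG.cj r (𝓡 b ⊓ stabilizer G a) = 𝓡 c ⊓ stabilizer G a := by rw [S.cjO2, e1, show r • a = a from S.le a hr]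
  have n0 : ∀ g : G, g • a = a → g • b = b → g ∈ N[𝓡 a ⊓ stabilizer G b] := fun g => S.normO2
  have n1 : 𝓡 b ⊓ stabilizer G a ≤ N[𝓡 a ⊓ stabilizer G b] := fun g h => n0 g h.2 (S.fixO h.1)
  have n2 : 𝓡 c ⊓ stabilizer G a ≤ N[𝓡 a ⊓ stabilizer G b] := fun g h => n0 g h.2 (Yb h)
  have pg : ∀ x y : Ω, PiG {2}ᶜ (𝓡 x ⊓ stabilizer G y) := fun x y => (O_pig _ _).of_le inf_le_left
  have key : ∀ x ∈ 𝓡 b ⊓ stabilizer G a, x⁻¹ * (r * x * r⁻¹) ∈ 𝓡 a ⊓ stabilizer G b := fun x hx => by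
    have hy : r * x * r⁻¹ ∈ 𝓡 c ⊓ stabilizer G a := Yr ▸ mem_cj_conj.2 hx
    obtain ⟨p, hp, ρ, hρ, e2⟩ := S.decomp2 (u := x⁻¹ * (r * x * r⁻¹)) (x := a) (y := b) (by
      rw [← mul_assoc, ← mul_assoc]
      exact mul_mem (conj_mem' (mem_N_iff_cj.2 (by rw [S.cj, show x • a = a from hx.2])) hr) (inv_mem hr))
      (mul_mem (inv_mem (S.fixO hx.1 : x ∈ stabilizer G b)) (Yb hy))
    have c1 : p * x = x * p := O_cent_O' {2} _ hx.1 p (S.P0_comm a b ▸ hp).1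
    have := cst_eq ((O_pig {2} _).elt hp.1) (((pg a b).sup_l (pg b a) n1).elt
      (mul_mem (mem_sup_right hx) (mem_sup_left hρ))) (by
        rw [← mul_assoc, c1, mul_assoc, O_cent_O' {2} _ hρ.1 p hp.1, mul_assoc])
    rw [← mul_assoc, c1, mul_assoc, ← e2, mul_inv_cancel_left, cst_eq_one_iff.2 ((pg c a).elt hy)] at this
    rwa [e2, ← this, one_mul]
  have YX : 𝓡 a ⊓ stabilizer G b ⊔ 𝓡 c ⊓ stabilizer G a = 𝓡 a ⊓ stabilizer G b ⊔ 𝓡 b ⊓ stabilizer G a := by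
    refine le_antisymm (sup_le le_sup_left fun y hy => ?_) (sup_le le_sup_left fun x hx => ?_)
    · obtain ⟨x, hx, rfl⟩ := exists_of_mem_cj (Yr ▸ hy)
      simpa using mul_mem (mem_sup_right hx) (mem_sup_left (key x hx))
    · rw [show x = r * x * r⁻¹ * (x⁻¹ * (r * x * r⁻¹))⁻¹ by group]
      exact mul_mem (mem_sup_right (Yr ▸ mem_cj_conj.2 hx)) (inv_mem (mem_sup_left (key x hx)))
  have c1 := (isProd_l n1).card
  have c2 := (isProd_l n2).card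
  rw [YX, S.cardO2 _ ac.symm n.symm, ← c1] at c2
  have c3 : 𝓡 a ⊓ stabilizer G b ⊓ (𝓡 c ⊓ stabilizer G a) = 𝓡 a ⊓ stabilizer G b ⊓ C1[t] :=
    eq_of_card_le (inf_le_inf_left _ Yt) ((Nat.eq_of_mul_eq_mul_left (card_pos _) c2).symm ▸ card_le fun x hx =>
      ⟨hx.1, t0.le (by rw [mem_cj, mul_assoc, mem_C1.1 hx.2, inv_mul_cancel_left]; exact hx.1)⟩)
  have nl : ∀ x y : Ω, Nil (𝓡 x ⊓ stabilizer G y) := fun x y => (S.nil x).of_le (inf_le_left.trans (O_le _ _))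
  have := ((nl a b).sup (nl b a) (fun g h => S.normO2 h.2 (S.fixO h.1)) n1).eq_of_norm (YX ▸ le_sup_right)
    fun g k => by
      have g1 : g ∈ St2 G a b := (sup_le (fun g h => ⟨S.fixO h.1, h.2⟩) fun g h => ⟨h.2, S.fixO h.1⟩ :
        𝓡 a ⊓ stabilizer G b ⊔ 𝓡 b ⊓ stabilizer G a ≤ St2 G a b) k.1
      have g2 := S.conjZ g h.1
      rw [hg g k.2] at g2
      have g3 := S.semi (mul_mem g2 (inv_mem h.1)) (y := a) (by
        rw [inv_of_ord2 h.2, mul_smul, e, mul_smul, mul_smul, show g⁻¹ • b = b from (inv_mem g1).2, e']; exact g1.1) ac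
      obtain ⟨ρ, hρ, y, hy, rfl⟩ := (isProd_l n2).ex g (YX ▸ k.1)
      refine mul_mem (c3.ge ⟨hρ, ?_⟩).2 hy
      simpa using mul_mem (mem_C1.2 (mul_inv_eq_iff_eq_mul.1 (mul_inv_eq_one.1 g3))) (inv_mem (Yt hy))
  exact (eq_of_card_le (this ▸ le_sup_left) (S.cardO2 _ ac.symm n).le).symm

theorem U_comm (n : a ≠ b) : U a ⊓ stabilizer G b = U b ⊓ stabilizer G a := by
  have : ∀ a b : Ω, a ≠ b → U a ⊓ stabilizer G b ≤ U b ⊓ stabilizer G a := fun a b n g h => by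
    obtain ⟨p, hp, r, hr, rfl⟩ := S.decomp2 h.1 h.2
    exact ⟨mul_mem (O_le _ _ (S.P0_comm a b ▸ hp).1) (O_le _ _ (S.R_comm n ▸ hr).1), S.le a h.1⟩
  exact le_antisymm (this a b n) (this b a n.symm)

theorem R_le (n : a ≠ b) : 𝓡 a ≤ stabilizer G b := by
  obtain ⟨t, c, h, e⟩ := S.exists_T n
  let W := U a ⊓ stabilizer G b
  have cW : ∀ g : G, BG.cj g W = U (g • a) ⊓ stabilizer G (g • b) := fun g => by rw [cj_inf, S.cj, cj_stab]
  let Φ : SubMulAction N[W] Ω := ⟨{x | W ≤ stabilizer G x}, fun g x hx => by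
    change W ≤ stabilizer G (g.1 • x)
    rw [← cj_stab]; exact (cj_of_mem_N g.2).ge.trans (cj_mono _ hx)⟩
  let f := (toPermHom N[W] Φ).rangeRestrict
  have fs : Function.Surjective f := MonoidHom.rangeRestrict_surjective _
  have := Finite.of_surjective f fs
  have fe : ∀ (g : N[W]) (x y : Φ), f g • x = y ↔ g.1 • x.1 = y.1 := fun g x y => Subtype.ext_iff
  have f1 : ∀ g : N[W], g.1 ∈ W → f g = 1 := fun g hg => Subtype.ext (Equiv.ext fun x => Subtype.ext (x.2 hg))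
  let a' : Φ := ⟨a, inf_le_left.trans (S.le a)⟩
  let b' : Φ := ⟨b, fun _ h => h.2⟩
  have tr : ∀ x : Φ, x ≠ a' → ∃ u : N[W], u.1 ∈ U a ∧ u.1 • b = x := fun x hx => by
    obtain ⟨u, hu, e⟩ := S.trans n.symm (fun e => hx (Subtype.ext e) : x.1 ≠ a)
    refine ⟨⟨u, mem_N_iff_cj.2 (eq_of_card_le ?_ (card_cj _ _).le).symm⟩, hu, e⟩
    rw [cW, e, show u • a = a from S.le a hu]; exact le_inf inf_le_left x.2
  have zi : ∀ z, ZI U a z → ∃ z' : N[W], z'.1 = z ∧ f z' • a' = a' ∧ f z' * f z' = 1 := fun z hz => by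
    refine ⟨⟨z, C_le_N _ fun u hu => ?_⟩, rfl, (fe ..).2 (S.zi_self hz), by
      rw [← map_mul, ← map_one f]; exact congrArg f (Subtype.ext (sq_of_ord2 hz.2))⟩
    obtain ⟨p, hp, r, hr, rfl⟩ := S.decomp hu.1
    rw [mul_assoc, O_cent_O {2} _ hz.1.1 r hr, ← mul_assoc, hz.1.2 p hp, mul_assoc]
  have zn : ∀ z : N[W], z.1 ∈ Z[𝓟 a] → f z = 1 → z.1 = 1 := fun z hz e =>
    S.semi hz ((fe z b' b').1 (by rw [e, one_smul])) n.symm
  obtain ⟨z, w, hz, hw, zw⟩ := S.exists_zi a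
  obtain ⟨z, rfl, z1, z2⟩ := zi z hz
  obtain ⟨w, rfl, w1, w2⟩ := zi w hw
  have z3 : f z ≠ 1 := fun e => ne_one_of_ord2 hz.2 (zn z hz.1 e)
  obtain ⟨_, -, T⟩ := exists_R1 (G := (toPermHom N[W] Φ).range) (a := a') (b := b')
    (Q := ((U a).subgroupOf N[W]).map f) (fun e => n (congrArg Subtype.val e).symm) (fun x => by
      by_cases hx : x = a'
      · exact ⟨1, by simp [hx]⟩
      obtain ⟨u, -, hu⟩ := tr x hx
      exact ⟨f (u * ⟨t, mem_N_iff_cj.2 (by rw [cW, e, S.T_smul h e, S.U_comm n.symm])⟩), (fe ..).2 (by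
        simp [a', mul_smul, e, hu])⟩) (by rintro _ ⟨u, hu, rfl⟩; exact (fe ..).2 (S.le a hu))
    (fun g hg => by
      obtain ⟨g, rfl⟩ := fs g
      refine mem_N_of ?_
      rintro _ ⟨u, hu, rfl⟩
      exact ⟨g * u * g⁻¹, conj_mem (A := U a) (g := g.1) (mem_N_iff_cj.2 (by rw [S.cj, show g.1 • a = a from (fe ..).1 hg])) hu, by simp⟩)
    (fun x hx => have ⟨u, h1, h2⟩ := tr x hx; ⟨f u, ⟨u, h1, rfl⟩, (fe ..).2 h2⟩)
    (by rintro _ ⟨u, hu, rfl⟩ e; exact f1 u ⟨hu, (fe ..).1 e⟩)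
    (even_iff_two_dvd.2 (ord2_iff.2 ⟨z2, z3⟩ ▸ orderOf_dvd (A := stabilizer _ a') z1))
    (Nat.odd_iff.2 (Nat.two_dvd_ne_zero.1 ((pin_compl Nat.prime_two).1 (pig_of_elts fun g hg => by
      obtain ⟨g, rfl⟩ := fs g
      obtain ⟨p, hp, r, -, e, h1, h2⟩ := exists_pi_part {2} g
      have := zpowers_le.2 (show g ∈ (St2 G a b).subgroupOf _ from ⟨(fe ..).1 hg.1, (fe ..).1 hg.2⟩) hp
      rw [e, map_mul, f1 p ⟨O_le _ _ (S.memP this.1 (h1.map (Subgroup.subtype _))), this.2⟩, one_mul]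
      exact h2.map f))))
  have := (T.isTT ⟨f z, f w, z3, fun e => ne_one_of_ord2 hw.2 (zn w hw.1 e), fun e => zw (mul_inv_eq_one.1
    (zn (z * w⁻¹) (mul_mem hz.1 (inv_mem hw.1)) (by simp [e]))), z2, w2, by
      rw [← map_mul, ← map_mul]; exact congrArg f (Subtype.ext (hw.1.2 _ hz.1.1))⟩).two
  refine (((S.nil a).of_le (O_le _ _)).eq_of_norm (K := 𝓡 a ⊓ stabilizer G b) inf_le_left fun r hr => ⟨hr.1, ?_⟩).ge.trans
    inf_le_right
  have r1 : r ∈ N[W] := mem_N_of fun u hu => by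
    obtain ⟨p, hp, ρ, hρ, rfl⟩ := S.decomp2 hu.1 hu.2
    rw [← mul_assoc, ← O_cent_O' {2} _ hr.1 p hp.1, mul_assoc p, mul_assoc p]
    exact mul_mem ⟨O_le _ _ hp.1, hp.2⟩ ((inf_le_inf_right _ (O_le _ _)) (conj_mem hr.2 hρ))
  have r2 : PiE {2}ᶜ (⟨r, r1⟩ : N[W]) := by simpa [PiE] using (O_pig _ _).elt hr.1
  exact (fe ⟨r, r1⟩ b' b').1 (by
    rw [((pig_of_pg Nat.prime_two this).elt ⟨⟨r, r1⟩, O_le _ (U a) hr.1, rfl⟩).eq_one (r2.map f), one_smul])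

theorem U_eq (a : Ω) : 𝓟 a = U a := le_antisymm (O_le _ _) fun u hu => by
  obtain ⟨p, hp, r, hr, rfl⟩ := S.decomp hu
  rwa [show r = 1 from eq_of_smul_eq_smul (α := Ω) fun c => by
    rw [one_smul]; exact (em (a = c)).elim (fun e => e ▸ S.fixO hr) fun n => S.R_le n hr, mul_one]

end SB

end Cfsg.Agent.Inv
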