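import Cfsg.Agent.Inv.SB1
import Cfsg.Agent.Lie.BN

/-! Doubly transitive simple groups of odd degree with a nilpotent normal subgroup of odd index in the point
stabiliser transitive on the remaining points: regularity. -/

set_option autoImplicit false
set_option linter.unusedVariables false
set_option linter.unusedSectionVars false

namespace Cfsg.Agent.Inv

open Subgroup MulAction Cfsg.Agent.BG
open scoped Pointwise commutatorElement MatrixGroups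

variable {G Ω : Type*} [Group G] [MulAction G Ω]

/-- the number of fixed points -/
noncomputable def fx (Ω : Type*) [MulAction G Ω] (g : G) : ℕ := {x : Ω | g • x = x}.ncard

theorem fx_conj (g e : G) : fx Ω (g * e * g⁻¹) = fx Ω e := by
  rw [fx, fx, ← Set.ncard_image_of_injective _ (MulAction.injective g⁻¹)]
  congr 1; ext x
  exact ⟨by rintro ⟨y, h, rfl⟩; exact conj_smul_fix.1 h, fun h => ⟨g • x, conj_smul_eq_iff.2 h, inv_smul_smul _ _⟩⟩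

theorem two_pow_lemma {g m k l : ℕ} (h : g * (m + 1 + m * g) = 2 ^ k) (h1 : m + 1 = 2 ^ l) (h2 : m + 1 ≤ g)
    (h3 : 0 < m) : g = m + 1 := by
  obtain ⟨i, -, rfl⟩ := (Nat.dvd_prime_pow Nat.prime_two).1 (Dvd.intro _ h)
  obtain ⟨j, rfl⟩ := Nat.exists_eq_add_of_le ((Nat.pow_le_pow_iff_right one_lt_two).1 (h1 ▸ h2))
  obtain ⟨n, -, e⟩ := (Nat.dvd_prime_pow Nat.prime_two).1 (show 1 + m * 2 ^ j ∣ 2 ^ k from
    ⟨2 ^ (l + j) * 2 ^ l, by rw [← h, h1, pow_add]; ring⟩)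
  rcases j with _ | j
  · simp [h1]
  rcases n with _ | n
  · simp at e; omega
  · rw [pow_succ, pow_succ, ← mul_assoc] at e; omega

theorem card_le_of_fibers [Finite G] {H C : Subgroup G} (ψ : G → G)
    (h : ∀ u ∈ H, ∀ v ∈ H, ψ u = ψ v → u⁻¹ * v ∈ C) : #H ≤ (ψ '' H).ncard * #C := by
  choose σ h1 h2 using fun s : ψ '' H => s.2
  rw [← Nat.card_coe_set_eq, ← Nat.card_prod]
  refine Nat.card_le_card_of_injective (fun u => (⟨ψ u, u, u.2, rfl⟩, ⟨(σ ⟨ψ u, u, u.2, rfl⟩)⁻¹ * u,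
    h _ (h1 _) _ u.2 (h2 _)⟩)) fun u v e => ?_
  obtain ⟨e1, e2⟩ := Prod.ext_iff.1 e
  have e3 := congrArg Subtype.val e2
  simp only at e1 e3
  rw [e1, mul_right_inj] at e3
  exact Subtype.ext e3

/-- the centraliser of `X` modulo `Z` in `P` -/
def CMod (P X Z : Subgroup G) (h : P ≤ N[Z]) : Subgroup G where
  carrier := {g | g ∈ P ∧ ∀ x ∈ X, g * x * g⁻¹ * x⁻¹ ∈ Z}
  one_mem' := ⟨one_mem _, by simp⟩
  mul_mem' {g g'} h1 h2 := ⟨mul_mem h1.1 h2.1, fun x hx => by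
    rw [show g * g' * x * (g * g')⁻¹ * x⁻¹ = g * (g' * x * g'⁻¹ * x⁻¹) * g⁻¹ * (g * x * g⁻¹ * x⁻¹) by group]
    exact mul_mem (conj_mem (h h1.1) (h2.2 x hx)) (h1.2 x hx)⟩
  inv_mem' {g} h1 := ⟨inv_mem h1.1, fun x hx => by
    rw [show g⁻¹ * x * g⁻¹⁻¹ * x⁻¹ = g⁻¹ * (g * x * g⁻¹ * x⁻¹)⁻¹ * g by group]
    exact conj_mem' (h h1.1) (inv_mem (h1.2 x hx))⟩

theorem norm_CMod [Finite G] {P X Z D : Subgroup G} (h : P ≤ N[Z]) (h1 : D ≤ N[P]) (h2 : D ≤ N[X]) (h3 : D ≤ N[Z]) :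
    D ≤ N[CMod P X Z h] := fun d hd => mem_N_of fun g hg => ⟨conj_mem (h1 hd) hg.1, fun x hx => by
  rw [show d * g * d⁻¹ * x * (d * g * d⁻¹)⁻¹ * x⁻¹ = d * (g * (d⁻¹ * x * d) * g⁻¹ * (d⁻¹ * x * d)⁻¹) * d⁻¹ by group]
  exact conj_mem (h3 hd) (hg.2 _ (conj_mem' (h2 hd) hx))⟩

theorem norm_of_sq [Finite G] {P M : Subgroup G} (h1 : M ≤ P) (h : ∀ g ∈ P, g * g ∈ M) : P ≤ N[M] :=
  fun s hs => mem_N_of fun a ha => by
    rw [show s * a * s⁻¹ = s * a * (s * a) * (a⁻¹ * s⁻¹ * a * (a⁻¹ * s⁻¹ * a)) * a⁻¹ by group]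
    exact mul_mem (mul_mem (h _ (mul_mem hs (h1 ha))) (h _ (mul_mem (mul_mem (inv_mem (h1 ha)) (inv_mem hs)) (h1 ha))))
      (inv_mem ha)

/-- the involutions in the centre -/
def ZO (P : Subgroup G) : Subgroup G where
  carrier := {z | z ∈ Z[P] ∧ z * z = 1}
  one_mem' := ⟨one_mem _, mul_one 1⟩
  mul_mem' {x y} h1 h2 := ⟨mul_mem h1.1 h2.1, by
    rw [mul_assoc, ← mul_assoc y, h1.1.2 y h2.1.1, mul_assoc x, h2.2, mul_one, h1.2]⟩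
  inv_mem' {x} h := ⟨inv_mem h.1, by rw [← mul_inv_rev, h.2, inv_one]⟩

namespace SB

variable [Finite G] [FaithfulSMul G Ω] [IsSimpleGroup G] {U : Ω → Subgroup G} (S : SB G U)
include S

set_option quotPrecheck false
local notation "𝓟" x:max => O[{2}](U x)

variable {a b c d x y : Ω} {g t w z e : G}

theorem finite (a : Ω) : Finite Ω := Finite.of_surjective (fun g : G => g • a) (S.tr1 a)

theorem memP' (he : e * e = 1) (h : e • x = x) : e ∈ 𝓟 x := S.memP h (pie_of_pow Nat.prime_two (by rwa [sq]))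

theorem ex_T (he : orderOf e = 2) (h : e • x ≠ x) : ∃ t c, ZI U c t ∧ e * t = t * e ∧ t • x = e • x := by
  obtain ⟨t, c, h1, h2⟩ := S.exists_T h.symm
  have h3 := S.zi_conj e h1
  have ee : e⁻¹ = e := inv_of_ord2 he
  have h4 : (e * t * e⁻¹) • x = e • x := by rw [ee, mul_smul, mul_smul, S.T_smul h1 h2]
  obtain ⟨i, hi⟩ := S.K_odd h1 h2 h3 h4 h.symm
  obtain ⟨d, hd⟩ := S.zi_refl h1 h3 i
  have h5 : t * (e * t * e⁻¹) ∈ stabilizer G (e • x) := by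
    rw [mem_stabilizer_iff, mul_smul, S.T_smul h3 h4, h2]
  refine ⟨_, d, hd, ?_, by rw [mul_smul, h2]; exact zpow_mem h5 i⟩
  have h6 : e * (t * (e * t * e⁻¹)) * e⁻¹ = (t * (e * t * e⁻¹))⁻¹ := by
    simp [ee, inv_of_ord2 h1.2, mul_assoc, sq_of_ord2 he]
  have h7 := pow_orderOf_eq_one (t * (e * t * e⁻¹))
  rw [hi, ← zpow_natCast] at h7
  have h8 : e * t = (t * (e * t * e⁻¹)) ^ (-1 : ℤ) * t * e := by
    simp [ee, inv_of_ord2 h1.2, mul_assoc, mul_mul_of_ord2 h1.2, sq_of_ord2 he]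
  generalize t * (e * t * e⁻¹) = y at h6 h7 h8
  rw [← mul_assoc, mul_zpow_of_inverts h6, mul_assoc, h8, ← mul_assoc, ← mul_assoc, ← zpow_add, mul_left_inj,
    mul_left_inj, eq_comm, ← mul_inv_eq_one, ← zpow_neg, ← zpow_add, ← h7]
  congr 1; push_cast; ring

theorem uniq_T (he : orderOf e = 2) (h : e • x ≠ x) (h1 : ZI U c t) (h2 : e * t = t * e) (h3 : t • x = e • x)
    (h4 : ZI U d w) (h5 : e * w = w * e) (h6 : w • x = e • x) : t = w := by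
  have ex : e • e • x = x := by rw [← mul_smul, sq_of_ord2 he, one_smul]
  have := mem_C1.1 (S.T_cent h4 h6 (x := e * t) ⟨S.memP' (by
    rw [mul_assoc, ← mul_assoc t, ← h2, mul_assoc, sq_of_ord2 h1.2, mul_one, sq_of_ord2 he]) (by
      rw [mul_smul, h3, ex]), mem_stabilizer_iff.2 (by rw [mul_smul, S.T_smul h1 h3])⟩)
  rw [mul_assoc, ← mul_assoc w, ← h5, mul_assoc, mul_right_inj] at this
  have := sq_inj_of_odd (S.K_odd h1 h3 h4 h6 h.symm) (y := 1) (by simp) (by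
    rw [mul_assoc, ← mul_assoc w, ← this, mul_assoc, sq_of_ord2 h4.2, mul_one, sq_of_ord2 h1.2, mul_one])
  rw [eq_inv_of_mul_eq_one_left this, inv_of_ord2 h4.2]

theorem fx_eq (he : e * e = 1) (ea : e • a = a) (eb : e • b = b) (n : a ≠ b) (ec : e • c = c) (ed : e • d = d)
    (hz : ZI U c z) (hw : ZI U d w) : fx Ω (z * e) = fx Ω (w * e) := by
  have : ∀ {c d : Ω} {z w : G}, e • c = c → e • d = d → ZI U c z → ZI U d w → c ≠ d → fx Ω (z * e) = fx Ω (w * e) :=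
    fun ec ed hz hw n => by
      obtain ⟨v, _, h1, rfl, h2⟩ := S.zi_swap hz hw n
      rw [← fx_conj v, ← conj_mul, ← mem_C1.1 (S.T_cent h1 h2 ⟨S.memP' he ec, ed⟩), mul_inv_cancel_right]
  by_cases h : c = d
  · obtain ⟨x, ex, n⟩ : ∃ x, e • x = x ∧ c ≠ x := (em (c = a)).elim (fun h => ⟨b, eb, h ▸ n⟩) fun h => ⟨a, ea, h⟩
    obtain ⟨v, -, hv, -⟩ := S.exists_zi x
    exact (this ec ex hz hv n).trans (this ex ed hv hw (h ▸ n.symm))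
  · exact this ec ed hz hw h

theorem card_ZO (a c : Ω) : Nat.card {z // ZI U c z} + 1 = #(ZO (𝓟 a)) := by
  obtain ⟨g, rfl⟩ := S.tr1 c a
  rw [← Finite.card_option]
  refine Nat.card_eq_of_bijective (fun o => o.elim 1 fun z => ⟨g * z * g⁻¹, (S.zi_conj g z.2).1,
    sq_of_ord2 (S.zi_conj g z.2).2⟩) ⟨?_, fun z => ?_⟩
  · rintro (_ | z) (_ | z') e
    · rfl
    · exact absurd (congrArg Subtype.val e).symm (ne_one_of_ord2 (S.zi_conj g z'.2).2)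
    · exact absurd (congrArg Subtype.val e) (ne_one_of_ord2 (S.zi_conj g z.2).2)
    · exact congrArg some (Subtype.ext (by simpa using congrArg Subtype.val e))
  · by_cases h : z = 1
    · exact ⟨none, h.symm⟩
    · exact ⟨some ⟨_, by simpa using S.zi_conj g⁻¹ ⟨z.2.1, ord2_iff.2 ⟨z.2.2, by simpa⟩⟩⟩, by simp [mul_assoc]⟩

theorem cnt (he : orderOf e = 2) (ea : e • a = a) (eb : e • b = b) (n : a ≠ b) (hz : ZI U a z) :
    Nat.card Ω = fx Ω e + fx Ω e * ((#(ZO (𝓟 a)) - 1) * (fx Ω (z * e) - 1)) := by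
  have := S.finite a
  have := Fintype.ofFinite {x : Ω | e • x = x}
  rw [← Set.ncard_add_ncard_compl {x : Ω | e • x = x}, fx, add_right_inj, ← Nat.card_coe_set_eq,
    ← Nat.card_eq_of_bijective (α := Σ w : {x : Ω | e • x = x}, Σ ζ : {ζ // ZI U w ζ},
      ({x | (ζ * e) • x = x} \ {w.1} : Set Ω)) (fun p => ⟨p.2.2, fun h => p.2.2.2.2 (S.zi_fix p.2.1.2 (by
        have := p.2.2.2.1; rwa [Set.mem_setOf, mul_smul, h] at this))⟩) ⟨?_, ?_⟩, Nat.card_sigma,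
    Finset.sum_eq_card_nsmul (b := (#(ZO (𝓟 a)) - 1) * (fx Ω (z * e) - 1)) fun w _ => ?_]
  · rw [Finset.card_univ, ← Nat.card_eq_fintype_card, Nat.card_coe_set_eq, smul_eq_mul]
  · have := Fintype.ofFinite {ζ // ZI U w ζ}
    rw [Nat.card_sigma, Finset.sum_eq_card_nsmul (b := fx Ω (z * e) - 1) fun ζ _ => ?_, ← S.card_ZO a w]
    · simp
    rw [Nat.card_coe_set_eq, Set.ncard_diff_singleton_of_mem (by
      rw [Set.mem_setOf, mul_smul, w.2, S.zi_self ζ.2]), ← S.fx_eq (sq_of_ord2 he) ea eb n w.2 ea ζ.2 hz, fx]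
  · rintro ⟨w, ζ, x, hx⟩ ⟨w', ζ', x', hx'⟩ h
    obtain rfl : x = x' := congrArg Subtype.val h
    have h1 : ∀ (w : {x : Ω | e • x = x}) (ζ : {ζ // ZI U w ζ}), (ζ * e) • x = x → e * ζ = ζ * e ∧ ζ.1 • x = e • x :=
      fun w ζ h => ⟨ζ.2.1.2 e (S.memP' (sq_of_ord2 he) w.2), S.T_smul ζ.2 (by rwa [← mul_smul])⟩
    have h2 := S.uniq_T he (fun h => hx.2 (S.zi_fix ζ.2 ((h1 w ζ hx.1).2.trans h))) ζ.2 (h1 w ζ hx.1).1 (h1 w ζ hx.1).2
      ζ'.2 (h1 w' ζ' hx'.1).1 (h1 w' ζ' hx'.1).2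
    obtain rfl : w = w' := Subtype.ext (S.zi_fix ζ'.2 (h2 ▸ S.zi_self ζ.2))
    obtain rfl : ζ = ζ' := Subtype.ext h2
    rfl
  · rintro ⟨x, hx⟩
    obtain ⟨t, c, h1, h2, h3⟩ := S.ex_T he hx
    exact ⟨⟨⟨c, S.zi_comm h1 h2⟩, ⟨t, h1⟩, x, by rw [Set.mem_setOf, mul_smul]; exact S.T_smul h1 h3,
      fun h => hx (h3.symm.trans (by rw [show x = c from h]; exact S.zi_self h1))⟩, rfl⟩

theorem four_le (a : Ω) : 3 ≤ #(ZO (𝓟 a)) := by
  obtain ⟨z, w, hz, hw, n⟩ := S.exists_zi a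
  have : 1 < Nat.card {z // ZI U a z} := Finite.one_lt_card_iff_nontrivial.2 ⟨⟨z, hz⟩, ⟨w, hw⟩, by simpa⟩
  have := S.card_ZO a a
  omega

theorem transP (h : b ≠ a) (h' : c ≠ a) : ∃ u ∈ 𝓟 a, u • b = c := by rw [S.U_eq]; exact S.trans h h'

theorem card_P (n : a ≠ b) : #(𝓟 a) = #(𝓟 a ⊓ stabilizer G b) * (Nat.card Ω - 1) := by
  have := S.finite a
  rw [← card_mul_relIndex (inf_le_left (b := stabilizer G b)), inf_relIndex_left, relIndex,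
    show (stabilizer G b).subgroupOf (𝓟 a) = stabilizer (𝓟 a) b from rfl, index_stabilizer,
    show orbit (𝓟 a) b = {a}ᶜ from Set.ext fun c => ⟨by
      rintro ⟨u, rfl⟩ e; exact n ((smul_eq_iff_inv.1 e).symm.symm.trans (by rfl) ▸ (S.fixO (inv_mem u.2)).symm ▸ rfl),
      fun h => have ⟨u, hu, e⟩ := S.transP n.symm h; ⟨⟨u, hu⟩, e⟩⟩, Set.ncard_compl, Set.ncard_singleton]

theorem ZO_free (n : a ≠ b) (hz : z ∈ ZO (𝓟 a)) (h : z • b = b) : z = 1 := S.semi hz.1 h n.symm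

theorem fx_card (he : orderOf e = 2) (ea : e • a = a) (eb : e • b = b) (n : a ≠ b) :
    Nat.card Ω = #(ZO (𝓟 a)) ^ 3 + 1 ∧ ∀ x ≠ a, e • x = x → ∃ z ∈ ZO (𝓟 a), z • b = x := by
  have := S.finite a
  obtain ⟨z, -, hz, -⟩ := S.exists_zi a
  have eP := S.memP' (sq_of_ord2 he) ea
  have h1 := S.cnt he ea eb n hz
  have za : (z * e) • a = a := by rw [mul_smul, ea, S.zi_self hz]
  have f1 : fx Ω e < Nat.card Ω := Set.ncard_lt_card fun h => ne_one_of_ord2 he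
    (eq_of_smul_eq_smul (α := Ω) fun x => by rw [one_smul]; exact h.ge (Set.mem_univ x))
  obtain ⟨y, hy, ya⟩ : ∃ y, (z * e) • y = y ∧ y ≠ a := Set.exists_ne_of_one_lt_ncard (by
    by_contra h
    rw [show fx Ω (z * e) - 1 = 0 from Nat.sub_eq_zero_of_le (not_lt.1 h)] at h1
    omega) a
  have h2 := S.cnt (e := z * e) (ord2_iff.2 ⟨by
    rw [mul_assoc, ← mul_assoc e, hz.1.2 e eP, mul_assoc z, sq_of_ord2 he, mul_one, sq_of_ord2 hz.2], fun h =>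
      n (S.zi_fix hz (by rw [eq_inv_of_mul_eq_one_left h, inv_of_ord2 he, eb])).symm⟩) za hy ya.symm hz
  rw [mul_mul_of_ord2 hz.2] at h2
  let T : Set Ω := (fun z : G => z • b) '' ZO (𝓟 a)
  have T1 : T.ncard = #(ZO (𝓟 a)) := Set.ncard_image_of_injOn fun u hu v hv h =>
    (inv_mul_eq_one.1 (S.ZO_free n (mul_mem (inv_mem hv) hu) (by
      rw [mul_smul, show u • b = _ from h, inv_smul_smul]))).symm
  have T2 : T ⊆ {x | e • x = x} \ {a} := by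
    rintro _ ⟨u, hu, rfl⟩
    exact ⟨by rw [Set.mem_setOf, ← mul_smul, hu.1.2 e eP, mul_smul, eb], fun h =>
      n ((S.fixO (inv_mem hu.1.1)).symm.trans (smul_eq_iff_inv.1 h))⟩
  have T3 : ({x | e • x = x} \ {a}).ncard + 1 = fx Ω e := Set.ncard_diff_singleton_add_one ea
  have T4 := Set.ncard_le_ncard T2
  have q3 := S.four_le a
  obtain ⟨k, hk⟩ := (O_pig {2} (U a)).card_pow Nat.prime_two
  obtain ⟨k, -, hk⟩ := (Nat.dvd_prime_pow Nat.prime_two).1 (Dvd.intro_left _ ((S.card_P n).symm.trans hk))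
  obtain ⟨l, hl⟩ := ((O_pig {2} (U a)).of_le (B := ZO (𝓟 a)) fun _ h => h.1.1).card_pow Nat.prime_two
  have f2 : 0 < fx Ω (z * e) := (Set.ncard_pos (Set.toFinite _)).2 ⟨a, za⟩
  obtain ⟨m, hm⟩ : ∃ m, #(ZO (𝓟 a)) = m + 1 := ⟨_, (Nat.sub_add_cancel (by omega)).symm⟩
  obtain ⟨g', hg⟩ : ∃ m, fx Ω (z * e) = m + 1 := ⟨_, (Nat.sub_add_cancel f2).symm⟩
  rw [← T3, hm, hg, Nat.add_sub_cancel, Nat.add_sub_cancel] at h1 h2
  rw [T1, hm] at T4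
  generalize hs : ({x | e • x = x} \ {a}).ncard = s at *
  obtain rfl : g' = s := by
    have : (m - 1) * g' = (m - 1) * s := by
      obtain ⟨m, rfl⟩ : ∃ k, m = k + 1 := ⟨m - 1, by omega⟩
      rw [Nat.add_sub_cancel]; nlinarith
    exact Nat.eq_of_mul_eq_mul_left (by omega) this
  obtain rfl := two_pow_lemma (g := g') (m := m) (by rw [← hk, h1]; exact Nat.eq_sub_of_add_eq (by ring))
    (hm ▸ hl) T4 (by omega)
  exact ⟨by rw [h1, hm]; ring, fun x xa hx => (Set.eq_of_subset_of_ncard_le T2 (by rw [hs, T1, hm])).ge ⟨hx, xa⟩⟩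

section
variable (n : a ≠ b)
include n

local notation "𝓠" => O[{2}](U a) ⊓ stabilizer G b
local notation "𝓩" => ZO O[{2}](U a)
local notation "𝓓" => St2 G a b

theorem mem_N1 (he : orderOf e = 2) (eQ : e ∈ 𝓠) {u : G} (hu : u ∈ 𝓟 a) (h : e • u • b = u • b) :
    ∃ z ∈ 𝓩, ∃ x ∈ 𝓠, u = z * x := by
  obtain ⟨z, hz, e⟩ := (S.fx_card he (S.fixO eQ.1) eQ.2 n).2 _ (fun e => n ((S.fixO (inv_mem hu)).symm.trans
    (smul_eq_iff_inv.1 e))) h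
  exact ⟨z, hz, z⁻¹ * u, mem_inf.2 ⟨mul_mem (inv_mem (mem_inf.1 hz.1).1) hu, by
    rw [mem_stabilizer_iff, mul_smul, ← e, inv_smul_smul]⟩, by simp⟩

theorem cent_N1 (he : orderOf e = 2) (eQ : e ∈ 𝓠) {u : G} (hu : u ∈ 𝓟 a) (h : u * e = e * u) :
    ∃ z ∈ 𝓩, ∃ x ∈ 𝓠, u = z * x :=
  S.mem_N1 n he eQ hu (by rw [← mul_smul, ← h, mul_smul, show e • b = b from eQ.2])

theorem fixc (h0 : 𝓠 ≠ ⊥) (h1 : ZI U c t) (h2 : t • a = b) (h3 : ZI U d w) (h4 : w • a = b) {A : Subgroup G}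
    (a1 : 𝓠 ≤ A) (a2 : A ≤ 𝓟 a) (a3 : 𝓓 ≤ N[A]) (hg : g ∈ 𝓟 a) (h : g⁻¹ * (t * w * g * (t * w)⁻¹) ∈ A) :
    t * w = 1 ∨ g ∈ A := or_iff_not_imp_left.2 fun y1 => by
  have yD : t * w ∈ 𝓓 := ⟨S.K_fix h1 h2 h4, S.K_fix h1 (S.T_smul h1 h2) (S.T_smul h3 h4)⟩
  have yo : PiE {2}ᶜ (t * w) := (pin_compl Nat.prime_two).2 (S.K_odd h1 h2 h3 h4 n).not_two_dvd_nat
  have pP := O_pig {2} (U a)
  have yQ : 𝓠 ≤ C1[t * w] := le_C1_iff.2 (mul_mem (le_C1_iff.1 (S.T_cent h1 h2)) (le_C1_iff.1 (S.T_cent h3 h4)))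
  have hC : 𝓠 = 𝓟 a ⊓ C1[t * w] := (pP.nil.of_le inf_le_left).eq_of_norm (le_inf inf_le_left yQ) fun u hu => by
    obtain ⟨e, eQ, he⟩ := cauchy Nat.prime_two ((pP.of_le inf_le_left).dvd h0)
    obtain ⟨z, hz, x, hx, rfl⟩ := S.mem_N1 n he eQ hu.1.1 (by
      simpa [mul_smul, inv_smul_eq_iff] using (conj_mem' hu.2 eQ).2)
    have : z ∈ C1[t * w] := by simpa using mul_mem (mem_inf.1 hu.1).2 (inv_mem (yQ hx))
    by_cases z1 : z = 1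
    · simpa [z1]
    exact absurd (S.K_free h1 h2 h3 h4 n ⟨hz.1, ord2_iff.2 ⟨hz.2, z1⟩⟩ (mem_C1'.1 this)) y1
  generalize t * w = y at *
  obtain ⟨k, hk, e⟩ := sz_sub (K := A) (A := zpowers y) (B := zpowers (g⁻¹ * y * g)) (zpowers_le.2 (a3 yD))
    (zpowers_le.2 (by simpa [mul_assoc] using mul_mem (mem_sup_left h) (mem_sup_right (mem_zpowers y))))
    ((pig_zpowers.2 yo).coprime' (pP.of_le a2)) ((pig_zpowers.2 (by simpa using (pie_conj (g := g⁻¹)).2 yo)).coprime'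
      (pP.of_le a2)) (Or.inl (abel_zpowers y).sol)
  have v1 := mul_mem hg (a2 hk)
  have := (pP.elt (mul_mem (inv_mem v1) (conj_mem (S.normO' yD.1) v1))).eq_one (yo.of_mem_zpowers (by
    simpa [mul_assoc] using mul_mem (mem_cj.1 (e (mem_zpowers _))) (inv_mem (mem_zpowers y))))
  simpa using mul_mem (a1 (hC.ge ⟨v1, mem_C1'.2 (mul_inv_eq_iff_eq_mul.1 (inv_mul_eq_one.1 this).symm)⟩)) (inv_mem hk)

theorem KF (h0 : 𝓠 ≠ ⊥) {A H : Subgroup G} (a1 : 𝓠 ≤ A) (a2 : A < H) (a3 : H ≤ 𝓟 a) (a4 : 𝓓 ≤ N[A])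
    (a5 : 𝓓 ≤ N[H]) : #𝓩 * #A ≤ #H := by
  classical
  obtain ⟨h, hH, hA⟩ := SetLike.exists_of_lt a2
  obtain ⟨t, c, h1, h2⟩ := S.exists_T n
  obtain ⟨z, -, hz, -⟩ := S.exists_zi a
  choose! w d w1 w2 w3 using fun (ζ : 𝓩) (h : ζ ≠ 1) => S.K_trans h1 h2 n hz (z' := ζ) ⟨ζ.2.1, ord2_iff.2 ⟨ζ.2.2, by simpa⟩⟩
  have yD : ∀ ζ ≠ 1, t * w ζ ∈ 𝓓 := fun ζ h =>
    ⟨S.K_fix h1 h2 (w2 ζ h), S.K_fix h1 (S.T_smul h1 h2) (S.T_smul (w1 ζ h) (w2 ζ h))⟩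
  have nA : ∀ ζ ≠ 1, ∀ α ∈ A, ∀ β ∈ A, α ≠ t * w ζ * h * (t * w ζ)⁻¹ * β := fun ζ n α hα β hβ e => hA (by
    simpa [e, mul_assoc] using conj_mem' (a4 (yD ζ n)) (mul_mem hα (inv_mem hβ)))
  rw [← Nat.card_prod]
  refine Nat.card_le_card_of_injective (fun p => ⟨(if p.1 = 1 then 1 else t * w p.1 * h * (t * w p.1)⁻¹) * p.2,
    mul_mem (by split_ifs with h; exacts [one_mem _, conj_mem (a5 (yD _ h)) hH]) (a2.le p.2.2)⟩) ?_
  rintro ⟨ζ, α⟩ ⟨ζ', β⟩ e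
  simp only [Subtype.mk.injEq] at e
  suffices ζ = ζ' by subst this; rw [Subtype.ext (mul_left_cancel e)]
  split_ifs at e with e1 e2 e2
  · rw [e1, e2]
  · exact absurd (one_mul α.1 ▸ e) (nA _ e2 _ α.2 _ β.2)
  · exact absurd (one_mul β.1 ▸ e.symm) (nA _ e1 _ β.2 _ α.2)
  have i : (t * w ζ')⁻¹ * (t * w ζ) = w ζ' * w ζ := by simp [inv_of_ord2 (w1 _ e2).2, mul_assoc]
  have := (S.fixc n h0 (w1 _ e2) (w2 _ e2) (w1 _ e1) (w2 _ e1) a1 (a2.le.trans a3) a4 (a3 hH) (by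
    convert conj_mem' (a4 (yD _ e2)) (mul_mem β.2 (inv_mem α.2)) using 1
    rw [← i, eq_inv_mul_iff_mul_eq.2 e.symm]; group)).resolve_right hA
  rw [← i, inv_mul_eq_one] at this
  exact Subtype.ext (by rw [← w3 _ e1, ← w3 _ e2, this])

theorem Q_bot : 𝓠 = ⊥ := by
  by_contra h0
  have pP := O_pig {2} (U a)
  have inv : ∀ {A : Subgroup G}, A ≤ 𝓠 → A ≠ ⊥ → ∃ e ∈ A, orderOf e = 2 := fun h h' =>
    cauchy Nat.prime_two ((pP.of_le (h.trans inf_le_left)).dvd h')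
  obtain ⟨e, eQ, he⟩ := inv le_rfl h0
  have cP := S.card_P n
  rw [(S.fx_card he (S.fixO eQ.1) eQ.2 n).1, Nat.add_sub_cancel] at cP
  have q3 := S.four_le a
  have ZP : 𝓩 ≤ 𝓟 a := fun _ h => h.1.1
  have Zc : 𝓟 a ≤ C[𝓩] := fun u hu z hz => (hz.1.2 u hu).symm
  have nP : 𝓓 ≤ N[𝓟 a] := fun d hd => S.normO' hd.1
  have nQ : 𝓓 ≤ N[𝓠] := fun d hd => S.normO2 hd.1 hd.2
  have nZ : 𝓓 ≤ N[𝓩] := fun d hd => mem_N_of fun z hz => ⟨conj_mem (normZ nP hd) hz.1, by rw [conj_mul, hz.2]; simp⟩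
  have ZQ : 𝓩 ⊓ 𝓠 = ⊥ := eq_bot_iff.2 fun z hz => S.ZO_free n hz.1 hz.2.2
  have cN : #(𝓩 ⊔ 𝓠) = #𝓩 * #𝓠 := (sdprod_sup ZQ (cents_norm (inf_le_left.trans Zc))).card.symm
  have pos := card_pos 𝓠
  have cls : ∀ e ∈ 𝓠, orderOf e = 2 → #𝓩 ^ 2 ≤ ((fun u => u * e * u⁻¹ * e⁻¹) '' 𝓟 a).ncard := fun e eQ he => by
    have := card_le_of_fibers (H := 𝓟 a) (C := 𝓩 ⊔ 𝓠) (fun u => u * e * u⁻¹ * e⁻¹) fun u hu v hv h => by
      obtain ⟨z, hz, x, hx, e⟩ := S.cent_N1 n he eQ (mul_mem (inv_mem hu) hv) (by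
        rw [mul_assoc, inv_mul_eq_iff_eq_mul, ← mul_assoc, ← mul_assoc, mul_right_cancel h]; simp)
      exact e ▸ mul_mem_sup' hz hx
    rw [cP, cN] at this
    exact Nat.le_of_mul_le_mul_right (by nlinarith) (Nat.mul_pos (card_pos 𝓩) pos)
  let Y := CMod (𝓟 a) (𝓟 a) 𝓩 (cents_norm Zc)
  have YP : Y ≤ 𝓟 a := fun _ h => h.1
  have nY : 𝓓 ≤ N[Y] := norm_CMod _ nP nP nZ
  have nY' : 𝓟 a ≤ N[Y] := norm_CMod _ (normG _) (normG _) (cents_norm Zc)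
  have ZY : 𝓩 ≤ Y := fun z hz => ⟨ZP hz, fun x hx => by simp [← hz.1.2 x hx]⟩
  have YQ : Y ⊓ 𝓠 = ⊥ := by_contra fun h => by
    obtain ⟨e, eQ, he⟩ := inv inf_le_right h
    have := (cls e eQ.2 he).trans (Set.ncard_le_ncard (t := 𝓩) (by
      rintro _ ⟨u, hu, rfl⟩; simpa [mul_assoc] using inv_mem (eQ.1.2 u hu)))
    change _ ≤ #𝓩 at this
    nlinarith
  have YN : ∀ e ∈ 𝓠, orderOf e = 2 → ∀ y ∈ Y, y * e = e * y → y ∈ 𝓩 := fun e eQ he y hy h => by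
    obtain ⟨z, hz, x, hx, rfl⟩ := S.cent_N1 n he eQ hy.1 h
    have : x ∈ Y ⊓ 𝓠 := ⟨by simpa using mul_mem (inv_mem (ZY hz)) hy, hx⟩
    rw [YQ, mem_bot] at this; simpa [this]
  obtain ⟨y0, y1, y2, y3⟩ := pP.nil.exists_Z_mod ZP (cents_norm Zc) (normG _) le_rfl fun h =>
    h0 (by rw [← ZQ, eq_comm, inf_eq_right]; exact inf_le_left.trans h)
  have y4 : y0 ∈ Y := ⟨y1, fun x hx => y3 (comm_mem (mem_zpowers _) hx)⟩
  have nc : ∀ e ∈ 𝓠, (∀ y ∈ Y, y * e = e * y) → e = 1 := fun e eQ h => by_contra fun e1 => by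
    obtain ⟨j, j1, j2⟩ := inv (zpowers_le.2 eQ) (by simpa)
    exact y2 (YN j (zpowers_le.2 eQ j1) j2 y0 y4 (mem_C1.1 (C1_le_of_mem_zpowers j1 (mem_C1.2 (h y0 y4)))))
  have sq : ∀ x ∈ 𝓠, x * x = 1 := fun x hx => nc _ (mul_mem hx hx) fun y hy => by
    have h1 := hy.2 x hx.1
    have h2 := Zc hx.1 _ h1
    calc _ = y * x * y⁻¹ * x⁻¹ * (x * (y * x * y⁻¹ * x⁻¹)) * x * y := by group
      _ = _ := by rw [← h2, ← mul_assoc, h1.2]; group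
  have sd := sdprod_sup YQ (inf_le_left.trans nY')
  have cY : #Y = #𝓩 ^ 2 := by
    have h1 := S.KF n h0 (A := 𝓩 ⊔ 𝓠) (H := Y ⊔ 𝓠) le_sup_right (lt_of_le_of_ne (sup_le_sup_right ZY _) fun h => by
      obtain ⟨z, hz, x, hx, rfl⟩ := (mem_sup_l (cents_norm (inf_le_left.trans Zc))).1 (h.ge (mem_sup_left y4))
      have : x ∈ Y ⊓ 𝓠 := ⟨by simpa using mul_mem (inv_mem (ZY hz)) y4, hx⟩
      rw [YQ, mem_bot] at this; exact y2 (by simpa [this])) (sup_le YP inf_le_left) (normY nZ nQ) (normY nY nQ)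
    rw [cN, ← sd.card, ← mul_assoc] at h1
    have h2 := card_le_of_fibers (H := Y) (C := 𝓩) (fun u => u * e * u⁻¹ * e⁻¹) fun u hu v hv h =>
      YN e eQ he _ (mul_mem (inv_mem hu) hv) (by
        rw [mul_assoc, inv_mul_eq_iff_eq_mul, ← mul_assoc, ← mul_assoc, mul_right_cancel h]; simp)
    have h3 := Set.ncard_le_ncard (s := (fun u => u * e * u⁻¹ * e⁻¹) '' Y) (t := 𝓩) (by
      rintro _ ⟨u, hu, rfl⟩; exact hu.2 e eQ.1)
    change _ ≤ #𝓩 at h3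
    have := Nat.le_of_mul_le_mul_right h1 pos
    nlinarith
  have NP : Y ⊔ 𝓠 ≤ 𝓟 a := sup_le YP inf_le_left
  have cN2 : #𝓩 * #(Y ⊔ 𝓠) = #(𝓟 a) := by rw [← sd.card, cY, cP]; ring
  have KF' : ∀ H, Y ⊔ 𝓠 < H → H ≤ 𝓟 a → 𝓓 ≤ N[H] → H = 𝓟 a := fun H h1 h2 h3 =>
    eq_of_card_le h2 (cN2 ▸ S.KF n h0 le_sup_right h1 h2 (normY nY nQ) h3)
  have NP' : Y ⊔ 𝓠 ≠ 𝓟 a := fun h => by rw [h] at cN2; nlinarith [card_pos (𝓟 a)]
  have s1 : ∀ g ∈ 𝓟 a, g * g ∈ Y ⊔ 𝓠 := fun g hg => by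
    refine (sup_eq_left.1 (by_contra fun h => NP' (eq_of_sup_Phi NP (KF' _ (lt_of_le_of_ne le_sup_left (Ne.symm h))
      (sup_le NP (Phi_le _)) (normY (normY nY nQ) (normPhi nP))).ge))) ?_
    simpa only [pow_two] using pP.pow_mem_Phi Nat.prime_two hg
  have s2 : ∀ g ∈ 𝓟 a, ∀ x ∈ 𝓠, g * x * g⁻¹ * x⁻¹ ∈ Y := fun g hg => by
    refine ((KF' (CMod (𝓟 a) 𝓠 Y nY') (lt_of_le_of_ne (sup_le (fun y hy => ⟨hy.1, fun x hx => ZY (hy.2 x hx.1)⟩)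
      fun y hy => ⟨hy.1, fun x hx => ?_⟩) fun h => ?_) (fun _ h => h.1) (norm_CMod _ nP nQ nY)).ge hg).2
    · rw [← eq_inv_of_mul_eq_one_left (sq x hx), ← eq_inv_of_mul_eq_one_left (sq y hy), mul_assoc (y * x),
        sq _ (mul_mem hy hx)]; exact one_mem _
    obtain ⟨g, hg, gN⟩ := SetLike.exists_of_lt (lt_of_le_of_ne NP NP')
    obtain ⟨t, c, h1, h2⟩ := S.exists_T n
    obtain ⟨z, z', hz, hz', zz⟩ := S.exists_zi a
    obtain ⟨w, d, h3, h4, h5⟩ := S.K_trans h1 h2 n hz hz'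
    have kD : t * w ∈ 𝓓 := ⟨S.K_fix h1 h2 h4, S.K_fix h1 (S.T_smul h1 h2) (S.T_smul h3 h4)⟩
    have kQ : t * w ∈ C[𝓠] := mul_mem (le_C1_iff.1 (S.T_cent h1 h2)) (le_C1_iff.1 (S.T_cent h3 h4))
    refine (S.fixc n h0 h1 h2 h3 h4 le_sup_right NP (normY nY nQ) hg (h.ge ⟨mul_mem (inv_mem hg) (conj_mem (nP kD) hg),
      fun x hx => ?_⟩)).elim (fun e => zz (by simpa [e] using h5)) gN
    obtain ⟨y, hy, x', hx', e⟩ := sd.prod.ex _ (conj_mem (norm_of_sq NP s1 hg) (mem_sup_right hx))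
    generalize t * w = k at *
    convert conj_mem' (nY' hg) (mul_mem (conj_mem (nY kD) hy) (inv_mem hy)) using 1
    calc _ = g⁻¹ * k * (g * k⁻¹ * (x * k) * g⁻¹) * k⁻¹ * g * x⁻¹ := by group
      _ = g⁻¹ * k * (g * x * g⁻¹) * k⁻¹ * g * x⁻¹ := by rw [kQ x hx]; group
      _ = g⁻¹ * (k * y * k⁻¹) * (k * x' * k⁻¹) * g * x⁻¹ := by rw [e]; group
      _ = g⁻¹ * (k * y * k⁻¹ * y⁻¹) * (y * x') * g * x⁻¹ := by rw [← kQ x' hx']; group
      _ = _ := by rw [← e]; group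
  have s3 : ∀ x ∈ 𝓠, x ≠ 1 → ∀ y ∈ Y, ∃ u ∈ 𝓟 a, u * x * u⁻¹ * x⁻¹ = y := fun x hx x1 y hy =>
    (Set.eq_of_subset_of_ncard_le (s := (fun u => u * x * u⁻¹ * x⁻¹) '' 𝓟 a) (t := Y) (by rintro _ ⟨u, hu, rfl⟩; exact s2 u hu x hx)
      (cY.le.trans (cls x hx (ord2_iff.2 ⟨sq x hx, x1⟩)))).ge hy
  have s4 : ∀ x ∈ 𝓠, x ≠ 1 → ∀ y ∈ Y, x * y = y⁻¹ * x := fun x hx x1 y hy => by
    obtain ⟨u, -, rfl⟩ := s3 x hx x1 y hy
    simp [mul_assoc, inv_eq_of_mul_eq_one_left (sq x hx), sq x hx]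
  have s5 : ∀ x ∈ 𝓠, x ≠ 1 → x = e := fun x hx x1 => by
    rw [eq_inv_of_mul_eq_one_left (nc _ (mul_mem hx eQ) fun y hy => by
      rw [mul_assoc x, s4 e eQ (ne_one_of_ord2 he) y hy, ← mul_assoc x, s4 x hx x1 _ (inv_mem hy), inv_inv, mul_assoc]),
      inv_of_ord2 he]
  have s6 : ∀ g ∈ 𝓟 a, g * g ∈ Y := fun g hg => by
    obtain ⟨y, hy, x, hx, e1⟩ := sd.prod.ex _ (s1 g hg)
    by_cases x1 : x = 1
    · simpa [e1, x1]
    obtain ⟨u, hu, rfl⟩ := s3 x hx x1 y hy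
    have e2 : u⁻¹ * g * u * (u⁻¹ * g * u) = x := by
      rw [show u⁻¹ * g * u * (u⁻¹ * g * u) = u⁻¹ * (g * g) * u by group, e1]; group
    obtain ⟨z, hz, x', hx', e3⟩ := S.cent_N1 n (ord2_iff.2 ⟨sq x hx, x1⟩) hx
      (mul_mem (mul_mem (inv_mem hu) hg) hu) (by rw [← e2]; group)
    rw [e3, mul_assoc, ← mul_assoc x', hz.1.2 x' hx'.1, mul_assoc z, sq x' hx', mul_one, hz.2] at e2
    exact absurd e2.symm x1
  obtain ⟨M, m1, ⟨m2, m3⟩, m4⟩ := exists_maximal (P := fun M => M ≤ 𝓟 a ∧ e ∉ M) (A := Y) ⟨YP, fun h =>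
    ne_one_of_ord2 he (mem_bot.1 (YQ ▸ ⟨h, eQ⟩))⟩
  obtain ⟨T, hT⟩ := (S.syl a).exists_sylow_top Nat.prime_two
  obtain ⟨L, l1, l2, -⟩ := PLoc.thompson_transfer T (Q := M) (by
    rw [hT, relIndex_eq_two_iff]
    refine ⟨e, eQ.1, fun g hg => (em (g ∈ M)).elim (fun h => Or.inr ⟨h, fun h' => m3 (by
      simpa using mul_mem (inv_mem h) h')⟩) fun h => Or.inl ⟨?_, h⟩⟩
    have : e ∈ M ⊔ zpowers g := by_contra fun h' =>
      h ((m4 _ ⟨sup_le m2 (zpowers_le.2 hg), h'⟩ le_sup_left).le (mem_sup_right (mem_zpowers g)))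
    simpa [inv_of_ord2 he] using inv_mem (((mem_sup_zpowers_iff (fun a => conj_mem (norm_of_sq m2
      (fun g h => m1 (s6 g h)) hg)) (m1 (s6 g hg))).1 this).resolve_left m3)) he fun g hg => by
    obtain ⟨y, ya, hy⟩ : ∃ y ≠ a, (g * e * g⁻¹) • y = y := (em (g • a = a)).elim
      (fun h => ⟨g • b, fun h' => n (smul_left_cancel g (h.trans h'.symm)), conj_smul_eq_iff.2 eQ.2⟩)
      fun h => ⟨g • a, h, conj_smul_eq_iff.2 (S.fixO eQ.1)⟩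
    obtain ⟨u, hu, rfl⟩ := S.transP n.symm ya
    have := s5 (u⁻¹ * (g * e * g⁻¹) * u) (mem_inf.2 ⟨mul_mem (mul_mem (inv_mem hu) (m2 hg)) hu, by
      rw [mem_stabilizer_iff, mul_smul, mul_smul, hy, inv_smul_smul]⟩) (ne_one_of_ord2 (by
        rw [orderOf_conj'', orderOf_conj', he]))
    refine m3 ?_
    convert mul_mem (inv_mem (m1 (s2 u hu e eQ))) hg using 1
    rw [eq_inv_mul_iff_mul_eq, inv_mul_cancel_right]
    nth_rw 1 [← this]; group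
  rcases l1.eq_bot_or_eq_top with rfl | rfl
  · exact S.ncyc (isCyclic_of_prime_card (index_bot.symm.trans l2))
  · simp at l2

theorem r1 : ∃ t, t • a = b ∧ R1 G Ω a t (U a) := by
  obtain ⟨z, -, hz, -⟩ := S.exists_zi a
  exact exists_R1 n.symm (S.tr1 a) (S.le a) (fun g hg => mem_N_iff_cj.2 (by rw [S.cj, show g • a = a from hg]))
    (fun c h => S.trans n.symm h) (fun u hu h => (S.Q_bot n).le ⟨(S.U_eq a).ge hu, h⟩)
    (even_iff_two_dvd.2 (hz.2 ▸ orderOf_dvd (A := stabilizer G a) (S.zi_self hz)))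
    (Nat.odd_iff.2 (Nat.two_dvd_ne_zero.1 ((pin_compl Nat.prime_two).1 (pig_of_prime_elts fun g hg _ e =>
      ne_one_of_ord2 e ((S.Q_bot n).le ⟨S.memP' (sq_of_ord2 e) hg.1, hg.2⟩)))))

end

end SB

theorem s0349 {G : Type*} [Group G] [Finite G] [IsSimpleGroup G]
    (P : Cfsg.BNPair G) (hrank : P.rank = 1) (U : Subgroup G) (hUB : U ≤ P.B)
    (hUn : (U.subgroupOf P.B).Normal) (hUnil : Group.IsNilpotent U) (hsplit : U ⊔ (P.B ⊓ P.N) = P.B)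
    (hdisj : U ⊓ P.N = ⊥) (hind : Odd P.B.index) (hH : Odd (Nat.card ↥(P.B ⊓ P.N))) :
    (∃ (F : Type) (_ : Field F) (_ : Fintype F), (∃ n : ℕ, Fintype.card F = 2 ^ n) ∧ Nonempty (G ≃* Matrix.ProjectiveSpecialLinearGroup (Fin 2) F)) ∨
      Cfsg.IsSuzuki G ∨
      (∃ (F : Type) (_ : Field F) (_ : Fintype F) (n : ℕ), 2 ≤ n ∧ Fintype.card F = (2 ^ n) ^ 2 ∧
        Nonempty (G ≃* Cfsg.PSU 3 F (2 ^ n))) := by
  obtain ⟨⟨s, hs⟩, s1⟩ := Nat.card_eq_one_iff_exists.1 hrank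
  have s2 : P.S = {s} := Set.eq_singleton_iff_unique_mem.2 ⟨hs, fun x hx => congrArg Subtype.val (s1 ⟨x, hx⟩)⟩
  have sN : s ∈ P.N := P.subset hs
  have sB := Lie.BN.not_mem_B P hs
  have nU : P.B ≤ N[U] := (normal_subgroupOf_iff_le_normalizer hUB).1 hUn
  have hB : P.B ≠ ⊤ := fun e => sB (e ▸ mem_top s)
  have := faithful_quot hB
  have nc := not_cyclic_of_sub hB fun e => by
    obtain ⟨b, hb, h⟩ := Lie.BN.exists_conj_not_mem (P := P) ⟨s, hs⟩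
    rw [mem_bot.1 (e.le hb), mul_one] at h; exact h (P.sq_mem s hs)
  have pr := isProd_of_l (inf_le_left.trans nU) hsplit
  have tr : ∀ y : G ⧸ P.B, y ≠ (1 : G) → ∃ u ∈ U, u • (s : G ⧸ P.B) = y := fun y => QuotientGroup.induction_on y fun g h => by
    obtain ⟨w, hw⟩ := Lie.BN.exists_mem_C (P := P) g
    obtain ⟨n, rfl⟩ := Lie.BN.π_surj P w
    obtain ⟨x, hx, y, hy, rfl⟩ := (Lie.BN.mem_C n rfl).1 hw
    have := P.closure_sup.ge n.2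
    rw [s2, ← zpowers_eq_closure, sup_comm, mem_sup_zpowers_iff (A := P.B ⊓ P.N) (s := s) (fun a ha => mem_inf.2
      ⟨P.conj_mem s sN a ha, mul_mem (mul_mem sN ha.2) (inv_mem sN)⟩) (mem_inf.2 ⟨P.sq_mem s hs, mul_mem sN sN⟩)] at this
    rcases this with h' | h'
    · exact absurd (QuotientGroup.eq.2 (by simpa using inv_mem (mul_mem (mul_mem hx h'.1) hy))) h
    obtain ⟨u, hu, τ, hτ, e⟩ := pr.ex _ (mul_mem hx h'.1)
    refine ⟨u, hu, QuotientGroup.eq.2 ?_⟩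
    convert mul_mem (P.conj_mem _ (inv_mem sN) τ hτ) hy using 1
    simp only [eq_inv_mul_iff_mul_eq.2 e.symm, smul_eq_mul]; group
  have cu : ∀ g : G, cj (g : G ⧸ P.B).out U = cj g U := fun g => by
    obtain ⟨h, e⟩ := QuotientGroup.mk_out_eq_mul P.B g
    rw [e, cj_mul, cj_of_mem_N (nU h.2)]
  have S : SB G fun x : G ⧸ P.B => cj x.out U := ⟨fun g x => QuotientGroup.induction_on x fun h => by
      rw [Quotient.smul_coe, cu, cu, smul_eq_mul, cj_mul],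
    fun x => QuotientGroup.induction_on x fun h u hu => by
      rw [cu, mem_cj] at hu; exact (QuotientGroup.eq.2 (by simpa [mul_assoc] using hUB hu)).symm,
    fun {x y z} => QuotientGroup.induction_on x fun h n1 n2 => by
      have ne : ∀ y : G ⧸ P.B, y ≠ h → h⁻¹ • y ≠ (1 : G) := fun y n e => n (by simpa using inv_smul_eq_iff.1 e)
      obtain ⟨u, hu, e1⟩ := tr _ (ne y n1)
      obtain ⟨v, hv, e2⟩ := tr _ (ne z n2)
      exact ⟨h * (v * u⁻¹) * h⁻¹, cu h ▸ mem_cj_conj.2 (mul_mem hv (inv_mem hu)), by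
        rw [mul_smul, mul_smul, ← e1, mul_smul, inv_smul_smul, e2, smul_inv_smul]⟩,
    exists_smul_eq G, fun x => nil_cj.2 hUnil, fun x => by
      rw [index_cj, ← relIndex_mul_index hUB, (Sdprod.relIndex_l ⟨hsplit, eq_bot_iff.2 (hdisj ▸ inf_le_inf_left _ inf_le_right),
        inf_le_left.trans nU⟩)]
      exact (hH.mul hind).not_two_dvd_nat, nc⟩
  obtain ⟨t, -, T⟩ := S.r1 (a := (1 : G)) (b := s) fun e => sB (by simpa using QuotientGroup.eq.1 e)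
  rcases T.simple_class (four_of_simple nc T.ord) with ⟨F, _, _, ⟨n, h1, h2⟩, h3⟩ | ⟨h1, h2, h3⟩ | h
  · exact Or.inl ⟨F, inferInstance, inferInstance, ⟨n, h2⟩, h3⟩
  · have := T.finite
    exact Or.inr (Or.inl (zas_isSuzuki h1 h2 h3))
  · exact Or.inr (Or.inr h)

end Cfsg.Agent.Inv
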