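import Cfsg.Agent.Inv.Suz1
import Cfsg.Agent.Core.Frattini

/-! Sections of groups with a cyclic group of operators; coordinates. -/

set_option autoImplicit false
set_option linter.unusedVariables false
set_option linter.unusedSectionVars false

namespace Cfsg.Agent.Inv

open Subgroup Cfsg.Agent.PLoc
open scoped commutatorElement

section Add

variable {W : Type*} [AddCommGroup W] [Finite W] {F : Type*} [Field F] [Finite F] [CharP F 2]

theorem add_coord [Nontrivial W] (T : AddMonoid.End W) (h2 : ∀ w : W, w + w = 0)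
    (hm : T ^ (Nat.card F - 1) = 1)
    (free : ∀ (i : ℕ) (w : W), (T ^ i) w = w → w = 0 ∨ Nat.card F - 1 ∣ i)
    (irr : ∀ U : AddSubgroup W, (∀ u ∈ U, T u ∈ U) → U = ⊥ ∨ U = ⊤) :
    ∃ (f : W ≃+ F) (μ : F), Prim μ ∧ ∀ w, f (T w) = μ * f w := by
  classical
  have hpow : ∀ U : AddSubgroup W, (∀ t ∈ Set.range fun i : ℕ => T ^ i, ∀ u ∈ U, t u ∈ U) →
      U = ⊥ ∨ U = ⊤ := fun U h => irr U (h T ⟨1, pow_one T⟩)
  obtain ⟨K, _, _, φ, h3, -, h5⟩ := exists_field_end (Set.range fun i : ℕ => T ^ i)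
    (Set.range fun i : ℕ => T ^ i) ⟨0, pow_zero T⟩
    (by rintro _ ⟨i, rfl⟩ _ ⟨j, rfl⟩; exact ⟨i + j, pow_add _ _ _⟩)
    (by rintro _ ⟨i, rfl⟩ _ ⟨j, rfl⟩; exact pow_mul_comm T i j ▸ (Commute.pow_pow_self T i j).eq)
    subset_rfl hpow
  obtain ⟨μ, hμ⟩ := h3 ⟨1, pow_one T⟩
  obtain ⟨w, hw⟩ := exists_ne (0 : W)
  have : Nontrivial (AddMonoid.End W) := ⟨1, 0, fun e => hw (DFunLike.congr_fun e w)⟩
  have hi := φ.injective
  let g : K →+ W := AddMonoidHom.mk' (fun c => φ c w) fun c d => by rw [map_add]; rfl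
  have g1 : Function.Injective g := (injective_iff_map_eq_zero g).2 fun c hc => by_contra fun h =>
    hw (by
      have : (φ c⁻¹ * φ c) w = 0 := (congrArg (φ c⁻¹) hc).trans (map_zero _)
      rwa [← map_mul, inv_mul_cancel₀ h, map_one] at this)
  have g2 : ∀ c, T (g c) = g (μ * c) := fun c => by
    change (T * φ c) w = φ (μ * c) w
    rw [map_mul, hμ]
  have g3 : Function.Surjective g := AddMonoidHom.range_eq_top.1 ((irr g.range (by
    rintro _ ⟨c, rfl⟩; exact ⟨_, (g2 c).symm⟩)).resolve_left fun e =>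
      hw ((AddSubgroup.eq_bot_iff_forall _).1 e w ⟨1, by simp [g]⟩))
  have : CharP K 2 := CharTwo.of_one_ne_zero_of_two_eq_zero one_ne_zero (g1 (by
    rw [← one_add_one_eq_two, map_add, h2, map_zero]))
  have F1 : 1 < Nat.card F := Finite.one_lt_card
  have h6 : orderOf μ = Nat.card F - 1 := Nat.dvd_antisymm
    (orderOf_dvd_of_pow_eq_one (hi (by rw [map_pow, hμ, hm, map_one])))
    ((free _ w (by rw [← hμ, ← map_pow, pow_orderOf_eq_one, map_one]; rfl)).resolve_left hw)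
  have μ0 : μ ≠ 0 := fun e => by
    have := pow_orderOf_eq_one μ
    rw [h6, e, zero_pow (by omega)] at this
    exact zero_ne_one this
  have := Fintype.ofFinite F
  obtain ⟨n, -, hn⟩ := FiniteField.card F 2
  have h7 : ∀ c : K, c ^ Nat.card F = c := fun c => by
    have : c ^ 2 ^ (n : ℕ) = c := (AddSubgroup.eq_top_iff' _).1 (h5 (AddMonoidHom.eqLocus
      (iterateFrobenius K 2 n : K →+* K).toAddMonoidHom (AddMonoidHom.id K)) (by
        rintro c ⟨i, hi'⟩
        obtain rfl : μ ^ i = c := hi (by rw [map_pow, hμ]; exact hi')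
        change (μ ^ i) ^ 2 ^ (n : ℕ) = μ ^ i
        rw [← hn, ← Nat.card_eq_fintype_card, ← Nat.sub_add_cancel F1.le, pow_succ, ← h6, ← pow_mul,
          mul_comm i, pow_mul, pow_orderOf_eq_one, one_pow, one_mul])) c
    rwa [Nat.card_eq_fintype_card, hn]
  have h8 : Nat.card Kˣ = Nat.card F - 1 := Nat.dvd_antisymm (by
    rw [← IsCyclic.exponent_eq_card]
    refine Monoid.exponent_dvd_of_forall_pow_eq_one fun u => Units.ext (mul_right_cancel₀ u.ne_zero ?_)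
    rw [Units.val_pow_eq_pow_val, ← pow_succ, Nat.sub_add_cancel F1.le, h7, Units.val_one, one_mul])
    (by rw [← h6, ← Units.val_mk0 μ0, orderOf_units]; exact orderOf_dvd_natCard _)
  have h9 : Prim μ := fun x hx => by
    have : zpowers (Units.mk0 μ μ0) = ⊤ := eq_top_of_card_eq _ (by
      rw [Nat.card_zpowers, h8, ← h6, ← orderOf_units, Units.val_mk0])
    obtain ⟨i, hi⟩ := mem_powers_iff_mem_zpowers.2 (this ▸ mem_top (Units.mk0 x hx))
    exact ⟨i, by simpa using congrArg Units.val hi⟩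
  let e : K ≃+* F := FiniteField.ringEquivOfCardEq (by
    rw [Nat.card_units, Nat.card_eq_fintype_card, Nat.card_eq_fintype_card] at h8
    have := Fintype.card_pos (α := K)
    have := Fintype.card_pos (α := F)
    omega)
  refine ⟨(AddEquiv.ofBijective g ⟨g1, g3⟩).symm.trans e.toAddEquiv, e μ, fun x hx => ?_, fun v => ?_⟩
  · obtain ⟨i, hi⟩ := h9 (e.symm x) (by simpa using hx)
    exact ⟨i, by rw [← map_pow, hi, e.apply_symm_apply]⟩
  · obtain ⟨c, rfl⟩ := g3 v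
    rw [g2]
    change e ((AddEquiv.ofBijective g ⟨g1, g3⟩).symm (AddEquiv.ofBijective g ⟨g1, g3⟩ _)) =
      e μ * e ((AddEquiv.ofBijective g ⟨g1, g3⟩).symm (AddEquiv.ofBijective g ⟨g1, g3⟩ _))
    simp

theorem add_compl (T : AddMonoid.End W) (h2 : ∀ w : W, w + w = 0) {m : ℕ} (hm : T ^ m = 1)
    (ho : Odd m) (U : AddSubgroup W) (hU : ∀ u ∈ U, T u ∈ U) :
    ∃ V : AddSubgroup W, (∀ u ∈ V, T u ∈ V) ∧ IsCompl U V := by
  let _ : Module (ZMod 2) W := AddCommGroup.zmodModule fun w => by rw [two_nsmul, h2]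
  let T' : Module.End (ZMod 2) W := AddMonoidHom.toZModLinearMap 2 T
  have h3 : ∀ (i : ℕ) w, (T' ^ i) w = (T ^ i) w := fun i => by
    induction i with
    | zero => intro w; rfl
    | succ i ih => intro w; rw [pow_succ, pow_succ]; exact ih _
  have h4 : T'.IsSemisimple := Module.End.isSemisimple_of_squarefree_aeval_eq_zero
    (p := Polynomial.X ^ m - 1) (Polynomial.X_pow_sub_one_separable_iff.2 (by
      rw [(ZMod.natCast_eq_one_iff_odd).2 ho]; exact one_ne_zero)).squarefree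
    (by ext w; simp [h3, hm])
  obtain ⟨V, h5, h6⟩ := Module.End.isSemisimple_iff.1 h4 (AddSubgroup.toZModSubmodule 2 U) hU
  exact ⟨V.toAddSubgroup, h5, ((AddSubgroup.toZModSubmodule 2).isCompl_iff (x := U)
    (y := V.toAddSubgroup)).2 h6⟩

theorem cw_two {σ ι : Type*} [Fintype σ] [Fintype ι] (f : ι → MvPolynomial σ (ZMod 2))
    (h : ∑ i, (f i).totalDegree < Fintype.card σ) :
    2 ∣ Nat.card {x : σ → ZMod 2 // ∀ i, MvPolynomial.eval x (f i) = 0} := by
  classical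
  rw [Nat.card_eq_fintype_card]
  exact char_dvd_card_solutions_of_fintype_sum_lt 2 h

theorem cw_quad (h2 : ∀ w : W, w + w = 0) {Q : W → F} (h0 : Q 0 = 0)
    (hQ : ∀ x y z, Q (x + y + z) + Q (x + y) + Q (x + z) + Q (y + z) + Q x + Q y + Q z = 0)
    (an : ∀ w, Q w = 0 → w = 0) : Nat.card W ≤ Nat.card F ^ 2 := by
  classical
  let _ : Module (ZMod 2) W := AddCommGroup.zmodModule fun w => by rw [two_nsmul, h2]
  let _ := ZMod.algebra F 2
  have h3 : (2 : F) = 0 := CharTwo.two_eq_zero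
  have hz : ∀ a : ZMod 2, a = 0 ∨ a = 1 := by decide
  let q : QuadraticMap (ZMod 2) W F := QuadraticMap.ofPolar Q
    (fun a x => by rcases hz a with rfl | rfl <;> simp [h0])
    (fun x x' y => by
      simp only [QuadraticMap.polar]
      linear_combination hQ x x' y - (Q (x + x') + Q (x + y) + Q (x' + y)) * h3)
    (fun a x y => by rcases hz a with rfl | rfl <;> simp [QuadraticMap.polar, h0])
  obtain ⟨B, hB⟩ := LinearMap.BilinMap.toQuadraticMap_surjective q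
  have h4 : ∀ w, B w w = Q w := fun w => DFunLike.congr_fun hB w
  let b := Module.finBasis (ZMod 2) W
  let c := Module.finBasis (ZMod 2) F
  rw [Module.natCard_eq_pow_finrank (K := ZMod 2), Module.natCard_eq_pow_finrank (K := ZMod 2) (V := F),
    ← pow_mul]
  refine Nat.pow_le_pow_right Nat.card_pos (not_lt.1 fun h => ?_)
  let f : _ → MvPolynomial _ (ZMod 2) := fun i => ∑ j, ∑ k,
    MvPolynomial.C (c.repr (B (b j) (b k)) i) * (MvPolynomial.X j * MvPolynomial.X k)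
  have h5 := cw_two f (by
      refine lt_of_le_of_lt (Finset.sum_le_card_nsmul _ _ 2 fun i _ => ?_) (by simpa using h)
      refine MvPolynomial.totalDegree_finsetSum_le fun j _ =>
        MvPolynomial.totalDegree_finsetSum_le fun k _ => (MvPolynomial.totalDegree_mul _ _).trans ?_
      rw [MvPolynomial.totalDegree_C, zero_add]
      exact (MvPolynomial.totalDegree_mul _ _).trans (by simp))
  have h6 : ∀ x, (∀ i, MvPolynomial.eval x (f i) = 0) → x = 0 := fun x hx => by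
    refine b.equivFun.symm.injective ((an _ ?_).trans (map_zero _).symm)
    rw [← h4, Module.Basis.equivFun_symm_apply]
    refine c.repr.injective (Finsupp.ext fun i => ?_)
    have := hx i
    simp only [f, map_sum, map_mul, MvPolynomial.eval_C, MvPolynomial.eval_X] at this
    simp only [map_sum, map_smul, LinearMap.sum_apply, LinearMap.smul_apply, Finsupp.coe_finset_sum,
      Finset.sum_apply, Finsupp.smul_apply, smul_eq_mul, map_zero, Finsupp.zero_apply]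
    rw [← this, Finset.sum_comm]
    exact Finset.sum_congr rfl fun j _ => by
      rw [Finset.mul_sum]; exact Finset.sum_congr rfl fun k _ => by ring
  have h7 : ∀ i, MvPolynomial.eval 0 (f i) = 0 := fun i => by
    simp only [f, map_sum, map_mul, MvPolynomial.eval_X, Pi.zero_apply, mul_zero,
      Finset.sum_const_zero]
  have h8 : Nat.card {x // ∀ i, MvPolynomial.eval x (f i) = 0} = 1 :=
    Nat.card_eq_one_iff_exists.2 ⟨⟨0, h7⟩, fun x => Subtype.ext (h6 _ x.2)⟩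
  omega

theorem idem_false (hq : 2 < Nat.card F) {B : F → F → F} (hB : Biadd B) {l μ : F} (hl : Prim l)
    (hμ : Prim μ) (h : ∀ x y, B (l * x) (μ * y) = l * B x y) (h1 : ∀ x y, B (B x y) y = B x y)
    (h2 : ∀ y, y ≠ 0 → ∃ x, B x y ≠ 0) : False := by
  classical
  have t2 : (2 : F) = 0 := CharTwo.two_eq_zero
  have z : ∀ y, B 0 y = 0 := fun y => by simpa using hB.l 0 0 y
  have c : ∀ x y y', B (B x y) y' = B (B x y') y := fun x y y' => by
    have := h1 x (y + y')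
    rw [hB.r, hB.r, hB.l, hB.l, h1, h1] at this
    linear_combination this - B (B x y') y * t2
  obtain ⟨v, v0, hv⟩ : ∃ v, v ≠ 0 ∧ ∀ y, B v y = 0 ∨ B v y = v := by
    have := Fintype.ofFinite F
    suffices ∀ s : Finset F, ∃ v, v ≠ 0 ∧ ∀ y ∈ s, B v y = 0 ∨ B v y = v by
      simpa using this Finset.univ
    intro s
    induction s using Finset.induction_on with
    | empty => exact ⟨1, one_ne_zero, by simp⟩
    | insert y0 s _ ih =>
      obtain ⟨v, v0, hv⟩ := ih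
      by_cases h3 : B v y0 = 0
      · exact ⟨v, v0, Finset.forall_mem_insert _ _ _ |>.2 ⟨Or.inl h3, hv⟩⟩
      refine ⟨_, h3, Finset.forall_mem_insert _ _ _ |>.2 ⟨Or.inr (h1 _ _), fun y hy => ?_⟩⟩
      rw [c]
      exact (hv y hy).imp (fun e => by rw [e, z]) fun e => by rw [e]
  have h3 : ∀ (i : ℕ) y, B (l ^ i * v) y = 0 ∨ B (l ^ i * v) y = l ^ i * v := fun i => by
    induction i with
    | zero => simpa using hv
    | succ i ih =>
      intro y
      rw [pow_succ', mul_assoc, ← mul_inv_cancel_left₀ (hμ.ne_zero hq) y, h]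
      exact (ih _).imp (fun e => by rw [e, mul_zero]) fun e => by rw [e]
  have h4 : ∀ x y, B x y = 0 ∨ B x y = x := fun x y => by
    by_cases x0 : x = 0
    · simp [x0, z]
    obtain ⟨i, hi⟩ := hl (x * v⁻¹) (by simp [x0, v0])
    simpa [hi, v0] using h3 i y
  have h5 : ∀ y, y ≠ 0 → B 1 y = 1 := fun y hy => (h4 1 y).resolve_left fun e => by
    obtain ⟨x, hx⟩ := h2 y hy
    have e1 := (h4 x y).resolve_left hx
    rcases h4 (x + 1) y with e2 | e2 <;> rw [hB.l, e, add_zero] at e2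
    · exact hx e2
    · simp [e1] at e2
  obtain ⟨y, y0, y1⟩ := exists_ne_zero_one hq
  have := h5 (y + 1) (by rwa [Ne, CharTwo.add_eq_zero])
  rw [hB.r, h5 y y0, h5 1 one_ne_zero, CharTwo.add_self_eq_zero] at this
  exact zero_ne_one this

end Add

variable {P : Type*} [Group P] {ξ : MulAut P}

/-- invariant subgroups -/
def Ivt (ξ : MulAut P) (X : Subgroup P) : Prop := ∀ x ∈ X, ξ x ∈ X

/-- coordinates on a section `X / Y` -/
structure Sec {W : Type*} [AddCommGroup W] (ξ : MulAut P) (X Y : Subgroup P) (π : P → W)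
    (T : W → W) : Prop where
  add : ∀ x ∈ X, ∀ y ∈ X, π (x * y) = π x + π y
  ker : ∀ x ∈ X, π x = 0 ↔ x ∈ Y
  surj : ∀ w, ∃ x ∈ X, π x = w
  act : ∀ x ∈ X, π (ξ x) = T (π x)
  le : Y ≤ X
  ivt : Ivt ξ X

theorem Ivt.pow {X : Subgroup P} (h : Ivt ξ X) (i : ℕ) : ∀ x ∈ X, (ξ ^ i) x ∈ X := by
  induction i with
  | zero => exact fun x hx => hx
  | succ i ih => intro x hx; rw [pow_succ']; exact h _ (ih x hx)

theorem Ivt.surj [Finite P] {X : Subgroup P} (h : Ivt ξ X) {y : P} (hy : y ∈ X) : ∃ x ∈ X, ξ x = y :=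
  (eq_of_le_of_card_ge (H := X.map ξ.toMonoidHom) (by rintro _ ⟨x, hx, rfl⟩; exact h x hx)
    (card_map_of_injective ξ.injective).ge).ge hy

theorem ivt_top : Ivt ξ ⊤ := fun _ _ => mem_top _
theorem ivt_bot : Ivt ξ ⊥ := fun x hx => by simpa using hx
theorem Ivt.inf {X Y : Subgroup P} (h : Ivt ξ X) (h' : Ivt ξ Y) : Ivt ξ (X ⊓ Y) :=
  fun x hx => ⟨h x hx.1, h' x hx.2⟩
theorem ivt_iff {X : Subgroup P} : Ivt ξ X ↔ X.map ξ.toMonoidHom ≤ X :=
  ⟨fun h => by rintro _ ⟨x, hx, rfl⟩; exact h x hx, fun h x hx => h ⟨x, hx, rfl⟩⟩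
theorem Ivt.sup {X Y : Subgroup P} (h : Ivt ξ X) (h' : Ivt ξ Y) : Ivt ξ (X ⊔ Y) :=
  ivt_iff.2 ((Subgroup.map_sup _ _ _).trans_le (sup_le_sup (ivt_iff.1 h) (ivt_iff.1 h')))
theorem Ivt.comm {X Y : Subgroup P} (h : Ivt ξ X) (h' : Ivt ξ Y) : Ivt ξ ⁅X, Y⁆ :=
  ivt_iff.2 ((map_commutator _ _ _).trans_le (commutator_mono (ivt_iff.1 h) (ivt_iff.1 h')))

namespace Sec

variable {W : Type*} [AddCommGroup W] {X Y : Subgroup P} {π : P → W} {T : W → W}
  (h : Sec ξ X Y π T)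
include h

theorem one : π 1 = 0 := (h.ker 1 (one_mem _)).2 (one_mem _)
theorem of_mem {y : P} (hy : y ∈ Y) : π y = 0 := (h.ker y (h.le hy)).2 hy
theorem inv {x : P} (hx : x ∈ X) : π x⁻¹ = -π x :=
  eq_neg_of_add_eq_zero_left (by rw [← h.add _ (inv_mem hx) _ hx, inv_mul_cancel, h.one])
theorem eq_iff {x y : P} (hx : x ∈ X) (hy : y ∈ X) : π x = π y ↔ x⁻¹ * y ∈ Y := by
  rw [← h.ker _ (mul_mem (inv_mem hx) hy), h.add _ (inv_mem hx) _ hy, h.inv hx, neg_add_eq_zero]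

theorem act_pow (i : ℕ) : ∀ x ∈ X, π ((ξ ^ i) x) = T^[i] (π x) := by
  induction i with
  | zero => exact fun x hx => rfl
  | succ i ih =>
    intro x hx
    rw [pow_succ', MulAut.mul_apply, h.act _ (h.ivt.pow i x hx), ih x hx, Function.iterate_succ_apply']

/-- preimage of a subgroup -/
def pre (U : AddSubgroup W) : Subgroup P where
  carrier := {x | x ∈ X ∧ π x ∈ U}
  one_mem' := ⟨one_mem _, h.one ▸ zero_mem _⟩
  mul_mem' hx hy := ⟨mul_mem hx.1 hy.1, h.add _ hx.1 _ hy.1 ▸ add_mem hx.2 hy.2⟩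
  inv_mem' hx := ⟨inv_mem hx.1, h.inv hx.1 ▸ neg_mem hx.2⟩

/-- image of a subgroup -/
def im (B : Subgroup P) : AddSubgroup W where
  carrier := {w | ∃ x ∈ B ⊓ X, π x = w}
  zero_mem' := ⟨1, one_mem _, h.one⟩
  add_mem' := by
    rintro _ _ ⟨x, hx, rfl⟩ ⟨y, hy, rfl⟩; exact ⟨_, mul_mem hx hy, h.add _ hx.2 _ hy.2⟩
  neg_mem' := by rintro _ ⟨x, hx, rfl⟩; exact ⟨_, inv_mem hx, h.inv hx.2⟩

theorem card : Nat.card X = Nat.card Y * Nat.card W := by
  let φ : X →* Multiplicative W := MonoidHom.mk' (fun x => Multiplicative.ofAdd (π x))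
    fun x y => congrArg Multiplicative.ofAdd (h.add _ x.2 _ y.2)
  have h1 : φ.ker = Y.subgroupOf X := Subgroup.ext fun x => h.ker x x.2
  rw [← φ.ker.card_mul_index, index_ker, h1, card_subgroupOf_of_le h.le,
    MonoidHom.range_eq_top.2 fun w => have ⟨x, hx, e⟩ := h.surj w.toAdd; ⟨⟨x, hx⟩, e⟩, card_top]
  rfl

theorem descend {V : Type*} {Q : P → V} (hQ : ∀ x ∈ X, ∀ y ∈ Y, Q (x * y) = Q x) :
    ∃ q : W → V, ∀ x ∈ X, Q x = q (π x) := by
  choose s h1 h2 using h.surj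
  refine ⟨fun w => Q (s w), fun x hx => ?_⟩
  rw [← hQ x hx _ ((h.eq_iff hx (h1 _)).1 (h2 _).symm), mul_inv_cancel_left]

end Sec

universe u in
theorem exists_sec {P : Type u} [Group P] {ξ : MulAut P} [Finite P] {X Y : Subgroup P} (hYX : Y ≤ X) (hX : Ivt ξ X) (hY : Ivt ξ Y)
    (hn : ∀ x ∈ X, ∀ y ∈ Y, x * y * x⁻¹ ∈ Y) (hsq : ∀ x ∈ X, x * x ∈ Y) :
    ∃ (W : Type u) (_ : AddCommGroup W) (_ : Finite W) (π : P → W) (T : AddMonoid.End W),
      Sec ξ X Y π T ∧ ∀ w : W, w + w = 0 := by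
  classical
  have : (Y.subgroupOf X).Normal := ⟨fun y hy x => hn x x.2 y hy⟩
  have h2 : ∀ w : X ⧸ Y.subgroupOf X, w * w = 1 := fun w => by
    obtain ⟨x, rfl⟩ := QuotientGroup.mk_surjective w
    exact (QuotientGroup.eq_one_iff (x * x)).2 (hsq x x.2)
  let _ : CommGroup (X ⧸ Y.subgroupOf X) :=
    { (inferInstance : Group (X ⧸ Y.subgroupOf X)) with
      mul_comm := fun a b => by
        rw [← inv_eq_of_mul_eq_one_right (h2 (a * b)), mul_inv_rev, inv_eq_of_mul_eq_one_right (h2 a),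
          inv_eq_of_mul_eq_one_right (h2 b)] }
  let ξ' : X →* X := (ξ.toMonoidHom.comp X.subtype).codRestrict X fun x => hX x x.2
  let T := QuotientGroup.map (Y.subgroupOf X) (Y.subgroupOf X) ξ' fun y hy => hY y hy
  refine ⟨Additive (X ⧸ Y.subgroupOf X), inferInstance, inferInstance,
    fun x => if h : x ∈ X then Additive.ofMul (QuotientGroup.mk ⟨x, h⟩) else 0, T.toAdditive,
    ⟨fun x hx y hy => ?_, fun x hx => ?_, fun w => ?_, fun x hx => ?_, hYX, hX⟩, h2⟩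
  · simp only [dif_pos hx, dif_pos hy, dif_pos (mul_mem hx hy)]; rfl
  · rw [dif_pos hx]
    exact QuotientGroup.eq_one_iff (N := Y.subgroupOf X) ⟨x, hx⟩
  · obtain ⟨x, hx⟩ := QuotientGroup.mk_surjective w.toMul
    exact ⟨x, x.2, by simp [hx]⟩
  · simp only [dif_pos hx, dif_pos (hX x hx)]; rfl

variable {F : Type*} [Field F]

theorem descend2 {X Y X' Y' : Subgroup P} {π π' : P → F} {μ μ' l : F} (h : Sec ξ X Y π (μ * ·))
    (h' : Sec ξ X' Y' π' (μ' * ·)) {β : P → P → F}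
    (h1 : ∀ x ∈ X, ∀ y ∈ X, ∀ z ∈ X', β (x * y) z = β x z + β y z)
    (h2 : ∀ x ∈ X, ∀ y ∈ X', ∀ z ∈ X', β x (y * z) = β x y + β x z)
    (h3 : ∀ x ∈ Y, ∀ z ∈ X', β x z = 0) (h4 : ∀ x ∈ X, ∀ z ∈ Y', β x z = 0)
    (h5 : ∀ x ∈ X, ∀ z ∈ X', β (ξ x) (ξ z) = l * β x z) :
    ∃ B : F → F → F, Biadd B ∧ (∀ x y, B (μ * x) (μ' * y) = l * B x y) ∧
      ∀ x ∈ X, ∀ z ∈ X', β x z = B (π x) (π' z) := by
  choose s a1 a2 using h.surj
  choose s' b1 b2 using h'.surj
  have key : ∀ x ∈ X, ∀ z ∈ X', β x z = β (s (π x)) (s' (π' z)) := fun x hx z hz => by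
    have e1 := (h.eq_iff hx (a1 _)).1 (a2 _).symm
    have e2 := (h'.eq_iff hz (b1 _)).1 (b2 _).symm
    rw [← mul_inv_cancel_left x (s _), h1 _ hx _ (h.le e1) _ (b1 _), h3 _ e1 _ (b1 _), add_zero,
      ← mul_inv_cancel_left z (s' _), h2 _ hx _ hz _ (h'.le e2), h4 _ hx _ e2, add_zero]
  refine ⟨fun x y => β (s x) (s' y), ⟨fun x x' y => ?_, fun x y y' => ?_⟩, fun x y => ?_, key⟩
  · rw [← h1 _ (a1 _) _ (a1 _) _ (b1 _), key _ (mul_mem (a1 x) (a1 x')) _ (b1 y),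
      h.add _ (a1 _) _ (a1 _), a2, a2, b2]
  · rw [← h2 _ (a1 _) _ (b1 _) _ (b1 _), key _ (a1 x) _ (mul_mem (b1 y) (b1 y')),
      h'.add _ (b1 _) _ (b1 _), a2, b2, b2]
  · rw [← h5 _ (a1 _) _ (b1 _), key _ (h.ivt _ (a1 x)) _ (h'.ivt _ (b1 y)), h.act _ (a1 _),
      h'.act _ (b1 _), a2, b2]

theorem comm_mem_of_sq {N : Subgroup P} [hN : N.Normal] {x y : P} (h1 : x * x ∈ N) (h2 : y * y ∈ N)
    (h3 : x * y * (x * y) ∈ N) : ⁅x, y⁆ ∈ N := by
  rw [show ⁅x, y⁆ = x * y * (x * y) * (y⁻¹ * (x * x)⁻¹ * y⁻¹⁻¹) * (y * y)⁻¹ by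
    rw [commutatorElement_def]; group]
  exact mul_mem (mul_mem h3 (hN.conj_mem _ (inv_mem h1) _)) (inv_mem h2)

theorem comm_mul_l (x y z : P) : ⁅x * y, z⁆ = x * ⁅y, z⁆ * x⁻¹ * ⁅x, z⁆ := by
  simp only [commutatorElement_def]; group

theorem comm_mul_r (x y z : P) : ⁅x, y * z⁆ = ⁅x, y⁆ * (y * ⁅x, z⁆ * y⁻¹) := by
  simp only [commutatorElement_def]; group

theorem frat_sq [Finite P] (hP : IsPGroup 2 P) {A B : Subgroup P}
    (hA : ∀ x ∈ A, ∀ y ∈ A, x * y = y * x)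
    (h : ∀ a ∈ A, ∃ b ∈ B, ∃ c ∈ A, a = b * (c * c)) : A ≤ B := fun a ha => by
  have key : ∀ k : ℕ, ∃ b ∈ B, ∃ c ∈ A, a = b * c ^ 2 ^ k := fun k => by
    induction k with
    | zero => exact ⟨1, one_mem _, a, ha, by simp⟩
    | succ k ih =>
      obtain ⟨b, hb, c, hc, rfl⟩ := ih
      obtain ⟨b', hb', c', hc', e⟩ := h c hc
      have h2 : b' ∈ A := by
        rw [eq_mul_inv_of_mul_eq e.symm]; exact mul_mem hc (inv_mem (mul_mem hc' hc'))
      refine ⟨b * b' ^ 2 ^ k, mul_mem hb (pow_mem hb' _), c', hc', ?_⟩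
      rw [e, Commute.mul_pow (hA _ h2 _ (mul_mem hc' hc')), ← sq, ← pow_mul, ← pow_succ', mul_assoc]
  obtain ⟨k, hk⟩ := hP.exists_card_eq
  obtain ⟨b, hb, c, -, e⟩ := key k
  rwa [e, ← hk, pow_card_eq_one', mul_one]

end Cfsg.Agent.Inv
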