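import Cfsg.Agent.Inv.Suz2

/-! Higman's theorem on Suzuki 2-groups. -/

set_option autoImplicit false
set_option linter.unusedVariables false
set_option linter.unusedSectionVars false

namespace Cfsg.Agent.Inv

open Subgroup Cfsg.Agent.PLoc
open scoped commutatorElement

variable {P : Type*} [Group P] [Finite P] {ξ : MulAut P} {F : Type*} [Field F] [Finite F] [CharP F 2]

/-- a 2-group with a semiregular automorphism of order `|F| - 1` -/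
structure SuzA (ξ : MulAut P) (F : Type*) : Prop where
  two : IsPGroup 2 P
  big : 2 < Nat.card F
  pow : ξ ^ (Nat.card F - 1) = 1
  free : ∀ (i : ℕ) x, (ξ ^ i) x = x → x = 1 ∨ Nat.card F - 1 ∣ i

theorem odd_card_sub_one : Odd (Nat.card F - 1) := by
  have := Fintype.ofFinite F
  obtain ⟨n, -, hn⟩ := FiniteField.card F 2
  rw [Nat.card_eq_fintype_card, hn]
  exact Nat.Even.sub_odd Nat.one_le_two_pow (Nat.even_pow.2 ⟨even_two, n.ne_zero⟩) odd_one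

theorem surj_of_ne {X : Subgroup P} {π : P → F} {l : F} (hl : Prim l) (hX : Ivt ξ X) (h1 : π 1 = 0)
    (h : ∀ x ∈ X, π (ξ x) = l * π x) (h0 : ∃ x ∈ X, π x ≠ 0) (w : F) : ∃ x ∈ X, π x = w := by
  obtain ⟨x, hx, h0⟩ := h0
  by_cases hw : w = 0
  · exact ⟨1, one_mem _, hw ▸ h1⟩
  obtain ⟨i, hi⟩ := hl (w * (π x)⁻¹) (by simp [hw, h0])
  refine ⟨_, hX.pow i x hx, Eq.trans ?_ ((mul_inv_eq_iff_eq_mul₀ h0).1 hi.symm).symm⟩
  clear hi
  induction i with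
  | zero => simp
  | succ i ih => rw [pow_succ', MulAut.mul_apply, h _ (hX.pow i x hx), ih, pow_succ', mul_assoc]

namespace SuzA

variable (S : SuzA ξ F)
include S

theorem fpf {Y : Subgroup P} (hY : Ivt ξ Y) {i : ℕ} {x : P} (h : x⁻¹ * (ξ ^ i) x ∈ Y) :
    x ∈ Y ∨ Nat.card F - 1 ∣ i := or_iff_not_imp_right.2 fun hi => by
  have key : ∀ x y : P, x⁻¹ * (ξ ^ i) x = y⁻¹ * (ξ ^ i) y → x = y := fun x y e =>
    mul_inv_eq_one.1 ((S.free i _ (by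
      rw [map_mul, map_inv, mul_inv_eq_iff_eq_mul, mul_assoc, ← e, mul_inv_cancel_left])).resolve_right hi)
  obtain ⟨y, hy⟩ := Finite.injective_iff_surjective.1 (fun y y' e => Subtype.ext
    (key _ _ (congrArg Subtype.val e)) : Function.Injective fun y : Y =>
      (⟨(y : P)⁻¹ * (ξ ^ i) y, mul_mem (inv_mem y.2) (hY.pow i y y.2)⟩ : Y)) ⟨_, h⟩
  exact key _ _ (congrArg Subtype.val hy) ▸ y.2

theorem end_pow {W : Type*} [AddCommGroup W] {X Y : Subgroup P} {π : P → W} {T : AddMonoid.End W}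
    (h : Sec ξ X Y π T) : T ^ (Nat.card F - 1) = 1 := AddMonoidHom.ext fun w => by
  obtain ⟨x, hx, rfl⟩ := h.surj w
  have := h.act_pow (Nat.card F - 1) x hx
  rw [S.pow, ← AddMonoid.End.coe_pow] at this
  exact this.symm

theorem coord {X Y : Subgroup P} (hYX : Y ≤ X) (hX : Ivt ξ X) (hY : Ivt ξ Y)
    (hn : ∀ x ∈ X, ∀ y ∈ Y, x * y * x⁻¹ ∈ Y) (hsq : ∀ x ∈ X, x * x ∈ Y) (ne : ¬ X ≤ Y)
    (min : ∀ B, Ivt ξ B → Y ≤ B → B ≤ X → B ≤ Y ∨ X ≤ B) :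
    ∃ (g : P → F) (μ : F), Sec ξ X Y g (μ * ·) ∧ Prim μ := by
  obtain ⟨W, _, _, π, T, h, h2⟩ := exists_sec hYX hX hY hn hsq
  obtain ⟨x, hx, hx'⟩ := SetLike.not_le_iff_exists.1 ne
  have : Nontrivial W := ⟨π x, 0, mt (h.ker x hx).1 hx'⟩
  obtain ⟨g, μ, h3, h4⟩ := add_coord (F := F) T h2 (S.end_pow h) (fun i w e => by
    obtain ⟨x, hx, rfl⟩ := h.surj w
    rw [AddMonoid.End.coe_pow, ← h.act_pow i x hx] at e
    exact (S.fpf hY ((h.eq_iff hx (hX.pow i x hx)).1 e.symm)).imp_left (h.ker x hx).2) fun U hU =>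
      (min (h.pre U) (fun x hx => ⟨hX x hx.1, h.act x hx.1 ▸ hU _ hx.2⟩)
        (fun y hy => ⟨hYX hy, h.of_mem hy ▸ zero_mem _⟩) fun _ h => h.1).imp
        (fun e => (AddSubgroup.eq_bot_iff_forall _).2 fun w hw => by
          obtain ⟨x, hx, rfl⟩ := h.surj w
          exact h.of_mem (e ⟨hx, hw⟩))
        fun e => (AddSubgroup.eq_top_iff' _).2 fun w => by
          obtain ⟨x, hx, rfl⟩ := h.surj w
          exact (e hx).2
  refine ⟨fun x => g (π x), μ, ⟨fun x hx y hy => by rw [h.add x hx y hy, map_add],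
    fun x hx => by rw [← h.ker x hx]; simp, fun w => ?_, fun x hx => by rw [h.act x hx, h4], hYX, hX⟩,
    h3⟩
  obtain ⟨x, hx, e⟩ := h.surj (g.symm w)
  exact ⟨x, hx, by simp [e]⟩

theorem compl {X Y B : Subgroup P} (hYB : Y ≤ B) (hBX : B ≤ X) (hX : Ivt ξ X) (hY : Ivt ξ Y)
    (hB : Ivt ξ B) (hn : ∀ x ∈ X, ∀ y ∈ Y, x * y * x⁻¹ ∈ Y) (hsq : ∀ x ∈ X, x * x ∈ Y) :
    ∃ U, Ivt ξ U ∧ Y ≤ U ∧ U ≤ X ∧ (∀ x ∈ B, x ∈ U → x ∈ Y) ∧
      ∀ x ∈ X, ∃ b ∈ B, ∃ u ∈ U, x = b * u := by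
  obtain ⟨W, _, _, π, T, h, h2⟩ := exists_sec (hYB.trans hBX) hX hY hn hsq
  obtain ⟨V, h3, h4⟩ := add_compl T h2 (S.end_pow h) odd_card_sub_one (h.im B) (by
    rintro _ ⟨x, hx, rfl⟩; exact ⟨_, ⟨hB x hx.1, hX x hx.2⟩, h.act x hx.2⟩)
  refine ⟨h.pre V, fun x hx => ⟨hX x hx.1, h.act x hx.1 ▸ h3 _ hx.2⟩,
    fun y hy => ⟨h.le hy, h.of_mem hy ▸ zero_mem _⟩, fun _ h => h.1, fun x hx hx' => (h.ker x hx'.1).1
      (AddSubgroup.disjoint_def.1 h4.disjoint ⟨x, ⟨hx, hx'.1⟩, rfl⟩ hx'.2), fun x hx => ?_⟩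
  obtain ⟨_, ⟨b, hb, rfl⟩, v, hv, e⟩ := AddSubgroup.mem_sup.1 (h4.sup_eq_top.ge (AddSubgroup.mem_top (π x)))
  refine ⟨b, hb.1, b⁻¹ * x, ⟨mul_mem (inv_mem hb.2) hx, ?_⟩, by simp⟩
  rwa [h.add _ (inv_mem hb.2) _ hx, h.inv hb.2, ← e, neg_add_cancel_left]

end SuzA

/-- a minimal invariant extension -/
structure Cov (ξ : MulAut P) (A C : Subgroup P) (g : P → F) (μ : F) : Prop where
  sec : Sec ξ C A g (μ * ·)
  prim : Prim μ
  comm : ∀ c ∈ C, ∀ x, ⁅c, x⁆ ∈ A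
  sq : ∀ c ∈ C, c * c ∈ A

theorem Cov.normal {A C : Subgroup P} {g : P → F} {μ : F} (h : Cov ξ A C g μ) : C.Normal :=
  ⟨fun c hc x => by
    rw [show x * c * x⁻¹ = ⁅c, x⁆⁻¹ * c by simp [commutatorElement_def, mul_assoc]]
    exact mul_mem (inv_mem (h.sec.le (h.comm c hc x))) hc⟩

theorem SuzA.exists_cov' (S : SuzA ξ F) {A N : Subgroup P} [hA : A.Normal] (h1 : Ivt ξ A)
    (h2 : Ivt ξ N) (h3 : A ≤ N) (h4 : ¬ N ≤ A) (h5 : ∀ c ∈ N, ∀ x, ⁅c, x⁆ ∈ A)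
    (h6 : ∀ c ∈ N, c * c ∈ A) : ∃ C ≤ N, ∃ (g : P → F) (μ : F), Cov ξ A C g μ := by
  obtain ⟨C, hC, ⟨c1, c2, c3⟩, hmin⟩ :=
    exists_minimal_le_of_wellFoundedLT (fun C => Ivt ξ C ∧ A ≤ C ∧ ¬ C ≤ A) N ⟨h2, h3, h4⟩
  obtain ⟨g, μ, h7, h8⟩ := S.coord c2 c1 h1 (fun x _ y hy => hA.conj_mem y hy x)
    (fun x hx => h6 x (hC hx)) c3 fun B b1 b2 b3 =>
      or_iff_not_imp_left.2 fun h => hmin ⟨b1, b2, h⟩ b3
  exact ⟨C, hC, g, μ, h7, h8, fun c hc => h5 c (hC hc), fun c hc => h6 c (hC hc)⟩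

theorem SuzA.exists_cov (S : SuzA ξ F) {A N : Subgroup P} [hA : A.Normal] [hN : N.Normal]
    (h1 : Ivt ξ A) (h2 : Ivt ξ N) (h3 : A ≤ N) (h4 : ¬ N ≤ A) :
    ∃ C ≤ N, ∃ (g : P → F) (μ : F), Cov ξ A C g μ := by
  classical
  let M : Subgroup P :=
    { carrier := {c | c ∈ N ∧ (∀ x, ⁅c, x⁆ ∈ A) ∧ c * c ∈ A}
      one_mem' := ⟨one_mem _, by simp, by simp⟩
      mul_mem' := fun {x y} hx hy => ⟨mul_mem hx.1 hy.1, fun z => by
        rw [comm_mul_l]; exact mul_mem (hA.conj_mem _ (hy.2.1 z) _) (hx.2.1 z), by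
        rw [show x * y * (x * y) = x * ⁅y, x⁆ * x⁻¹ * (x * x) * (y * y) by
          rw [commutatorElement_def]; group]
        exact mul_mem (mul_mem (hA.conj_mem _ (hy.2.1 x) _) hx.2.2) hy.2.2⟩
      inv_mem' := fun {x} hx => ⟨inv_mem hx.1, fun z => by
        rw [show ⁅x⁻¹, z⁆ = x⁻¹ * ⁅x, z⁆⁻¹ * x⁻¹⁻¹ by simp only [commutatorElement_def]; group]
        exact hA.conj_mem _ (inv_mem (hx.2.1 z)) _, by rw [← mul_inv_rev]; exact inv_mem hx.2.2⟩ }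
  have := S.two.isNilpotent
  obtain ⟨x, hx, hxA, h5⟩ := Core.exists_mem_center_mod h4
  have h6 : ∃ k : ℕ, x ^ 2 ^ k ∈ A := have ⟨k, hk⟩ := S.two x; ⟨k, hk ▸ one_mem _⟩
  obtain ⟨k, hk⟩ := Nat.exists_eq_succ_of_ne_zero (n := Nat.find h6) fun e => hxA (by
    simpa [e] using Nat.find_spec h6)
  obtain ⟨C, hC, h7⟩ := S.exists_cov' (N := M) h1 (fun c hc => ⟨h2 c hc.1, fun y => by
      rw [← ξ.apply_symm_apply y, ← map_commutatorElement]; exact h1 _ (hc.2.1 _),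
      by rw [← map_mul]; exact h1 _ hc.2.2⟩)
    (fun a ha => ⟨h3 ha, fun y => by
      rw [commutatorElement_def, mul_assoc, mul_assoc, ← mul_assoc y]
      exact mul_mem ha (hA.conj_mem _ (inv_mem ha) y), mul_mem ha ha⟩)
    (fun h => Nat.find_min h6 (m := k) (by omega) (h ⟨pow_mem hx _, fun y =>
      h5 (commutator_mem_commutator (npow_mem_zpowers x _) (mem_top y)), by
        rw [← pow_add, ← two_mul, ← pow_succ', ← Nat.succ_eq_add_one, ← hk]; exact Nat.find_spec h6⟩))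
    (fun c hc => hc.2.1) fun c hc => hc.2.2
  exact ⟨C, fun c hc => (hC hc).1, h7⟩

/-- an abelian invariant normal subgroup of exponent `2 ^ (e + 1)` -/
structure HA (ξ : MulAut P) (A : Subgroup P) (e : ℕ) : Prop where
  normal : A.Normal
  ivt : Ivt ξ A
  comm : ∀ x ∈ A, ∀ y ∈ A, x * y = y * x
  ex1 : ∀ a ∈ A, a ^ 2 ^ (e + 1) = 1
  ex2 : ∃ a ∈ A, a ^ 2 ^ e ≠ 1

theorem exists_HA (hP : IsPGroup 2 P) {A : Subgroup P} (h1 : A.Normal) (h2 : Ivt ξ A)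
    (h3 : ∀ x ∈ A, ∀ y ∈ A, x * y = y * x) (h4 : A ≠ ⊥) : ∃ e, HA ξ A e := by
  classical
  have h5 : ∃ k : ℕ, ∀ a ∈ A, a ^ 2 ^ k = 1 :=
    have ⟨k, hk⟩ := hP.exists_card_eq; ⟨k, fun a _ => hk ▸ pow_card_eq_one'⟩
  obtain ⟨k, hk⟩ := Nat.exists_eq_succ_of_ne_zero (n := Nat.find h5) fun e =>
    h4 ((eq_bot_iff_forall _).2 (by simpa [e] using Nat.find_spec h5))
  exact ⟨k, h1, h2, h3, by simpa [hk] using Nat.find_spec h5,
    by simpa using Nat.find_min h5 (m := k) (by omega)⟩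

/-- the elements of `A` killed by `2 ^ e` -/
def Lo (A : Subgroup P) (e : ℕ) : Subgroup P := closure {a | a ∈ A ∧ a ^ 2 ^ e = 1}

theorem HA.mem_Lo {A : Subgroup P} {e : ℕ} (h : HA ξ A e) {k : ℕ} {x : P} :
    x ∈ Lo A k ↔ x ∈ A ∧ x ^ 2 ^ k = 1 := by
  refine ⟨fun hx => ?_, fun hx => subset_closure hx⟩
  induction hx using closure_induction with
  | mem x hx => exact hx
  | one => simp
  | mul x y _ _ hx hy =>
    exact ⟨mul_mem hx.1 hy.1, by rw [Commute.mul_pow (h.comm _ hx.1 _ hy.1), hx.2, hy.2, one_mul]⟩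
  | inv x _ hx => exact ⟨inv_mem hx.1, by rw [inv_pow, hx.2, inv_one]⟩

theorem pow_two_pow_succ (x : P) (e : ℕ) : (x * x) ^ 2 ^ e = x ^ 2 ^ (e + 1) := by
  rw [← sq, ← pow_mul, pow_succ']

theorem HA.lo {A : Subgroup P} {e : ℕ} (h : HA ξ A (e + 1)) : HA ξ (Lo A (e + 1)) e := by
  refine ⟨⟨fun x hx g => h.mem_Lo.2 ⟨h.normal.conj_mem _ (h.mem_Lo.1 hx).1 g, by
      rw [conj_pow, (h.mem_Lo.1 hx).2]; simp⟩⟩, fun x hx => h.mem_Lo.2 ⟨h.ivt _ (h.mem_Lo.1 hx).1, by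
      rw [← map_pow, (h.mem_Lo.1 hx).2, map_one]⟩,
    fun x hx y hy => h.comm _ (h.mem_Lo.1 hx).1 _ (h.mem_Lo.1 hy).1, fun a ha => (h.mem_Lo.1 ha).2, ?_⟩
  obtain ⟨a, ha, h1⟩ := h.ex2
  exact ⟨a * a, h.mem_Lo.2 ⟨mul_mem ha ha, by rw [pow_two_pow_succ, h.ex1 a ha]⟩,
    by rwa [pow_two_pow_succ]⟩

theorem HA.comm_mem {A : Subgroup P} {e : ℕ} (h : HA ξ A e) {a : P} (ha : a ∈ A) (x : P) :
    ⁅a, x⁆ ∈ A := by
  rw [commutatorElement_def, mul_assoc, mul_assoc, ← mul_assoc x]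
  exact mul_mem ha (h.normal.conj_mem _ (inv_mem ha) x)

/-- the top coordinate on an abelian subgroup -/
def gx (f : P → F) (e : ℕ) (x : P) : F := f (x ^ 2 ^ e)

theorem gx_sq (f : P → F) (e : ℕ) (x : P) : gx f e (x * x) = gx f (e + 1) x := by
  rw [gx, pow_two_pow_succ, gx]

/-- the full data of a Suzuki 2-group -/
structure SuzD (ξ : MulAut P) (Z : Subgroup P) (f : P → F) (l : F) : Prop extends SuzA ξ F where
  mem : ∀ x, x ∈ Z ↔ x * x = 1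
  cent : ∀ z ∈ Z, ∀ x, z * x = x * z
  sec : Sec ξ Z ⊥ f (l * ·)
  prim : Prim l

namespace SuzD

variable {Z : Subgroup P} {f : P → F} {l : F} (S : SuzD ξ Z f l) {A C : Subgroup P} {e : ℕ}
  {g : P → F} {μ : F}
include S

theorem pow_mem_Z {x : P} (h : x ^ 2 ^ (e + 1) = 1) : x ^ 2 ^ e ∈ Z :=
  (S.mem _).2 (by rw [← pow_add, ← two_mul, ← pow_succ', h])

theorem secA (h : HA ξ A e) : Sec ξ A (Lo A e) (gx f e) (l * ·) := by
  have h1 := fun a ha => S.pow_mem_Z (h.ex1 a ha)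
  have h2 : ∀ x ∈ A, gx f e x = 0 ↔ x ∈ Lo A e := fun x hx => by
    rw [gx, S.sec.ker _ (h1 x hx), h.mem_Lo, mem_bot, and_iff_right hx]
  have h3 : ∀ x ∈ A, gx f e (ξ x) = l * gx f e x := fun x hx => by
    rw [gx, ← map_pow, S.sec.act _ (h1 x hx), gx]
  refine ⟨fun x hx y hy => ?_, h2, surj_of_ne S.prim h.ivt ((h2 1 (one_mem _)).2 (one_mem _)) h3 ?_,
    h3, fun x hx => (h.mem_Lo.1 hx).1, h.ivt⟩
  · rw [gx, Commute.mul_pow (h.comm x hx y hy), S.sec.add _ (h1 x hx) _ (h1 y hy), gx, gx]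
  · obtain ⟨a, ha, h4⟩ := h.ex2
    exact ⟨a, ha, fun e => h4 (h.mem_Lo.1 ((h2 a ha).1 e)).2⟩

theorem Z_le (h : HA ξ A e) : Z ≤ A := fun z hz => by
  obtain ⟨a, ha, h1⟩ := (S.secA h).surj (f z)
  have := (S.sec.eq_iff (S.pow_mem_Z (h.ex1 a ha)) hz).1 h1
  rw [mem_bot, inv_mul_eq_one] at this
  exact this ▸ pow_mem ha _

theorem card_Z : Nat.card Z = Nat.card F := by simpa using S.sec.card

theorem sqrt (h : HA ξ A e) {a : P} (ha : a ∈ Lo A e) : ∃ b ∈ A, b * b = a := by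
  let ψ : A →* P := MonoidHom.mk' (fun a => a * a) fun x y => by
    rw [Subgroup.coe_mul, Commute.mul_mul_mul_comm (h.comm _ y.2 _ x.2).symm]
  have h1 : ψ.ker = Z.subgroupOf A := Subgroup.ext fun x => (S.mem x).symm
  have h2 := ψ.ker.card_mul_index
  rw [index_ker, h1, card_subgroupOf_of_le (S.Z_le h), (S.secA h).card, S.card_Z, mul_comm] at h2
  obtain ⟨b, hb⟩ := (eq_of_le_of_card_ge (H := ψ.range) (K := Lo A e) (by
    rintro _ ⟨x, rfl⟩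
    exact h.mem_Lo.2 ⟨mul_mem x.2 x.2, (pow_two_pow_succ _ _).trans (h.ex1 x x.2)⟩)
    (Nat.eq_of_mul_eq_mul_right Nat.card_pos h2).ge).ge ha
  exact ⟨b, b.2, hb⟩

theorem le_of_ne (h : HA ξ A e) {B : Subgroup P} (h1 : B ≤ A) (h2 : Ivt ξ B)
    (h3 : ∃ b ∈ B, gx f e b ≠ 0) : A ≤ B := frat_sq S.two h.comm fun a ha => by
  have hs := S.secA h
  obtain ⟨b, hb, e1⟩ := surj_of_ne S.prim h2 hs.one (fun x hx => hs.act x (h1 hx)) h3 (gx f e a)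
  obtain ⟨c, hc, e2⟩ := S.sqrt h ((hs.eq_iff (h1 hb) ha).1 e1)
  exact ⟨b, hb, c, hc, by rw [e2, mul_inv_cancel_left]⟩

theorem comm_g (h : HA ξ A e) {a : P} (ha : a ∈ A) (x : P) : gx f e ⁅a, x⁆ = 0 := by
  have := h.normal
  have h1 := Core.commutator_lt_of_isPGroup (S.two.to_subgroup A) (S.two.to_subgroup ⊤)
    le_normalizer_of_normal fun e => by
      obtain ⟨a, ha, h1⟩ := h.ex2
      exact h1 (by rw [(eq_bot_iff_forall _).1 e a ha, one_pow])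
  by_contra h2
  exact h1.not_ge (S.le_of_ne h h1.le (h.ivt.comm ivt_top)
    ⟨_, commutator_mem_commutator ha (mem_top x), h2⟩)

theorem comm_Lo (h : HA ξ A e) {a : P} (ha : a ∈ A) (x : P) : ⁅a, x⁆ ∈ Lo A e :=
  ((S.secA h).ker _ (h.comm_mem ha x)).1 (S.comm_g h ha x)

theorem g_inv (h : HA ξ A e) {a : P} (ha : a ∈ A) : gx f e a⁻¹ = gx f e a := by
  rw [(S.secA h).inv ha, CharTwo.neg_eq]

theorem conj_g (h : HA ξ A e) {a : P} (ha : a ∈ A) (x : P) : gx f e (x * a * x⁻¹) = gx f e a := by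
  rw [show x * a * x⁻¹ = ⁅a, x⁆⁻¹ * a by simp [commutatorElement_def, mul_assoc],
    (S.secA h).add _ (inv_mem (h.comm_mem ha x)) _ ha, S.g_inv h (h.comm_mem ha x), S.comm_g h ha,
    zero_add]

theorem g_l (h : HA ξ A e) {x y z : P} (h1 : ⁅x, z⁆ ∈ A) (h2 : ⁅y, z⁆ ∈ A) :
    gx f e ⁅x * y, z⁆ = gx f e ⁅x, z⁆ + gx f e ⁅y, z⁆ := by
  rw [comm_mul_l, (S.secA h).add _ (h.normal.conj_mem _ h2 _) _ h1, S.conj_g h h2, add_comm]

theorem g_r (h : HA ξ A e) {x y z : P} (h1 : ⁅x, y⁆ ∈ A) (h2 : ⁅x, z⁆ ∈ A) :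
    gx f e ⁅x, y * z⁆ = gx f e ⁅x, y⁆ + gx f e ⁅x, z⁆ := by
  rw [comm_mul_r, (S.secA h).add _ h1 _ (h.normal.conj_mem _ h2 _), S.conj_g h h2]

theorem g_symm (h : HA ξ A e) {x y : P} (h1 : ⁅x, y⁆ ∈ A) : gx f e ⁅y, x⁆ = gx f e ⁅x, y⁆ := by
  rw [← commutatorElement_inv, S.g_inv h h1]

theorem g_sq (h : HA ξ A e) {x y : P} (h1 : x * x ∈ A) (h2 : y * y ∈ A) (h3 : ⁅y, x⁆ ∈ A) :
    gx f e (x * y * (x * y)) = gx f e (x * x) + gx f e (y * y) + gx f e ⁅y, x⁆ := by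
  rw [show x * y * (x * y) = x * ⁅y, x⁆ * x⁻¹ * (x * x * (y * y)) by
    rw [commutatorElement_def]; group, (S.secA h).add _ (h.normal.conj_mem _ h3 _) _ (mul_mem h1 h2),
    (S.secA h).add _ h1 _ h2, S.conj_g h h3, add_comm]

/-- descent of commutator forms -/
theorem comm_form (h : HA ξ A e) {X Y X' Y' : Subgroup P} {π π' : P → F} {μ μ' : F}
    (h1 : Sec ξ X Y π (μ * ·)) (h2 : Sec ξ X' Y' π' (μ' * ·)) (h3 : ∀ x ∈ X, ∀ z ∈ X', ⁅x, z⁆ ∈ A)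
    (h4 : ∀ x ∈ Y, ∀ z ∈ X', gx f e ⁅x, z⁆ = 0) (h5 : ∀ x ∈ X, ∀ z ∈ Y', gx f e ⁅x, z⁆ = 0) :
    ∃ B : F → F → F, Biadd B ∧ (∀ x y, B (μ * x) (μ' * y) = l * B x y) ∧
      ∀ x ∈ X, ∀ z ∈ X', gx f e ⁅x, z⁆ = B (π x) (π' z) :=
  descend2 h1 h2 (β := fun x z => gx f e ⁅x, z⁆)
    (fun x hx y hy z hz => S.g_l h (h3 x hx z hz) (h3 y hy z hz))
    (fun x hx y hy z hz => S.g_r h (h3 x hx y hy) (h3 x hx z hz)) h4 h5 fun x hx z hz => by
      rw [← map_commutatorElement, (S.secA h).act _ (h3 x hx z hz)]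

theorem mem_of_comm (h : HA ξ A (e + 1)) {u : P} (h1 : u * u ∈ Lo A (e + 1))
    (h2 : ∀ b ∈ A, gx f e ⁅b, u⁆ = 0) : u ∈ A := by
  let ψ : A →* P := MonoidHom.mk' (fun b => b * (u * b * u⁻¹)) fun x y => by
    rw [Subgroup.coe_mul, ← conj_mul,
      Commute.mul_mul_mul_comm (h.comm _ y.2 _ (h.normal.conj_mem _ x.2 u))]
  obtain ⟨b, hb⟩ := frat_sq (B := ψ.range) S.two h.lo.comm (fun a ha => by
    obtain ⟨b, hb, rfl⟩ := S.sqrt h ha
    obtain ⟨c, hc, e⟩ := S.sqrt h.lo (((S.secA h.lo).ker _ (S.comm_Lo h hb u)).1 (h2 b hb))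
    refine ⟨_, ⟨⟨b, hb⟩, rfl⟩, c, hc, ?_⟩
    change b * b = b * (u * b * u⁻¹) * (c * c)
    rw [e, mul_assoc b, h.comm _ (h.normal.conj_mem _ hb u) _ (h.comm_mem hb u),
      commutatorElement_def]
    group) (inv_mem h1)
  have h3 : (b : P) * u ∈ A := S.Z_le h ((S.mem _).2 (by
    calc (b : P) * u * (b * u) = ψ b * (u * u) := by
          change _ = b * (u * b * u⁻¹) * (u * u); group
      _ = 1 := by rw [hb, inv_mul_cancel]))
  exact (A.mul_mem_cancel_left b.2).1 h3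

theorem beta_form (h : HA ξ A (e + 1)) (hC : Cov ξ A C g μ) :
    ∃ B : F → F → F, Biadd B ∧ (∀ x y, B (l * x) (μ * y) = l * B x y) ∧
      ∀ x ∈ A, ∀ z ∈ C, gx f e ⁅x, z⁆ = B (gx f (e + 1) x) (g z) :=
  S.comm_form h.lo (S.secA h) hC.sec (fun x hx z _ => S.comm_Lo h hx z)
    (fun x hx z _ => S.comm_g h.lo hx z) fun x hx z hz => by
      rw [commutatorElement_eq_one_iff_mul_comm.2 (h.comm x hx z hz), (S.secA h.lo).one]

theorem beta_ne (h : HA ξ A (e + 1)) (hC : Cov ξ A C g μ) (h1 : ∀ c ∈ C, gx f (e + 1) (c * c) = 0)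
    {B : F → F → F} (hB : ∀ x ∈ A, ∀ z ∈ C, gx f e ⁅x, z⁆ = B (gx f (e + 1) x) (g z)) {y : F}
    (hy : y ≠ 0) : ∃ x, B x y ≠ 0 := by
  obtain ⟨u, hu, rfl⟩ := hC.sec.surj y
  by_contra h2
  push Not at h2
  exact hy (hC.sec.of_mem (S.mem_of_comm h (((S.secA h).ker _ (hC.sq u hu)).1 (h1 u hu))
    fun b hb => by rw [hB b hb u hu, h2]))

theorem case1 (h : HA ξ A (e + 2)) (hC : Cov ξ A C g μ) (h1 : ∀ c ∈ C, gx f (e + 2) (c * c) = 0) :
    False := by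
  obtain ⟨B, b1, b2, b3⟩ := S.beta_form h hC
  refine idem_false S.big b1 S.prim hC.prim b2 (fun x y => ?_) fun y => S.beta_ne h hC h1 b3
  obtain ⟨a, ha, rfl⟩ := (S.secA h).surj x
  obtain ⟨u, hu, rfl⟩ := hC.sec.surj y
  obtain ⟨b, hb, e1⟩ := S.sqrt h (S.comm_Lo h ha u)
  obtain ⟨c, hc, e2⟩ := S.sqrt h (S.comm_Lo h hb u)
  rw [← b3 a ha u hu, ← e1, gx_sq, ← b3 b hb u hu, ← e2, gx_sq,
    (S.secA h).eq_iff hc hb, h.mem_Lo]
  refine ⟨mul_mem (inv_mem hc) hb, ?_⟩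
  have e3 := commutatorElement_eq_one_iff_mul_comm.2 (h.comm a ha _ (hC.sq u hu))
  have e4 : u * b * u⁻¹ = (c * c)⁻¹ * b := by rw [e2]; simp [commutatorElement_def, mul_assoc]
  rw [comm_mul_r, ← e1, ← conj_mul, e4] at e3
  have cb : Commute c b := h.comm c hc b hb
  rw [pow_add, mul_comm, pow_mul, cb.inv_left.mul_pow, show (c⁻¹) ^ 2 ^ 2 * b ^ 2 ^ 2 = 1 by
    rw [← e3, ← sq ((c * c)⁻¹ * b), (cb.mul_left cb).inv_left.mul_pow, ← mul_assoc, ← sq b,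
      ((cb.mul_left cb).inv_left.pow_pow 2 2).symm.eq]
    group, one_pow]

theorem case2a (h : HA ξ A e) (hC : Cov ξ A C g μ) (h1 : ∃ c ∈ C, gx f e (c * c) ≠ 0)
    (h2 : ∀ x ∈ C, ∀ y ∈ C, gx f e ⁅x, y⁆ = 0) : ∀ x ∈ C, ∀ y ∈ C, x * y = y * x := by
  have hs := S.secA h
  have add : ∀ x ∈ C, ∀ y ∈ C, gx f e (x * y * (x * y)) = gx f e (x * x) + gx f e (y * y) :=
    fun x hx y hy => by rw [S.g_sq h (hC.sq x hx) (hC.sq y hy) (hC.comm y hy x), h2 y hy x hx, add_zero]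
  obtain ⟨q, hq⟩ := hC.sec.descend (Q := fun x => gx f e (x * x)) fun x hx y hy => by
    simp only [add x hx y (hC.sec.le hy), hs.add y hy y hy, CharTwo.add_self_eq_zero, add_zero]
  obtain ⟨σ, rfl⟩ := lin_eq (f := q) (μ := μ) (l := l) (fun x y => by
    obtain ⟨x, hx, rfl⟩ := hC.sec.surj x
    obtain ⟨y, hy, rfl⟩ := hC.sec.surj y
    rw [← hC.sec.add x hx y hy, ← hq x hx, ← hq y hy, ← hq _ (mul_mem hx hy), add x hx y hy]) (fun x => by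
    obtain ⟨x, hx, rfl⟩ := hC.sec.surj x
    rw [← hC.sec.act x hx, ← hq x hx, ← hq _ (hC.sec.ivt x hx), ← map_mul, hs.act _ (hC.sq x hx)])
    (have ⟨c, hc, h⟩ := h1; ⟨_, hq c hc ▸ h⟩)
  have sec : Sec ξ C A (fun x => σ (g x)) (σ μ * ·) := ⟨fun x hx y hy => by
    rw [hC.sec.add x hx y hy, map_add], fun x hx => by rw [← hC.sec.ker x hx]; simp, fun w =>
      have ⟨x, hx, e⟩ := hC.sec.surj (σ.symm w); ⟨x, hx, by simp [e]⟩,
    fun x hx => by rw [hC.sec.act x hx, map_mul], hC.sec.le, hC.sec.ivt⟩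
  by_contra h3
  have := hC.normal
  have hD : ⁅C, C⁆ ≤ A := commutator_le.2 fun x hx y _ => hC.comm x hx y
  obtain ⟨d, hd⟩ := exists_HA S.two (A := ⁅C, C⁆) inferInstance (hC.sec.ivt.comm hC.sec.ivt)
    (fun x hx y hy => h.comm x (hD hx) y (hD hy)) fun e => h3 fun x hx y hy =>
      commutatorElement_eq_one_iff_mul_comm.1
        ((eq_bot_iff_forall _).1 e _ (commutator_mem_commutator hx hy))
  have mem := fun x hx y hy => commutator_mem_commutator (H₁ := C) (H₂ := C) (g₁ := x) (g₂ := y) hx hy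
  let B : Subgroup P :=
    { carrier := {a | a ∈ A ∧ ∀ v ∈ C, gx f d ⁅a, v⁆ = 0}
      one_mem' := ⟨one_mem _, fun v _ => by simpa using (S.secA hd).one⟩
      mul_mem' := fun {x y} hx hy => ⟨mul_mem hx.1 hy.1, fun v hv => by
        rw [S.g_l hd (mem _ (sec.le hx.1) _ hv) (mem _ (sec.le hy.1) _ hv), hx.2 v hv, hy.2 v hv,
          add_zero]⟩
      inv_mem' := fun {x} hx => ⟨inv_mem hx.1, fun v hv => by
        have := S.g_l hd (mem _ (inv_mem (sec.le hx.1)) _ hv) (mem _ (sec.le hx.1) _ hv)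
        rw [inv_mul_cancel, commutatorElement_one_left, (S.secA hd).one, hx.2 v hv, add_zero] at this
        exact this.symm⟩ }
  have hB : A ≤ B := S.le_of_ne h (fun _ h => h.1) (fun x hx => ⟨h.ivt x hx.1, fun v hv => by
      obtain ⟨v, hv', rfl⟩ := sec.ivt.surj hv
      rw [← map_commutatorElement, (S.secA hd).act _ (mem _ (sec.le hx.1) _ hv'), hx.2 v hv', mul_zero]⟩)
    (have ⟨c, hc, h⟩ := h1; ⟨c * c, ⟨hC.sq c hc, fun v hv => by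
      rw [S.g_l hd (mem _ hc _ hv) (mem _ hc _ hv), CharTwo.add_self_eq_zero]⟩, h⟩)
  obtain ⟨γ, b1, b2, b3⟩ := S.comm_form hd sec sec mem (fun x hx => (hB hx).2) fun x hx z hz => by
    rw [S.g_symm hd (mem _ (sec.le hz) _ hx), (hB hz).2 x hx]
  have b4 := alt_eq_zero S.prim b1 b2 (by
    obtain ⟨x, hx, e⟩ := sec.surj 1
    rw [← e, ← b3 x hx x hx, commutatorElement_self, (S.secA hd).one])
  obtain ⟨a, ha, h4⟩ := hd.ex2
  exact h4 (hd.mem_Lo.1 (commutator_le.2 (fun x hx y hy => ((S.secA hd).ker _ (mem x hx y hy)).1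
    (by rw [b3 x hx y hy, b4])) ha)).2

theorem case2b (h : HA ξ A (e + 1)) (hC : Cov ξ A C g μ) (h1 : ∃ c ∈ C, gx f (e + 1) (c * c) ≠ 0) :
    ∀ x ∈ C, ∀ y ∈ C, gx f (e + 1) ⁅x, y⁆ = 0 := by
  intro x hx y hy
  by_contra h2
  obtain ⟨γ, a1, a2, a3⟩ := S.comm_form h hC.sec hC.sec (fun x hx z _ => hC.comm x hx z)
    (fun x hx z _ => S.comm_g h hx z) fun x hx z hz => by
      rw [S.g_symm h (h.comm_mem hz x), S.comm_g h hz]
  obtain ⟨B, b1, b2, b3⟩ := S.beta_form h hC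
  obtain ⟨c, α, β, e1, -⟩ := mono_of_eq S.big hC.prim
    (bil_exists a1 a2 ⟨_, _, a3 x hx y hy ▸ h2⟩) b1 b2
  obtain ⟨u, hu, h1⟩ := h1
  have c0 : c = 0 := by
    have := b3 _ (hC.sq u hu) u hu
    rw [commutatorElement_eq_one_iff_mul_comm.2 (mul_assoc u u u), (S.secA h.lo).one, e1] at this
    have h3 : g u ≠ 0 := fun e => h1 (by
      have := (hC.sec.ker u hu).1 e
      rw [(S.secA h).add _ this _ this, CharTwo.add_self_eq_zero])
    simpa [h1, h3] using this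
  have hw := hC.comm x hx y
  have e2 := b3 _ (hC.sq x hx) y hy
  rw [e1, c0, zero_mul, comm_mul_l, show x * ⁅x, y⁆ * x⁻¹ * ⁅x, y⁆ = ⁅⁅x, y⁆, x⁆⁻¹ * (⁅x, y⁆ * ⁅x, y⁆) by
    generalize ⁅x, y⁆ = w; simp [commutatorElement_def, mul_assoc],
    (S.secA h.lo).add _ (inv_mem (S.comm_Lo h hw x)) _ (h.mem_Lo.2 ⟨mul_mem hw hw, by
      rw [pow_two_pow_succ, h.ex1 _ hw]⟩), S.g_inv h.lo (S.comm_Lo h hw x), b3 _ hw x hx, e1, c0,
    zero_mul, zero_add, gx_sq] at e2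
  exact h2 e2

theorem claim1 (h : HA ξ A e) (hC : Cov ξ A C g μ) (h1 : ¬ ∀ x ∈ C, ∀ y ∈ C, x * y = y * x) :
    e = 0 ∨ e = 1 ∧ ∀ c ∈ C, gx f 1 (c * c) = 0 := by
  rcases e with _ | e
  · exact Or.inl rfl
  by_cases h2 : ∃ c ∈ C, gx f (e + 1) (c * c) ≠ 0
  · exact absurd (S.case2a h hC h2 (S.case2b h hC h2)) h1
  push Not at h2
  rcases e with _ | e
  · exact Or.inr ⟨rfl, h2⟩
  · exact (S.case1 h hC h2).elim

theorem Z_normal : Z.Normal := ⟨fun z hz x => by rwa [← S.cent z hz, mul_inv_cancel_right]⟩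

theorem HA_Z : HA ξ Z 0 := by
  refine ⟨S.Z_normal, S.sec.ivt, fun x hx y _ => S.cent x hx y, fun a ha => by
    simpa [sq] using (S.mem a).1 ha, ?_⟩
  obtain ⟨z, hz, e⟩ := S.sec.surj 1
  exact ⟨z, hz, fun h => by
    rw [show z = 1 by simpa using h, S.sec.one] at e; exact zero_ne_one e⟩

theorem comm_sq {a x : P} (h : ⁅a, x⁆ ∈ Z) : a * (x * x) = x * x * a := by
  rw [← commutatorElement_eq_one_iff_mul_comm, comm_mul_r, ← S.cent _ h, mul_inv_cancel_right,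
    (S.mem _).1 h]

theorem Lo_one (h : HA ξ A e) {x : P} (hx : x ∈ Lo A 1) : x ∈ Z :=
  (S.mem x).2 (by simpa [sq] using (h.mem_Lo.1 hx).2)

theorem mem_Z_of_g (h : HA ξ A 1) {x : P} (hx : x ∈ A) (h1 : gx f 1 x = 0) : x ∈ Z :=
  S.Lo_one h (((S.secA h).ker x hx).1 h1)

/-- the eigenvalue on a section above `Z` -/
theorem exists_type {X : Subgroup P} (hX : Sec ξ X Z g (μ * ·)) (h1 : ∀ x ∈ X, x * x ∈ Z) :
    ∃ q : F → F, (∀ x ∈ X, f (x * x) = q (g x)) ∧ (∀ x, q (μ * x) = l * q x) ∧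
      (∀ x, x ≠ 0 → q x ≠ 0) ∧ Biadd fun x y => q (x + y) + q x + q y := by
  have := S.Z_normal
  have h0 : ∀ x, gx f 0 x = f x := fun x => by simp [gx]
  have h2 : ∀ x ∈ X, ∀ y ∈ X, ⁅x, y⁆ ∈ Z := fun x hx y hy =>
    comm_mem_of_sq (h1 x hx) (h1 y hy) (h1 _ (mul_mem hx hy))
  have h3 : ∀ x ∈ Z, ∀ y : P, ⁅x, y⁆ = (1 : P) := fun x hx y =>
    commutatorElement_eq_one_iff_mul_comm.2 (S.cent x hx y)
  obtain ⟨q, hq⟩ := hX.descend (Q := fun x => f (x * x)) fun x hx y hy => by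
    simp only [← h0]
    rw [S.g_sq S.HA_Z (h1 x hx) (mul_mem hy hy) (h2 _ (hX.le hy) _ hx), h3 y hy, (S.mem y).1 hy, h0 1,
      S.sec.one, add_zero, add_zero]
  obtain ⟨γ, a1, -, a3⟩ := S.comm_form S.HA_Z hX hX h2 (fun x hx z _ => S.comm_g S.HA_Z hx z)
    fun x hx z hz => by rw [S.g_symm S.HA_Z (h2 _ (hX.le hz) _ hx), S.comm_g S.HA_Z hz]
  refine ⟨q, hq, fun x => ?_, fun x hx => ?_, ?_⟩
  · obtain ⟨x, hx, rfl⟩ := hX.surj x
    rw [← hX.act x hx, ← hq x hx, ← hq _ (hX.ivt x hx), ← map_mul, S.sec.act _ (h1 x hx)]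
  · obtain ⟨x, hx', rfl⟩ := hX.surj x
    rw [← hq x hx', Ne, S.sec.ker _ (h1 x hx'), mem_bot, ← S.mem]
    exact mt hX.of_mem hx
  · convert a1 using 3 with x y
    obtain ⟨x, hx, rfl⟩ := hX.surj x
    obtain ⟨y, hy, rfl⟩ := hX.surj y
    rw [add_comm (g x), ← hX.add y hy x hx, ← hq x hx, ← hq y hy, ← hq _ (mul_mem hy hx),
      ← a3 x hx y hy]
    simp only [← h0]
    rw [S.g_sq S.HA_Z (h1 y hy) (h1 x hx) (h2 x hx y hy)]
    linear_combination (gx f 0 (y * y) + gx f 0 (x * x)) * CharTwo.two_eq_zero (R := F)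

theorem half (h : HA ξ A 1) (hC : Cov ξ A C g μ) (h1 : ∀ c ∈ C, gx f 1 (c * c) = 0) :
    ∃ α β : F ≃+* F, α l * β μ = l ∧ ∀ x ∈ C, ∀ x' ∈ C, ∀ y,
      α (gx f 1 ⁅x, y⁆) * β (g x') = α (gx f 1 ⁅x', y⁆) * β (g x) := by
  have := S.Z_normal
  have h2 : ∀ c ∈ C, c * c ∈ Z := fun c hc => S.mem_Z_of_g h (hC.sq c hc) (h1 c hc)
  obtain ⟨X, x1, x2, x3, x4, x5⟩ := S.toSuzA.compl (S.Z_le h) hC.sec.le hC.sec.ivt S.sec.ivt h.ivt
    (fun x _ y hy => this.conj_mem y hy x) h2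
  have hX : Sec ξ X Z g (μ * ·) := ⟨fun x hx y hy => hC.sec.add x (x3 hx) y (x3 hy), fun x hx =>
    (hC.sec.ker x (x3 hx)).trans ⟨fun e => x4 x e hx, fun e => S.Z_le h e⟩, fun w => by
      obtain ⟨c, hc, rfl⟩ := hC.sec.surj w
      obtain ⟨b, hb, u, hu, rfl⟩ := x5 c hc
      exact ⟨u, hu, by rw [hC.sec.add _ (hC.sec.le hb) _ (x3 hu), hC.sec.of_mem hb, zero_add]⟩,
    fun x hx => hC.sec.act x (x3 hx), x2, x1⟩
  obtain ⟨q, -, q1, q2, q3⟩ := S.exists_type hX fun x hx => h2 x (x3 hx)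
  obtain ⟨B, b1, b2, b3⟩ := S.beta_form h hC
  obtain ⟨c, α, β, e1, e2⟩ := mono_of_eq S.big hC.prim
    (quad_exists q3 q1 ⟨1, q2 1 one_ne_zero⟩) b1 b2
  have c0 : c ≠ 0 := fun e => by
    obtain ⟨x, hx⟩ := S.beta_ne h hC h1 b3 one_ne_zero
    exact hx (by rw [e1, e, zero_mul])
  refine ⟨α, β, e2 c0, fun x hx x' hx' y => mul_left_cancel₀ c0 ?_⟩
  rw [← e1, ← e1, ← b3 _ (hC.comm x hx y) _ hx', ← b3 _ (hC.comm x' hx' y) _ hx]
  have e3 : ⁅x * x', y⁆ = ⁅x' * x, y⁆ := by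
    have hz := comm_mem_of_sq (h2 x hx) (h2 x' hx') (h2 _ (mul_mem hx hx'))
    rw [show x * x' = ⁅x, x'⁆ * (x' * x) by simp [commutatorElement_def, mul_assoc], comm_mul_l,
      commutatorElement_eq_one_iff_mul_comm.2 (S.cent _ hz y), mul_one, S.cent _ hz,
      mul_inv_cancel_right]
  rw [comm_mul_l, comm_mul_l] at e3
  have hw := hC.comm x hx y
  have hw' := hC.comm x' hx' y
  generalize ⁅x, y⁆ = w at e3 hw
  generalize ⁅x', y⁆ = w' at e3 hw'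
  congr 1
  rw [← inv_inj, ← mul_left_inj (w * w')]
  nth_rw 2 [h.comm w hw w' hw']
  simpa [commutatorElement_def, mul_assoc] using e3.symm

theorem claim3 (h : HA ξ A 1) (h1 : ∀ x : P, x * x ∈ A)
    (h2 : ∀ (C : Subgroup P) (g : P → F) (μ : F), Cov ξ A C g μ → ∀ c ∈ C, gx f 1 (c * c) = 0)
    (x : P) : x * x ∈ Z := by
  have := S.Z_normal
  have := h.normal
  have h3 : ∀ x y : P, ⁅x, y⁆ ∈ A := fun x y => comm_mem_of_sq (h1 x) (h1 y) (h1 _)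
  have top : ∀ M : Subgroup P, A ≤ M →
      (∀ (C : Subgroup P) (g : P → F) (μ : F), Cov ξ A C g μ → C ≤ M) → ∀ x, x ∈ M := by
    intro M hA hM
    let T := A ⊔ sSup {C | ∃ (g : P → F) (μ : F), Cov ξ A C g μ}
    have hT : T ≤ M := sup_le hA (sSup_le fun C ⟨g, μ, hC⟩ => hM C g μ hC)
    obtain ⟨U, u1, u2, -, u4, u5⟩ := S.toSuzA.compl (B := T) le_sup_left le_top ivt_top h.ivt
      (h.ivt.sup (ivt_iff.2 (by
        simp only [sSup_eq_iSup, Subgroup.map_iSup]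
        exact iSup₂_mono fun C ⟨g, μ, hC⟩ => ivt_iff.1 hC.sec.ivt)))
      (fun x _ y hy => this.conj_mem y hy x) fun x _ => h1 x
    have hU : U ≤ A := by_contra fun e => by
      obtain ⟨C, c1, g, μ, hC⟩ := S.toSuzA.exists_cov' h.ivt u1 u2 e (fun c _ => h3 c) fun c _ => h1 c
      obtain ⟨c, hc, e⟩ := hC.sec.surj 1
      rw [hC.sec.of_mem (u4 c (mem_sup_right (le_sSup (s := {C | ∃ (g : P → F) (μ : F), Cov ξ A C g μ}) ⟨g, μ, hC⟩ hc)) (c1 hc))] at e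
      exact zero_ne_one e
    intro x
    obtain ⟨b, hb, u, hu, rfl⟩ := u5 x (mem_top x)
    exact mul_mem (hT hb) (hA (hU hu))
  have cz : ∀ y : P, ∃ M : Subgroup P, ∀ x, x ∈ M ↔ ⁅x, y⁆ ∈ Z := fun y =>
    ⟨(centralizer {(y : P ⧸ Z)}).comap (QuotientGroup.mk' Z), fun x => by
      rw [mem_comap, mem_centralizer_singleton_iff, ← commutatorElement_eq_one_iff_mul_comm,
        ← QuotientGroup.eq_one_iff]; rfl⟩
  have hA : ∀ a ∈ A, ∀ y, ⁅a, y⁆ ∈ Z := fun a ha y => S.Lo_one h (S.comm_Lo h ha y)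
  have symm : ∀ x y : P, ⁅x, y⁆ ∈ Z → ⁅y, x⁆ ∈ Z := fun x y e => by
    rw [← commutatorElement_inv]; exact inv_mem e
  have h4 : ∀ x y : P, ⁅x, y⁆ ∈ Z := fun x y => by
    obtain ⟨M, hM⟩ := cz y
    refine (hM x).1 (top M (fun a ha => (hM a).2 (hA a ha y)) (fun C g μ hC x hx => (hM x).2 ?_) x)
    obtain ⟨M', hM'⟩ := cz x
    refine symm _ _ ((hM' y).1 (top M' (fun a ha => (hM' a).2 (hA a ha x))
      (fun C' g' ν hC' y hy => (hM' y).2 (symm _ _ ?_)) y))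
    obtain ⟨α, β, e1, e2⟩ := S.half h hC (h2 _ _ _ hC)
    obtain ⟨α', β', e3, e4⟩ := S.half h hC' (h2 _ _ _ hC')
    obtain ⟨γ, -, a2, a3⟩ := S.comm_form h hC.sec hC'.sec (fun x _ z _ => h3 x z)
      (fun x hx z _ => S.comm_g h hx z) fun x hx z hz => by
        rw [S.g_symm h (h3 z x), S.comm_g h hz]
    refine S.mem_Z_of_g h (h3 x y) ?_
    obtain ⟨u, hu, u1⟩ := hC.sec.surj 1
    obtain ⟨v, hv, v1⟩ := hC'.sec.surj 1
    rw [a3 x hx y hy]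
    refine jacobi_zero S.big S.prim (hC.prim.ne_one S.big) (hC'.prim.ne_one S.big) a2 e1 e3
      (fun x y => ?_) (fun x y => ?_) _ _
    all_goals
      obtain ⟨x, hx, rfl⟩ := hC.sec.surj x
      obtain ⟨y, hy, rfl⟩ := hC'.sec.surj y
    · rw [← u1, ← a3 x hx y hy, ← a3 u hu y hy, ← e2 x hx u hu, u1, map_one, mul_one]
    · rw [← v1, ← a3 x hx y hy, ← a3 x hx v hv, S.g_symm h (h3 y x), S.g_symm h (h3 v x),
        ← e4 y hy v hv, v1, map_one, mul_one]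
  let M : Subgroup P :=
    { carrier := {x | x * x ∈ Z}
      one_mem' := by simp
      mul_mem' := fun {x y} hx hy => by
        change x * y * (x * y) ∈ Z
        rw [show x * y * (x * y) = x * ⁅y, x⁆ * x⁻¹ * (x * x) * (y * y) by
          rw [commutatorElement_def]; group]
        exact mul_mem (mul_mem (S.Z_normal.conj_mem _ (h4 y x) _) hx) hy
      inv_mem' := fun {x} hx => by
        change x⁻¹ * x⁻¹ ∈ Z
        rw [← mul_inv_rev]; exact inv_mem hx }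
  refine top M (fun a ha => (S.mem _).2 ?_)
    (fun C g μ hC c hc => S.mem_Z_of_g h (h1 c) (h2 C g μ hC c hc)) x
  rw [← h.ex1 a ha, ← pow_two_pow_succ, pow_one, sq]

/-- Higman's theorem: the exponent is four -/
theorem sq_mem (hP : ¬ ∀ x y : P, x * y = y * x) (x : P) : x * x ∈ Z := by
  obtain ⟨A, hZA, ⟨a1, a2, a3⟩, hmax⟩ := exists_maximal_ge_of_wellFoundedGT
    (fun A : Subgroup P => A.Normal ∧ Ivt ξ A ∧ ∀ x ∈ A, ∀ y ∈ A, x * y = y * x) Z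
    ⟨S.Z_normal, S.sec.ivt, S.HA_Z.comm⟩
  obtain ⟨e, h⟩ := exists_HA S.two a1 a2 a3 fun e => by
    obtain ⟨a, ha, h1⟩ := S.HA_Z.ex2
    exact h1 (by rw [(eq_bot_iff_forall _).1 e a (hZA ha), one_pow])
  have nc : ∀ (C : Subgroup P) (g : P → F) (μ : F), Cov ξ A C g μ →
      ¬ ∀ x ∈ C, ∀ y ∈ C, x * y = y * x := fun C g μ hC hc => by
    obtain ⟨c, hc', e⟩ := hC.sec.surj 1
    rw [hC.sec.of_mem (hmax ⟨hC.normal, hC.sec.ivt, hc⟩ hC.sec.le hc')] at e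
    exact zero_ne_one e
  have h0 : e = 0 → A ≤ Z := fun e0 a ha => (S.mem a).2 (by simpa [e0, sq] using h.ex1 a ha)
  have h1 : ∀ x : P, x * x ∈ A := by
    let N := normalClosure (Set.range fun x : P => x * x)
    have hN : ∀ (M : Subgroup P) [M.Normal], (∀ x, x * x ∈ M) → N ≤ M := fun M _ hM =>
      normalClosure_le_normal (by rintro _ ⟨x, rfl⟩; exact hM x)
    suffices A ⊔ N ≤ A from fun x => this (mem_sup_right (subset_normalClosure ⟨x, rfl⟩))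
    by_contra h2
    have hNi : Ivt ξ N := fun x hx =>
      hN (N.comap ξ.toMonoidHom) (fun x => subset_normalClosure ⟨ξ x, by simp⟩) hx
    obtain ⟨C, c1, g, μ, hC⟩ := S.toSuzA.exists_cov a2 (a2.sup hNi) le_sup_left h2
    have := hC.normal
    rcases S.claim1 h hC (nc _ _ _ hC) with e0 | ⟨rfl, h3⟩
    · refine nc _ _ _ hC fun x hx y hy => ?_
      exact sup_le (b := N) (c := centralizer (C : Set P))
        (fun a ha x _ => (S.cent a (h0 e0 ha) x).symm)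
        (hN _ fun y x hx => S.comm_sq (h0 e0 (hC.comm x hx y))) (c1 hy) x hx
    · obtain ⟨c, hc, e⟩ := hC.sec.surj 1
      rw [hC.sec.of_mem (S.mem_of_comm h (((S.secA h).ker _ (hC.sq c hc)).1 (h3 c hc)) fun b hb => by
        rw [commutatorElement_eq_one_iff_mul_comm.2 (sup_le (b := N) (c := centralizer (A : Set P))
          (fun a ha x hx => a3 x hx a ha) (hN _ fun y x hx => S.comm_sq (S.Lo_one h (S.comm_Lo h hx y)))
          (c1 hc) b hb), (S.secA h.lo).one])] at e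
      exact zero_ne_one e
  obtain ⟨C, -, g, μ, hC⟩ := S.toSuzA.exists_cov a2 ivt_top le_top fun e =>
    hP fun x y => a3 x (e (mem_top x)) y (e (mem_top y))
  rcases S.claim1 h hC (nc _ _ _ hC) with e0 | ⟨rfl, -⟩
  · exact h0 e0 (h1 x)
  · exact S.claim3 h h1 (fun C g μ hC => ((S.claim1 h hC (nc _ _ _ hC)).resolve_left one_ne_zero).2) x

end SuzD

end Cfsg.Agent.Inv
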