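import Cfsg.Agent.Inv.Zas11
import Cfsg.Agent.Char.Sibley

/-! A character of a nilpotent group with small norm off the identity is constant on a
central subgroup on which an odd group of automorphisms acts freely. -/

set_option autoImplicit false
set_option linter.unusedVariables false
set_option linter.unusedSectionVars false

namespace Cfsg.Agent.Inv

open Subgroup MulAction Cfsg.Agent.PLoc Cfsg.Agent.Char
open scoped ComplexConjugate commutatorElement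

section Core

variable {Γ X : Type*} [Group Γ] [Fintype Γ] [MulAction Γ X] [DecidableEq X]

theorem sum_orb {M : Type*} [AddCommMonoid M] (f : X → M) (hf : ∀ (g : Γ) x, f (g • x) = f x) {x : X}
    (fr : ∀ g : Γ, g • x = x → g = 1) :
    ∑ y ∈ Finset.univ.image (fun g : Γ => g • x), f y = Nat.card Γ • f x := by
  rw [Finset.sum_image fun a _ b _ e => (inv_mul_eq_one.1 (fr _ (by
    rw [mul_smul, show b • x = a • x from e.symm, inv_smul_smul]))), Finset.sum_congr rfl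
    fun g _ => hf g x, Finset.sum_const, Finset.card_univ, Nat.card_eq_fintype_card]

theorem dvd_sum_of_free (f : X → ℕ) (hf : ∀ (g : Γ) x, f (g • x) = f x) (s : Finset X)
    (hs : ∀ (g : Γ), ∀ x ∈ s, g • x ∈ s) (fr : ∀ x ∈ s, ∀ g : Γ, g • x = x → g = 1) :
    Nat.card Γ ∣ ∑ x ∈ s, f x := by
  induction s using Finset.strongInduction with
  | H s ih =>
  rcases s.eq_empty_or_nonempty with rfl | ⟨y, hy⟩
  · simp
  have h1 : (Finset.univ.image fun g : Γ => g • y) ⊆ s := fun u hu => by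
    obtain ⟨x, -, rfl⟩ := Finset.mem_image.1 hu
    exact hs x y hy
  rw [← Finset.sum_sdiff h1, sum_orb f hf (fr y hy)]
  refine (ih _ (Finset.sdiff_ssubset h1 (by simp)) (fun x u hu => ?_)
    fun u hu => fr u (Finset.mem_sdiff.1 hu).1).add (dvd_mul_right _ _)
  rw [Finset.mem_sdiff] at hu ⊢
  refine ⟨hs x u hu.1, fun h2 => hu.2 ?_⟩
  obtain ⟨a, -, e⟩ := Finset.mem_image.1 h2
  exact Finset.mem_image.2 ⟨x⁻¹ * a, Finset.mem_univ _, by rw [mul_smul, e, inv_smul_smul]⟩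

variable {e m : X → ℕ} (he : ∀ (g : Γ) x, e (g • x) = e x) (hm : ∀ (g : Γ) x, m (g • x) = m x)
  {I : Finset X} (hI : ∀ (g : Γ), ∀ x ∈ I, g • x ∈ I) (fr : ∀ x ∈ I, ∀ g : Γ, g • x = x → g = 1)
  {x : ℝ} (hx : 2 * ∑ i ∈ I, ((m i : ℝ) - x * e i) ^ 2 < Nat.card Γ)
include he hm hI fr hx

theorem ext_ratio {U : Finset X} (hU : U ⊆ I) (hU' : ∀ (g : Γ), ∀ x ∈ U, g • x ∈ U) {c : ℝ}
    (hc : ∀ i ∈ U, (m i : ℝ) = c * e i) {ψ : X} (hψ : ψ ∈ I) {k : ℕ} (hk : c * e ψ = k)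
    (hA : Nat.card Γ * e ψ ^ 2 ≤ ∑ i ∈ U, e i ^ 2) : (m ψ : ℝ) = c * e ψ := by
  by_contra hne
  have h1 : Disjoint U (Finset.univ.image fun g : Γ => g • ψ) := Finset.disjoint_left.2 fun y hy h => by
    obtain ⟨g, -, rfl⟩ := Finset.mem_image.1 h
    exact hne (hc _ (by simpa using hU' g⁻¹ _ hy))
  have h2 := Finset.sum_le_sum_of_subset_of_nonneg (f := fun i => ((m i : ℝ) - x * e i) ^ 2)
    (Finset.union_subset hU (t := Finset.univ.image fun g : Γ => g • ψ) fun y h => by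
      obtain ⟨g, -, rfl⟩ := Finset.mem_image.1 h
      exact hI g ψ hψ) fun _ _ _ => sq_nonneg _
  rw [Finset.sum_union h1, sum_orb _ (fun g y => by rw [he, hm]) (fr ψ hψ), nsmul_eq_mul,
    Finset.sum_congr rfl (g := fun i => (c - x) ^ 2 * (e i : ℝ) ^ 2) fun i hi => by rw [hc i hi]; ring,
    ← Finset.mul_sum] at h2
  have h3 : (Nat.card Γ : ℝ) * (e ψ : ℝ) ^ 2 ≤ ∑ i ∈ U, (e i : ℝ) ^ 2 := by exact_mod_cast hA
  have h4 : (1 : ℝ) ≤ ((m ψ : ℝ) - k) ^ 2 := by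
    have : (m ψ : ℤ) - k ≠ 0 := fun h => hne (by rw [hk]; exact_mod_cast sub_eq_zero.1 h)
    exact_mod_cast (one_le_sq_iff_one_le_abs _).2 (Int.one_le_abs this)
  have h5 : (0 : ℝ) ≤ Nat.card Γ := Nat.cast_nonneg _
  have h6 := mul_le_mul_of_nonneg_left h3 (sq_nonneg (c - x))
  have h7 : (1 : ℝ) ≤ 2 * ((c - x) ^ 2 * (e ψ : ℝ) ^ 2 + ((m ψ : ℝ) - x * e ψ) ^ 2) := by
    rw [← hk] at h4
    nlinarith [sq_nonneg (2 * c * e ψ - 2 * x * e ψ + (m ψ - c * e ψ))]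
  nlinarith [mul_le_mul_of_nonneg_left h7 h5]

theorem ext_eq {ψ θ : X} (hψ : ψ ∈ I) (hθ : θ ∈ I) (h0 : e θ ≠ 0) (h : e ψ = e θ) : m ψ = m θ := by
  have h1 : (m θ : ℝ) / e θ * e θ = m θ := div_mul_cancel₀ _ (by exact_mod_cast h0)
  have := ext_ratio he hm hI fr hx (U := Finset.univ.image fun g : Γ => g • θ) (c := m θ / e θ)
    (fun y h => by obtain ⟨g, -, rfl⟩ := Finset.mem_image.1 h; exact hI g θ hθ)
    (fun g y h => by
      obtain ⟨g', -, rfl⟩ := Finset.mem_image.1 h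
      exact Finset.mem_image.2 ⟨g * g', Finset.mem_univ _, mul_smul _ _ _⟩)
    (fun y h => by obtain ⟨g, -, rfl⟩ := Finset.mem_image.1 h; rw [he, hm, h1]) hψ (k := m θ)
    (by rw [h, h1]) (by rw [sum_orb _ (fun g y => by rw [he]) (fr θ hθ), h]; rfl)
  rw [h, h1] at this
  exact_mod_cast this

theorem ext_pow {J : Finset X} (hJ : J ⊆ I) (hJ' : ∀ (g : Γ), ∀ x ∈ J, g • x ∈ J) (hne : J.Nonempty)
    {p : ℕ} (hp : p.Prime) (hcop : (Nat.card Γ).Coprime p) (h1 : ∀ i ∈ J, ∃ j, e i = p ^ j)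
    (h2 : ∀ i ∈ J, e i ^ 2 ∣ ∑ i ∈ J, e i ^ 2) :
    ∃ θ ∈ J, (∀ i ∈ J, e θ ∣ e i) ∧ ∀ i ∈ J, (m i : ℝ) = m θ / e θ * e i := by
  obtain ⟨θ, hθ, hmin⟩ := J.exists_min_image e hne
  have dv : ∀ i ∈ J, ∀ j ∈ J, e i ≤ e j → e i ∣ e j := fun i hi j hj h => by
    obtain ⟨a, ha⟩ := h1 i hi
    obtain ⟨b, hb⟩ := h1 j hj
    rw [ha, hb] at h ⊢
    exact pow_dvd_pow _ ((Nat.pow_le_pow_iff_right hp.one_lt).1 h)
  have pos : ∀ i ∈ J, e i ≠ 0 := fun i hi => by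
    obtain ⟨a, ha⟩ := h1 i hi
    rw [ha]; exact pow_ne_zero _ hp.ne_zero
  have h3 : (m θ : ℝ) / e θ * e θ = m θ := div_mul_cancel₀ _ (by exact_mod_cast pos θ hθ)
  refine ⟨θ, hθ, fun i hi => dv _ hθ _ hi (hmin i hi), fun i hi => ?_⟩
  induction h : e i using Nat.strong_induction_on generalizing i with | _ n ih => ?_
  subst h
  rcases (hmin i hi).eq_or_lt with h4 | h4
  · rw [← h4, h3, ext_eq he hm hI fr hx (hJ hi) (hJ hθ) (pos θ hθ) h4.symm]
  obtain ⟨k, hk⟩ := dv _ hθ _ hi h4.le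
  have inv : ∀ (g : Γ), ∀ x ∈ J.filter (e · < e i), g • x ∈ J.filter (e · < e i) := fun g y hy => by
    rw [Finset.mem_filter] at hy ⊢
    exact ⟨hJ' g y hy.1, by rw [he]; exact hy.2⟩
  refine ext_ratio he hm hI fr hx (U := J.filter (e · < e i)) ((Finset.filter_subset _ _).trans hJ) inv
    (fun j hj => ih _ (Finset.mem_filter.1 hj).2 j (Finset.mem_filter.1 hj).1 rfl) (hJ hi)
    (k := m θ * k) (by rw [hk]; push_cast; rw [← mul_assoc, h3]) (Nat.le_of_dvd ?_ ?_)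
  · exact Finset.sum_pos (fun j hj => pow_pos (Nat.pos_of_ne_zero (pos j (Finset.mem_filter.1 hj).1)) _)
      ⟨θ, Finset.mem_filter.2 ⟨hθ, h4⟩⟩
  refine Nat.Coprime.mul_dvd_of_dvd_of_dvd ?_ (dvd_sum_of_free _ (fun g y => by rw [he]) _ inv
    fun y hy => fr y (hJ (Finset.mem_filter.1 hy).1)) ?_
  · obtain ⟨a, ha⟩ := h1 i hi
    rw [ha, ← pow_mul]; exact hcop.pow_right _
  · have := h2 i hi
    rw [← Finset.sum_filter_add_sum_filter_not J (e · < e i)] at this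
    exact (Nat.dvd_add_left (Finset.dvd_sum fun j hj => pow_dvd_pow_of_dvd
      (dv _ hi _ (Finset.mem_filter.1 hj).1 (not_lt.1 (Finset.mem_filter.1 hj).2)) _)).1 this

end Core

section Abs

variable {Q A : Type*} [Group Q] [Fintype Q] [Group A] [Fintype A] (ρ : A →* MulAut Q)

/-- automorphisms and inversion as permutations -/
def sgnAut : A × ℤˣ →* Equiv.Perm Q := MonoidHom.mk'
  (fun γ => ⟨fun u => ρ γ.1 u ^ (γ.2 : ℤ), fun u => ρ γ.1⁻¹ u ^ (γ.2 : ℤ),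
    fun u => by simp [← zpow_mul, ← Units.val_mul], fun u => by simp [← zpow_mul, ← Units.val_mul]⟩)
  fun γ δ => Equiv.ext fun u => by simp [← zpow_mul, mul_comm]

theorem sgnAut_apply (γ : A × ℤˣ) (u : Q) : sgnAut ρ γ u = ρ γ.1 u ^ (γ.2 : ℤ) := rfl

theorem irr_sgnAut (γ : A × ℤˣ) {θ : Q → ℂ} (h : IsIrrCharacter Q θ) :
    IsIrrCharacter Q fun u => θ (sgnAut ρ γ u) := by
  rcases Int.units_eq_one_or γ.2 with e | e <;> simp only [sgnAut_apply, e]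
  · simpa using h.comp_equiv (ρ γ.1)
  · simpa using h.comp_inv.comp_equiv (ρ γ.1)

theorem natdeg {θ : Q → ℂ} (h : IsCharacter Q θ) : (⌊(θ 1).re⌋₊ : ℂ) = θ 1 := by
  obtain ⟨n, hn⟩ := h.exists_nat; simp [hn]

theorem natmul {φ θ : Q → ℂ} (h : IsCharacter Q φ) (h' : IsCharacter Q θ) :
    (⌊(classInner φ θ).re⌋₊ : ℂ) = classInner φ θ := by
  obtain ⟨n, hn⟩ := h.classInner_nat h'; simp [hn]

theorem sum_sq_ker (Y Z : Subgroup Q) [Y.Normal] [Z.Normal] :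
    ∑ θ ∈ irrSet Q (fun θ => (∀ y ∈ Y, θ y = θ 1) ∧ ¬ ∀ z ∈ Z, θ z = θ 1), ⌊(θ 1).re⌋₊ ^ 2 +
      (Y ⊔ Z).index = Y.index := by
  classical
  have h1 := sum_irrSet_ker_mul Y 1
  have h2 := sum_irrSet_ker_mul (Y ⊔ Z) 1
  rw [if_pos (one_mem _)] at h1 h2
  apply Nat.cast_injective (R := ℂ)
  rw [Nat.cast_add, ← h1, ← h2, Nat.cast_sum, sum_irrSet, sum_irrSet, sum_irrSet,
    ← Finset.sum_add_distrib]
  refine Finset.sum_congr rfl fun θ _ => ?_
  have hc := θ.2.isCharacter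
  have e : (∀ n ∈ Y ⊔ Z, θ.1 n = θ.1 1) ↔ (∀ y ∈ Y, θ.1 y = θ.1 1) ∧ ∀ z ∈ Z, θ.1 z = θ.1 1 := by
    simp only [← hc.mem_charKer]
    exact sup_le_iff (a := Y) (b := Z) (c := charKer θ.1)
  rw [e]
  generalize (∀ y ∈ Y, θ.1 y = θ.1 1) = a1
  generalize (∀ z ∈ Z, θ.1 z = θ.1 1) = a2
  by_cases a1 <;> by_cases a2 <;> simp [*, natdeg hc, sq]

theorem deg_sq_le {θ : Q → ℂ} (h : IsIrrCharacter Q θ) {Y Z : Subgroup Q} [Y.Normal]
    (hY : ∀ y ∈ ⁅Y, (⊤ : Subgroup Q)⁆, θ y = θ 1) (hZ : Z ≤ center Q) :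
    ⌊(θ 1).re⌋₊ ^ 2 ≤ (Y ⊔ Z).index := by
  have := h.degree_sq_le_of_central (B := ⁅Y, ⊤⁆) (C := ⊤) (D := Y ⊔ Z) le_top (fun d hd c _ => by
    obtain ⟨y, hy, z, hz, rfl⟩ := mem_sup_of_normal_left.1 hd
    rw [show y * z * c * (y * z)⁻¹ * c⁻¹ = y * (z * c) * z⁻¹ * y⁻¹ * c⁻¹ by group,
      ← mem_center_iff.1 (hZ hz) c]
    simpa [commutatorElement_def, mul_assoc] using commutator_mem_commutator hy (mem_top c)) hY
  rw [← natdeg h.isCharacter, index_top, card_top, ← (Y ⊔ Z).index_mul_card] at this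
  simp only [Complex.norm_natCast, Nat.cast_one, one_pow, one_mul, Nat.cast_mul] at this
  exact_mod_cast le_of_mul_le_mul_right this (by exact_mod_cast Nat.card_pos)

theorem index_sup_mul {Y Z : Subgroup Q} [Y.Normal] (h : Y ⊓ Z = ⊥) :
    (Y ⊔ Z).index * Nat.card Z = Y.index := by
  rw [← relIndex_mul_index (le_sup_left : Y ≤ Y ⊔ Z), relIndex_sup_left, ← inf_relIndex_right, h,
    relIndex_bot_left, mul_comm]

theorem const_on_center [Group.IsNilpotent Q] (ho : Odd (Nat.card A)) {Z : Subgroup Q}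
    (hZ : Z ≤ center Q) (hZ1 : Z ≠ ⊥) (hZo : Odd (Nat.card Z)) (hZi : ∀ α, ∀ z ∈ Z, ρ α z ∈ Z)
    (hf : ∀ α, ∀ z ∈ Z, ρ α z = z → α = 1 ∨ z = 1) (π : Q →* Q) (hπ : ∀ z ∈ Z, π z = z)
    (hπi : ∀ α, ∀ y ∈ π.ker, ρ α y ∈ π.ker) {p k : ℕ} (hp : p.Prime) (hk : π.ker.index = p ^ k)
    (hcop : (Nat.card A * 2).Coprime p) {φ : Q → ℂ} (hφ : IsCharacter Q φ)
    (h1 : ∀ α u, φ (ρ α u) = φ u) (h2 : ∀ u, φ u⁻¹ = φ u) [DecidableEq Q]
    (h3 : ∑ u ∈ Finset.univ.erase 1, ‖φ u‖ ^ 2 < Nat.card A * Nat.card Q) :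
    ∀ z ∈ Z, ∀ z' ∈ Z, z ≠ 1 → z' ≠ 1 → φ z = φ z' := by
  classical
  have : Z.Normal := ⟨fun z hz g => by rwa [mem_center_iff.1 (hZ hz) g, mul_inv_cancel_right]⟩
  let _ : MulAction (A × ℤˣ) Q := MulAction.compHom Q (sgnAut ρ)
  let _ : MulAction (A × ℤˣ) (Q → ℂ) := arrowAction
  have sm : ∀ (γ : A × ℤˣ) (θ : Q → ℂ), γ • θ = fun u => θ (sgnAut ρ γ⁻¹ u) := fun _ _ => rfl
  have s1 : ∀ γ, sgnAut ρ γ 1 = 1 := fun γ => by simp [sgnAut_apply]
  have cΓ : Nat.card (A × ℤˣ) = Nat.card A * 2 := by simp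
  let e : (Q → ℂ) → ℕ := fun θ => ⌊(θ 1).re⌋₊
  let m : (Q → ℂ) → ℕ := fun θ => ⌊(classInner φ θ).re⌋₊
  have he : ∀ (γ : A × ℤˣ) θ, e (γ • θ) = e θ := fun γ θ => by simp only [e, sm, s1]
  have hm : ∀ (γ : A × ℤˣ) θ, m (γ • θ) = m θ := fun γ θ => by
    have : φ = fun u => φ (sgnAut ρ γ⁻¹ u) := funext fun u => by
      generalize γ⁻¹ = δ
      rcases Int.units_eq_one_or δ.2 with e | e <;> simp [sgnAut_apply, e, h1, h2]
    simp only [m, sm]
    conv_lhs => rw [this, classInner_comp_equiv (sgnAut ρ γ⁻¹) φ θ]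
  have kinv : ∀ Y : Subgroup Q, (∀ α, ∀ y ∈ Y, ρ α y ∈ Y) → ∀ (γ : A × ℤˣ) (θ : Q → ℂ),
      (∀ y ∈ Y, θ y = θ 1) → ∀ y ∈ Y, (γ • θ) y = (γ • θ) 1 := fun Y hY γ θ h y hy => by
    simp only [sm, s1]; exact h _ (zpow_mem (hY _ y hy) _)
  let J : Subgroup Q → Finset (Q → ℂ) := fun Y =>
    irrSet Q (fun θ => (∀ y ∈ Y, θ y = θ 1) ∧ ¬ ∀ z ∈ Z, θ z = θ 1)
  have hJ : ∀ Y : Subgroup Q, (∀ α, ∀ y ∈ Y, ρ α y ∈ Y) → ∀ γ : A × ℤˣ, ∀ θ ∈ J Y, γ • θ ∈ J Y :=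
    fun Y hY γ θ h => by
      rw [mem_irrSet] at h ⊢
      exact ⟨irr_sgnAut ρ _ h.1, kinv Y hY γ θ h.2.1, fun h' => h.2.2 (by
        simpa using kinv Z hZi γ⁻¹ _ h')⟩
  have hJI : ∀ Y, J Y ⊆ J ⊥ := fun Y θ h => by
    rw [mem_irrSet] at h ⊢; exact ⟨h.1, by simp, h.2.2⟩
  have hI := hJ ⊥ (by simp)
  have fr0 : ∀ θ ∈ J ⊥, ∀ α, (∀ u, θ (ρ α u) = θ u) → α = 1 := fun θ hθ α h => by
    rw [mem_irrSet] at hθ
    by_contra hα
    have inj : Function.Injective fun z : Z => (⟨ρ α z * z⁻¹, mul_mem (hZi α z z.2) (inv_mem z.2)⟩ : Z) :=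
      fun a b e => by
        have e' : ρ α a * (a : Q)⁻¹ = ρ α b * (b : Q)⁻¹ := congrArg Subtype.val e
        refine Subtype.ext (inv_mul_eq_one.1 ((hf α _ (mul_mem (inv_mem b.2) a.2) ?_).resolve_left hα)).symm
        rw [map_mul, map_inv, inv_mul_eq_iff_eq_mul, ← mul_assoc, ← e', inv_mul_cancel_right]
    refine hθ.2.2 fun z hz => ?_
    obtain ⟨w, hw⟩ := Finite.surjective_of_injective inj ⟨z, hz⟩
    obtain rfl : ρ α w * (w : Q)⁻¹ = z := congrArg Subtype.val hw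
    rw [hθ.1.apply_mul_of_comm (fun g => (mem_center_iff.1 (hZ (hZi α w w.2)) g).symm), h,
      ← hθ.1.apply_mul_of_comm (fun g => (mem_center_iff.1 (hZ w.2) g).symm), mul_inv_cancel]
  have fr : ∀ θ ∈ J ⊥, ∀ γ : A × ℤˣ, γ • θ = θ → γ = 1 := fun θ hθ γ h => by
    have h4 : ∀ u, θ (sgnAut ρ γ⁻¹ u) = θ u := congrFun h
    rw [← inv_eq_one]
    generalize γ⁻¹ = δ at h4
    obtain ⟨α, ε⟩ := δ
    rcases Int.units_eq_one_or ε with rfl | rfl
    · exact Prod.ext (fr0 θ hθ α (by simpa [sgnAut_apply] using h4)) rfl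
    have h5 : ∀ u, θ (ρ α u)⁻¹ = θ u := by simpa [sgnAut_apply] using h4
    obtain rfl : α = 1 := by
      have := fr0 θ hθ (α * α) fun u => by
        rw [← h5 u, ← h5 (ρ α u)⁻¹]; simp
      exact sq_inj_of_odd (ho.of_dvd_nat (orderOf_dvd_natCard α)) (by simp) (by simpa using this)
    rw [mem_irrSet] at hθ
    refine (hθ.2.2 fun z hz => ?_).elim
    obtain ⟨j, hj⟩ := exists_sqrt_of_odd (odd_orderOf_of_mem hZo hz)
    have c := fun g => (mem_center_iff.1 (hZ (pow_mem hz j)) g).symm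
    rw [← hj, hθ.1.apply_mul_of_comm c]
    nth_rw 2 [← h5]
    rw [← hθ.1.apply_mul_of_comm c]; simp
  have hx : 2 * ∑ θ ∈ J ⊥, ((m θ : ℝ) - (φ 1).re / Nat.card Q * e θ) ^ 2 < Nat.card (A × ℤˣ) := by
    let x : ℝ := (φ 1).re / Nat.card Q
    let ψ : Q → ℂ := φ - (x : ℂ) • fun g => if g = 1 then (Nat.card Q : ℂ) else 0
    have a1 : IsClassFunction Q ψ := hφ.isClassFunction.sub (isCharacter_regular.isClassFunction.smul _)
    have a2 : ∑ θ : IrrCharacter Q, ((m θ : ℝ) - x * e θ) ^ 2 = (classInner ψ ψ).re := by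
      rw [a1.classInner_eq_sum_irr, Complex.re_sum]
      refine Finset.sum_congr rfl fun θ _ => ?_
      rw [classInner_sub_left, classInner_smul_left, isCharacter_regular.classInner_comm θ.2.isCharacter,
        classInner_regular, ← natdeg θ.2.isCharacter, ← natmul hφ θ.2.isCharacter, Complex.mul_conj]
      simp only [m, e, Complex.ofReal_re]
      norm_cast
      rw [Complex.normSq_ofReal, sq]
    have a3 : ψ 1 = 0 := by
      have := card_ne_zero Q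
      simp only [ψ, x, Pi.sub_apply, Pi.smul_apply, if_true, smul_eq_mul]
      push_cast; rw [hφ.ofReal_re_one]; field_simp; simp
    have a4 : (classInner ψ ψ).re < Nat.card A := by
      rw [classInner_self_re, ← Finset.add_sum_erase _ _ (Finset.mem_univ 1), a3,
        Finset.sum_congr rfl (g := fun u => ‖φ u‖ ^ 2) fun u hu => by
          simp [ψ, (Finset.mem_erase.1 hu).1], inv_mul_lt_iff₀ (by exact_mod_cast Nat.card_pos)]
      simpa [mul_comm] using h3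
    have a5 : ∑ θ ∈ J ⊥, ((m θ : ℝ) - x * e θ) ^ 2 ≤ ∑ θ : IrrCharacter Q, ((m θ : ℝ) - x * e θ) ^ 2 := by
      rw [sum_irrSet]
      exact Finset.sum_le_sum fun θ _ => by split_ifs; exacts [le_rfl, sq_nonneg _]
    rw [cΓ]; push_cast; linarith
  have dis : ∀ Y ≤ π.ker, Y ⊓ Z = ⊥ := fun Y hY => (eq_bot_iff_forall _).2 fun z hz =>
    (hπ z hz.2).symm.trans (hY hz.1)
  have big : Nat.card (A × ℤˣ) + 1 ≤ Nat.card Z := by
    have a1 := dvd_sum_of_free (Γ := A × ℤˣ) (fun _ : Q => 1) (fun _ _ => rfl)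
      ((Finset.univ.filter (· ∈ Z)).erase 1) (fun γ z hz => ?_) fun z hz γ h => ?_
    · rw [Finset.sum_const, Finset.card_erase_of_mem (by simp), smul_eq_mul, mul_one,
        ← Fintype.card_subtype, ← Nat.card_eq_fintype_card] at a1
      have a2 := (Z.one_lt_card_iff_ne_bot).2 hZ1
      have := Nat.le_of_dvd (by omega) a1
      omega
    · simp only [Finset.mem_erase, Finset.mem_filter, Finset.mem_univ, true_and] at hz ⊢
      exact ⟨fun h => hz.1 ((sgnAut ρ γ).injective (h.trans (s1 γ).symm)), zpow_mem (hZi _ z hz.2) _⟩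
    · simp only [Finset.mem_erase, Finset.mem_filter, Finset.mem_univ, true_and] at hz
      obtain ⟨α, ε⟩ := γ
      have h4 : ρ α z ^ (ε : ℤ) = z := h
      rcases Int.units_eq_one_or ε with rfl | rfl
      · exact Prod.ext ((hf α z hz.2 (by simpa using h4)).resolve_right hz.1) rfl
      have h5 : ρ α z = z⁻¹ := by simpa [inv_eq_iff_eq_inv] using h4
      obtain rfl : α = 1 := sq_inj_of_odd (ho.of_dvd_nat (orderOf_dvd_natCard α)) (by simp)
        (by simpa using (hf (α * α) z hz.2 (by simp [h5])).resolve_right hz.1)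
      exact (hz.1 (sq_inj_of_odd (odd_orderOf_of_mem hZo hz.2) (by simp) (by
        nth_rw 1 [show z = z⁻¹ by simpa using h5]; simp))).elim
  have sm2 : ∀ Y ≤ π.ker, Y.Normal → ∑ θ ∈ J Y, e θ ^ 2 = (Y ⊔ Z).index * (Nat.card Z - 1) :=
    fun Y hY _ => by
      have := sum_sq_ker Y Z
      rw [← index_sup_mul (dis Y hY)] at this
      rw [Nat.mul_sub_one]; exact Nat.eq_sub_of_add_eq this
  obtain ⟨θ₀, t0, t1, t2⟩ := ext_pow he hm hI fr hx (hJI π.ker) (hJ _ hπi) (p := p) (by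
      by_contra hne
      have := sm2 _ le_rfl inferInstance
      rw [Finset.not_nonempty_iff_eq_empty.1 hne, Finset.sum_empty, eq_comm, mul_eq_zero] at this
      have h4 := Nat.card_pos (α := A × ℤˣ)
      exact this.elim index_ne_zero_of_finite (by omega)) hp (cΓ ▸ hcop)
    (fun θ hθ => by
      rw [mem_irrSet] at hθ
      obtain ⟨χ, a1, a2⟩ := hθ.1.exists_quotient π.ker hθ.2.1
      have := a1.degree_dvd_card ((a2 1).trans (natdeg hθ.1.isCharacter).symm)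
      rw [← index_eq_card, hk] at this
      exact ((Nat.dvd_prime_pow hp).1 this).imp fun _ h => h.2)
    (fun θ hθ => by
      rw [sm2 _ le_rfl inferInstance]
      rw [mem_irrSet] at hθ
      obtain ⟨χ, a1, a2⟩ := hθ.1.exists_quotient π.ker hθ.2.1
      have := a1.degree_dvd_card ((a2 1).trans (natdeg hθ.1.isCharacter).symm)
      rw [← index_eq_card, hk] at this
      obtain ⟨i, -, hi⟩ := (Nat.dvd_prime_pow hp).1 this
      obtain ⟨j, -, hj⟩ := (Nat.dvd_prime_pow hp).1 (hk ▸ index_dvd_of_le (le_sup_left : π.ker ≤ π.ker ⊔ Z))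
      have h4 := deg_sq_le hθ.1 (Y := π.ker) (fun y hy => hθ.2.1 y (commutator_le_left _ _ hy)) hZ
      refine Dvd.dvd.mul_right ?_ _
      simp only [e]
      rw [hi, hj, ← pow_mul] at h4 ⊢
      exact pow_dvd_pow _ ((Nat.pow_le_pow_iff_right hp.one_lt).1 h4))
  have dv : ∀ ψ ∈ J ⊥, e θ₀ ∣ e ψ := fun ψ hψ => by
    rw [mem_irrSet] at hψ
    have a1 := hψ.1.isCharacter.comp π
    have a2 := a1.isClassFunction.apply_eq_sum_irr 1
    simp only [map_one] at a2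
    have a3 : e ψ = ∑ θ : IrrCharacter Q, ⌊(classInner (fun x => ψ (π x)) θ).re⌋₊ * e θ := by
      apply Nat.cast_injective (R := ℂ)
      rw [natdeg hψ.1.isCharacter, a2, Nat.cast_sum]
      exact Finset.sum_congr rfl fun θ _ => by
        rw [Nat.cast_mul, natdeg θ.2.isCharacter, natmul a1 θ.2.isCharacter]
    rw [a3]
    refine Finset.dvd_sum fun θ _ => ?_
    by_cases h : classInner (fun x => ψ (π x)) θ = 0
    · simp [h]
    refine (t1 _ (mem_irrSet.2 ⟨θ.2, fun y hy => a1.apply_eq_of_constituent θ.2 h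
      (by simp [show π y = 1 from hy]), fun h' => hψ.2.2 fun z hz => ?_⟩)).mul_left _
    have a4 : classInner (fun x => ψ (π x)) θ = ψ z / ψ 1 * classInner (fun x => ψ (π x)) θ := by
      rw [← classInner_smul_left, ← classInner_comp_equiv (Equiv.mulLeft z)]
      congr 1 <;> ext u
      · simp [hπ z hz, hψ.1.apply_mul_of_comm (fun g => (mem_center_iff.1 (hZ hz) g).symm)]; ring
      · exact θ.2.isCharacter.apply_mul_of_eq_one (h' z hz) u
    rwa [eq_comm, mul_eq_right₀ h, div_eq_one_iff_eq hψ.1.one_ne_zero] at a4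
  have pos : e θ₀ ≠ 0 := fun h => (mem_irrSet.1 t0).1.one_ne_zero (by
    rw [← natdeg (mem_irrSet.1 t0).1.isCharacter]; exact_mod_cast h)
  generalize hc : (m θ₀ : ℝ) / e θ₀ = c at t2
  have key : ∀ n, ∀ Y ≤ π.ker, Y.Normal → (∀ α, ∀ y ∈ Y, ρ α y ∈ Y) → Nat.card Y = n →
      (∀ θ ∈ J Y, (m θ : ℝ) = c * e θ) → ∀ θ ∈ J ⊥, (m θ : ℝ) = c * e θ := fun n => by
    induction n using Nat.strong_induction_on with | _ n ih => ?_
    rintro Y a1 a2 a3 rfl a4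
    by_cases h : Y = ⊥
    · exact h ▸ a4
    have lt : ⁅Y, (⊤ : Subgroup Q)⁆ < Y := BG.Nil.comm_lt (BG.nil_top.2 ‹_›) le_top le_top
      (normalizer_eq_top _).ge h
    refine ih _ (card_lt_of_lt lt) _ (lt.le.trans a1) inferInstance (fun α y hy => ?_) rfl fun ψ hψ => ?_
    · have : ⁅Y, (⊤ : Subgroup Q)⁆ ≤ ⁅Y, (⊤ : Subgroup Q)⁆.comap (ρ α).toMonoidHom :=
        commutator_le.2 fun a ha b _ => by
          rw [mem_comap, map_commutatorElement]; exact commutator_mem_commutator (a3 α a ha) (mem_top _)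
      exact this hy
    obtain ⟨j, hj⟩ := dv ψ (hJI _ hψ)
    refine ext_ratio he hm hI fr hx (hJI Y) (hJ Y a3) a4 (hJI _ hψ) (k := m θ₀ * j) ?_ ?_
    · have : (e θ₀ : ℝ) ≠ 0 := by exact_mod_cast pos
      rw [hj, ← hc]; push_cast; field_simp
    · rw [sm2 Y a1 a2, mul_comm]
      exact Nat.mul_le_mul (deg_sq_le (mem_irrSet.1 hψ).1 (mem_irrSet.1 hψ).2.1 hZ) (by omega)
  have fin := key _ _ le_rfl inferInstance hπi rfl t2
  have val : ∀ z ∈ Z, z ≠ 1 → φ z = ∑ θ : IrrCharacter Q,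
      (if ∀ z ∈ Z, θ.1 z = θ.1 1 then (classInner φ θ - c * θ.1 1) * θ.1 1 else 0) := fun z hz z1 => by
    have a1 := sum_irr_one_mul z
    rw [if_neg z1] at a1
    have a2 : φ z = φ z - c * ∑ θ : IrrCharacter Q, θ.1 1 * θ.1 z := by rw [a1]; simp
    rw [a2, hφ.isClassFunction.apply_eq_sum_irr, Finset.mul_sum, ← Finset.sum_sub_distrib]
    refine Finset.sum_congr rfl fun θ _ => ?_
    split_ifs with h
    · rw [h z hz]; ring
    · have := fin θ (mem_irrSet.2 ⟨θ.2, by simp, h⟩)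
      have : ((m θ : ℝ) : ℂ) = (c * e θ : ℝ) := congrArg _ this
      push_cast at this
      simp only [m, e] at this
      rw [natmul hφ θ.2.isCharacter, natdeg θ.2.isCharacter] at this
      rw [this]; ring
  exact fun z hz z' hz' a b => (val z hz a).trans (val z' hz' b).symm

end Abs

end Cfsg.Agent.Inv
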