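import Cfsg.Agent.Inv.TC1

/-! The rank one set-up: if `D` acts freely on the odd part of `Q`, then `Q` is a 2-group. -/

set_option autoImplicit false
set_option linter.unusedVariables false
set_option linter.unusedSectionVars false

namespace Cfsg.Agent.Inv

open Subgroup MulAction Cfsg.Agent.PLoc Cfsg.Agent.Char
open scoped ComplexConjugate commutatorElement

variable {G Ω : Type*} [Group G] [MulAction G Ω]

theorem dvdA_sub_of_const' [Finite G] {L P Z : Subgroup G}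
    (hr : ∀ g ∈ L, ∀ z ∈ Z, g * z * g⁻¹ = z⁻¹ → z = 1)
    (hTI : ∀ g, g ∉ L → ∀ x ∈ P, g * x * g⁻¹ ∈ P → x = 1) (hPL : P ≤ L)
    (hP : ∀ x ∈ L, orderOf x ∣ Nat.card P → x ∈ P) (hZP : Z ≤ P)
    (hZn : ∀ x ∈ L, ∀ z ∈ Z, x * z * x⁻¹ ∈ Z) (hZc : ∀ z ∈ Z, ∀ y ∈ P, z * y = y * z) {ψ : G → ℂ}
    (hψ : IsIrrCharacter G ψ) (hc : ∀ z ∈ Z, ∀ z' ∈ Z, z ≠ 1 → z' ≠ 1 → ψ z = ψ z') {z : G}
    (hz : z ∈ Z) (hz1 : z ≠ 1) : DvdA (Nat.card P) (ψ 1 - ψ z) := by
  classical
  have := Fintype.ofFinite G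
  let f : G → ℂ := fun y => ψ (y⁻¹ * z) - ψ (y * z)
  have h1 : ∑ y ∈ Finset.univ.filter (IsConj z ·), f y = 0 := by
    refine (mul_eq_zero.1 ((sum_conj_eq z f).symm.trans ?_)).resolve_left (card_ne_zero _)
    simp only [f, Finset.sum_sub_distrib, conj_inv, hψ.sum_conj_mul,
      hc _ (Z.inv_mem hz) _ hz (by simpa) hz1, sub_self]
  rw [← Finset.sum_filter_add_sum_filter_not _ (· ∈ Z), Finset.sum_eq_single z, add_eq_zero_iff_eq_neg]
    at h1
  · have hzz : z * z ≠ 1 := fun e => hz1 (hr 1 L.one_mem z hz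
      (by simpa using eq_inv_of_mul_eq_one_left e))
    simp only [f, inv_mul_cancel, hc _ (Z.mul_mem hz hz) _ hz hzz hz1] at h1
    rw [h1]
    refine (dvdA_sum_of_free P (fun y => (hψ.isCharacter.isIntegral _).sub
      (hψ.isCharacter.isIntegral _)) (fun x hx y => ?_) _ (fun x hx y hy => ?_)
      fun x hx y hy e => ?_).neg
    · have e : ∀ u, x * u * x⁻¹ * z = x * (u * z) * x⁻¹ := fun u => by
        rw [mul_assoc, ← hZc z hz _ (P.inv_mem hx)]; group
      rw [conj_inv, e, e, hψ.isClassFunction, hψ.isClassFunction]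
    · simp only [Finset.mem_filter, Finset.mem_univ, true_and] at hy ⊢
      refine ⟨hy.1.trans (isConj_iff.2 ⟨x, rfl⟩), fun e => hy.2 ?_⟩
      simpa [mul_assoc] using hZn _ (hPL (P.inv_mem hx)) _ e
    · simp only [Finset.mem_filter, Finset.mem_univ, true_and] at hy
      by_contra h2
      obtain ⟨g, rfl⟩ := isConj_iff.1 hy.1
      have h3 : g * z * g⁻¹ ∈ L := by_contra fun h3 =>
        h2 (hTI _ h3 x hx (by rwa [← e, mul_inv_cancel_right]))
      have h4 := hP _ h3 (by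
        rw [← MulAut.conj_apply, MulEquiv.orderOf_eq]; exact P.orderOf_dvd_natCard (hZP hz))
      exact hy.2 (hZn g (by_contra fun h5 => hz1 (hTI g h5 z (hZP hz) h4)) z hz)
  · intro y hy hne
    simp only [Finset.mem_filter, Finset.mem_univ, true_and] at hy
    refine sub_eq_zero.2 (hc _ (Z.mul_mem (Z.inv_mem hy.2) hz) _ (Z.mul_mem hy.2 hz)
      (fun e => hne (inv_mul_eq_one.1 e)) fun e => ?_)
    obtain ⟨g, rfl⟩ := isConj_iff.1 hy.1
    exact hz1 (hr g (by_contra fun h5 => hz1 (hTI g h5 z (hZP hz) (hZP hy.2)))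
      z hz (eq_inv_of_mul_eq_one_left e))
  · exact fun h => (h (by simp [hz, -isConj_iff, IsConj.refl])).elim

theorem norm_lt_of_TI [Fintype G] {H Q : Subgroup G} [Fintype Q] [DecidableEq Q] (hQ : Q ≤ H)
    (hn : ∀ h ∈ H, ∀ u ∈ Q, h * u * h⁻¹ ∈ Q)
    (hTI : ∀ g, g ∉ H → ∀ x ∈ Q, g * x * g⁻¹ ∈ Q → x = 1) {f : G → ℂ} (hf : IsIrrCharacter G f) :
    ∑ u ∈ Finset.univ.erase (1 : Q), ‖f u‖ ^ 2 < Nat.card H := by
  classical
  have := Fintype.ofFinite H
  let ψ : H → ℂ := fun x => if (x : G) ∈ Q ∧ x ≠ 1 then f x else 0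
  have h1 : IsClassFunction H ψ := fun x g => by
    have : ((g * x * g⁻¹ : H) : G) ∈ Q ↔ (x : G) ∈ Q :=
      ⟨fun h => by simpa [mul_assoc] using hn _ (inv_mem g.2) _ h, hn _ g.2 _⟩
    simp only [ψ, this, ne_eq, conj_eq_one_iff]
    split_ifs
    · exact hf.isClassFunction _ _
    · rfl
  have h2 : ∀ x : H, (x : G) ∉ (Q : Set G) → ψ x = 0 := fun x hx => if_neg fun h => hx h.1
  have h3 : ψ 1 = 0 := by simp [ψ]
  have h4 := classInner_indFun_TI hTI h1 h2 h2 h3
  have h5 : classInner f (indFun H ψ) = classInner ψ ψ := by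
    rw [classInner_indFun_right _ _ hf.isClassFunction, classInner_def, classInner_def]
    congr 1
    exact Finset.sum_congr rfl fun x _ => by simp only [ψ]; split_ifs <;> simp
  have h6 : 0 < Char.nrm (f - indFun H ψ) := nrm_pos fun e => hf.one_ne_zero (by
    have := congrFun e 1
    simpa [indFun_one, h3] using this)
  rw [Char.nrm_sub, hf.nrm_eq, nrm_eq_of_classInner h4, h5, ← nrm_def, nrm_eq_sum] at h6
  have h7 : ∑ x : H, ‖ψ x‖ ^ 2 = ∑ u ∈ Finset.univ.erase (1 : Q), ‖f u‖ ^ 2 := by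
    symm
    refine Finset.sum_of_injOn (inclusion hQ) (inclusion_injective hQ).injOn (by simp)
      (fun x _ hx => ?_) fun u hu => ?_
    · rw [show ψ x = 0 from if_neg fun h => hx ⟨⟨x, h.1⟩, by
        simpa using fun e => h.2 (Subtype.ext (congrArg Subtype.val e :)), rfl⟩]; simp
    · rw [show ψ (inclusion hQ u) = f u from if_pos ⟨u.2, fun e => (Finset.mem_erase.1 hu).1
        (Subtype.ext (congrArg Subtype.val e :))⟩]
  rw [h7] at h6
  have : (0 : ℝ) < Nat.card H := by exact_mod_cast Nat.card_pos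
  rw [← mul_one (Nat.card H : ℝ), ← inv_mul_lt_iff₀ this]
  linarith

theorem eq_top_of_der_sup {L : Type*} [Group L] [Group.IsSolvable L] {A : Subgroup L} [A.Normal]
    (h : (⊤ : Subgroup L) ≤ ⁅(⊤ : Subgroup L), ⊤⁆ ⊔ A) : A = ⊤ := by
  by_contra h1
  have : Nontrivial (L ⧸ A) := QuotientGroup.nontrivial_iff.2 h1
  refine (Group.IsSolvable.commutator_lt_top_of_nontrivial (L ⧸ A)).not_ge ?_
  have := map_mono (f := QuotientGroup.mk' A) h
  rwa [Subgroup.map_sup, map_commutator, map_top_of_surjective _ (QuotientGroup.mk'_surjective A),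
    QuotientGroup.map_mk'_self, sup_bot_eq] at this

/-- the `π`-part map of a nilpotent group -/
noncomputable def cstHom (π : Set ℕ) (Q : Type*) [Group Q] [Finite Q] [h : Group.IsNilpotent Q] :
    Q →* Q := MonoidHom.mk' (BG.cst π) fun x y => by
  have n : BG.Nil (⊤ : Subgroup Q) := BG.nil_top.2 h
  have a := fun z : Q => n.mem_O (mem_top _) (BG.cst_pie π z)
  have b := fun z : Q => n.mem_O (mem_top _) (BG.cst_pie πᶜ z)
  have c := fun u hu v hv => BG.O_cent_O π (⊤ : Subgroup Q) (x := u) hu v hv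
  rw [← BG.cst_eq ((BG.O_pig _ _).elt (mul_mem (a x) (a y))) ((BG.O_pig _ _).elt (mul_mem (b x) (b y)))
    (c _ (mul_mem (a x) (a y)) _ (mul_mem (b x) (b y))).symm]
  congr 1
  conv_lhs => rw [← BG.cst_mul_cst π x, ← BG.cst_mul_cst π y]
  rw [mul_assoc, mul_assoc, ← mul_assoc (BG.cst πᶜ x), c _ (a y) _ (b x), mul_assoc]

namespace R1

variable {a : Ω} {t : G} {Q : Subgroup G} [Finite G] (S : R1 G Ω a t Q)
include S

local notation "𝓗" => stabilizer G a
local notation "𝓓" => St2 G a (t • a)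

theorem ti : ∀ g, g ∉ 𝓗 → ∀ x ∈ Q, g * x * g⁻¹ ∈ Q → x = 1 := fun g hg x hx h =>
  by_contra fun h1 => hg (S.fix_of_conj hx h1 (S.fix h))

variable (h2 : Four G)
include h2

theorem decomp {d : G} (hd : d ∈ 𝓓) : ∃ c ∈ 𝓓, ∃ k ∈ S.K h2, t * c * t⁻¹ = c ∧ d = c * k := by
  obtain ⟨c, c1, k, k1, a1, a2, a3⟩ := exists_cent_mul_inv S.mul_self S.odd_card (fun x => S.conjD) hd
  exact ⟨c, c1, k, ⟨k1, a2⟩, a1, a3⟩

theorem solH : Group.IsSolvable 𝓗 := by
  have := S.nilp h2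
  rw [← S.sup_eq]
  exact BG.Sol.sup_l (A := Q) inferInstance (PF.feit_thompson S.odd_card) (inf_le_left.trans S.norm)

theorem normQK : 𝓗 ≤ normalizer ((Q ⊔ S.K h2 : Subgroup G) : Set G) := fun h hh => by
  obtain ⟨u, hu, d, hd, rfl⟩ := S.exists_mul hh
  exact mul_mem (le_normalizer (mem_sup_left hu)) (BG.normY (zpowers_le.2 (S.norm hd.1))
    (zpowers_le.2 (mem_normalizer_of_conj_mem fun k hk => S.conj_K h2 hd hk)) (mem_zpowers d))

theorem lconj {A : Type*} [CommGroup A] (l : 𝓗 →* A) (lK : ∀ x : 𝓗, (x : G) ∈ S.K h2 → l x = 1) :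
    ∀ (g : G) (x y : 𝓗), g * x * g⁻¹ = y → l y = l x := by
  have a1 : ∀ (g x y : 𝓗), (g * x * g⁻¹ : G) = y → l y = l x := fun g x y e => by
    rw [show y = g * x * g⁻¹ from Subtype.ext e.symm]; simp
  intro g x y e
  by_cases hg : g • a = a
  · exact a1 ⟨g, hg⟩ x y e
  obtain ⟨h, hh, u, hu, rfl⟩ := S.bruhat hg
  have m1 : u * x * u⁻¹ ∈ 𝓗 := mul_mem (mul_mem (S.le hu) x.2) (inv_mem (S.le hu))
  have m2 : t * (u * x * u⁻¹) * t⁻¹ ∈ 𝓗 := by
    rw [show t * (u * x * u⁻¹) * t⁻¹ = h⁻¹ * y * h by rw [← e]; group]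
    exact mul_mem (mul_mem (inv_mem hh) y.2) hh
  have m3 : u * x * u⁻¹ ∈ 𝓓 := ⟨m1, by
    have : (t * (u * x * u⁻¹) * t⁻¹) • a = a := m2
    rwa [conj_smul_fix, S.tinv] at this⟩
  obtain ⟨c, c1, k, k1, c2, c3⟩ := S.decomp h2 m3
  rw [a1 ⟨h, hh⟩ ⟨_, m2⟩ y (by rw [← e]; simp [mul_assoc]), ← a1 ⟨u, S.le hu⟩ x ⟨_, m1⟩ rfl,
    show (⟨_, m2⟩ : 𝓗) = ⟨c, c1.1⟩ * ⟨k, k1.1.1⟩⁻¹ from Subtype.ext (by
      change t * (u * x * u⁻¹) * t⁻¹ = c * k⁻¹
      rw [← k1.2, c3, ← conj_mul, c2]),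
    show (⟨_, m1⟩ : 𝓗) = ⟨c, c1.1⟩ * ⟨k, k1.1.1⟩ from Subtype.ext c3, map_mul, map_mul, map_inv,
    lK ⟨k, k1.1.1⟩ k1, inv_one]

theorem exists_lin {B : Subgroup G} (hB : 𝓗 ≤ normalizer (B : Set G)) (h : ¬ 𝓗 ≤ B) :
    ∃ l : 𝓗 →* ℂˣ, l ≠ 1 ∧ ∀ x : 𝓗, (x : G) ∈ B → l x = 1 := by
  have : (B.subgroupOf 𝓗).Normal := normal_subgroupOf_of_le_normalizer hB
  obtain ⟨l, l1, l2⟩ := exists_hom_ne_one_of_not_le (K := (⊤ : Subgroup 𝓗))
    (A := B.subgroupOf 𝓗) fun e => h (by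
      have sol := S.solH h2
      exact subgroupOf_eq_top.1 (eq_top_of_der_sup e))
  exact ⟨l.comp (topEquiv (G := 𝓗)).symm.toMonoidHom, fun e => l1 (MonoidHom.ext fun x =>
    DFunLike.congr_fun e x.1), fun x hx => l2 ⟨x, mem_top x⟩ hx⟩

theorem thmC [IsSimpleGroup G] (hV : S.K h2 ≠ 𝓓)
    (hf : ∀ d ∈ 𝓓, ∀ u ∈ Q, d * u = u * d → Odd (orderOf u) → d = 1 ∨ u = 1) : IsPGroup 2 Q := by
  classical
  have := Fintype.ofFinite G
  have := Fintype.ofFinite 𝓗
  have := Fintype.ofFinite Q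
  have := Fintype.ofFinite 𝓓
  have := S.finite
  have nil := S.nilp h2
  by_contra hQ
  obtain ⟨p, hp, pQ, p2⟩ : ∃ p, p.Prime ∧ p ∣ Nat.card Q ∧ p ≠ 2 := by
    by_contra h
    exact hQ (BG.PiG.pg (fun p hp hd => by_contra fun e => h ⟨p, hp, hd, e⟩) Nat.prime_two)
  have oddp : ∀ r, r.Prime → r ≠ 2 → ∀ u : G, BG.PiE {r} u → Odd (orderOf u) := fun r hr r2 u hu =>
    Nat.coprime_two_right.1 ((BG.pin_compl_cop Nat.prime_two).1 (hu.ne_compl r2))
  have cop : (Nat.card 𝓓).Coprime (Nat.card Q) := Nat.coprime_of_dvd fun r hr a1 a2 => by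
    have : Fact r.Prime := ⟨hr⟩
    obtain ⟨d, hd⟩ := exists_prime_orderOf_dvd_card' r a1
    have r2 : r ≠ 2 := by rintro rfl; exact S.odd_card.not_two_dvd_nat a1
    obtain ⟨u, hu, u1⟩ := exists_ne_one ((BG.O_pig {r} Q).meet_C (A := zpowers (d : G))
      (BG.pig_of_card' hr (by rw [Nat.card_zpowers, orderOf_coe, hd]))
      (BG.normO _ (zpowers_le.2 (S.norm d.2.1))) (BG.Nil.O_ne_bot nil hr a2 rfl))
    rcases hf d d.2 u (BG.O_le _ _ hu.1) (hu.2 d (mem_zpowers _)) (oddp r hr r2 u ((BG.O_pig _ _).elt hu.1))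
      with h | h
    · rw [show d = 1 from Subtype.ext h, orderOf_one] at hd; exact hr.one_lt.ne hd
    · exact u1 h
  have powQ : ∀ h ∈ 𝓗, h ^ Nat.card 𝓓 ∈ Q := fun h hh => by
    have := BG.pow_relIndex_mem S.norm hh
    rwa [show Q.relIndex 𝓗 = Nat.card 𝓓 from Nat.eq_of_mul_eq_mul_left (Nat.card_pos (α := Q))
      ((BG.card_mul_relIndex S.le).trans S.card_H)] at this
  -- the linear character
  obtain ⟨l, l1, l2⟩ := S.exists_lin h2 (S.normQK h2) fun h => hV (by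
      refine le_antisymm (S.K_le h2) fun d hd => ?_
      obtain ⟨u, hu, k, hk, e⟩ := (BG.mem_sup_l (((S.K_le h2).trans inf_le_left).trans S.norm)).1 (h hd.1)
      rw [e, S.eq_one hu (by
        rw [eq_mul_inv_of_mul_eq e.symm]; exact mul_mem hd (inv_mem hk.1)), one_mul]
      exact hk)
  have lQ : ∀ x : 𝓗, (x : G) ∈ Q → l x = 1 := fun x hx => l2 _ (mem_sup_left hx)
  have lK : ∀ x : 𝓗, (x : G) ∈ S.K h2 → l x = 1 := fun x hx => l2 _ (mem_sup_right hx)
  have lconj := S.lconj h2 l lK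
  have hl := isIrrCharacter_hom l
  have ind : ∀ x : 𝓗, indFun 𝓗 (fun x => (l x : ℂ)) x = l x * Nat.card (fixedBy Ω (x : G)) := fun x => by
    have := S.tr1
    have : IsPretransitive G Ω := ⟨fun c d => by
      obtain ⟨g, rfl⟩ := S.tr1 c
      obtain ⟨h, rfl⟩ := S.tr1 d
      exact ⟨h * g⁻¹, by simp [mul_smul]⟩⟩
    rw [congrFun (perm_eq_indFun (G := G) Ω a) x, indFun_apply', indFun_apply', mul_left_comm]
    congr 1
    rw [Finset.mul_sum]
    refine Finset.sum_congr rfl fun g _ => ?_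
    simp only [extendByZero_apply]
    split_ifs with h
    · rw [lconj g x ⟨_, h⟩ rfl, mul_one]
    · simp
  have ind1 : indFun 𝓗 (fun x => (l x : ℂ)) 1 = Nat.card Q + 1 := by
    rw [indFun_one, S.index_H]; simp
  have indQ : ∀ u ∈ Q, u ≠ 1 → indFun 𝓗 (fun x => (l x : ℂ)) u = 1 := fun u hu u1 => by
    rw [ind ⟨u, S.le hu⟩, lQ _ hu, show fixedBy Ω u = {a} from Set.eq_singleton_iff_unique_mem.2
      ⟨S.fix hu, fun c hc => by_contra fun h => u1 (S.free hu h hc)⟩]
    simp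
  have n2 : classInner (indFun 𝓗 fun x => (l x : ℂ)) (indFun 𝓗 fun x => (l x : ℂ)) = 2 := by
    rw [classInner_indFun_right _ _ (isClassFunction_indFun _ _), classInner_eq_one_right,
      show ((fun h : 𝓗 => indFun 𝓗 (fun x => (l x : ℂ)) h) * fun g => conj (l g : ℂ)) =
        fun h : 𝓗 => (Nat.card (fixedBy Ω h) : ℂ) from funext fun h => by
          rw [Pi.mul_apply, ind, mul_right_comm, hom_mul_conj, one_mul]; rfl,
      classInner_perm_one, Nat.card_eq_two_iff.2]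
    · rfl
    refine ⟨⟦a⟧, ⟦t • a⟧, fun e => ?_, Set.eq_univ_of_forall fun c => ?_⟩
    · obtain ⟨g, hg⟩ := Quotient.exact e
      exact S.smul_ne g.2 S.ne hg
    · induction c using Quotient.inductionOn with | _ c => ?_
      by_cases h : c = a
      · exact Or.inl (by rw [h])
      · obtain ⟨u, hu, e⟩ := S.trans0 h
        exact Or.inr (Quotient.sound ⟨⟨u, S.le hu⟩, e⟩)
  obtain ⟨f, f', α, β, i1, i2, ne, ha, hb, e⟩ := hl.isCharacter.indFun.isGen.exists_of_norm_two n2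
  have s1 : classInner (indFun 𝓗 fun x => (l x : ℂ)) f = α := by
    rw [e, classInner_add_left, classInner_smul_left, classInner_smul_left, i1.classInner_self,
      i2.classInner_of_ne i1 ne.symm]; simp
  have s2 : classInner (indFun 𝓗 fun x => (l x : ℂ)) f' = β := by
    rw [e, classInner_add_left, classInner_smul_left, classInner_smul_left, i2.classInner_self,
      i1.classInner_of_ne i2 ne]; simp
  obtain rfl : α = 1 := ha.resolve_right fun h => by
    have := hl.isCharacter.indFun.classInner_re_nonneg i1.isCharacter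
    rw [s1, h] at this; norm_num at this
  obtain rfl : β = 1 := hb.resolve_right fun h => by
    have := hl.isCharacter.indFun.classInner_re_nonneg i2.isCharacter
    rw [s2, h] at this; norm_num at this
  simp only [Int.cast_one, one_smul] at e s1 s2
  have nt : classInner (indFun 𝓗 fun x => (l x : ℂ)) (fun _ => 1) = 0 := by
    rw [classInner_indFun_left _ _ (isClassFunction_const 1)]
    exact hl.classInner_of_ne isIrrCharacter_one fun h => l1 (MonoidHom.ext fun x =>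
      Units.ext (congrFun h x))
  have ker : ∀ g, IsIrrCharacter G g → classInner (indFun 𝓗 fun x => (l x : ℂ)) g = 1 →
      ∀ z, g z = g 1 → z = 1 := fun g hg h z hz =>
    (hg.charKer_eq_bot_of_simple fun h' => by rw [h', nt] at h; exact zero_ne_one h).le
      (hg.isCharacter.mem_charKer.2 hz)
  obtain ⟨n, hn⟩ := i1.isCharacter.exists_nat
  -- `f` is real on `Q`
  have real : ∀ u : Q, f u⁻¹ = f u := by
    obtain ⟨m, m1, m2⟩ := Nat.chineseRemainder cop 1 (Nat.card Q - 1)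
    have q0 : 0 < Nat.card Q := Nat.card_pos
    have m3 : Nat.card Q ∣ m + 1 := (Nat.modEq_zero_iff_dvd).1
      ((m2.add_right 1).trans (by rw [Nat.sub_add_cancel q0]; exact Nat.modEq_zero_iff_dvd.2 dvd_rfl))
    obtain ⟨σ, hσ⟩ := exists_ringEquiv_pow (n := Nat.card 𝓓 * Nat.card Q) (m := m)
      (mul_ne_zero Nat.card_pos.ne' q0.ne') (Nat.Coprime.mul_right
        (by rw [Nat.Coprime, m1.gcd_eq]; simp)
        ((Nat.coprime_self_add_right.2 (Nat.coprime_one_right m)).coprime_dvd_right m3))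
    have i3 := i1.map_ringHom σ.toRingHom
    have a1 : (fun x => σ.toRingHom (l x : ℂ)) = fun x => (l x : ℂ) := funext fun x => by
      have b1 : (l x : ℂ) ^ Nat.card 𝓓 = 1 := by
        rw [← Units.val_pow_eq_pow_val, ← map_pow, lQ _ (powQ x x.2)]; rfl
      refine (hσ _ (by rw [pow_mul, b1, one_pow])).trans ?_
      rw [← pow_one (l x : ℂ), ← pow_mul, one_mul]
      exact pow_eq_pow_of_modEq m1 b1
    have a2 : classInner (f + f') (fun g => σ.toRingHom (f g)) = 1 := by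
      rw [← e, classInner_indFun_left _ _ i3.isClassFunction, ← s1,
        classInner_indFun_left _ _ i1.isClassFunction,
        ← classInner_map_ringHom hl.isGen (i1.isGen.restrict _) σ.toRingHom, a1]
    have a3 : f = fun g => σ.toRingHom (f g) := i1.eq_of_classInner_ne_zero i3 fun h => by
      rw [classInner_add_left, h, zero_add] at a2
      have b1 := congrFun (i2.eq_of_classInner_ne_zero i3 (by rw [a2]; exact one_ne_zero)) 1
      rw [e, Pi.add_apply, b1, hn, map_natCast] at ind1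
      have b2 : n + n = Nat.card Q + 1 := by exact_mod_cast ind1
      obtain ⟨j, hj⟩ := S.even_card
      omega
    intro u
    rw [congrFun a3 u, i1.isGen.ringHom_apply' σ.toRingHom hσ
      ((Q.orderOf_dvd_natCard u.2).mul_left _), eq_comm]
    congr 1
    refine eq_inv_of_mul_eq_one_left ?_
    rw [← pow_succ]
    exact orderOf_dvd_iff_pow_eq_one.1 ((Q.orderOf_dvd_natCard u.2).trans m3)
  -- the central subgroup
  let Z : Subgroup G := piCoreOf {p} Q ⊓ centralizer Q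
  have zQ : Z ≤ Q := inf_le_left.trans (BG.O_le _ _)
  have zN : 𝓗 ≤ normalizer (Z : Set G) := BG.normI (BG.normO _ S.norm) (BG.normC S.norm)
  have zO : ∀ z ∈ Z, Odd (orderOf z) := fun z hz => oddp p hp p2 z ((BG.O_pig _ _).elt hz.1)
  have z1 : Z ≠ ⊥ := BG.Nil.meet_C nil (BG.O_le _ _) (BG.O_norm _ _) (BG.Nil.O_ne_bot nil hp pQ rfl)
  let ρ : 𝓓 →* MulAut Q := Q.normalizerMonoidHom.comp (inclusion (inf_le_left.trans S.norm))
  have hρ : ∀ d v, (ρ d v : G) = d * v * (d : G)⁻¹ := fun _ _ => rfl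
  obtain ⟨k, hk⟩ : ∃ k, (cstHom {p} Q).ker.index = p ^ k := by
    rw [index_ker]
    refine BG.PiG.card_pow (BG.pig_of_elts ?_) hp
    rintro _ ⟨x, rfl⟩; exact BG.cst_pie _ _
  have const := const_on_center ρ S.odd_card (Z := Z.subgroupOf Q)
    (fun z hz => mem_center_iff.2 fun g => Subtype.ext (hz.2 g g.2))
    (fun h => z1 (by rwa [subgroupOf_eq_bot, disjoint_iff, inf_eq_left.2 zQ] at h))
    (by
      rw [Nat.card_congr (subgroupOfEquivOfLe zQ).toEquiv]
      exact Nat.coprime_two_right.1 ((BG.pin_compl_cop Nat.prime_two).1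
        (((BG.O_pig {p} Q).of_le inf_le_left).ne_compl p2)))
    (fun d z hz => (mem_normalizer_iff.1 (zN d.2.1) z).1 hz)
    (fun d z hz h => (hf d d.2 z z.2 (mul_inv_eq_iff_eq_mul.1 (congrArg Subtype.val h)) (zO z hz)).imp
      Subtype.ext Subtype.ext)
    (cstHom {p} Q) (fun z hz => BG.cst_self (by
      rw [BG.PiE, ← orderOf_coe]; exact (BG.O_pig _ _).elt hz.1))
    (fun d y hy => BG.cst_eq_one_iff.2 (by
      rw [BG.PiE, MulEquiv.orderOf_eq]; exact BG.cst_eq_one_iff.1 hy)) hp hk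
    ((cop.coprime_dvd_right pQ).mul_left ((Nat.coprime_primes Nat.prime_two hp).2 p2.symm))
    (i1.isCharacter.restrict Q) (fun d u => i1.isClassFunction _ _) real
    (by
      have := norm_lt_of_TI S.le S.conj_mem S.ti i1
      rwa [S.card_H, Nat.cast_mul, mul_comm] at this)
  have const' : ∀ z ∈ Z, ∀ z' ∈ Z, z ≠ 1 → z' ≠ 1 → f z = f z' := fun z hz z' hz' a b =>
    const ⟨z, zQ hz⟩ hz ⟨z', zQ hz'⟩ hz' (fun e => a (congrArg Subtype.val e))
      fun e => b (congrArg Subtype.val e)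
  obtain ⟨z, hz, z1⟩ := exists_ne_one z1
  have dv := dvdA_sub_of_const' (L := 𝓗) (P := Q) (Z := Z) (fun g hg z hz h => by
      obtain ⟨u, hu, d, hd, rfl⟩ := S.exists_mul hg
      have b1 : d * z * d⁻¹ = z⁻¹ := by
        rw [← mul_left_cancel_iff (a := u), ← mul_right_cancel_iff (a := u⁻¹), (inv_mem hz).2 u hu]
        simpa [mul_assoc] using h
      have b2 : d * d * z = z * (d * d) := by
        rw [← mul_inv_eq_iff_eq_mul, show d * d * z * (d * d)⁻¹ = d * (d * z * d⁻¹) * d⁻¹ by group, b1,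
          ← conj_inv, b1, inv_inv]
      rcases hf _ (mul_mem hd hd) z (zQ hz) b2 (zO z hz) with h | h
      · rw [sq_inj_of_odd (S.oddD hd) (y := 1) (by simp) (by simpa using h)] at b1
        exact sq_inj_of_odd (zO z hz) (by simp) (by
          nth_rw 1 [show z = z⁻¹ by simpa using b1]; simp)
      · exact h) S.ti S.le
    (fun x hx h => mem_of_pow_mem_of_coprime (powQ x hx) (cop.symm.coprime_dvd_left h)) zQ
    (fun x hx z hz => (mem_normalizer_iff.1 (zN hx) z).1 hz) (fun z hz y hy => (hz.2 y hy).symm) i1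
    const' hz z1
  obtain ⟨j, hj⟩ := i1.isGen.exists_int_of_pow z fun m hm => const' _ (pow_mem hz m) _ hz
    (fun e => z1 (by
      have := orderOf_dvd_of_pow_eq_one e
      exact orderOf_eq_one_iff.1 (Nat.Coprime.eq_one_of_dvd hm.symm this))) z1
  have dv' : (Nat.card Q : ℤ) ∣ n - j := DvdA.int_dvd (by simpa [hn, hj] using dv)
  have e1 : f' 1 = (Nat.card Q + 1 - n : ℤ) := by
    rw [e, Pi.add_apply, hn] at ind1; push_cast; rw [← ind1]; ring
  have e2 : f' z = (1 - j : ℤ) := by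
    have := indQ z (zQ hz) z1
    rw [e, Pi.add_apply, hj] at this; push_cast; rw [← this]; ring
  have b1 := i1.isCharacter.norm_le z
  have b2 := i2.isCharacter.norm_le z
  have b3 := i2.isCharacter.re_one_nonneg
  rw [hj, hn, Complex.norm_intCast, Complex.norm_natCast] at b1
  rw [e1, e2, Complex.norm_intCast, Complex.norm_intCast] at b2
  rw [e1, Complex.intCast_re] at b3
  have b4 : |j| ≤ n := by exact_mod_cast b1
  have b5 : |1 - j| ≤ |(Nat.card Q + 1 - n : ℤ)| := by exact_mod_cast b2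
  have b6 : (0 : ℤ) ≤ Nat.card Q + 1 - n := by exact_mod_cast b3
  rw [abs_of_nonneg b6] at b5
  have b7 := le_of_abs_le b4
  have b8 := le_of_abs_le b5
  by_cases h : (n : ℤ) - j = 0
  · exact z1 (ker f i1 s1 z (by rw [hj, hn]; exact_mod_cast (sub_eq_zero.1 h).symm))
  · have := Int.le_of_dvd (by omega) dv'
    exact z1 (ker f' i2 s2 z (by rw [e1, e2]; congr 1; omega))

end R1

end Cfsg.Agent.Inv
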