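import Cfsg.Agent.Inv.R1j
import Cfsg.Agent.Lie.SL2
import Cfsg.Agent.PLoc.SL2
import Cfsg.Agent.Class.Uni

/-! The unitary case of the rank one set-up: the subgroup `SL₂(q)` and its centralizer. -/

set_option autoImplicit false
set_option linter.unusedVariables false
set_option linter.unusedSectionVars false

namespace Cfsg.Agent.Inv

open Subgroup MulAction Cfsg.Agent.BG Cfsg.Agent.Lie
open scoped Pointwise commutatorElement MatrixGroups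

section alg
variable {F : Type} [Field F] (two : (2 : F) = 0)
include two

theorem sl2_sq_of_tr {M : SL(2, F)} (h : PLoc.trS M ^ 2 = 4) : M * M = 1 := by
  have := PLoc.sl2_det M
  have h' : M 0 0 = M 1 1 := by rw [PLoc.trS] at h; grind
  refine PLoc.sl2_ext ?_ ?_ ?_ ?_ <;> simp only [PLoc.sl2_mul, PLoc.sl2_one_00, PLoc.sl2_one_01,
    PLoc.sl2_one_10, PLoc.sl2_one_11] <;> grind

theorem sl2_eq_or_inv {x y : SL(2, F)} (hx : PLoc.trS x ^ 2 ≠ 4) (h : x * y = y * x)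
    (ht : PLoc.trS y = PLoc.trS x) : y = x ∨ y = x⁻¹ := by
  obtain ⟨s, t, h1, h2, h3, h4⟩ := PLoc.exists_span_of_comm hx h
  have d1 := PLoc.sl2_det x
  have d2 := PLoc.sl2_det y
  simp only [PLoc.trS] at hx ht
  have t1 : t = 1 := by grind
  have : s = 0 ∨ s = x 0 0 + x 1 1 := by grind
  refine this.imp (fun e => PLoc.sl2_ext ?_ ?_ ?_ ?_) fun e => PLoc.sl2_ext ?_ ?_ ?_ ?_ <;>
    (try simp only [PLoc.sl2_inv_00, PLoc.sl2_inv_01, PLoc.sl2_inv_10, PLoc.sl2_inv_11]) <;> grind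

theorem exists_ell_eigen [Finite F] {M : SL(2, F)} (h0 : M 1 0 ≠ 0)
    (h : ∀ r, M 0 0 * r + M 0 1 ≠ r * (M 1 0 * r + M 1 1)) :
    ∃ (E : Type) (_ : Field E) (ι : F →+* E) (σ : E →+* E) (x y l : E), Class.UF σ (Nat.card F) ∧
      (∀ r, σ (ι r) = ι r) ∧ (∀ z, σ z = z → ∃ r, ι r = z) ∧ x * σ y + σ x * y = 1 ∧
      ι (M 0 0) * x + ι (M 0 1) * y = l * x ∧ ι (M 1 0) * x + ι (M 1 1) * y = l * y := by
  have : CharP F 2 := CharTwo.of_one_ne_zero_of_two_eq_zero one_ne_zero two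
  set α := M 0 1 / M 1 0 with hα
  set β := (M 0 0 - M 1 1) / M 1 0 with hβ
  have : Fact (∀ r, r ^ 2 ≠ α + β * r) := ⟨fun r e => h r (by grind)⟩
  have β0 : β ≠ 0 := fun e => by
    obtain ⟨d, hd⟩ := FiniteField.isSquare_of_char_two (ringChar.eq F 2) α
    exact this.out d (by rw [e, hd]; ring)
  let E := QuadraticAlgebra F α β
  have : Finite E := .of_equiv _ (QuadraticAlgebra.equivProd α β).symm
  let σ : E →+* E := starRingEnd E
  have σr : ∀ z, (σ z).re = z.re + β * z.im := fun z => QuadraticAlgebra.re_star z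
  have σi : ∀ z, (σ z).im = -z.im := fun z => QuadraticAlgebra.im_star z
  have σι : ∀ r, σ (algebraMap F E r) = algebraMap F E r := fun r => by
    ext <;> simp [σr, σi, E]
  have tr : QuadraticAlgebra.omega + σ QuadraticAlgebra.omega = algebraMap F E β := by
    ext <;> simp [σr, σi, E]
  obtain ⟨q, hq⟩ := Class.exists_UF_of_invol (σ := σ) (fun a => star_star a) fun e => β0 (by
    simpa [e] using (σr QuadraticAlgebra.omega).symm)
  obtain rfl : q = Nat.card F := Nat.pow_left_injective two_ne_zero (show q ^ 2 = _ ^ 2 by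
    rw [← hq.card, Nat.card_congr (QuadraticAlgebra.equivProd α β), Nat.card_prod, sq])
  obtain ⟨ν, hν⟩ := hq.exists_norm (σι β⁻¹)
  have ww : (QuadraticAlgebra.omega * QuadraticAlgebra.omega : E) = algebraMap F E α + algebraMap F E β * _ :=
    QuadraticAlgebra.omega_mul_omega_eq_algebraMap
  have β1 : algebraMap F E β ≠ 0 := by simpa using β0
  have h1 : algebraMap F E (M 1 0) ≠ 0 := by simpa using h0
  refine ⟨E, inferInstance, algebraMap F E, σ, ν * QuadraticAlgebra.omega, ν,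
    algebraMap F E (M 1 0) * QuadraticAlgebra.omega + algebraMap F E (M 1 1), hq, σι, fun z hz => ⟨z.re, ?_⟩,
    ?_, ?_, by ring⟩
  · have := σr z
    simp only [hz, left_eq_add, mul_eq_zero, β0, false_or] at this
    ext <;> simp [this, E]
  · rw [map_mul, map_inv₀] at *
    linear_combination (exp := 1) (σ ν * ν) * tr + algebraMap F E β * hν + mul_inv_cancel₀ β1
  · have a1 : algebraMap F E α * algebraMap F E (M 1 0) = algebraMap F E (M 0 1) := by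
      rw [← map_mul, div_mul_cancel₀ _ h0]
    have a2 : algebraMap F E β * algebraMap F E (M 1 0) = algebraMap F E (M 0 0) - algebraMap F E (M 1 1) := by
      rw [← map_mul, div_mul_cancel₀ _ h0, map_sub]
    linear_combination (-ν * algebraMap F E (M 1 0)) * ww - ν * a1 - ν * QuadraticAlgebra.omega * a2

end alg

variable {G Ω : Type*} [Group G] [MulAction G Ω] [Finite G]

/-- `ρ` identifies `SL₂(F)` with the subgroup generated by `Q0` and `t` -/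
structure SLc {a : Ω} {t : G} {Q : Subgroup G} (S : R1 G Ω a t Q) (h2 : Four G) {F : Type} [Field F]
    (ρ : SL(2, F) →* G) : Prop where
  crd : Crd (S.Q0 h2) (S.K h2) fun x => ρ (sU x)
  tN : ρ (sN 1) = t
  kD : ∀ κ, ρ (sD κ) ∈ S.K h2
  kS : ∀ k ∈ S.K h2, ∃ κ, ρ (sD κ) = k
  two : (2 : F) = 0

variable {a : Ω} {t : G} {Q : Subgroup G}

local notation "𝓗" => stabilizer G a
local notation "𝓓" => St2 G a (t • a)
local notation "𝓥" => V1 G a t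

theorem R1.exists_SLc (S : R1 G Ω a t Q) (h2 : Four G) {s : G} (hs : s ∈ Q)
    (e : t * s * t = s⁻¹ * t * s) :
    ∃ (F : Type) (_ : Field F) (_ : Fintype F) (ρ : SL(2, F) →* G), SLc S h2 ρ := by
  have s2 := ord2_iff.1 (S.ord_s e)
  obtain ⟨F, _, _, X, C, e1⟩ := exists_Crd (S.Q0_comm h2) (S := S.K h2)
    (PLoc.isMulCommutative_of_forall fun x hx y hy => S.K_comm h2 hx hy)
    (fun k hk => S.Q0_norm h2 hk.1.1) (S.irr h2 subset_rfl) (v := s) ⟨S.fix hs, s2.1⟩ s2.2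
  have two : (2 : F) = 0 := C.eq_one.1 (by rw [← one_add_one_eq_two, C.add, e1, s2.1])
  have : CharP F 2 := CharTwo.of_one_ne_zero_of_two_eq_zero one_ne_zero two
  have uniq : ∀ k ∈ S.K h2, ∀ k' ∈ S.K h2, k * X 1 * k⁻¹ = k' * X 1 * k'⁻¹ → k = k' :=
    fun k hk k' hk' h => S.K_inj hk.1 hk.2 hk'.1 hk'.2 (S.ord_s e) (S.fix hs) (by rwa [← e1])
  have ex : ∀ κ : Fˣ, ∃ k ∈ S.K h2, ∀ x, k * X x * k⁻¹ = X (κ ^ 2 * x) := fun κ => by
    obtain ⟨k, k1, k2, k3⟩ := S.K_trans (S.ord_s e) (S.fix hs) (s' := X (κ ^ 2))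
      (ord2_iff.2 ⟨(C.mem _).2, mt C.eq_one.1 (by simp)⟩) (C.mem _).1
    obtain ⟨c, hc⟩ := C.smul k ⟨k1, k2⟩
    exact ⟨k, ⟨k1, k2⟩, fun x => by rw [hc, C.inj (k3.symm.trans (by rw [← e1]; exact hc 1)), mul_one]⟩
  choose H hH h1 using ex
  have Hm : ∀ x y, H (x * y) = H x * H y := fun x y => uniq _ (hH _) _ (mul_mem (hH _) (hH _)) (by
    rw [h1, show H x * H y * X 1 * (H x * H y)⁻¹ = H x * (H y * X 1 * (H y)⁻¹) * (H x)⁻¹ by group, h1, h1]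
    simp [mul_pow])
  have H1 : H 1 = 1 := by simpa using Hm 1 1
  have Hi : ∀ x, H x⁻¹ = (H x)⁻¹ := fun x => eq_inv_of_mul_eq_one_left (by rw [← Hm, inv_mul_cancel, H1])
  have tH : ∀ x, t * H x = H x⁻¹ * t := fun x => by rw [Hi, ← (hH x).2]; group
  have ng : ∀ x : Fˣ, -x = x := fun x => Units.ext (CharTwo.neg_eq _)
  have sqr : ∀ c : Fˣ, ∃ d : Fˣ, d ^ 2 = c := fun c => by
    obtain ⟨d, hd⟩ := FiniteField.isSquare_of_char_two (ringChar.eq F 2) (c : F)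
    exact ⟨Units.mk0 d (fun h => c.ne_zero (by rw [hd, h, mul_zero])), Units.ext (by simp [hd, sq])⟩
  obtain ⟨ρ, r1, r2⟩ := exists_sl2 X (fun κ => H κ * t) H (fun x y => (C.add x y).symm) H1
    (fun κ u => by rw [← h1]; group)
    (fun x y => by rw [ng, Hm, mul_assoc, ← mul_assoc t, tH, mul_assoc, S.mul_self, mul_one])
    (fun x y => by rw [Hm, mul_assoc]) (fun x y => by rw [mul_assoc, tH, Hm, mul_assoc]) (fun x y => by
      obtain ⟨d, rfl⟩ := sqr y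
      have a1 : X ↑(d ^ 2) = H d * s * (H d)⁻¹ := by rw [← e1, h1]; simp
      have a2 : X (-((x : F) ^ 2 / ↑(d ^ 2))) = H (x * d⁻¹) * s * (H (x * d⁻¹))⁻¹ := by
        rw [← e1, h1, CharTwo.neg_eq]; simp [mul_pow, div_eq_mul_inv]
      have a3 : H (x ^ 2 / d ^ 2) * t = H (x * d⁻¹) * t * (H (x * d⁻¹))⁻¹ := by
        rw [← Hi, mul_assoc, tH, inv_inv, ← mul_assoc, ← Hm, ← sq, mul_pow, inv_pow, div_eq_mul_inv]
      have a4 : H x * t * H d = H (x * d⁻¹) * t := by rw [mul_assoc, tH, Hm, mul_assoc]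
      rw [a1, a2, a3]
      calc _ = H x * t * H d * s * (H x * t * H d)⁻¹ := by group
        _ = H (x * d⁻¹) * (t * s * t) * (H (x * d⁻¹))⁻¹ := by rw [a4, mul_inv_rev, S.tinv]; group
        _ = _ := by rw [e, inv_eq_of_mul_eq_one_left s2.1]; group)
  have r3 : ∀ κ, ρ (sD κ) = H κ := fun κ => by
    rw [sD_eq, map_mul, r2, r2, ng, H1, one_mul, mul_assoc, S.mul_self, mul_one]
  refine ⟨F, inferInstance, inferInstance, ρ, by simpa only [r1] using C, by rw [r2, H1, one_mul],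
    fun κ => r3 κ ▸ hH κ, fun k hk => ?_, two⟩
  obtain ⟨c, hc⟩ := C.smul k hk
  obtain ⟨d, hd⟩ := sqr (Units.mk0 c fun h => s2.2 (by simpa [h, C.zero, e1] using hc 1))
  exact ⟨d, (r3 d).trans (uniq _ (hH _) _ hk (by rw [h1, hc, ← Units.val_pow_eq_pow_val, hd]; rfl))⟩

namespace SLc

variable {S : R1 G Ω a t Q} {h2 : Four G} {F : Type} [Field F] {ρ : SL(2, F) →* G} (C : SLc S h2 ρ)
include C

local notation "𝓦" => St2 G a (t • a) ⊓ C[R1.Q0 S h2]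
local notation "𝓛" => R1.Q0 S h2 ⊔ R1.K S h2 ⊔ zpowers t
local notation "𝚫" => R1.Δ S h2

theorem charP : CharP F 2 := CharTwo.of_one_ne_zero_of_two_eq_zero one_ne_zero C.two

theorem s_mem : ρ (sU 1) ∈ Q := S.Q0_le h2 (C.crd.mem 1)

theorem rel : t * ρ (sU 1) * t = (ρ (sU 1))⁻¹ * t * ρ (sU 1) := by
  have := C.two
  rw [← C.crd.neg, ← C.tN, ← map_mul, ← map_mul, ← map_mul, ← map_mul]
  congr 1
  ext i j; fin_cases i <;> fin_cases j <;> simp <;> grind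

theorem sN_eq' (κ : Fˣ) : ρ (sN κ) = ρ (sD κ) * t := by
  rw [← C.tN, ← map_mul]
  congr 1
  ext i j; fin_cases i <;> fin_cases j <;> simp

theorem ind {T : Subgroup G} (h1 : S.Q0 h2 ≤ T) (h3 : t ∈ T) (M : SL(2, F)) : ρ M ∈ T := by
  refine sl2_le (S := (T.comap ρ).toSubmonoid) (fun x => h1 (C.crd.mem x)) (fun x => ?_) M
  rw [show sL x = sN 1 * sU (-x) * (sN 1)⁻¹ by
    rw [eq_mul_inv_iff_mul_eq]; ext i j; fin_cases i <;> fin_cases j <;> simp]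
  exact mul_mem (mul_mem (show ρ _ ∈ T from C.tN ▸ h3) (h1 (C.crd.mem _)))
    ((T.comap ρ).inv_mem (show ρ _ ∈ T from C.tN ▸ h3))

theorem mem_L (M : SL(2, F)) : ρ M ∈ 𝓛 :=
  C.ind (le_sup_left.trans le_sup_left) (mem_sup_right (mem_zpowers t)) M

theorem surj {g : G} (hg : g ∈ 𝓛) : ∃ M, ρ M = g :=
  (show 𝓛 ≤ ρ.range from sup_le (sup_le (fun z hz => (C.crd.surj z hz).elim fun x e => ⟨_, e⟩)
    fun k hk => (C.kS k hk).elim fun x e => ⟨_, e⟩) (zpowers_le.2 ⟨_, C.tN⟩)) hg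

theorem fix_a {M : SL(2, F)} (h : ρ M • a = a) : ∃ κ x, M = sD κ * sU x := by
  refine (sl2_cases M).resolve_right ?_
  rintro ⟨x, κ, y, rfl⟩
  rw [map_mul, map_mul, C.sN_eq', mul_smul, (C.crd.mem y).1, ← mul_assoc, mul_smul] at h
  exact S.smul_ne (mul_mem (S.le (S.Q0_le h2 (C.crd.mem x))) (C.kD κ).1.1) S.ne h

theorem conj_sD (κ : Fˣ) (x : F) : ρ (sD κ) * ρ (sU x) * (ρ (sD κ))⁻¹ = ρ (sU (κ ^ 2 * x)) := by
  rw [mul_inv_eq_iff_eq_mul, ← map_mul, ← map_mul]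
  congr 1
  ext i j; fin_cases i <;> fin_cases j <;> simp
  field_simp

theorem inj : Function.Injective ρ := (injective_iff_map_eq_one ρ).2 fun M h => by
  have := C.charP
  obtain ⟨κ, x, rfl⟩ := C.fix_a (M := M) (by rw [h, one_smul])
  rw [map_mul, mul_eq_one_iff_inv_eq] at h
  have h1 := S.eq_one (S.Q0_le h2 (C.crd.mem x)) (h ▸ inv_mem (C.kD κ).1)
  have h3 := C.conj_sD κ 1
  rw [h1, inv_eq_one] at h
  rw [h, one_mul, inv_one, mul_one] at h3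
  have h4 : (κ : F) = 1 := by have := C.crd.inj h3; grind
  rw [C.crd.eq_one.1 h1]
  ext i j; fin_cases i <;> fin_cases j <;> simp [h4]

theorem commW {w : G} (hw : w ∈ 𝓦) (M : SL(2, F)) : ρ M * w = w * ρ M :=
  C.ind (T := C1[w]) (fun z hz => mem_C1.2 (hw.2 z hz)) (C1_symm (S.K_cent h2 hw.1 hw.2).1.2) M
    |> mem_C1.1

theorem Δ_iff (M : SL(2, F)) {c : Ω} : ρ M • c ∈ 𝚫 ↔ c ∈ 𝚫 :=
  S.smul_Δ h2 C.s_mem C.rel (sup_le_sup_right (sup_le_sup_left (S.K_le h2) _) _ (C.mem_L M))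

theorem Δ_iffD {d : G} (hd : d ∈ 𝓓) {c : Ω} : d • c ∈ 𝚫 ↔ c ∈ 𝚫 :=
  S.smul_Δ h2 C.s_mem C.rel (mem_sup_left (mem_sup_right hd))

theorem tr1 {c : Ω} (hc : c ∈ 𝚫) : ∃ M, ρ M • a = c := by
  rcases (S.mem_Δ h2).1 hc with rfl | ⟨z, hz, rfl⟩
  · exact ⟨1, by simp⟩
  · obtain ⟨x, rfl⟩ := C.crd.surj z hz
    exact ⟨sU x * sN 1, by rw [map_mul, C.tN, mul_smul]⟩

theorem tr2 {c d : Ω} (hc : c ∈ 𝚫) (hd : d ∈ 𝚫) (h : c ≠ d) : ∃ M, ρ M • a = c ∧ ρ M • t • a = d := by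
  obtain ⟨M, rfl⟩ := C.tr1 hc
  obtain ⟨z, hz, e⟩ := ((S.mem_Δ h2).1 ((C.Δ_iff M⁻¹).2 hd)).resolve_left fun e =>
    h (by rw [← e, map_inv, smul_inv_smul])
  obtain ⟨x, rfl⟩ := C.crd.surj z hz
  exact ⟨M * sU x, by rw [map_mul, mul_smul, hz.1], by rw [map_mul, mul_smul, e, map_inv, smul_inv_smul]⟩

theorem free {M : SL(2, F)} {c : Ω} (hc : c ∉ 𝚫) (h : ρ M • c = c) : M = 1 :=
  C.inj ((S.semireg h2 C.s_mem C.rel (C.mem_L M) hc h).trans (map_one ρ).symm)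

theorem free' {M N : SL(2, F)} {c : Ω} (hc : c ∉ 𝚫) (h : ρ M • c = ρ N • c) : M = N :=
  (inv_mul_eq_one.1 (C.free hc (by rw [map_mul, mul_smul, h, map_inv, inv_smul_smul]))).symm

theorem Wfix {w : G} (hw : w ∈ 𝓦) {c : Ω} (hc : c ∈ 𝚫) : w • c = c := by
  obtain ⟨M, rfl⟩ := C.tr1 hc
  rw [← mul_smul, ← C.commW hw, mul_smul, hw.1.1]

theorem ne_a {c : Ω} (hc : c ∉ 𝚫) : ∃ u ∈ Q, u ∉ S.Q0 h2 ∧ u • t • a = c := by
  obtain ⟨u, hu, rfl⟩ := S.trans0 (c := c) fun e => hc (Or.inl e)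
  exact ⟨u, hu, mt (S.smul_mem_Δ h2 hu).2 hc, rfl⟩

variable (hq : #Q = #(S.Q0 h2) ^ 3)
include hq

theorem reg {c d : Ω} (hc : c ∉ 𝚫) (hd : d ∉ 𝚫) : ∃ M, ρ M • c = d := by
  have := S.finite
  have h1 : orbit (𝓛 : Subgroup G) c = (𝚫)ᶜ := Set.eq_of_subset_of_ncard_le (by
    rintro _ ⟨⟨g, hg⟩, rfl⟩
    obtain ⟨M, rfl⟩ := C.surj hg
    exact mt (C.Δ_iff M).1 hc) (by
    have e1 := card_inf_mul_relIndex (stabilizer G c) 𝓛
    have e2 := S.ncard_compl h2 C.s_mem C.rel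
    rw [show stabilizer G c ⊓ 𝓛 = ⊥ from eq_bot_iff.2 fun g hg =>
      S.semireg h2 C.s_mem C.rel hg.2 hc hg.1, card_bot, one_mul,
      relIndex_stab, S.card_L0 h2 C.s_mem C.rel] at e1
    rw [e1, hq, ← S.card_K' h2] at *
    nlinarith)
  obtain ⟨⟨g, hg⟩, e⟩ := h1.ge hd
  obtain ⟨M, rfl⟩ := C.surj hg
  exact ⟨M, e⟩

theorem exists_notMem : ∃ c, c ∉ 𝚫 := by
  have e2 := S.ncard_compl h2 C.s_mem C.rel
  have := S.four_le h2
  refine Set.nonempty_of_ncard_ne_zero (s := (𝚫)ᶜ) fun h => ?_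
  rw [h, hq] at e2
  nlinarith [Nat.mul_le_mul this this]

variable [FaithfulSMul G Ω]

theorem Wfree {w : G} (hw : w ∈ 𝓦) {c : Ω} (hc : c ∉ 𝚫) (h : w • c = c) : w = 1 :=
  eq_of_smul_eq_smul (α := Ω) fun d => by
    rw [one_smul]
    by_cases hd : d ∈ 𝚫
    · exact C.Wfix hw hd
    obtain ⟨M, rfl⟩ := C.reg hq hc hd
    rw [← mul_smul, ← C.commW hw, mul_smul, h]

theorem ell {w : G} (hw : w ∈ 𝓦) {c d : Ω} (hc : c ∉ 𝚫) (hd : d ∈ 𝚫) {M : SL(2, F)}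
    (h : ρ M • c = w • c) (h' : ρ M • d = d) : w = 1 := by
  obtain ⟨P, rfl⟩ := C.tr1 hd
  obtain ⟨κ, x, e⟩ := C.fix_a (M := P⁻¹ * M * P) (by
    rw [map_mul, map_mul, mul_smul, mul_smul, h', map_inv, inv_smul_smul])
  have h1 : (w⁻¹ * ρ (P⁻¹ * M * P)) • ρ P⁻¹ • c = ρ P⁻¹ • c := by
    rw [map_mul, map_mul, mul_smul, mul_smul, mul_smul, map_inv, smul_inv_smul, h, ← map_inv, ← mul_smul (ρ _),
      C.commW hw, mul_smul, inv_smul_smul]
  have c1 := mt (C.Δ_iff P⁻¹).1 hc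
  generalize ρ P⁻¹ • c = c at h1 c1
  rw [e, map_mul] at h1
  have k1 := C.kD κ
  have z1 := C.crd.mem x
  generalize ρ (sD κ) = k at *
  generalize ρ (sU x) = z at *
  by_cases k0 : k = 1
  · rw [k0, one_mul] at h1
    have h3 : w⁻¹ * z * (w⁻¹ * z) = w⁻¹ * w⁻¹ := by
      rw [mul_assoc, ← mul_assoc z, (inv_mem hw).2 z z1, mul_assoc, z1.2, mul_one]
    have := C.Wfree hq (mul_mem (inv_mem hw) (inv_mem hw)) c1 (by rw [← h3, mul_smul, h1, h1])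
    exact inv_eq_one.1 (sq_inj_of_odd (S.oddD (inv_mem hw.1)) (by simp) (by simpa using this))
  have nK : S.K h2 ≤ N[S.Q0 h2] := ((S.K_le h2).trans inf_le_left).trans (S.Q0_norm h2)
  obtain ⟨y, hy, e1⟩ := Char.exists_conj_of_centralizer_trivial (S.Q0 h2) (fun u => conj_mem (nK k1))
    (fun u hu e => (S.fpf k1.1 k1.2 k0).le ⟨S.Q0_le h2 hu, mem_C1.2 e⟩) (conj_mem (nK k1) z1)
  rw [show w⁻¹ * (k * z) = y * (w⁻¹ * k) * y⁻¹ by
    rw [← mul_assoc y, (inv_mem hw).2 y hy, mul_assoc, mul_assoc, ← mul_assoc y, e1]; group,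
    conj_smul_fix] at h1
  obtain ⟨x, hx⟩ := C.crd.surj _ (inv_mem hy)
  obtain ⟨u, hu, u0, e⟩ := C.ne_a (mt (C.Δ_iff (sU x)).1 c1)
  rw [← hx] at h1
  have d1 := mul_mem (inv_mem hw).1 k1.1
  obtain ⟨d, hd, e2⟩ := S.conj_V d1 hu (fun e => u0 (e ▸ one_mem _)) ((S.fix_iff d1 hu).1 (by rwa [e]))
  have w1 := conj_mem (normI (normG _) (normC (inf_le_left.trans (S.Q0_norm h2))) hd) (inv_mem hw)
  rw [← conj_mul, mul_mem_cancel_left (S.K_cent h2 w1.1 w1.2).1] at e2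
  exact (k0 (conj_eq_one_iff.1 (S.VK h2 e2 (S.conj_K h2 hd k1)))).elim

theorem Wfree' {w w' : G} (hw : w ∈ 𝓦) (hw' : w' ∈ 𝓦) {c : Ω} (hc : c ∉ 𝚫) (h : w • c = w' • c) :
    w = w' :=
  (inv_mul_eq_one.1 (C.Wfree hq (mul_mem (inv_mem hw') hw) hc (by rw [mul_smul, h, inv_smul_smul]))).symm

omit hq [FaithfulSMul G Ω] in
theorem psi_mul {w w' : G} (hw : w ∈ 𝓦) {c : Ω} {M M' : SL(2, F)} (h : ρ M • c = w • c)
    (h' : ρ M' • c = w' • c) : ρ (M' * M) • c = (w * w') • c := by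
  rw [map_mul, mul_smul, h, ← mul_smul, C.commW hw, mul_smul, h', mul_smul]

omit hq [FaithfulSMul G Ω] in
theorem psi_inv {w : G} (hw : w ∈ 𝓦) {c : Ω} {M : SL(2, F)} (h : ρ M • c = w • c) :
    ρ M⁻¹ • c = w⁻¹ • c := by
  rw [eq_inv_smul_iff, ← mul_smul, ← C.commW hw, mul_smul, ← h, map_inv, inv_smul_smul]

theorem psi {w : G} (hw : w ∈ 𝓦) {c : Ω} (hc : c ∉ 𝚫) : ∃ M, ρ M • c = w • c :=
  C.reg hq hc (mt (C.Δ_iffD hw.1).1 hc)

theorem tr_ne {w : G} (hw : w ∈ 𝓦) (w1 : w ≠ 1) {c : Ω} (hc : c ∉ 𝚫) {M : SL(2, F)}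
    (h : ρ M • c = w • c) : PLoc.trS M ^ 2 ≠ 4 := fun e => w1 <| by
  have := C.psi_mul hw h h
  rw [sl2_sq_of_tr C.two e, map_one, one_smul] at this
  exact sq_inj_of_odd (S.oddD hw.1) (by simp) (by
    simpa using C.Wfree hq (mul_mem hw hw) hc this.symm)

theorem exists_central (hW : 𝓦 ≠ ⊥) : ∃ w ∈ 𝓦, w ≠ 1 ∧ ∀ v ∈ 𝓦, v * w = w * v := by
  obtain ⟨A, A1, hA⟩ := exists_minN hW (normG 𝓦)
  obtain ⟨p, -, ab⟩ := hA.abelem (PF.feit_thompson (S.odd_card.of_dvd_nat (cardS (A1.trans inf_le_left))))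
  obtain ⟨w, hw, w1⟩ := exists_mem_ne_one hA.ne
  obtain ⟨c, hc⟩ := C.exists_notMem hq
  refine ⟨w, A1 hw, w1, fun v hv => ?_⟩
  obtain ⟨M, hM⟩ := C.psi hq (A1 hw) hc
  obtain ⟨P, hP⟩ := C.psi hq hv hc
  have w2 := conj_mem (hA.norm hv) hw
  have h1 := C.psi_mul (mul_mem hv (A1 hw)) (C.psi_mul hv hP hM) (C.psi_inv hv hP)
  have h3 := sl2_eq_or_inv C.two (C.tr_ne hq (A1 hw) w1 hc hM) (C.free' hc (by
    rw [C.psi_mul (A1 w2) h1 hM, C.psi_mul (A1 hw) hM h1, ab.abel hw _ w2]))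
    (by simpa [mul_assoc] using PLoc.trS_conj P⁻¹ M)
  refine PLoc.comm_of_sq_comm (Nat.coprime_two_right.2 (S.oddD hv.1)) ?_
  rw [sq, ← mul_inv_eq_iff_eq_mul, show v * v * w * (v * v)⁻¹ = v * (v * w * v⁻¹) * v⁻¹ by group]
  rcases h3 with h3 | h3 <;> rw [h3] at h1
  · have := C.Wfree' hq (A1 w2) (A1 hw) hc (h1.symm.trans hM)
    rw [this, this]
  · have := C.Wfree' hq (A1 w2) (inv_mem (A1 hw)) hc (h1.symm.trans (C.psi_inv (A1 hw) hM))
    rw [this, ← conj_inv, this, inv_inv]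

omit hq [FaithfulSMul G Ω] in
theorem fix_a' {M : SL(2, F)} (h : M 1 0 = 0) : ρ M • a = a := by
  rcases sl2_cases M with ⟨κ, x, rfl⟩ | ⟨x, κ, y, rfl⟩
  · rw [map_mul, mul_smul, (C.crd.mem x).1, (C.kD κ).1.1]
  · simp at h

theorem exists_xy [Finite F] (hW : 𝓦 ≠ ⊥) :
    ∃ (E : Type) (_ : Field E) (ι : F →+* E) (σ : E →+* E) (x y : Ω → E), Class.UF σ (Nat.card F) ∧
      (∀ r, σ (ι r) = ι r) ∧ (∀ z, σ z = z → ∃ r, ι r = z) ∧
      (∀ c ∉ 𝚫, x c * σ (y c) + σ (x c) * y c = 1) ∧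
      (∀ c ∉ 𝚫, ∀ d ∉ 𝚫, x c = x d → y c = y d → c = d) ∧
      (∀ X Y, X * σ Y + σ X * Y = 1 → ∃ c ∉ 𝚫, x c = X ∧ y c = Y) ∧
      (∀ M, ∀ c ∉ 𝚫, x (ρ M • c) = ι (M 0 0) * x c + ι (M 0 1) * y c ∧
        y (ρ M • c) = ι (M 1 0) * x c + ι (M 1 1) * y c) ∧
      ∀ w ∈ 𝓦, ∃ l, ∀ c ∉ 𝚫, x (w • c) = l * x c ∧ y (w • c) = l * y c := by
  classical
  obtain ⟨w0, hw, w1, cw⟩ := C.exists_central hq hW
  obtain ⟨p, hp⟩ := C.exists_notMem hq
  obtain ⟨M0, hM⟩ := C.psi hq hw hp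
  obtain ⟨E, _, ι, σ, x, y, l, U, σι, fx, h1, h3, h4⟩ := exists_ell_eigen C.two (M := M0)
    (fun e => w1 (C.ell hq hw hp (Or.inl rfl) hM (C.fix_a' e))) fun r e => w1 (C.ell hq hw hp
      ((C.Δ_iff (sU r * sN 1)).2 (Or.inl rfl)) hM (by
      have := C.fix_a' (M := (sU r * sN 1)⁻¹ * M0 * (sU r * sN 1)) (by
        simp [PLoc.sl2_mul, PLoc.sl2_inv_10, PLoc.sl2_inv_11]; linear_combination -e)
      rwa [map_mul, map_mul, mul_smul, mul_smul, map_inv, inv_smul_eq_iff] at this))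
  have two : (2 : E) = 0 := by rw [← map_ofNat ι, C.two, map_zero]
  have σσ := U.σσ
  choose! P hP using fun c (hc : c ∉ 𝚫) => C.reg hq hp hc
  have act : ∀ M, ∀ c ∉ 𝚫, P (ρ M • c) = M * P c := fun M c hc => C.free' hp (by
    rw [hP _ (mt (C.Δ_iff M).1 hc), map_mul, mul_smul, hP c hc])
  have det : ∀ M : SL(2, F), ι (M 0 0) * ι (M 1 1) - ι (M 0 1) * ι (M 1 0) = 1 := fun M => by
    simpa using congrArg ι (PLoc.sl2_det M)
  have ind : ∀ r s r' s', ι r * x + ι s * y = ι r' * x + ι s' * y → r = r' ∧ s = s' := fun r s r' s' e => by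
    have e' := congrArg σ e
    simp only [map_add, map_mul, σι] at e'
    exact ⟨ι.injective (by grind), ι.injective (by grind)⟩
  have span : ∀ z, ∃ r s, ι r * x + ι s * y = z := fun z => by
    obtain ⟨r, hr⟩ := fx (z * σ y + σ z * y) (by simp [σσ, add_comm])
    obtain ⟨s, hs⟩ := fx (z * σ x + σ z * x) (by simp [σσ, add_comm])
    exact ⟨r, s, by grind⟩
  refine ⟨E, inferInstance, ι, σ, fun c => ι (P c 0 0) * x + ι (P c 0 1) * y,
    fun c => ι (P c 1 0) * x + ι (P c 1 1) * y, U, σι, fx, fun c hc => ?_, fun c hc d hd e1 e2 => ?_,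
    fun X Y h => ?_, fun M c hc => ?_, fun w hw' => ?_⟩
  · have := det (P c)
    simp only [map_add, map_mul, σι]
    grind
  · rw [← hP c hc, ← hP d hd, PLoc.sl2_ext (ind _ _ _ _ e1).1 (ind _ _ _ _ e1).2 (ind _ _ _ _ e2).1
      (ind _ _ _ _ e2).2]
  · obtain ⟨r, s, rfl⟩ := span X
    obtain ⟨r', s', rfl⟩ := span Y
    simp only [map_add, map_mul, σι] at h
    let M : SL(2, F) := ⟨!![r, s; r', s'], by
      rw [Matrix.det_fin_two_of]; exact ι.injective (by simp only [map_sub, map_mul, map_one]; grind)⟩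
    have : P (ρ M • p) = M := C.free' hp (hP _ (mt (C.Δ_iff M).1 hp))
    exact ⟨ρ M • p, mt (C.Δ_iff M).1 hp, by simp [this, M], by simp [this, M]⟩
  · simp only [act M c hc, PLoc.sl2_mul, map_add, map_mul]
    exact ⟨by ring, by ring⟩
  · obtain ⟨M, hM'⟩ := C.psi hq hw' hp
    obtain ⟨r, s, a1, a2, a3, a4⟩ := PLoc.exists_span_of_comm (C.tr_ne hq hw w1 hp hM) (y := M)
      (C.free' hp (by rw [C.psi_mul hw' hM' hM, C.psi_mul hw hM hM', cw w hw']))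
    refine ⟨ι r + ι s * l, fun c hc => ?_⟩
    have : P (w • c) = P c * M := C.free' hp (by
      rw [hP _ (mt (C.Δ_iffD hw'.1).1 hc), map_mul, mul_smul, hM', ← mul_smul, C.commW hw', mul_smul, hP c hc])
    simp only [this, PLoc.sl2_mul, map_add, map_mul, a1, a2, a3, a4]
    exact ⟨by grind, by grind⟩

end SLc

end Cfsg.Agent.Inv
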