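import Cfsg.Agent.Inv.U3a

/-! The unitary case of the rank one set-up: fusion of the elements of `W`. -/

set_option autoImplicit false
set_option linter.unusedVariables false
set_option linter.unusedSectionVars false

namespace Cfsg.Agent.Inv

open Subgroup MulAction Cfsg.Agent.BG Cfsg.Agent.Lie
open scoped Pointwise commutatorElement MatrixGroups

theorem mul_dvd_pow_add_one {p m q : ℕ} (hp : Odd p) (h1 : p ∣ m) (h2 : m ∣ q + 1) : m * p ∣ q ^ p + 1 := by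
  obtain ⟨j, hj⟩ := h2
  obtain ⟨i, rfl⟩ := h1
  have h := sq_dvd_add_pow_sub_sub ((q : ℤ) + 1) (-1) p
  rw [hp.neg_one_pow, (Nat.Odd.sub_odd hp odd_one).neg_one_pow, neg_add_cancel_comm_assoc] at h
  have hj' : (q : ℤ) + 1 = p * i * j := by exact_mod_cast hj
  have h3 : ((p * i * p : ℕ) : ℤ) ∣ (q + 1) ^ 2 := ⟨i * j * j, by rw [hj']; push_cast; ring⟩
  have h4 : ((p * i * p : ℕ) : ℤ) ∣ 1 * (q + 1) * p := ⟨j, by rw [hj']; push_cast; ring⟩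
  have := (h3.trans h).add h4
  rw [← Int.natCast_dvd_natCast]
  exact this.trans (dvd_of_eq (by push_cast; ring))

variable {G Ω : Type*} [Group G] [MulAction G Ω] [Finite G]

theorem exists_fixed_of_not_dvd {p : ℕ} (hp : p.Prime) {R : Subgroup G} (hR : PiG {p} R) {X : Set Ω}
    (h1 : ∀ r ∈ R, ∀ c ∈ X, r • c ∈ X) (h2 : ¬ p ∣ X.ncard) : ∃ c ∈ X, ∀ r ∈ R, r • c = c := by
  have : Fact p.Prime := ⟨hp⟩
  let Y : SubMulAction R Ω := ⟨X, fun r c => h1 r r.2 c⟩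
  obtain ⟨⟨c, hc⟩, h⟩ := (hR.pg hp).nonempty_fixed_point_of_prime_not_dvd_card Y h2
  exact ⟨c, hc, fun r hr => congrArg Subtype.val (h ⟨r, hr⟩)⟩

namespace SLc

variable {a : Ω} {t : G} {Q : Subgroup G}
variable {S : R1 G Ω a t Q} {h2 : Four G} {F : Type} [Field F] {ρ : SL(2, F) →* G} (C : SLc S h2 ρ)
include C

local notation "𝓗" => stabilizer G a
local notation "𝓓" => St2 G a (t • a)
local notation "𝓥" => V1 G a t
local notation "𝓦" => St2 G a (t • a) ⊓ C[R1.Q0 S h2]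
local notation "𝓛" => R1.Q0 S h2 ⊔ R1.K S h2 ⊔ zpowers t
local notation "𝚫" => R1.Δ S h2

theorem smulΔ (M : SL(2, F)) : ρ M • 𝚫 = 𝚫 := Set.ext fun c => by
  rw [Set.mem_smul_set_iff_inv_smul_mem, ← map_inv, C.Δ_iff]

theorem smulΔD {d : G} (hd : d ∈ 𝓓) : d • 𝚫 = 𝚫 := Set.ext fun c => by
  rw [Set.mem_smul_set_iff_inv_smul_mem, C.Δ_iffD (inv_mem hd)]

theorem stab_of_two {g : G} {c d : Ω} (hc : c ∈ 𝚫) (hd : d ∈ 𝚫) (h : c ≠ d) (h1 : g • c ∈ 𝚫)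
    (h3 : g • d ∈ 𝚫) : g • 𝚫 = 𝚫 := by
  obtain ⟨M, rfl, rfl⟩ := C.tr2 hc hd h
  obtain ⟨N, e1, e2⟩ := C.tr2 h1 h3 fun e => h (smul_left_cancel g e)
  have := C.smulΔD (d := (ρ N)⁻¹ * g * ρ M) ⟨mem_stabilizer_iff.2 (by
    rw [mul_smul, mul_smul, ← e1, inv_smul_smul]), mem_stabilizer_iff.2 (by
    rw [mul_smul, mul_smul, ← e2, inv_smul_smul])⟩
  rwa [mul_smul, mul_smul, C.smulΔ, inv_smul_eq_iff, C.smulΔ] at this

theorem orbit_eq {M : Subgroup G} (h1 : 𝓛 ≤ M) (h3 : M ≤ stabilizer G 𝚫) {d : Ω} (hd : d ∈ 𝚫) :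
    orbit M d = 𝚫 := by
  refine subset_antisymm ?_ fun c hc => ?_
  · rintro _ ⟨g, rfl⟩
    exact (mem_stabilizer_iff.1 (h3 g.2)).le (Set.smul_mem_smul_set hd)
  · obtain ⟨N, rfl⟩ := C.tr1 hc
    obtain ⟨P, rfl⟩ := C.tr1 hd
    exact ⟨⟨ρ (N * P⁻¹), h1 (C.mem_L _)⟩, by simp [mul_smul]⟩

theorem L_le : 𝓛 ≤ stabilizer G 𝚫 := fun g hg => (C.surj hg).elim fun M e => e ▸ C.smulΔ M

theorem card_blocks (hq : #Q = #(S.Q0 h2) ^ 3) :
    (orbit G 𝚫).ncard = #(S.Q0 h2) ^ 2 * (#(S.K h2) ^ 2 + #(S.K h2) + 1) := by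
  have nD : 𝓓 ≤ N[S.Q0 h2] := inf_le_left.trans (S.Q0_norm h2)
  have e1 := card_inf_mul_relIndex 𝓗 (stabilizer G 𝚫)
  rw [relIndex_stab, C.orbit_eq C.L_le le_rfl (Or.inl rfl), (S.Δ_stab h2 C.s_mem C.rel).2,
    show 𝓗 ⊓ stabilizer G 𝚫 = S.Q0 h2 ⊔ 𝓓 from le_antisymm (fun g hg => ?_) (le_inf
      (sup_le ((S.Q0_le h2).trans S.le) inf_le_left) (le_sup_left.trans (S.Δ_stab h2 C.s_mem C.rel).1)),
    ← (sdprod_sup (eq_bot_iff.2 fun z hz => S.eq_one (S.Q0_le h2 hz.1) hz.2) nD).card] at e1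
  · have e2 := (stabilizer G 𝚫).card_mul_index
    rw [index_stabilizer, ← e1, S.card_G, hq, ← S.card_K' h2] at e2
    rw [← S.card_K' h2]
    refine Nat.eq_of_mul_eq_mul_left (?_ : 0 < (#(S.K h2) + 1) * #𝓓 * (#(S.K h2) + 1 + 1)) (e2.trans (by ring))
    have := card_pos 𝓓
    positivity
  obtain ⟨u, hu, d, hd, rfl⟩ := S.exists_mul hg.1
  refine mul_mem_sup ((S.smul_mem_Δ h2 hu).1 ?_) hd
  rw [← mem_stabilizer_iff.1 hg.2, ← show d • t • a = t • a from hd.2, ← mul_smul]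
  exact Set.smul_mem_smul_set (Or.inr (mem_orbit_self _))

theorem exists_P {p : ℕ} (hp : p.Prime) (po : Odd p) (h : p ∣ #(S.Q0 h2) + 1) :
    ∃ P ≤ 𝓛, PiG {p} P ∧ Abel P ∧ p ∣ #P ∧ ¬ #P * p ∣ #(S.Q0 h2) + 1 ∧
      ∀ γ ∈ P, ∀ d ∈ 𝚫, γ • d = d → γ = 1 := by
  obtain ⟨P, hP⟩ := syl_exists hp 𝓛
  have cL := S.card_L0 h2 C.s_mem C.rel
  have d1 : p ∣ #P := hP.dvd hp rfl (cL ▸ h.mul_left _)
  have o1 : ∀ x ∈ P, x * x = 1 → x = 1 := fun x hx e => (hP.pi.elt hx).eq_one ((pin_compl hp).2 fun d =>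
    (Nat.not_even_iff_odd.2 po) (by
      rw [(Nat.prime_dvd_prime_iff_eq hp Nat.prime_two).1 (d.trans (orderOf_dvd_of_pow_eq_one
        (by rw [sq, e])))]; exact even_two))
  refine ⟨P, hP.le, hP.pi, fun x hx y hy => ?_, d1, fun e => hP.not_dvd hp ?_, fun γ hγ d hd e => ?_⟩
  · obtain ⟨z, hz, z1⟩ := exists_mem_ne_one (hP.pi.nil.Z_ne_bot (hP.ne_bot' hp (cL ▸ h.mul_left _)))
    obtain ⟨Z, rfl⟩ := C.surj (hP.le hz.1)
    obtain ⟨X, rfl⟩ := C.surj (hP.le hx)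
    obtain ⟨Y, rfl⟩ := C.surj (hP.le hy)
    rw [← map_mul, ← map_mul, PLoc.comm_of_comm_of_trS (x := Z) (fun e => z1 (o1 _ hz.1 (by
      rw [← map_mul, sl2_sq_of_tr C.two e, map_one]))) (C.inj (by simpa using (hz.2 _ hy).symm))
      (C.inj (by simpa using (hz.2 _ hx).symm))]
  · exact Nat.dvd_of_mul_dvd_mul_left (card_pos P) (by
      rw [card_mul_relIndex hP.le, cL]; exact e.mul_left _)
  · have e1 := card_inf_mul_relIndex (stabilizer G d) 𝓛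
    rw [relIndex_stab, C.orbit_eq le_rfl C.L_le hd, (S.Δ_stab h2 C.s_mem C.rel).2, cL] at e1
    refine (hP.pi.elt hγ).eq_one ((pin_compl hp).2 fun d0 => ?_)
    have d2 := d0.trans (orderOf_dvd (show γ ∈ stabilizer G d ⊓ 𝓛 from ⟨e, hP.le hγ⟩))
    rw [Nat.eq_of_mul_eq_mul_right (Nat.succ_pos _) e1, hp.dvd_mul, ← S.card_K' h2] at d2
    rw [← S.card_K' h2] at h
    rcases d2 with d2 | d2
    · exact hp.one_lt.ne' (Nat.dvd_one.1 ((Nat.dvd_add_right d2).1 h))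
    · rw [add_assoc, Nat.dvd_add_right d2, Nat.prime_dvd_prime_iff_eq hp Nat.prime_two] at h
      exact absurd (h ▸ po) (by decide)

theorem ncard_fix {r : G} (hr : r ∈ 𝓓) :
    {d ∈ 𝚫 | r • d = d}.ncard = #(S.Q0 h2 ⊓ C1[r]) + 1 := by
  have := S.finite
  rw [show {d ∈ 𝚫 | r • d = d} = insert a ((fun z => z • t • a) '' ((S.Q0 h2 ⊓ C1[r] : Subgroup G) : Set G)) from ?_,
    Set.ncard_insert_of_notMem, Set.ncard_image_of_injOn]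
  · rfl
  · exact fun u hu v hv => S.inj (S.Q0_le h2 hu.1) (S.Q0_le h2 hv.1) S.ne
  · rintro ⟨u, hu, e⟩
    exact S.smul_ne hu.1.1 S.ne e
  ext d
  refine ⟨fun h => ((S.mem_Δ h2).1 h.1).imp id ?_, ?_⟩
  · rintro ⟨z, hz, rfl⟩
    exact ⟨z, ⟨hz, mem_C1'.2 ((S.fix_iff hr (S.Q0_le h2 hz)).1 h.2)⟩, rfl⟩
  · rintro (rfl | ⟨z, hz, rfl⟩)
    · exact ⟨Or.inl rfl, hr.1⟩
    · exact ⟨(S.mem_Δ h2).2 (Or.inr ⟨z, hz.1, rfl⟩), (S.fix_iff hr (S.Q0_le h2 hz.1)).2 (mem_C1'.1 hz.2)⟩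

variable (hq : #Q = #(S.Q0 h2) ^ 3) [FaithfulSMul G Ω]
include hq

theorem prime_dvd {w : G} (hw : w ∈ 𝓦) (hp : (orderOf w).Prime) : orderOf w ∣ #(S.Q0 h2) + 1 := by
  have := S.finite
  obtain ⟨c, hc⟩ := C.exists_notMem hq
  obtain ⟨M, hM⟩ := C.psi hq hw hc
  have pw : ∀ n : ℕ, ρ (M ^ n) • c = w ^ n • c := fun n => by
    induction n with
    | zero => simp
    | succ n ih => rw [pow_succ', pow_succ]; exact C.psi_mul (pow_mem hw n) ih hM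
  have w1 : w ≠ 1 := fun e => hp.one_lt.ne' (by rw [e, orderOf_one])
  have : Fact (orderOf w).Prime := ⟨hp⟩
  have o : orderOf (ρ M) = orderOf w := orderOf_eq_prime (by
    rw [← map_pow, C.free hc ((pw _).trans (by rw [pow_orderOf_eq_one, one_smul])), map_one])
    fun e => w1 (C.Wfree hq hw hc (by rw [← hM, e, one_smul]))
  rw [← o, ← card_zpowers', ← (S.Δ_stab h2 C.s_mem C.rel).2]
  refine card_dvd_of_free_act (Set.toFinite _) (fun u hu d => ?_) fun u hu d hd e => ?_ <;>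
    obtain ⟨n, rfl⟩ := (mem_powers_iff_mem_zpowers.2 hu) <;> simp only [← map_pow] at *
  · exact (C.Δ_iff _).2
  · rw [C.free hc ((pw n).trans (by rw [C.ell hq (pow_mem hw n) hc hd (pw n) e, one_smul])), map_one]

theorem xW (hW : 𝓦 ≠ ⊥) :
    ∃ w ∈ 𝓦, w ≠ 1 ∧ ∃ M, ∃ c ∉ 𝚫, (ρ M * w) • c = c ∧ ∃ g, g⁻¹ * (ρ M * w) * g ∈ 𝓦 := by
  have := S.finite
  obtain ⟨p, hp, hd⟩ := exists_prime_dvd hW
  obtain ⟨w, hw, rfl⟩ := cauchy hp hd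
  have po := S.oddD hw.1
  have dv := C.prime_dvd hq hw hp
  obtain ⟨P, PL, P1, P2, P3, P4, P5⟩ := C.exists_P hp po dv
  have wP : zpowers w ≤ C[P] := zpowers_le.2 fun y hy => (C.surj (PL hy)).elim fun M e => e ▸ C.commW hw M
  have pr : IsProd P (zpowers w) (P ⊔ zpowers w) := isProd_of_l (wP.trans (C_le_N _)) rfl
  have R1 : PiG {orderOf w} (P ⊔ zpowers w) := pr.pig P1 (pig_of_card' hp (card_zpowers' w))
  have RM : P ⊔ zpowers w ≤ stabilizer G 𝚫 := sup_le (PL.trans C.L_le) (zpowers_le.2 (C.smulΔD hw.1))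
  obtain ⟨γ, hγ, γ1⟩ := exists_mem_ne_one (A := P) fun e => hp.one_lt.ne' (by simpa [e] using P3)
  obtain ⟨_, ⟨⟨g, rfl⟩, g1⟩, hB⟩ := exists_fixed_of_not_dvd hp R1 (X := orbit G 𝚫 \ {𝚫})
    (fun r hr B hB => ⟨mapsTo_smul_orbit r _ hB.1, fun e => hB.2 (smul_left_cancel r
      (e.trans (mem_stabilizer_iff.1 (RM hr)).symm))⟩) (fun e => by
    have e1 := Set.ncard_diff_singleton_add_one (mem_orbit_self (M := G) 𝚫)
    rw [C.card_blocks hq, ← S.card_K' h2] at e1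
    rw [← S.card_K' h2] at dv
    obtain ⟨i, hi⟩ := e
    obtain ⟨j, hj⟩ := dv
    rw [hi] at e1
    have : (orderOf w : ℤ) ∣ 2 := ⟨i - j * (#(S.K h2) ^ 3 + #(S.K h2) ^ 2 + 2 * #(S.K h2) - 1), by
      have a1 : (orderOf w : ℤ) * i + 1 = (#(S.K h2) + 1) ^ 2 * (#(S.K h2) ^ 2 + #(S.K h2) + 1) := by
        exact_mod_cast e1
      have a2 : (#(S.K h2) : ℤ) + 1 + 1 = orderOf w * j := by exact_mod_cast hj
      linear_combination -a1 - (#(S.K h2) ^ 3 + #(S.K h2) ^ 2 + 2 * #(S.K h2) - 1) * a2⟩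
    exact absurd ((Nat.prime_dvd_prime_iff_eq hp Nat.prime_two).1 (by exact_mod_cast this) ▸ po) (by decide))
  simp only at hB g1
  have inv : ∀ r ∈ P ⊔ zpowers w, ∀ c ∈ g • 𝚫, r • c ∈ g • 𝚫 := fun r hr c hc =>
    hB r hr ▸ Set.smul_mem_smul_set hc
  have dj : ∀ c ∈ g • 𝚫, c ∉ 𝚫 := fun c hc hc' => g1 (by
    have c1 := inv γ (mem_sup_left hγ) c hc
    rw [Set.mem_smul_set_iff_inv_smul_mem] at hc c1
    exact (inv_smul_eq_iff.1 (C.stab_of_two hc' ((mem_stabilizer_iff.1 (C.L_le (PL hγ))).le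
      (Set.smul_mem_smul_set hc')) (fun e => γ1 (P5 γ hγ c hc' e.symm)) hc c1)).symm)
  have Pf : ∀ y ∈ P, ∀ c ∈ g • 𝚫, y • c = c → y = 1 := fun y hy c hc =>
    S.semireg h2 C.s_mem C.rel (PL hy) (dj c hc)
  obtain ⟨r, hr, c, hc, e, r1⟩ : ∃ r ∈ P ⊔ zpowers w, ∃ c ∈ g • 𝚫, r • c = c ∧ r ≠ 1 := by
    by_contra! h
    have h1 := card_dvd_of_free_act (Set.toFinite _) inv h
    rw [Set.ncard_smul_set, (S.Δ_stab h2 C.s_mem C.rel).2, ← (sdprod_sup (eq_bot_iff.2 fun y hy =>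
      P5 y hy.1 a (Or.inl rfl) (zpowers_le.2 hw.1.1 hy.2)) (wP.trans (C_le_N _))).card, card_zpowers'] at h1
    exact P4 h1
  obtain ⟨y, hy, v, hv, rfl⟩ := pr.ex r hr
  have vW : v ∈ 𝓦 := zpowers_le.2 hw hv
  obtain ⟨M, hM⟩ := C.surj (PL hy)
  refine ⟨v, vW, fun v1 => r1 (by rw [v1, mul_one] at e ⊢; exact Pf y hy c hc e), M, c, dj c hc, hM ▸ e, ?_⟩
  rw [hM]
  have cm : ∀ z ∈ P, z * (y * v) = y * v * z := fun z hz => by
    rw [← mul_assoc, P2 hy z hz, mul_assoc, wP hv z hz, mul_assoc]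
  have ro : orderOf (y * v) = orderOf w := by
    have : Fact (orderOf w).Prime := ⟨hp⟩
    have e1 : (y * v) ^ orderOf w = y ^ orderOf w := by
      rw [Commute.mul_pow (wP hv y hy), (orderOf_dvd_iff_pow_eq_one (x := v)).1 (card_zpowers' w ▸ orderOf_dvd hv),
        mul_one]
    exact orderOf_eq_prime (e1.trans (Pf _ (pow_mem hy _) c hc (e1 ▸ pow_mem (mem_stabilizer_iff.2 e) _))) r1
  have rB := hB _ hr
  generalize y * v = r at *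
  have fx : ∀ z ∈ P, r • z • c = z • c := fun z hz => by rw [← mul_smul, ← cm z hz, mul_smul, e]
  have ne : ∀ z ∈ P, z ≠ 1 → z • c ≠ c := fun z hz z1 e => z1 (Pf z hz c hc e)
  have mm : ∀ z ∈ P, g⁻¹ • z • c ∈ 𝚫 := fun z hz =>
    Set.mem_smul_set_iff_inv_smul_mem.1 (inv z (mem_sup_left hz) c hc)
  obtain ⟨N, n1, n2⟩ := C.tr2 (mm 1 (one_mem _)) (mm γ hγ) fun e =>
    ne γ hγ γ1 (by simpa using (smul_left_cancel _ e).symm)
  rw [eq_inv_smul_iff, ← mul_smul] at n1 n2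
  have gB : (g * ρ N) • 𝚫 = g • 𝚫 := by rw [mul_smul, C.smulΔ]
  rw [← gB] at inv Pf hc
  clear gB
  generalize g * ρ N = g at *
  have d1 : g⁻¹ * r * g ∈ 𝓓 := ⟨mem_stabilizer_iff.2 (by
    rw [mul_smul, mul_smul, n1, fx 1 (one_mem _), ← n1, inv_smul_smul]), mem_stabilizer_iff.2 (by
    rw [mul_smul, mul_smul, n2, fx γ hγ, ← n2, inv_smul_smul])⟩
  have γ2 : γ * γ ≠ 1 := fun e => γ1 (sq_inj_of_odd (((P1.elt hγ).pow_eq_one hp).elim fun k hk =>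
    po.pow.of_dvd_nat (orderOf_dvd_of_pow_eq_one hk)) (by simp) (by simpa using e))
  obtain ⟨z, hz, e1⟩ := ((S.mem_Δ h2).1 (Set.mem_smul_set_iff_inv_smul_mem.1
    (inv _ (mem_sup_left (mul_mem hγ hγ)) c hc))).resolve_left fun e =>
      ne _ (mul_mem hγ hγ) γ2 (by rw [inv_smul_eq_iff.1 e, n1, one_smul])
  obtain ⟨k, k1, k2, k3⟩ := S.K_trans (S.ord_s C.rel) (S.fix C.s_mem) (ord2_iff.2 ⟨hz.2, fun e =>
    ne γ hγ γ1 (smul_left_cancel γ (by rw [← mul_smul, ← eq_inv_smul_iff.1 e1, e, one_smul, n2]))⟩) hz.1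
  have d2 : (g * k)⁻¹ * r * (g * k) ∈ 𝓥 := by
    have z1 := (S.fix_iff d1 (S.Q0_le h2 hz)).1 (by
      rw [e1, mul_smul, mul_smul, smul_inv_smul, fx _ (mul_mem hγ hγ)])
    rw [show (g * k)⁻¹ * r * (g * k) = k⁻¹ * (g⁻¹ * r * g) * k by group]
    refine (S.cent_s C.s_mem C.s_mem C.rel (mul_mem (mul_mem (inv_mem k1) d1) k1)).2 ?_
    calc _ = k⁻¹ * (g⁻¹ * r * g * (k * ρ (sU 1) * k⁻¹) * (g⁻¹ * r * g)⁻¹) * k := by group
      _ = _ := by rw [k3, z1, ← k3]; group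
  refine ⟨g * k, d2.1, by_contra fun h => P4 ?_⟩
  rw [(S.gal h2 d2 hp (by rw [orderOf_conj'', ro]) h).1]
  refine mul_dvd_pow_add_one po P3 ?_
  rw [← C.ncard_fix d2.1, ← Set.ncard_smul_set (g * k),
    show (g * k) • {d ∈ 𝚫 | ((g * k)⁻¹ * r * (g * k)) • d = d} = {d ∈ g • 𝚫 | r • d = d} from ?_]
  · exact card_dvd_of_free_act (Set.toFinite _) (fun u hu d hd => ⟨inv u (mem_sup_left hu) d hd.1, by
      rw [← mul_smul, ← cm u hu, mul_smul, hd.2]⟩) fun u hu d hd => Pf u hu d hd.1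
  ext d
  rw [Set.mem_smul_set_iff_inv_smul_mem, Set.mem_setOf_eq, Set.mem_setOf_eq, mul_smul, mul_smul,
    smul_inv_smul, smul_left_cancel_iff, ← Set.mem_smul_set_iff_inv_smul_mem, mul_smul, C.smulΔD k1]

theorem key (hW : 𝓦 ≠ ⊥) {u : G} (hu : u ∈ Q) (u0 : u ∉ S.Q0 h2) :
    ∃ z ∈ S.Q0 h2, ∃ z' ∈ S.Q0 h2, ∃ d ∈ S.K h2 ⊔ 𝓦, ∃ h ∈ S.K h2 ⊔ 𝓦, ∃ f ∈ Q,
      t * (z * u) * t = d * (z' * u) * d⁻¹ * h * t * f := by
  obtain ⟨w, hw, w1, M, c, hc, e, g, hg⟩ := C.xW hq hW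
  have hc' := mt (S.smul_mem_Δ h2 hu).1 u0
  obtain ⟨P, hP⟩ := C.reg hq hc hc'
  have e1 : ρ (P * M * P⁻¹) * w = ρ P * (ρ M * w) * (ρ P)⁻¹ := by
    rw [map_mul, mul_assoc, C.commW hw, map_mul, map_inv]; group
  have e2 : (ρ (P * M * P⁻¹) * w) • u • t • a = u • t • a := by
    rw [e1, conj_smul_fix, ← hP, inv_smul_smul, e]
  have hg' : (ρ P * g)⁻¹ * (ρ (P * M * P⁻¹) * w) * (ρ P * g) ∈ 𝓦 := by
    rw [e1]; convert hg using 1; group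
  generalize P * M * P⁻¹ = M at e2 hg'
  generalize ρ P * g = g at hg'
  have na : ρ M • a ≠ a := fun h => w1 (inv_eq_one.1 (C.ell hq (inv_mem hw) hc' (Or.inl rfl) (by
    rw [eq_inv_smul_iff, ← mul_smul, ← C.commW hw, e2]) h))
  have w2 : g⁻¹ * (ρ M * w) * g ≠ 1 := fun h => na (by
    rw [show ρ M = g * (g⁻¹ * (ρ M * w) * g) * g⁻¹ * w⁻¹ by group, h, mul_one, mul_inv_cancel, one_mul]
    exact (inv_mem hw).1.1)
  obtain ⟨N, hN⟩ := C.tr1 (c := g⁻¹ • u • t • a) (by_contra fun h => w2 (C.Wfree hq hg' h (by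
    rw [mul_smul, mul_smul, smul_inv_smul, e2])))
  obtain ⟨v, hv, d, hd, e3⟩ := S.exists_mul (h := t * u⁻¹ * g * ρ N) (by
    rw [mul_smul, hN, mul_smul, smul_inv_smul, mul_smul, inv_smul_smul, S.tt])
  have w3 := conj_mem (normI (normG _) (normC (inf_le_left.trans (S.Q0_norm h2))) hd) hg'
  have e4 : t * u⁻¹ * (w * ρ M) * u * t = v * (d * (g⁻¹ * (ρ M * w) * g) * d⁻¹) * v⁻¹ := by
    calc _ = t * u⁻¹ * g * (g⁻¹ * (ρ M * w) * g * ρ N) * (t * u⁻¹ * g * ρ N)⁻¹ := by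
          rw [C.commW hw, mul_inv_rev, mul_inv_rev, mul_inv_rev, S.tinv]; group
      _ = _ := by rw [← C.commW hg', ← mul_assoc, ← e3]; group
  generalize d * (g⁻¹ * (ρ M * w) * g) * d⁻¹ = w' at w3 e4
  obtain ⟨x, κ, y, rfl⟩ := (sl2_cases M).resolve_left (by
    rintro ⟨κ, x, rfl⟩; exact na (C.fix_a' (by simp)))
  have k1 := inv_mem (mul_mem (mem_sup_right hw) (mem_sup_left (C.kD κ)) : _ ∈ S.K h2 ⊔ 𝓦)
  refine ⟨_, C.crd.mem y, _, inv_mem (C.crd.mem x), _, k1, _, mul_mem k1 (mem_sup_right w3),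
    w'⁻¹ * v * w' * v⁻¹, mul_mem (S.conjQ' w3.1.1 hv) (inv_mem hv), ?_⟩
  rw [map_mul, map_mul, C.sN_eq', ← mul_assoc w, ← mul_assoc w, ← hw.2 _ (C.crd.mem x)] at e4
  have e5 := mem_C1.1 (S.K_cent h2 w3.1 w3.2).1.2
  calc _ = (w * ρ (sD κ))⁻¹ * (ρ (sU x))⁻¹ * u * t⁻¹ *
        (t * u⁻¹ * (ρ (sU x) * w * (ρ (sD κ) * t) * ρ (sU y)) * u * t) := by group
    _ = (w * ρ (sD κ))⁻¹ * (ρ (sU x))⁻¹ * u * (w' * t) * w'⁻¹ * v * w' * v⁻¹ := by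
        rw [e4, e5, S.tinv]; group
    _ = _ := by group

end SLc

end Cfsg.Agent.Inv
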