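import Cfsg.Agent.Inv.U3b

/-! The unitary case of the rank one set-up: coordinates on `Q`. -/

set_option autoImplicit false
set_option linter.unusedVariables false
set_option linter.unusedSectionVars false

namespace Cfsg.Agent.Inv

open Subgroup MulAction Cfsg.Agent.BG Cfsg.Agent.Lie
open scoped Pointwise commutatorElement MatrixGroups

variable {G Ω : Type*} [Group G] [MulAction G Ω] [Finite G]

/-- `d` acts on the coordinates as the scalar `μ` -/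
def UAct {E : Type} [Field E] (σ : E →+* E) (Q : Subgroup G) (A B : G → E) (d : G) (μ : E) : Prop :=
  μ ≠ 0 ∧ ∀ u ∈ Q, A (d * u * d⁻¹) = μ * A u ∧ B (d * u * d⁻¹) = σ μ * μ * B u

variable {a : Ω} {t : G} {Q : Subgroup G}
variable {S : R1 G Ω a t Q} {h2 : Four G} {F : Type} [Field F] {ρ : SL(2, F) →* G}

local notation "𝓗" => stabilizer G a
local notation "𝓓" => St2 G a (t • a)
local notation "𝓥" => V1 G a t
local notation "𝓦" => St2 G a (t • a) ⊓ C[R1.Q0 S h2]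
local notation "𝚫" => R1.Δ S h2

/-- coordinates on `Q` -/
structure UCo (C : SLc S h2 ρ) {E : Type} [Field E] (ι : F →+* E) (σ : E →+* E) (A B : G → E) : Prop where
  uf : Class.UF σ (Nat.card F)
  σι : ∀ r, σ (ι r) = ι r
  fix : ∀ z, σ z = z → ∃ r, ι r = z
  tr : ∀ u ∈ Q, B u + σ (B u) = σ (A u) * A u
  inj : ∀ u ∈ Q, ∀ v ∈ Q, A u = A v → B u = B v → u = v
  surj : ∀ α β, β + σ β = σ α * α → ∃ u ∈ Q, A u = α ∧ B u = β
  mulz : ∀ r, ∀ u ∈ Q, A (ρ (sU r) * u) = A u ∧ B (ρ (sU r) * u) = B u + ι r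
  one : A 1 = 0 ∧ B 1 = 0
  tact : ∀ u ∈ Q, ∀ v ∈ Q, t • u • t • a = v • t • a → A v * B u = A u ∧ B v * B u = 1
  actK : ∀ κ, UAct σ Q A B (ρ (sD κ)) (ι κ)
  actW : ∀ w ∈ 𝓦, ∃ μ, UAct σ Q A B w μ
  key : ∀ u ∈ Q, u ∉ S.Q0 h2 → ∃ z ∈ S.Q0 h2, ∃ z' ∈ S.Q0 h2, ∃ d ∈ S.K h2 ⊔ 𝓦, ∃ h ∈ S.K h2 ⊔ 𝓦,
    ∃ f ∈ Q, t * (z * u) * t = d * (z' * u) * d⁻¹ * h * t * f
  sq : ∀ u ∈ Q, u * u ∈ S.Q0 h2

theorem SLc.t_sU (C : SLc S h2 ρ) (r : Fˣ) :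
    t * ρ (sU (r : F)) * t = ρ (sU (r⁻¹ : F)) * ρ (sD r⁻¹) * t * ρ (sU (r⁻¹ : F)) := by
  have := C.two
  have := r.ne_zero
  rw [← C.tN]
  simp only [← map_mul]
  congr 1
  ext i j; fin_cases i <;> fin_cases j <;> simp
  grind

theorem SLc.exists_UCo (C : SLc S h2 ρ) [Finite F] [FaithfulSMul G Ω] (hq : #Q = #(S.Q0 h2) ^ 3)
    (hW : 𝓦 ≠ ⊥) (hs : ∀ u ∈ Q, u * u ∈ S.Q0 h2) : ∃ (E : Type) (_ : Field E) (ι : F →+* E) (σ : E →+* E) (A B : G → E), UCo C ι σ A B := by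
  classical
  obtain ⟨E, _, ι, σ, x, y, U, σι, fx, h1, h3, h4, h5, h6⟩ := C.exists_xy hq hW
  have two : (2 : E) = 0 := by rw [← map_ofNat ι, C.two, map_zero]
  have : CharP E 2 := CharTwo.of_one_ne_zero_of_two_eq_zero one_ne_zero two
  have y0 : ∀ c ∉ 𝚫, y c ≠ 0 := fun c hc e => by simpa [e] using h1 c hc
  have x0 : ∀ c ∉ 𝚫, x c ≠ 0 := fun c hc e => by simpa [e] using h1 c hc
  let A : G → E := fun u => if u ∈ S.Q0 h2 then 0 else (y (u • t • a))⁻¹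
  let B : G → E := fun u => if u ∈ S.Q0 h2 then ι (Function.invFun (fun r => ρ (sU r)) u)
    else x (u • t • a) / y (u • t • a)
  have a1 : ∀ r, A (ρ (sU r)) = 0 ∧ B (ρ (sU r)) = ι r := fun r =>
    ⟨if_pos (C.crd.mem r), (if_pos (C.crd.mem r)).trans (congrArg ι (Function.leftInverse_invFun C.crd.inj r))⟩
  have a2 : ∀ u ∈ Q, u • t • a ∉ 𝚫 → A u = (y (u • t • a))⁻¹ ∧ B u = x (u • t • a) / y (u • t • a) :=
    fun u hu h => ⟨if_neg (mt (S.smul_mem_Δ h2 hu).2 h), if_neg (mt (S.smul_mem_Δ h2 hu).2 h)⟩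
  have cs : ∀ u ∈ Q, (∃ r, u = ρ (sU r)) ∨ u • t • a ∉ 𝚫 := fun u hu => (em _).imp
    (fun h => (C.crd.surj u ((S.smul_mem_Δ h2 hu).1 h)).imp fun _ => Eq.symm) id
  have cj : ∀ d ∈ 𝓓, ∀ u : G, (d * u * d⁻¹) • t • a = d • u • t • a := fun d hd u => by
    rw [mul_smul, show d⁻¹ • t • a = t • a from (inv_mem hd).2, mul_smul]
  refine ⟨E, inferInstance, ι, σ, A, B, U, σι, fx, fun u hu => ?_, fun u hu v hv e1 e2 => ?_,
    fun α β h => ?_, fun r u hu => ?_, C.crd.zero ▸ ⟨(a1 0).1, (a1 0).2.trans (map_zero ι)⟩,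
    fun u hu v hv e => ?_, fun κ => ⟨by simp, fun u hu => ?_⟩, fun w hw => ?_, fun u => C.key hq hW, hs⟩
  · rcases cs u hu with ⟨r, rfl⟩ | h
    · rw [(a1 r).1, (a1 r).2, σι, CharTwo.add_self_eq_zero, mul_zero]
    · have := h1 _ h
      have := y0 _ h
      have : σ (y (u • t • a)) ≠ 0 := by simpa
      rw [(a2 u hu h).1, (a2 u hu h).2, map_div₀, map_inv₀]
      field_simp; linear_combination h1 _ h
  · rcases cs u hu with ⟨r, rfl⟩ | h <;> rcases cs v hv with ⟨r', rfl⟩ | h'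
    · rw [(a1 r).2, (a1 r').2] at e2; rw [ι.injective e2]
    · rw [(a1 r).1, (a2 v hv h').1] at e1; exact absurd (inv_eq_zero.1 e1.symm) (y0 _ h')
    · rw [(a1 r').1, (a2 u hu h).1] at e1; exact absurd (inv_eq_zero.1 e1) (y0 _ h)
    · rw [(a2 u hu h).1, (a2 v hv h').1, inv_inj] at e1
      rw [(a2 u hu h).2, (a2 v hv h').2, e1, div_left_inj' (y0 _ h')] at e2
      exact S.inj hu hv S.ne (h3 _ h _ h' e2 e1)
  · by_cases α0 : α = 0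
    · obtain ⟨r, rfl⟩ := fx β (by rw [α0, mul_zero, add_comm, CharTwo.add_eq_zero] at h; exact h)
      exact ⟨_, S.Q0_le h2 (C.crd.mem r), α0 ▸ a1 r⟩
    have : σ α ≠ 0 := by simpa
    obtain ⟨c, hc, e1, e2⟩ := h4 (β / α) α⁻¹ (by rw [map_div₀, map_inv₀]; field_simp; linear_combination h)
    obtain ⟨u, hu, -, rfl⟩ := C.ne_a hc
    exact ⟨u, hu, by rw [(a2 u hu hc).1, e2, inv_inv], by rw [(a2 u hu hc).2, e1, e2]; field_simp⟩
  · rcases cs u hu with ⟨r', rfl⟩ | h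
    · rw [← C.crd.add, (a1 _).1, (a1 _).1, (a1 _).2, (a1 _).2, map_add, add_comm]; exact ⟨rfl, rfl⟩
    · have h' : (ρ (sU r) * u) • t • a ∉ 𝚫 := by rwa [mul_smul, C.Δ_iff]
      have m := mul_mem (S.Q0_le h2 (C.crd.mem r)) hu
      have := y0 _ h
      rw [(a2 _ m h').1, (a2 _ m h').2, (a2 u hu h).1, (a2 u hu h).2, mul_smul, (h5 _ _ h).1, (h5 _ _ h).2]
      simp; field_simp
  · rcases cs u hu with ⟨r, rfl⟩ | h
    · have r0 : r ≠ 0 := fun h => S.smul_ne (S.fix hv) S.ne (by rw [← e, h, C.crd.zero, one_smul, S.tt])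
      rw [← mul_smul, ← mul_smul, show r = Units.mk0 r r0 from rfl, C.t_sU, mul_smul, (C.crd.mem _).1, mul_smul,
        mul_smul, show ρ (sD _) • t • a = t • a from (C.kD _).1.2] at e
      rw [← S.inj (S.Q0_le h2 (C.crd.mem _)) hv S.ne e, (a1 _).1, (a1 _).1, (a1 _).2, (a1 _).2]
      simp [r0]
    · have h' : v • t • a ∉ 𝚫 := e ▸ mt (C.Δ_iff (sN 1)).1 h ∘ fun h => C.tN.symm ▸ h
      have := y0 _ h
      have := x0 _ h
      have e1 := h5 (sN 1) _ h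
      rw [C.tN, e] at e1
      rw [(a2 _ hv h').1, (a2 _ hv h').2, (a2 u hu h).1, (a2 u hu h).2, e1.1, e1.2]
      simp [CharTwo.neg_eq]; constructor <;> field_simp
  · rcases cs u hu with ⟨r, rfl⟩ | h
    · rw [C.conj_sD, (a1 _).1, (a1 _).1, (a1 _).2, (a1 _).2, σι]; simp [sq]
    · have h' : (ρ (sD κ) * u * (ρ (sD κ))⁻¹) • t • a ∉ 𝚫 := by rwa [cj _ (C.kD κ).1, C.Δ_iff]
      have m := S.conjQ (C.kD κ).1.1 hu
      have := y0 _ h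
      have : ι κ ≠ 0 := by simp
      rw [(a2 _ m h').1, (a2 _ m h').2, (a2 u hu h).1, (a2 u hu h).2, cj _ (C.kD κ).1, (h5 _ _ h).1,
        (h5 _ _ h).2, σι]
      simp; constructor <;> field_simp
  · obtain ⟨l, hl⟩ := h6 w hw
    obtain ⟨c, hc⟩ := C.exists_notMem hq
    have n : σ l * l = 1 := by
      have e1 := h1 _ (mt (C.Δ_iffD hw.1).1 hc)
      have := h1 _ hc
      rw [(hl c hc).1, (hl c hc).2, map_mul, map_mul] at e1
      linear_combination e1 - σ l * l * this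
    have l0 := right_ne_zero_of_mul_eq_one n
    refine ⟨l⁻¹, inv_ne_zero l0, fun u hu => ?_⟩
    rw [map_inv₀, ← mul_inv, n, inv_one, one_mul]
    rcases cs u hu with ⟨r, rfl⟩ | h
    · rw [← hw.2 _ (C.crd.mem r), mul_inv_cancel_right, (a1 _).1, mul_zero]; exact ⟨rfl, rfl⟩
    · have h' : (w * u * w⁻¹) • t • a ∉ 𝚫 := by rwa [cj _ hw.1, C.Δ_iffD hw.1]
      have m := S.conjQ hw.1.1 hu
      rw [(a2 _ m h').1, (a2 _ m h').2, (a2 u hu h).1, (a2 u hu h).2, cj _ hw.1, (hl _ h).1, (hl _ h).2,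
        mul_inv, mul_div_mul_left _ _ l0]
      exact ⟨rfl, rfl⟩

theorem R1.rel3 (S : R1 G Ω a t Q) {ω g h f : G} (hω : ω ∈ Q) (hg : g ∈ Q) (hh : h ∈ 𝓓) (hf : f ∈ Q)
    (e : t * ω * t = g * h * t * f) : t • ω • t • a = g • t • a ∧ t • ω⁻¹ • t • a = f⁻¹ • t • a ∧
      ∃ f' ∈ Q, t • f • t • a = f' • t • a ∧ h * f' * h⁻¹ = g⁻¹ := by
  have hb : h • t • a = t • a := hh.2
  refine ⟨by rw [← mul_smul, ← mul_smul, e, mul_smul, S.fix hf, mul_smul, mul_smul, hb], ?_, ?_⟩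
  · have := congrArg (·⁻¹ • a) e
    simp only [mul_inv_rev, S.tinv, mul_smul] at this
    rwa [S.fix (inv_mem hg), (inv_mem hh).1] at this
  have e1 := congrArg (· • t • a) e
  simp only [mul_smul, S.tt, S.fix hω] at e1
  obtain ⟨f', hf', e2⟩ := S.trans0 (c := t • f • t • a) fun h => S.ne (by rw [e1, h, hh.1, S.fix hg])
  refine ⟨f', hf', e2.symm, S.inj (S.conjQ hh.1 hf') (inv_mem hg) S.ne ?_⟩
  rw [mul_smul, show h⁻¹ • t • a = t • a from (inv_mem hh).2, mul_smul, e2, eq_inv_smul_iff, ← e1]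

theorem R1.exists_ghf (S : R1 G Ω a t Q) {ω : G} (hω : ω ∈ Q) (h1 : ω ≠ 1) :
    ∃ g ∈ Q, ∃ h ∈ 𝓓, ∃ f ∈ Q, t * ω * t = g * h * t * f := by
  obtain ⟨x, hx, y, hy, e⟩ := S.bruhat (g := t * ω * t) (by
    rw [mul_smul, mul_smul, Ne, smul_eq_iff_inv, S.tinv]
    exact fun h => h1 (S.free hω S.ne h.symm))
  obtain ⟨g, hg, h, hh, rfl⟩ := S.exists_mul hx
  exact ⟨g, hg, h, hh, y, hy, e⟩

namespace UCo

variable {C : SLc S h2 ρ} {E : Type} [Field E] {ι : F →+* E} {σ : E →+* E} {A B : G → E}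
  (X : UCo C ι σ A B)
include X

theorem two : (2 : E) = 0 := by rw [← map_ofNat ι, C.two, map_zero]

theorem eA (r : F) : A (ρ (sU r)) = 0 := by simpa [X.one.1] using (X.mulz r 1 (one_mem _)).1
theorem eB (r : F) : B (ρ (sU r)) = ι r := by simpa [X.one.2] using (X.mulz r 1 (one_mem _)).2

theorem same {u v : G} (hu : u ∈ Q) (hv : v ∈ Q) (h : A u = A v) : ∃ r, u = ρ (sU r) * v := by
  have := X.two
  have h1 := X.tr u hu
  have h3 := X.tr v hv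
  obtain ⟨r, hr⟩ := X.fix (B u + B v) (by rw [map_add]; grind)
  exact ⟨r, X.inj _ hu _ (mul_mem (S.Q0_le h2 (C.crd.mem r)) hv) (by rw [(X.mulz r v hv).1, h])
    (by rw [(X.mulz r v hv).2]; grind)⟩

theorem A_ne {u : G} (hu : u ∈ Q) : A u ≠ 0 ↔ u ∉ S.Q0 h2 := not_congr
  ⟨fun h => (X.same hu (one_mem _) (h.trans X.one.1.symm)).elim fun r e => by
    rw [e, mul_one]; exact C.crd.mem r, fun h => (C.crd.surj u h).elim fun r e => e ▸ X.eA r⟩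

theorem B_ne {u : G} (hu : u ∈ Q) (h : A u ≠ 0) : B u ≠ 0 := fun e => h (by simpa [e] using X.tr u hu)

theorem B_ne' {u : G} (hu : u ∈ Q) (h : A u ≠ 0) (r : F) : B u + ι r ≠ 0 :=
  (X.mulz r u hu).2 ▸ X.B_ne (mul_mem (S.Q0_le h2 (C.crd.mem r)) hu) (by rwa [(X.mulz r u hu).1])

/-- the scalars by which `K W` acts -/
def Λ (_X : UCo C ι σ A B) (μ : E) : Prop := ∃ d ∈ S.K h2 ⊔ 𝓦, UAct σ Q A B d μ

theorem KW_le : S.K h2 ⊔ 𝓦 ≤ 𝓓 := sup_le (S.K_le h2) inf_le_left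

theorem act_mul {d d' : G} {μ μ' : E} (hd : d' ∈ 𝓓) (h : UAct σ Q A B d μ) (h' : UAct σ Q A B d' μ') :
    UAct σ Q A B (d * d') (μ * μ') := ⟨mul_ne_zero h.1 h'.1, fun u hu => by
  rw [show d * d' * u * (d * d')⁻¹ = d * (d' * u * d'⁻¹) * d⁻¹ by group, (h.2 _ (S.conjQ hd.1 hu)).1,
    (h.2 _ (S.conjQ hd.1 hu)).2, (h'.2 u hu).1, (h'.2 u hu).2, map_mul]
  exact ⟨by ring, by ring⟩⟩

theorem exists_act {d : G} (hd : d ∈ S.K h2 ⊔ 𝓦) : ∃ μ, UAct σ Q A B d μ := by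
  obtain ⟨k, hk, w, hw, rfl⟩ := (isProd_of_r (A := S.K h2) ((S.K_le h2).trans
    (normI (normG _) (normC (inf_le_left.trans (S.Q0_norm h2))))) rfl).ex d hd
  obtain ⟨κ, rfl⟩ := C.kS k hk
  obtain ⟨μ, h⟩ := X.actW w hw
  exact ⟨_, X.act_mul hw.1 (X.actK κ) h⟩

theorem Λ_mul {μ ν : E} (h : X.Λ μ) (h' : X.Λ ν) : X.Λ (μ * ν) :=
  have ⟨d, hd, h⟩ := h
  have ⟨d', hd', h'⟩ := h'
  ⟨_, mul_mem hd hd', X.act_mul (X.KW_le hd') h h'⟩

theorem Λ_ι {r : F} (h : r ≠ 0) : X.Λ (ι r) := ⟨_, mem_sup_left (C.kD _), X.actK (Units.mk0 r h)⟩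

theorem Λ_pow {μ : E} (h : X.Λ μ) (n : ℕ) : X.Λ (μ ^ n) := by
  induction n with
  | zero => simpa using X.Λ_ι one_ne_zero
  | succ n ih => exact pow_succ μ n ▸ X.Λ_mul ih h

theorem Λ_sqrt {μ : E} (h : X.Λ (μ ^ 2)) : X.Λ μ := by
  have := X.uf.finite
  have := Fintype.ofFinite E
  have : CharP E 2 := CharTwo.of_one_ne_zero_of_two_eq_zero one_ne_zero X.two
  obtain ⟨m, hm⟩ := Nat.even_iff.2 (FiniteField.even_card_of_char_two (ringChar.eq E 2))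
  simpa only [← pow_mul, two_mul, ← hm, FiniteField.pow_card] using X.Λ_pow h m

theorem Λ_inv {μ : E} (h : X.Λ μ) : X.Λ μ⁻¹ := by
  have := X.uf.finite
  have := Fintype.ofFinite E
  have h0 : μ ≠ 0 := h.elim fun _ h => h.2.1
  have h1 := FiniteField.pow_card_sub_one_eq_one μ h0
  obtain ⟨m, hm⟩ := Nat.exists_eq_add_of_lt (Fintype.one_lt_card (α := E))
  rw [hm, add_right_comm, add_assoc, Nat.add_sub_cancel_left, pow_add, pow_one] at h1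
  exact eq_inv_of_mul_eq_one_right h1 ▸ X.Λ_pow h m

theorem inv_eq {u : G} (hu : u ∈ Q) {r : F} (h : ρ (sU r) = u * u) : u⁻¹ = ρ (sU r) * u := by
  rw [← inv_eq_of_mul_eq_one_left (C.crd.mem r).2, h]; group

theorem A_inv {u : G} (hu : u ∈ Q) : A u⁻¹ = A u :=
  have ⟨r, h⟩ := C.crd.surj _ (X.sq u hu)
  X.inv_eq hu h ▸ (X.mulz r u hu).1

theorem θ_eq {u v : G} (hu : u ∈ Q) (hv : v ∈ Q) {μ : E} (h : X.Λ μ) (e : A u = μ * A v) :
    B u⁻¹ + B u = σ μ * μ * (B v⁻¹ + B v) := by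
  obtain ⟨d, hd, h⟩ := h
  have v1 := S.conjQ (X.KW_le hd).1 hv
  obtain ⟨r, rfl⟩ := X.same hu v1 (e.trans (h.2 v hv).1.symm)
  have := X.two
  rw [mul_inv_rev, inv_eq_of_mul_eq_one_left (C.crd.mem r).2, ← S.Q0_cent h2 (C.crd.mem r) (inv_mem v1),
    (X.mulz r _ v1).2, (X.mulz r _ (inv_mem v1)).2, conj_inv, (h.2 v hv).2, (h.2 _ (inv_mem hv)).2]
  grind

theorem B_inv {u : G} (hu : u ∈ Q) : B u⁻¹ = σ (B u) := by
  have two := X.two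
  by_cases u0 : u ∈ S.Q0 h2
  · obtain ⟨r, rfl⟩ := C.crd.surj u u0
    rw [inv_eq_of_mul_eq_one_left u0.2, X.eB, X.σι]
  obtain ⟨z, hz, z', hz', d, hd, h, hh, f, hf, e⟩ := X.key u hu u0
  obtain ⟨r, rfl⟩ := C.crd.surj z hz
  obtain ⟨r', rfl⟩ := C.crd.surj z' hz'
  have ω1 := mul_mem (S.Q0_le h2 hz) hu
  have u1 := mul_mem (S.Q0_le h2 hz') hu
  have g1 := S.conjQ (X.KW_le hd).1 u1
  obtain ⟨ν, hν⟩ := X.exists_act hd
  obtain ⟨μ, hμ⟩ := X.exists_act hh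
  obtain ⟨e1, e2, f', hf', e3, e4⟩ := S.rel3 ω1 g1 (X.KW_le hh) hf e
  have a0 := (hν.2 _ u1).1
  have a1 := (X.mulz r u hu).1
  rw [(X.mulz r' u hu).1, ← a1] at a0
  have t0 := X.θ_eq hu ω1 (X.Λ_ι one_ne_zero) (by rw [a1, map_one, one_mul])
  have α0 : A (ρ (sU r) * u) ≠ 0 := a1 ▸ (X.A_ne hu).2 u0
  suffices B (ρ (sU r) * u)⁻¹ = σ (B (ρ (sU r) * u)) by
    have := X.tr u hu
    have := X.tr _ ω1
    simp only [map_one] at t0
    grind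
  generalize ρ (sU r) * u = ω at *
  generalize d * (ρ (sU r') * u) * d⁻¹ = g at *
  obtain ⟨b1, b2⟩ := X.tact _ ω1 _ g1 e1
  obtain ⟨b3, b4⟩ := X.tact _ (inv_mem ω1) _ (inv_mem hf) e2
  obtain ⟨b5, b6⟩ := X.tact _ hf _ hf' e3
  obtain ⟨b7, b8⟩ := hμ.2 _ hf'
  rw [e4] at b7 b8
  rw [X.A_inv hf, X.A_inv ω1] at b3
  rw [X.A_inv g1] at b7
  have t1 := X.θ_eq g1 ω1 ⟨d, hd, hν⟩ a0
  obtain ⟨κ, hκ⟩ := C.crd.surj _ (X.sq ω ω1)
  have c1 := (X.mulz κ ω ω1).2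
  rw [← X.inv_eq ω1 hκ] at c1
  have c2 := congrArg σ c1
  rw [map_add, X.σι] at c2
  have tr := X.tr ω ω1
  have n1 : ν * B ω = 1 := mul_left_cancel₀ α0 (by grind)
  have n2 := congrArg σ n1
  rw [map_mul, map_one] at n2
  have n3 : B f * B ω⁻¹ = μ * B ω := mul_left_cancel₀ α0 (by grind)
  have n4 : σ μ * σ (B ω) * B ω⁻¹ = σ (B ω⁻¹) := mul_left_cancel₀ hμ.1 (by grind)
  have n5 := congrArg σ n4
  simp only [map_mul, X.uf.σσ] at n5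
  have ζ0 := right_ne_zero_of_mul_eq_one b4
  have ζ1 : σ (B ω⁻¹) ≠ 0 := by simpa
  obtain ⟨N, hN⟩ := X.fix (σ (B ω⁻¹) * B ω⁻¹) (by rw [map_mul, X.uf.σσ, mul_comm])
  have l1 : X.Λ (B ω⁻¹) := X.Λ_sqrt (by
    have := X.Λ_mul (X.Λ_mul ⟨h, hh, hμ⟩ (X.Λ_inv ⟨d, hd, hν⟩)) (X.Λ_ι (r := N) fun e => by
      simp [e, ζ0] at hN)
    rwa [inv_eq_of_mul_eq_one_right n1, hN, ← mul_assoc, n5, ← pow_two] at this)
  have t2 := X.θ_eq hf ω1 (X.Λ_inv l1) (by rw [← b3]; field_simp)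
  rw [map_inv₀] at t2
  grind

end UCo

end Cfsg.Agent.Inv
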