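import Cfsg.Agent.Inv.U3c

/-! The unitary case of the rank one set-up: the multiplication in `Q`. -/

set_option autoImplicit false
set_option linter.unusedVariables false
set_option linter.unusedSectionVars false

namespace Cfsg.Agent.Inv

open Subgroup MulAction Cfsg.Agent.BG Cfsg.Agent.Lie
open scoped Pointwise commutatorElement MatrixGroups

theorem aut_fix_of_odd {F : Type} [Field F] (two : (2 : F) = 0) {τ : F ≃+* F} (h : Odd (orderOf τ)) {y : F}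
    (e : τ (y + y * y) = y + y * y) : τ y = y := by
  rw [map_add, map_mul] at e
  refine (show τ y = y ∨ τ y = y + 1 by grind).elim id fun e => ?_
  obtain ⟨m, hm⟩ := exists_sqrt_of_odd h
  have : τ ^ 2 ∈ stabilizer (F ≃+* F) y := show τ (τ y) = y by rw [e, map_add, e, map_one]; grind
  have := pow_mem this m
  rwa [← pow_mul, two_mul, pow_add, hm] at this

theorem mem_zpowers_or {H : Type*} [Group H] [Finite H] [IsCyclic H] {x y z : H} (hz : (orderOf z).Prime)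
    (h : z ∈ zpowers (x * y⁻¹)) : z ∈ zpowers x ∨ z ∈ zpowers y := by
  have c : Cyc (⊤ : Subgroup H) := isCyclic_of_surjective _ topEquiv.symm.surjective
  have h1 := (orderOf_dvd_of_mem_zpowers h).trans
    (Commute.orderOf_mul_dvd_mul_orderOf (IsCyclic.commGroup.mul_comm x y⁻¹))
  rw [orderOf_inv, hz.dvd_mul] at h1
  exact h1.imp (fun h => zpowers_le.1 (c.le_of_dvd le_top le_top (by rwa [card_zpowers', card_zpowers'])))
    fun h => zpowers_le.1 (c.le_of_dvd le_top le_top (by rwa [card_zpowers', card_zpowers']))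

variable {G Ω : Type*} [Group G] [MulAction G Ω] [Finite G]

/-- `d` induces the field automorphism `τ` -/
def USem {F : Type} [Field F] (ρ : SL(2, F) →* G) (d : G) (τ : F ≃+* F) : Prop :=
  ∃ c, c ≠ 0 ∧ ∀ x, d * ρ (sU x) * d⁻¹ = ρ (sU (c * τ x))

variable {a : Ω} {t : G} {Q : Subgroup G}
variable {S : R1 G Ω a t Q} {h2 : Four G} {F : Type} [Field F] {ρ : SL(2, F) →* G}

local notation "𝓗" => stabilizer G a
local notation "𝓓" => St2 G a (t • a)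
local notation "𝓥" => V1 G a t
local notation "𝓦" => St2 G a (t • a) ⊓ C[R1.Q0 S h2]

theorem USem.mul {d d' : G} {τ τ' : F ≃+* F} (h : USem ρ d τ) (h' : USem ρ d' τ') :
    USem ρ (d * d') (τ * τ') := by
  obtain ⟨c, c0, h⟩ := h
  obtain ⟨c', c0', h'⟩ := h'
  refine ⟨c * τ c', by simp [c0, c0'], fun x => ?_⟩
  rw [RingAut.mul_apply, mul_assoc c, ← map_mul, ← h, ← h']; group

namespace SLc

variable (C : SLc S h2 ρ)
include C

theorem exists_sem [Finite F] {d : G} (hd : d ∈ 𝓓) : ∃ τ, USem ρ d τ :=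
  have ⟨c, τ, h⟩ := C.crd.semilin (S.Q0_norm h2 hd.1) (S.normK' h2 hd)
  ⟨τ, c, h⟩

theorem sem_uniq {d : G} {τ τ' : F ≃+* F} (h : USem ρ d τ) (h' : USem ρ d τ') : τ = τ' := by
  obtain ⟨c, c0, h⟩ := h
  obtain ⟨c', -, h'⟩ := h'
  have e := fun x => C.crd.inj ((h x).symm.trans (h' x))
  obtain rfl : c = c' := by simpa using e 1
  exact RingEquiv.ext fun x => mul_left_cancel₀ c0 (e x)

theorem sem_K {k : G} (hk : k ∈ S.K h2) : USem ρ k 1 :=
  have ⟨κ, e⟩ := C.kS k hk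
  ⟨κ ^ 2, by simp, e ▸ C.conj_sD κ⟩

theorem sem_odd {d : G} (hd : d ∈ 𝓓) {τ : F ≃+* F} (h : USem ρ d τ) : Odd (orderOf τ) := by
  have : ∀ n : ℕ, USem ρ (d ^ n) (τ ^ n) := fun n => by
    induction n with
    | zero => simpa using C.sem_K (one_mem _)
    | succ n ih => rw [pow_succ, pow_succ]; exact ih.mul h
  exact (S.oddD hd).of_dvd_nat (orderOf_dvd_of_pow_eq_one (C.sem_uniq (this _)
    (pow_orderOf_eq_one d ▸ C.sem_K (one_mem _))))

theorem sem_V {v : G} (hv : v ∈ 𝓥) {τ : F ≃+* F} (h : USem ρ v τ) (x : F) :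
    v * ρ (sU x) * v⁻¹ = ρ (sU (τ x)) := by
  obtain ⟨c, -, h⟩ := h
  have := C.crd.inj ((h 1).symm.trans ((S.cent_s C.s_mem C.s_mem C.rel hv.1).1 hv))
  rw [map_one, mul_one] at this
  rw [h, this, one_mul]

theorem sem_one {d : G} (hd : d ∈ 𝓓) (h : USem ρ d 1) : d ∈ S.K h2 ⊔ 𝓦 := by
  obtain ⟨v, v1, k, k1, v2, rfl⟩ := S.decomp h2 hd
  refine mul_mem (mem_sup_right ⟨v1, fun z hz => ?_⟩) (mem_sup_left k1)
  obtain ⟨x, rfl⟩ := C.crd.surj z hz
  exact (mul_inv_eq_iff_eq_mul.1 (C.sem_V ⟨v1, mem_cent_iff_conj.2 v2⟩ (τ := 1)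
    (by simpa using h.mul (C.sem_K (inv_mem k1))) x)).symm

theorem sem_t {d : G} (hd : d ∈ 𝓓) {τ : F ≃+* F} (h : USem ρ d τ) : ∃ c, c ≠ 0 ∧
    (∀ x, d * ρ (sU x) * d⁻¹ = ρ (sU (c * τ x))) ∧
    ∀ x, t * d * t⁻¹ * ρ (sU x) * (t * d * t⁻¹)⁻¹ = ρ (sU (c⁻¹ * τ x)) := by
  obtain ⟨v, v1, k, k1, v2, rfl⟩ := S.decomp h2 hd
  have e := C.sem_V ⟨v1, mem_cent_iff_conj.2 v2⟩ (τ := τ) (by simpa using h.mul (C.sem_K (inv_mem k1)))
  obtain ⟨κ, rfl⟩ := C.kS k k1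
  have e1 : ∀ κ x, v * ρ (sD κ) * ρ (sU x) * (v * ρ (sD κ))⁻¹ = ρ (sU (τ (κ ^ 2) * τ x)) := fun κ x => by
    rw [← map_mul τ, ← e, ← C.conj_sD]; group
  refine ⟨τ (κ ^ 2), by simp, e1 κ, fun x => ?_⟩
  rw [← conj_mul, v2, k1.2, ← map_inv, show (sD κ)⁻¹ = sD κ⁻¹ from inv_eq_of_mul_eq_one_right (by
    ext i j; fin_cases i <;> fin_cases j <;> simp), e1]
  simp

theorem cocycle {ω g h f g2 h' f2 : G} (hh : h ∈ 𝓓) (r : Fˣ) (hf : f ∈ Q) (hω : ω ∈ Q)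
    (e : t * ω * t = g * h * t * f) (e2 : t * (ρ (sU (r⁻¹ : F)) * f) * t = g2 * h' * t * f2) :
    t * (ρ (sU (r : F)) * ω) * t = g * (h * g2 * h⁻¹) * (h * h' * ρ (sD r⁻¹)) * t *
      (ρ (sD r⁻¹) * f2 * (ρ (sD r⁻¹))⁻¹ * ρ (sU (r⁻¹ : F))) := by
  have k1 := S.K_t h2 (C.kD r⁻¹)
  have tt := S.mul_self
  calc _ = t * ω * t * (t * ρ (sU (r : F)) * t) := by
        rw [S.Q0_cent h2 (C.crd.mem _) hω, show t * ω * t * (t * ρ (sU (r : F)) * t) =
          t * ω * (t * t) * ρ (sU (r : F)) * t by group, tt]; group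
    _ = g * h * (t * (ρ (sU (r⁻¹ : F)) * f) * t) * (t * ρ (sD r⁻¹) * t⁻¹) * ρ (sU (r⁻¹ : F)) := by
        rw [e, C.t_sU, S.Q0_cent h2 (C.crd.mem _) hf, S.tinv, show g * h * (t * (f * ρ (sU (r⁻¹ : F))) * t) *
          (t * ρ (sD r⁻¹) * t) = g * h * t * f * ρ (sU (r⁻¹ : F)) * (t * t) * ρ (sD r⁻¹) * t by group, tt]
        group
    _ = _ := by rw [e2, (C.kD r⁻¹).2]; nth_rw 1 [← k1]; group

end SLc

namespace UCo

variable {C : SLc S h2 ρ} {E : Type} [Field E] {ι : F →+* E} {σ : E →+* E} {A B : G → E}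
  (X : UCo C ι σ A B)
include X

theorem sq_eq {u : G} (hu : u ∈ Q) {r : F} (h : ρ (sU r) = u * u) : ι r = σ (A u) * A u := by
  have := X.two
  have := X.tr u hu
  have := (X.mulz r u hu).2
  rw [← X.inv_eq hu h, X.B_inv hu] at this
  grind

theorem equi {d u u' v' : G} (hd : d ∈ 𝓓) {τ : F ≃+* F} (h : USem ρ d τ) (hu : u ∈ Q) (hu' : u' ∈ Q)
    (hv' : v' ∈ Q) (e1 : t • u • t • a = u' • t • a) (e2 : t • (d * u * d⁻¹) • t • a = v' • t • a) {m : F}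
    (hm : ι m = σ (A u) * A u * (σ (A u') * A u')) :
    ι (τ m) = σ (A (d * u * d⁻¹)) * A (d * u * d⁻¹) * (σ (A v') * A v') := by
  obtain ⟨c, c0, h1, h3⟩ := C.sem_t hd h
  have d1 := S.conjD hd
  obtain rfl : t * d * t⁻¹ * u' * (t * d * t⁻¹)⁻¹ = v' := S.inj (S.conjQ d1.1 hu') hv' S.ne (by
    rw [← e2, mul_smul, show (t * d * t⁻¹)⁻¹ • t • a = t • a from (inv_mem d1).2, mul_smul, ← e1, mul_smul _ d⁻¹,
      show d⁻¹ • t • a = t • a from (inv_mem hd).2]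
    simp [mul_smul])
  obtain ⟨r, hr⟩ := C.crd.surj _ (X.sq u hu)
  obtain ⟨r', hr'⟩ := C.crd.surj _ (X.sq u' hu')
  rw [← X.sq_eq hu hr, ← X.sq_eq hu' hr', ← map_mul] at hm
  rw [← X.sq_eq (S.conjQ hd.1 hu) (by rw [conj_mul, ← hr, h1]),
    ← X.sq_eq hv' (by rw [conj_mul, ← hr', h3]), ← map_mul, ι.injective hm, map_mul τ]
  congr 1
  field_simp

theorem fixn {ω g h f : G} (hω : ω ∈ Q) (h0 : A ω ≠ 0) (hg : g ∈ Q) (hh : h ∈ 𝓓) (hf : f ∈ Q)
    (e : t * ω * t = g * h * t * f) {τ : F ≃+* F} (hτ : USem ρ h τ) {n : F}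
    (hn : ι n * (σ (A ω) * A ω) ^ 2 = σ (B ω) * B ω) : τ n = n := by
  obtain ⟨e1, e2, f', hf', e3, e4⟩ := S.rel3 hω hg hh hf e
  obtain ⟨b1, b2⟩ := X.tact _ hω _ hg e1
  obtain ⟨b3, b4⟩ := X.tact _ (inv_mem hω) _ (inv_mem hf) e2
  obtain ⟨b5, b6⟩ := X.tact _ hf _ hf' e3
  obtain ⟨g', hg', e5⟩ := S.trans0 (c := t • g⁻¹ • t • a) fun h => h0 (by
    rw [smul_eq_iff_inv, S.tinv] at h
    rw [← b1, inv_eq_one.1 (S.free (inv_mem hg) S.ne h.symm), X.one.1, zero_mul])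
  obtain ⟨b7, -⟩ := X.tact _ (inv_mem hg) _ hg' e5.symm
  rw [X.A_inv hf, X.A_inv hω, X.B_inv hω] at b3
  rw [X.B_inv hf, X.B_inv hω] at b4
  rw [X.A_inv hg, X.B_inv hg] at b7
  have c1 := congrArg σ b1
  have c2 := congrArg σ b2
  have c3 := congrArg σ b3
  have c4 := congrArg σ b4
  have c5 := congrArg σ b5
  have c7 := congrArg σ b7
  simp only [map_mul, map_one, X.uf.σσ] at c1 c2 c3 c4 c5 c7
  have β0 := X.B_ne hω h0
  have β1 : σ (B ω) ≠ 0 := by simpa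
  have n0 : n ≠ 0 := fun e => by simp [e, β0] at hn
  have n1 : ι n ≠ 0 := by simpa
  have := X.equi hh hτ hf' hf hg' (by rw [← e3, S.tt]) (by rw [e4, e5]) (m := n⁻¹) (by
    rw [map_inv₀]; grind)
  rw [e4, X.A_inv hg, map_inv₀] at this
  rw [← inv_inj]
  exact ι.injective (by rw [this, map_inv₀]; grind)

theorem hKW {ω g h f : G} (hω : ω ∈ Q) (h0 : A ω ≠ 0) (hg : g ∈ Q) (hh : h ∈ 𝓓) (hf : f ∈ Q)
    (e : t * ω * t = g * h * t * f) : h ∈ S.K h2 ⊔ 𝓦 := by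
  have : Finite F := have := X.uf.finite; .of_injective ι ι.injective
  have := aut_isCyclic (F := F)
  have two := X.two
  obtain ⟨τ, hτ⟩ := C.exists_sem hh
  refine C.sem_one hh ((show τ = 1 from by_contra fun τ1 => ?_) ▸ hτ)
  obtain ⟨τ0, t1, t2⟩ := exists_prime_pow_mem τ1
  have t3 := (C.sem_odd hh hτ).of_dvd_nat (orderOf_dvd_of_mem_zpowers t1)
  have fx : ∀ τ' y, τ0 ∈ zpowers τ' → τ' y = y → τ0 y = y := fun τ' y h e =>
    (zpowers_le.2 (show τ' ∈ stabilizer (F ≃+* F) y from e) h :)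
  obtain ⟨κ, hκ⟩ := C.crd.surj _ (X.sq ω hω)
  replace hκ := X.sq_eq hω hκ
  have β0 := X.B_ne hω h0
  have β1 : σ (B ω) ≠ 0 := by simpa
  have κ1 : ι κ ≠ 0 := by simp [hκ, h0]
  have κ0 : κ ≠ 0 := by simpa using κ1
  obtain ⟨N, hN⟩ := X.fix (σ (B ω) * B ω) (by rw [map_mul, X.uf.σσ, mul_comm])
  have N0 : N ≠ 0 := fun e => by simp [e, β0] at hN
  have n1 := fx _ _ t1 (X.fixn hω h0 hg hh hf e hτ (n := N / κ ^ 2) (by
    rw [map_div₀, map_pow, ← hκ, hN]; field_simp))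
  obtain ⟨-, e2, -⟩ := S.rel3 hω hg hh hf e
  obtain ⟨b3, b4⟩ := X.tact _ (inv_mem hω) _ (inv_mem hf) e2
  rw [X.A_inv hf, X.A_inv hω, X.B_inv hω] at b3
  rw [X.B_inv hf, X.B_inv hω] at b4
  have c3 := congrArg σ b3
  have c4 := congrArg σ b4
  simp only [map_mul, map_one, X.uf.σσ] at c3 c4
  have tr := X.tr ω hω
  refine t2.one_lt.ne' (orderOf_eq_one_iff.2 (RingEquiv.ext fun y => ?_))
  by_cases y0 : y = 0
  · simp [y0]
  let r := Units.mk0 (y * κ) (mul_ne_zero y0 κ0)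
  have y1 : ι y ≠ 0 := by simpa
  have ω1 := mul_mem (S.Q0_le h2 (C.crd.mem r)) hω
  have ω2 := mul_mem (S.Q0_le h2 (C.crd.mem (r⁻¹ : F))) hf
  have a2 : A (ρ (sU (r⁻¹ : F)) * f) ≠ 0 := by rw [(X.mulz _ f hf).1]; grind
  obtain ⟨g2, hg2, h', hh', f2, hf2, e'⟩ := S.exists_ghf ω2 fun e => a2 (e ▸ X.one.1)
  have e1 := C.cocycle hh r hf hω e e'
  obtain ⟨τ', hτ'⟩ := C.exists_sem hh'
  change τ0 y = y
  rcases mem_zpowers_or (x := τ * τ' * 1) (y := τ') t2 (by simpa using t1) with h | h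
  · have := fx _ _ h (X.fixn ω1 (by rwa [(X.mulz _ ω hω).1]) (mul_mem hg (S.conjQ hh.1 hg2))
      (mul_mem (mul_mem hh hh') (C.kD _).1) (mul_mem (S.conjQ (C.kD _).1.1 hf2) (S.Q0_le h2 (C.crd.mem _))) e1
      ((hτ.mul hτ').mul (C.sem_K (C.kD _))) (n := N / κ ^ 2 + (y + y * y)) (by
        rw [(X.mulz _ ω hω).1, (X.mulz _ ω hω).2]
        simp only [map_add, map_mul, map_div₀, map_pow, X.σι, r, Units.val_mk0]
        grind))
    rw [map_add, n1, add_right_inj] at this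
    exact aut_fix_of_odd C.two t3 this
  · have := fx _ _ h (X.fixn ω2 a2 hg2 hh' hf2 e' hτ'
      (n := N / κ ^ 2 + (N / κ ^ 2 / y + N / κ ^ 2 / y * (N / κ ^ 2 / y))) (by
        rw [(X.mulz _ f hf).1, (X.mulz _ f hf).2]
        simp only [map_add, map_mul, map_div₀, map_inv₀, map_pow, X.σι, r, Units.val_mk0]
        rw [← eq_div_iff β1] at b3 b4
        rw [← eq_div_iff β0] at c3 c4
        rw [c3, b4, b3, c4, hN, div_mul_div_comm (σ (A ω)), ← hκ]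
        rw [hκ, ← tr] at κ1 ⊢
        field_simp
        ring))
    rw [map_add, n1, add_right_inj] at this
    have := aut_fix_of_odd C.two t3 this
    rwa [map_div₀, n1, div_eq_mul_inv _ (τ0 y), div_eq_mul_inv _ y, mul_right_inj' (by simp [N0, κ0]),
      inv_inj] at this

/-- the multiplication rule -/
def Good (_X : UCo C ι σ A B) (u v : G) : Prop :=
  A (u * v) = A u + A v ∧ B (u * v) = B u + B v + σ (A u) * A v

theorem good_cyc {ω : G} (hω : ω ∈ Q) (h0 : A ω ≠ 0) (r : Fˣ) : ∃ g ∈ Q, ∃ x ∈ Q, A g * B ω = A ω ∧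
    A x * (B ω * (B ω + ι r)) = A ω * ι r ∧ X.Good g x := by
  have two := X.two
  obtain ⟨g, hg, h, hh, f, hf, e⟩ := S.exists_ghf hω fun e => h0 (e ▸ X.one.1)
  obtain ⟨μ, μ0, hμ⟩ := X.exists_act (X.hKW hω h0 hg hh hf e)
  obtain ⟨e1, e2, f', hf', e3, e4⟩ := S.rel3 hω hg hh hf e
  obtain ⟨b1, b2⟩ := X.tact _ hω _ hg e1
  obtain ⟨b3, b4⟩ := X.tact _ (inv_mem hω) _ (inv_mem hf) e2
  obtain ⟨b5, -⟩ := X.tact _ hf _ hf' e3
  have b6 := (hμ _ hf').1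
  rw [e4, X.A_inv hg] at b6
  rw [X.A_inv hf, X.A_inv hω, X.B_inv hω] at b3
  rw [X.B_inv hf, X.B_inv hω] at b4
  have c4 := congrArg σ b4
  simp only [map_mul, map_one, X.uf.σσ] at c4
  have β0 := X.B_ne hω h0
  have β1 : σ (B ω) ≠ 0 := by simpa
  have β2 := X.B_ne' hω h0 r
  have r0 : ι r ≠ 0 := by simp
  have ω1 := mul_mem (S.Q0_le h2 (C.crd.mem r)) hω
  have ω2 := mul_mem (S.Q0_le h2 (C.crd.mem (r⁻¹ : F))) hf
  have a2 : A (ρ (sU (r⁻¹ : F)) * f) ≠ 0 := by rw [(X.mulz _ f hf).1]; grind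
  obtain ⟨g2, hg2, h', hh', f2, hf2, e'⟩ := S.exists_ghf ω2 fun e => a2 (e ▸ X.one.1)
  have x1 := S.conjQ hh.1 hg2
  obtain ⟨d1, d2⟩ := X.tact _ ω1 _ (mul_mem hg x1) (S.rel3 ω1 (mul_mem hg x1)
    (mul_mem (mul_mem hh hh') (C.kD _).1) (mul_mem (S.conjQ (C.kD _).1.1 hf2) (S.Q0_le h2 (C.crd.mem _)))
    (C.cocycle hh r hf hω e e')).1
  obtain ⟨d3, d4⟩ := X.tact _ ω2 _ hg2 (S.rel3 ω2 hg2 hh' hf2 e').1
  rw [(X.mulz _ ω hω).2] at d1 d2
  rw [(X.mulz _ ω hω).1] at d1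
  rw [(X.mulz _ f hf).2, map_inv₀] at d3 d4
  rw [(X.mulz _ f hf).1] at d3
  obtain ⟨d5, d6⟩ := hμ _ hg2
  have m1 : μ = σ (B ω) / B ω ^ 2 := by
    rw [eq_div_iff (pow_ne_zero 2 β0)]; exact mul_left_cancel₀ h0 (by grind)
  have m2 : σ μ * μ * (σ (B ω) * B ω) = 1 := by
    rw [m1, map_div₀, map_pow, X.uf.σσ]; field_simp
  have m3 : A (h * g2 * h⁻¹) * (B ω * (B ω + ι r)) = A ω * ι r := by rw [d5, m1]; grind
  have m4 : B (h * g2 * h⁻¹) * (σ (B ω) * (B ω + ι r)) = ι r := by grind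
  have c1 := congrArg σ b1
  rw [map_mul] at c1
  have tr := X.tr ω hω
  refine ⟨g, hg, _, x1, b1, m3, ?_, ?_⟩
  · rw [← eq_div_iff β2] at d1
    rw [← eq_div_iff β0] at b1
    rw [← eq_div_iff (mul_ne_zero β0 β2)] at m3
    rw [d1, b1, m3]
    field_simp
    linear_combination (-ι r) * two
  · rw [← eq_div_iff β2] at d2
    rw [← eq_div_iff β0] at b2
    rw [← eq_div_iff β1] at c1
    rw [← eq_div_iff (mul_ne_zero β0 β2)] at m3
    rw [← eq_div_iff (mul_ne_zero β1 β2)] at m4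
    rw [d2, b2, c1, m3, m4]
    field_simp
    linear_combination ι r * tr - ι r * (σ (B ω) + B ω) * two

theorem good_shift {u v : G} (hu : u ∈ Q) (hv : v ∈ Q) (h : X.Good u v) (r s : F) :
    X.Good (ρ (sU r) * u) (ρ (sU s) * v) := by
  have e : ρ (sU r) * u * (ρ (sU s) * v) = ρ (sU (r + s)) * (u * v) := by
    rw [C.crd.add, mul_assoc, ← mul_assoc u, ← S.Q0_cent h2 (C.crd.mem s) hu]; group
  rw [Good, e, (X.mulz _ _ (mul_mem hu hv)).1, (X.mulz _ _ (mul_mem hu hv)).2, (X.mulz _ u hu).1,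
    (X.mulz _ u hu).2, (X.mulz _ v hv).1, (X.mulz _ v hv).2, h.1, h.2, map_add]
  exact ⟨rfl, by ring⟩

theorem good_indep {u v : G} (hu : u ∈ Q) (hv : v ∈ Q) (h : σ (A u) * A v ≠ A u * σ (A v)) :
    X.Good u v := by
  have two := X.two
  have σσ := X.uf.σσ
  have u0 : A u ≠ 0 := fun e => h (by simp [e])
  have v0 : A v ≠ 0 := fun e => h (by simp [e])
  have u1 : σ (A u) ≠ 0 := by simpa
  have v1 : σ (A v) ≠ 0 := by simpa
  have s0 : A u + A v ≠ 0 := fun e => h (by rw [show A u = A v by grind, mul_comm])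
  have s1 : σ (A u) + σ (A v) ≠ 0 := by rwa [← map_add, map_ne_zero]
  obtain ⟨c, hc⟩ := X.fix ((σ (A u) * A v + A u * σ (A v)) /
    (σ (A u) * A u * ((σ (A u) + σ (A v)) * (A u + A v)))) (by
    simp only [map_div₀, map_add, map_mul, σσ]; ring)
  have c0 : c ≠ 0 := fun e => h (by
    rw [e, map_zero, eq_comm, div_eq_zero_iff, or_iff_left (by simp [u0, s0, s1])] at hc; grind)
  have c1 : ι c ≠ 0 := by simpa
  obtain ⟨ω, hω, a1, a2⟩ := X.surj (A u * (ι c * (A u + A v) / A v)) (ι c * (A u + A v) / A v) (by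
    simp only [map_div₀, map_add, map_mul, X.σι]
    rw [eq_div_iff (by simp [u0, s0, s1])] at hc
    field_simp
    linear_combination -hc + A v * σ (A v) * two)
  obtain ⟨g, hg, x, hx, b1, b2, b3⟩ := X.good_cyc hω (by simp [a1, u0, v0, s0, c0]) (Units.mk0 c c0)
  rw [a1, a2] at b1 b2
  obtain ⟨r, rfl⟩ := X.same hu hg (mul_right_cancel₀ (by simp [v0, s0, c0]) b1).symm
  obtain ⟨s, rfl⟩ := X.same hv hx (by
    simp only [Units.val_mk0] at b2
    field_simp at b2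
    grind)
  exact X.good_shift hg hx b3 r s

theorem good {u v : G} (hu : u ∈ Q) (hv : v ∈ Q) : X.Good u v := by
  have two := X.two
  by_cases h : σ (A u) * A v ≠ A u * σ (A v)
  · exact X.good_indep hu hv h
  push Not at h
  have g1 : ∀ u ∈ Q, X.Good u 1 ∧ X.Good 1 u := fun u hu => by simp [Good, X.one]
  by_cases u0 : A u = 0
  · obtain ⟨r, rfl⟩ := X.same hu (one_mem _) (u0.trans X.one.1.symm)
    simpa [C.crd.zero] using X.good_shift (one_mem _) hv (g1 v hv).2 r 0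
  by_cases v0 : A v = 0
  · obtain ⟨r, rfl⟩ := X.same hv (one_mem _) (v0.trans X.one.1.symm)
    simpa [C.crd.zero] using X.good_shift hu (one_mem _) (g1 u hu).1 0 r
  by_cases s0 : A v = A u
  · obtain ⟨r, rfl⟩ := X.same hv (inv_mem hu) (s0.trans (X.A_inv hu).symm)
    have := X.tr u hu
    simpa [C.crd.zero] using X.good_shift hu (inv_mem hu) (by
      rw [Good, mul_inv_cancel, X.one.1, X.one.2, X.A_inv hu, X.B_inv hu]; grind) 0 r
  obtain ⟨l, hl⟩ : ∃ l, σ l ≠ l := by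
    by_contra! h; exact X.uf.ne_id (RingHom.ext h)
  obtain ⟨β, hβ⟩ : ∃ β, β + σ β = σ (l * A u) * (l * A u) := by
    have : l + σ l ≠ 0 := by grind
    refine ⟨l * (σ (l * A u) * (l * A u) / (l + σ l)), ?_⟩
    simp only [map_mul, map_div₀, map_add, X.uf.σσ, add_comm (σ l)]
    field_simp
  obtain ⟨w, hw, a1, a2⟩ := X.surj _ _ hβ
  have u1 : σ (A u) ≠ 0 := by simpa
  have v1 : σ (A v) ≠ 0 := by simpa
  have s1 : σ (A v) ≠ σ (A u) := σ.injective.ne s0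
  have b1 := X.good_indep hv hw (by rw [a1, map_mul]; grind)
  have b2 := X.good_indep hu (mul_mem hv hw) (by rw [b1.1, a1, map_add, map_mul]; grind)
  have b3 := X.good_indep (mul_mem hu (mul_mem hv hw)) (inv_mem hw) (by
    rw [b2.1, b1.1, X.A_inv hw, a1, map_add, map_add, map_mul]; grind)
  have := X.tr w hw
  rw [Good, ← mul_assoc, mul_inv_cancel_right, mul_assoc, b2.1, b2.2, b1.1, b1.2, X.A_inv hw, X.B_inv hw,
    map_add, map_add] at b3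
  exact ⟨by grind, by grind⟩

end UCo

end Cfsg.Agent.Inv
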