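import Cfsg.Agent.Inv.U3d

/-! The unitary case of the rank one set-up: identification with `PSU₃(q)`. -/

set_option autoImplicit false
set_option linter.unusedVariables false
set_option linter.unusedSectionVars false

namespace Cfsg.Agent.Inv

open Subgroup MulAction Cfsg.Agent.BG Cfsg.Agent.Lie Cfsg.Agent.Class
open scoped Pointwise commutatorElement MatrixGroups

section form
variable {E : Type} [Field E] {σ : E →+* E} {q : ℕ}

/-- the hermitian form with antidiagonal Gram matrix -/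
def aFS (h : UF σ q) : FS (FP.herm σ h.σσ) (Fin 3 → E) :=
  FS.ofHerm h.σσ h.ne_id (LinearMap.mk₂'ₛₗ σ (RingHom.id E)
    (fun x y => σ (x 0) * y 2 + σ (x 1) * y 1 + σ (x 2) * y 0)
    (fun _ _ _ => by simp; ring) (fun _ _ _ => by simp; ring) (fun _ _ _ => by simp; ring)
    (fun _ _ _ => by simp; ring)) fun x y => by simp [h.σσ]; ring

theorem aFS_B (h : UF σ q) (x y : Fin 3 → E) :
    (aFS h).B x y = σ (x 0) * y 2 + σ (x 1) * y 1 + σ (x 2) * y 0 := rfl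

theorem aFS_Q (h : UF σ q) (x : Fin 3 → E) :
    (aFS h).Q x = σ (x 0) * x 2 + σ (x 1) * x 1 + σ (x 2) * x 0 := rfl

theorem aFS_nondeg (h : UF σ q) : (aFS h).Nondeg := FS.nondeg_of_sep fun x hx => by
  have h0 := hx ![1, 0, 0]
  have h1 := hx ![0, 1, 0]
  have h2 := hx ![0, 0, 1]
  simp [aFS_B] at h0 h1 h2
  ext i; fin_cases i <;> simp [h0, h1, h2]

theorem psu_of_action {G Ω : Type*} [Group G] [MulAction G Ω] [FaithfulSMul G Ω] [Nontrivial G]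
    (h : UF σ q) (hq : 3 ≤ q) (v : Ω → Fin 3 → E) (v0 : ∀ c, v c ≠ 0)
    (vi : ∀ c d, ∀ l : E, l • v c = v d → c = d) {a : Ω} (tr : ∀ c, ∃ g : G, g • a = c)
    (vs : ∀ x, (aFS h).Q x = 0 → ∃ c, ∃ l : E, x = l • v c)
    (h1 : ∀ (l : E) c hu hc, ∃ g : G, ∀ d, ∃ m : E, (aFS h).uT (l • v a) c hu hc (v d) = m • v (g • d))
    {s : Set G} (hs : closure s = ⊤)
    (h2 : ∀ g ∈ s, ∃ φ ∈ (aFS h).SI, ∀ d, ∃ m : E, φ (v d) = m • v (g • d)) :
    Nonempty (G ≃* Cfsg.PSU 3 E q) := by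
  have m0 : ∀ (φ : (Fin 3 → E) ≃ₗ[E] (Fin 3 → E)) c d (m : E), φ (v c) = m • v d → m ≠ 0 :=
    fun φ c d m e h => v0 c (by simpa [h] using e)
  let Γ : Subgroup (G × ((Fin 3 → E) ≃ₗ[E] (Fin 3 → E))) :=
    { carrier := {p | p.2 ∈ (aFS h).SI ∧ ∀ d, ∃ m : E, p.2 (v d) = m • v (p.1 • d)}
      one_mem' := ⟨one_mem _, fun d => ⟨1, by simp⟩⟩
      mul_mem' := fun {p p'} hp hp' => ⟨mul_mem hp.1 hp'.1, fun d => by
        obtain ⟨m, e⟩ := hp'.2 d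
        obtain ⟨m', e'⟩ := hp.2 (p'.1 • d)
        exact ⟨m * m', by simp [e, e', mul_smul]⟩⟩
      inv_mem' := fun {p} hp => ⟨inv_mem hp.1, fun d => by
        obtain ⟨m, e⟩ := hp.2 (p.1⁻¹ • d)
        refine ⟨m⁻¹, p.2.injective ?_⟩
        simp [e, smul_smul, inv_mul_cancel₀ (m0 _ _ _ _ e)]⟩ }
  have a1 : ∀ g, ∃ φ, (g, φ) ∈ Γ := fun g => by
    obtain ⟨⟨_, φ⟩, hp, rfl⟩ := (show closure s ≤ Γ.map (MonoidHom.fst _ _) from (closure_le _).2 fun g hg =>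
      have ⟨φ, h⟩ := h2 g hg; ⟨(g, φ), h, rfl⟩) (hs.ge (mem_top g))
    exact ⟨φ, hp⟩
  have gen := FS.uTG_eq_SI h (aFS_nondeg h) (Or.inl hq)
  have a2 : ∀ φ : (aFS h).SI, ∃ g, (g, φ.1) ∈ Γ := fun φ => by
    obtain ⟨⟨g, _⟩, hp, e⟩ := (show (aFS h).uTG ≤ Γ.map (MonoidHom.snd _ _) from (closure_le _).2 (by
      rintro _ ⟨x, c, hx, hc, rfl⟩
      obtain ⟨d, l, rfl⟩ := vs x hx
      obtain ⟨g, rfl⟩ := tr d
      obtain ⟨ψ, hψ⟩ := a1 g
      obtain ⟨m, e⟩ := hψ.2 a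
      have e1 : ψ ((l * m⁻¹) • v a) = l • v (g • a) := by
        rw [map_smul, show ψ (v a) = _ from e, smul_smul, inv_mul_cancel_right₀ (m0 _ _ _ _ e)]
      have q1 : (aFS h).Q ((l * m⁻¹) • v a) = 0 := by rw [← FS.Isom_Q hψ.1.1, e1, hx]
      obtain ⟨z, hz⟩ := h1 _ c q1 hc
      refine ⟨_, mul_mem (mul_mem hψ (show (z, _) ∈ Γ from ⟨gen.le (FS.uT_mem _ c q1 hc), hz⟩)) (inv_mem hψ), ?_⟩
      simp only [← e1]
      exact FS.conj_uT hψ.1.1 _ c q1 hc)) (gen.ge φ.2)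
    exact ⟨g, by rwa [← e]⟩
  have a3 : ∀ g (m : E) φ, (g, φ) ∈ Γ → (∀ x, φ x = m • x) → g = 1 := fun g m φ hp e =>
    eq_of_smul_eq_smul (α := Ω) fun d => by
      obtain ⟨m', e'⟩ := hp.2 d
      rw [one_smul]
      exact (vi _ _ (m'⁻¹ * m) (by
        rw [mul_smul, ← e, show φ (v d) = _ from e', smul_smul, inv_mul_cancel₀ (m0 _ _ _ _ e'), one_smul])).symm
  have a4 : ∀ g g' φ, (g, φ) ∈ Γ → (g', φ) ∈ Γ → g = g' := fun g g' φ hp hp' =>
    mul_inv_eq_one.1 (a3 _ 1 _ (mul_mem hp (inv_mem hp')) (by simp))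
  choose π hπ using a2
  let π' : (aFS h).SI →* G := MonoidHom.mk' π fun φ ψ => a4 _ _ _ (hπ _) (mul_mem (hπ φ) (hπ ψ))
  let π'' := QuotientGroup.lift (center _) π' fun z hz =>
    have ⟨c, hc⟩ := (FS.herm_mem_center h (aFS_nondeg h) (by simp) FS.EO_le_SI FS.SI_le).1 hz
    a3 _ c _ (hπ z) fun x => by rw [hc]; rfl
  have sj : Function.Surjective π'' := fun g =>
    have ⟨φ, hφ⟩ := a1 g
    ⟨(⟨φ, hφ.1⟩ : (aFS h).SI), a4 _ _ _ (hπ _) hφ⟩
  have := FS.herm_simple h (aFS_nondeg h) (by simp) (Or.inl hq)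
  have ij : Function.Injective π'' := (MonoidHom.ker_eq_bot_iff _).1
    ((π''.normal_ker.eq_bot_or_eq_top).resolve_right fun e => by
      obtain ⟨g, hg⟩ := exists_ne (1 : G)
      obtain ⟨x, rfl⟩ := sj g
      exact hg (e.ge (mem_top x)))
  have := h.finite
  obtain ⟨e, he⟩ := FS.herm_isIso h (uFS_nondeg h (n := 3)) (aFS_nondeg h) rfl
  exact ⟨(MulEquiv.ofBijective π'' ⟨ij, sj⟩).symm.trans
    (quotCenterCongr (he.siEquiv.trans (suEquiv h 3).symm))⟩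

end form

variable {G Ω : Type*} [Group G] [MulAction G Ω] [Finite G]
variable {a : Ω} {t : G} {Q : Subgroup G}

local notation "𝓗" => stabilizer G a
local notation "𝓓" => St2 G a (t • a)

theorem UCo.psu {S : R1 G Ω a t Q} {h2 : Four G} {F : Type} [Field F] {ρ : SL(2, F) →* G}
    {C : SLc S h2 ρ} {E : Type} [Field E] {ι : F →+* E} {σ : E →+* E} {A B : G → E}
    (X : UCo C ι σ A B) [FaithfulSMul G Ω] [IsSimpleGroup G] :
    Nonempty (G ≃* Cfsg.PSU 3 E (Nat.card F)) := by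
  classical
  have two := X.two
  have : CharP E 2 := CharTwo.of_one_ne_zero_of_two_eq_zero one_ne_zero two
  choose! U hU e using fun c (h : c ≠ a) => S.trans0 h
  let v : Ω → Fin 3 → E := fun c => if c = a then ![1, 0, 0] else ![B (U c), A (U c), 1]
  have va : v a = ![1, 0, 0] := if_pos rfl
  have vu : ∀ u ∈ Q, v (u • t • a) = ![B u, A u, 1] := fun u hu => by
    have h := S.smul_ne (S.fix hu) S.ne
    rw [← S.inj (hU _ h) hu S.ne (e _ h), e _ h]; exact if_neg h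
  have cs : ∀ c, c = a ∨ ∃ u ∈ Q, c = u • t • a := fun c => (em _).imp id fun h => ⟨_, hU c h, (e c h).symm⟩
  have rQ : ∀ u ∈ Q, ∀ φ : (Fin 3 → E) → Fin 3 → E, (∀ x, φ x = ![x 0 + σ (A u) * x 1 + B u * x 2,
      x 1 + A u * x 2, x 2]) → ∀ d, ∃ m : E, φ (v d) = m • v (u • d) := fun u hu φ h d => ⟨1, by
    rcases cs d with rfl | ⟨w, hw, rfl⟩
    · rw [S.fix hu, h, va]; simp
    · rw [← mul_smul u, h, vu _ hw, vu _ (mul_mem hu hw), (X.good hu hw).1, (X.good hu hw).2]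
      simp [add_comm, add_left_comm, add_assoc]⟩
  refine psu_of_action X.uf (C.crd.card ▸ (Nat.le_succ 3).trans (S.four_le h2)) v (fun c h => ?_)
    (fun c d l h => ?_) S.tr1 (fun x hx => ?_) (fun l c hu hc => ?_) (s := Q ∪ {t}) ?_ ?_
  · rcases cs c with rfl | ⟨w, hw, rfl⟩
    · simpa [va] using congrFun h 0
    · simpa [vu _ hw] using congrFun h 2
  · have h0 := congrFun h 0
    have h1 := congrFun h 1
    have h2 := congrFun h 2
    rcases cs c with rfl | ⟨w, hw, rfl⟩ <;> rcases cs d with rfl | ⟨w', hw', rfl⟩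
    · rfl
    · simp [va, vu _ hw'] at h2
    · simp [va, vu _ hw] at h0 h2; simp [h2] at h0
    · simp [vu _ hw, vu _ hw'] at h0 h1 h2
      simp [h2] at h0 h1
      rw [X.inj _ hw _ hw' h1 h0]
  · rw [aFS_Q] at hx
    by_cases x2 : x 2 = 0
    · refine ⟨a, x 0, ?_⟩
      simp [x2] at hx
      ext i; fin_cases i <;> simp [va, x2, hx]
    have : σ (x 2) ≠ 0 := by simpa
    obtain ⟨u, hu, e1, e2⟩ := X.surj (x 1 / x 2) (x 0 / x 2) (by
      rw [map_div₀, map_div₀]; field_simp; linear_combination hx - σ (x 1) * x 1 * two)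
    refine ⟨u • t • a, x 2, ?_⟩
    ext i; fin_cases i <;> simp [vu _ hu, e1, e2, mul_div_cancel₀ _ x2]
  · obtain ⟨u, hu, e1, e2⟩ := X.surj 0 (σ l * l * c) (by
      simp only [map_mul, X.uf.σσ]; linear_combination σ l * l * hc)
    refine ⟨u, rQ u hu _ fun x => ?_⟩
    ext i; fin_cases i <;> simp [FS.uT_apply, aFS_B, va, e1, e2]
    ring
  · rw [eq_top_iff, ← S.gen h2 le_rfl (S.normK' h2)]
    have q1 : Q ≤ closure ((Q : Set G) ∪ {t}) := fun u hu => subset_closure (Or.inl hu)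
    have t1 : t ∈ closure ((Q : Set G) ∪ {t}) := subset_closure (Or.inr rfl)
    exact sup_le (sup_le q1 fun k hk => (C.kS k hk).elim fun κ e =>
      e ▸ C.ind ((S.Q0_le h2).trans q1) t1 _) (zpowers_le.2 t1)
  rintro u (hu | rfl)
  · refine ⟨(aFS X.uf).eich ![1, 0, 0] ![0, A u, 0] (σ (B u)) (by simp [aFS_Q]) (by simp [aFS_B]) (by
      simp [aFS_Q, X.uf.σσ, ← X.tr u hu, add_comm]), ⟨FS.eich_mem _ _ _ _ _ _ _, FS.det_eich _ _ _ _⟩,
      rQ u hu _ fun x => ?_⟩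
    ext i; fin_cases i <;>
      simp [FS.eich_apply, aFS_B, X.uf.σσ, CharTwo.sub_eq_add, mul_comm, Matrix.vecHead, Matrix.vecTail]
  have c1 : (1 : E) + σ 1 = 0 := by rw [map_one, CharTwo.add_self_eq_zero]
  have q1 : (aFS X.uf).Q ![1, 0, 0] = 0 := by simp [aFS_Q]
  have q2 : (aFS X.uf).Q ![0, 0, 1] = 0 := by simp [aFS_Q]
  have m1 := FS.EO_le_SI (FS.uT_mem_EO _ 1 q1 c1)
  refine ⟨_, mul_mem (mul_mem m1 (FS.EO_le_SI (FS.uT_mem_EO _ 1 q2 c1))) m1, fun d => ?_⟩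
  have sw : ∀ x, ((aFS X.uf).uT _ 1 q1 c1 * (aFS X.uf).uT _ 1 q2 c1 * (aFS X.uf).uT _ 1 q1 c1) x =
      ![x 2, x 1, x 0] := fun x => by
    have a1 : ∀ x, (aFS X.uf).uT _ 1 q1 c1 x = ![x 0 + x 2, x 1, x 2] := fun x => by
      ext i; fin_cases i <;> simp [FS.uT_apply, aFS_B]
    have a2 : ∀ x, (aFS X.uf).uT _ 1 q2 c1 x = ![x 0, x 1, x 2 + x 0] := fun x => by
      ext i; fin_cases i <;> simp [FS.uT_apply, aFS_B]
    ext i; fin_cases i <;> simp [a1, a2] <;> grind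
  have vb := vu 1 (one_mem _)
  rw [one_smul, X.one.1, X.one.2] at vb
  rw [sw]
  rcases cs d with rfl | ⟨w, hw, rfl⟩
  · exact ⟨1, by simp [va, vb]⟩
  rcases cs (u • w • u • a) with h | ⟨w', hw', h⟩
  · rw [h, S.free hw S.ne (by rw [smul_eq_iff_inv.1 h |>.symm, S.tinv]), one_smul]
    exact ⟨1, by simp [va, vb]⟩
  · obtain ⟨e1, e2⟩ := X.tact _ hw _ hw' h
    exact ⟨B w, by simp [h, vu _ hw, vu _ hw', mul_comm (B w), e1, e2]⟩

theorem R1.psu_c (S : R1 G Ω a t Q) (h2 : Four G) [FaithfulSMul G Ω] [IsSimpleGroup G]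
    (hQ : IsPGroup 2 Q) (hn : ¬ IsMulCommutative Q) (hq : #Q = #(S.Q0 h2) ^ 3)
    (hr : ∀ s ∈ Q, ∀ r ∈ Q, t * s * t = r⁻¹ * t * r → r = s)
    (hw : ∃ w ∈ 𝓓, (∀ z ∈ Q, z * z = 1 → w * z = z * w) ∧ ∃ u ∈ Q, w * u ≠ u * w) :
    ∃ (F : Type) (_ : Field F) (_ : Fintype F) (n : ℕ), 2 ≤ n ∧ Fintype.card F = (2 ^ n) ^ 2 ∧
      Nonempty (G ≃* Cfsg.PSU 3 F (2 ^ n)) := by
  obtain ⟨s, hs, r, r1, e⟩ := S.struct'
  obtain rfl := hr s hs r r1 e
  obtain ⟨F, _, _, ρ, C⟩ := S.exists_SLc h2 hs e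
  obtain ⟨w, w1, w2, u, -, w3⟩ := hw
  obtain ⟨E, _, ι, σ, A, B, X⟩ := C.exists_UCo hq (ne_bot_of_mem (x := w)
    ⟨w1, fun z hz => (w2 z (S.Q0_le h2 hz) hz.2).symm⟩ fun e => w3 (by simp [e])) fun u => S.suz_sq h2 hQ hn
  obtain ⟨n, n2, hn⟩ := S.card_Q0 h2
  have := X.uf.finite
  have := Fintype.ofFinite E
  rw [C.crd.card] at hn
  exact ⟨E, inferInstance, inferInstance, n, n2, by rw [← Nat.card_eq_fintype_card, X.uf.card, hn],
    hn ▸ X.psu⟩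

end Cfsg.Agent.Inv
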