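import Cfsg.Prelude.Def_LieExceptional
import Cfsg.Agent.Inv.Small
import Cfsg.Agent.Core.Quaternion
import Cfsg.Agent.Char.TI
import Cfsg.Agent.Char.Burnside

/-! Doubly transitive groups in which only the identity fixes three points: basics. -/

set_option autoImplicit false
set_option linter.unusedVariables false
set_option linter.unusedSectionVars false

namespace Cfsg.Agent.Inv

open Subgroup MulAction Cfsg.Agent.PLoc

variable {G Ω : Type*} [Group G] [MulAction G Ω]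

/-- doubly transitive, and only the identity fixes three points -/
structure Z0 (G Ω : Type*) [Group G] [MulAction G Ω] : Prop where
  tr2 : ∀ {a b c d : Ω}, a ≠ b → c ≠ d → ∃ g : G, g • a = c ∧ g • b = d
  fix3 : ∀ (g : G) {a b c : Ω}, a ≠ b → b ≠ c → a ≠ c → g • a = a → g • b = b → g • c = c → g = 1
  three : ∀ a b : Ω, ∃ c, c ≠ a ∧ c ≠ b

/-- two-point stabilizer -/
abbrev St2 (G : Type*) {Ω : Type*} [Group G] [MulAction G Ω] (a b : Ω) : Subgroup G :=
  stabilizer G a ⊓ stabilizer G b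

/-- the Frobenius kernel of a point stabilizer -/
def zk (G : Type*) {Ω : Type*} [Group G] [MulAction G Ω] (a : Ω) : Subgroup G :=
  closure {g : G | g • a = a ∧ ∀ c, g • c = c → c = a}

theorem mem_St2 {a b : Ω} {g : G} : g ∈ St2 G a b ↔ g • a = a ∧ g • b = b := Iff.rfl

theorem St2_comm (a b : Ω) : St2 G a b = St2 G b a := inf_comm _ _

theorem smul_eq_iff_inv {g : G} {a b : Ω} : g • a = b ↔ g⁻¹ • b = a := by
  rw [inv_smul_eq_iff, eq_comm]

theorem conj_smul_eq_iff {g x : G} {a b : Ω} : (g * x * g⁻¹) • g • a = g • b ↔ x • a = b := by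
  simp [mul_smul]

theorem conj_smul_fix {g x : G} {a : Ω} : (g * x * g⁻¹) • a = a ↔ x • g⁻¹ • a = g⁻¹ • a := by
  rw [mul_smul, mul_smul, smul_eq_iff_inv]
  exact eq_comm

theorem cj_St2 (g : G) (a b : Ω) : cj g (St2 G a b) = St2 G (g • a) (g • b) := by
  ext x
  simp [mem_cj, mul_smul, inv_smul_eq_iff]

theorem cj_stab (g : G) (a : Ω) : cj g (stabilizer G a) = stabilizer G (g • a) := by
  ext x
  simp [mem_cj, mul_smul, inv_smul_eq_iff]

theorem tr2_of_mp (h : IsMultiplyPretransitive G Ω 2) {a b c d : Ω} (hab : a ≠ b) (hcd : c ≠ d) :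
    ∃ g : G, g • a = c ∧ g • b = d := is_two_pretransitive_iff.1 h hab hcd

theorem z0_of (hf : FaithfulSMul G Ω) (h2 : IsMultiplyPretransitive G Ω 2)
    (h3 : ∀ g : G, ∀ a b c : Ω, a ≠ b → b ≠ c → a ≠ c → g • a = a → g • b = b → g • c = c → g = 1)
    (h4 : ∃ g : G, g ≠ 1 ∧ ∃ a b : Ω, a ≠ b ∧ g • a = a ∧ g • b = b) : Z0 G Ω := by
  refine ⟨tr2_of_mp h2, fun g a b c => h3 g a b c, fun a b => ?_⟩
  obtain ⟨g, hg, c, d, hcd, hc, hd⟩ := h4
  by_contra h
  push Not at h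
  refine hg (eq_of_smul_eq_smul (α := Ω) fun x => ?_)
  rw [one_smul]
  by_cases h1 : x = c
  · rw [h1, hc]
  by_cases h2 : x = d
  · rw [h2, hd]
  exfalso
  by_cases e1 : x = a
  · exact hcd ((h c (e1 ▸ Ne.symm h1)).trans (h d (e1 ▸ Ne.symm h2)).symm)
  by_cases e2 : c = a
  · exact h2 ((h x e1).trans (h d (e2 ▸ hcd.symm)).symm)
  · exact h1 ((h x e1).trans (h c e2).symm)

theorem _root_.Cfsg.IsZassenhausGroup.z0 (h : IsZassenhausGroup G Ω) : Z0 G Ω :=
  z0_of h.1 h.2.1 h.2.2.1 h.2.2.2.1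

theorem finite_of_faithful [Finite Ω] (h : FaithfulSMul G Ω) : Finite G :=
  Finite.of_injective (toPermHom G Ω) toPerm_injective

namespace Z0

variable (Z : Z0 G Ω)
include Z

theorem exists_ne (a : Ω) : ∃ b, b ≠ a := (Z.three a a).imp fun _ h => h.1

theorem tr1 (a b : Ω) : ∃ g : G, g • a = b := by
  obtain ⟨c, hc⟩ := Z.exists_ne a
  obtain ⟨d, hd⟩ := Z.exists_ne b
  exact (Z.tr2 hc.symm hd.symm).imp fun _ h => h.1

theorem eq_one_of_St2 {a b c : Ω} (hab : a ≠ b) (hca : c ≠ a) (hcb : c ≠ b) {g : G}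
    (hg : g ∈ St2 G a b) (hc : g • c = c) : g = 1 :=
  Z.fix3 g hab hcb.symm hca.symm hg.1 hg.2 hc

theorem fix_cases {a b c : Ω} (hab : a ≠ b) {g : G} (hg : g ∈ St2 G a b) (hg1 : g ≠ 1)
    (hc : g • c = c) : c = a ∨ c = b := by
  by_contra h
  push Not at h
  exact hg1 (Z.eq_one_of_St2 hab h.1 h.2 hg hc)

theorem eq_of_three {a b c : Ω} (hab : a ≠ b) (hca : c ≠ a) (hcb : c ≠ b) {g h : G}
    (h1 : g • a = h • a) (h2 : g • b = h • b) (h3 : g • c = h • c) : g = h := by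
  rw [← inv_mul_eq_one, eq_comm, eq_comm]
  refine Z.fix3 _ hab hcb.symm hca.symm ?_ ?_ ?_ <;> simp [mul_smul, inv_smul_eq_iff, *]

theorem faithful (a : Ω) {g : G} (h : ∀ x : Ω, g • x = x) : g = 1 := by
  obtain ⟨b, hb⟩ := Z.exists_ne a
  obtain ⟨c, h1, h2⟩ := Z.three a b
  exact Z.eq_one_of_St2 hb.symm h1 h2 ⟨h a, h b⟩ (h c)

theorem cj_St2_eq {a b c d : Ω} (hab : a ≠ b) (hcd : c ≠ d) :
    ∃ g : G, g • a = c ∧ g • b = d ∧ cj g (St2 G a b) = St2 G c d := by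
  obtain ⟨g, h1, h2⟩ := Z.tr2 hab hcd
  exact ⟨g, h1, h2, by rw [cj_St2, h1, h2]⟩

theorem card_St2_eq {a b c d : Ω} (hab : a ≠ b) (hcd : c ≠ d) :
    Nat.card (St2 G a b) = Nat.card (St2 G c d) := by
  obtain ⟨g, -, -, h⟩ := Z.cj_St2_eq hab hcd
  rw [← h, card_cj]

/-- an element normalizing a nontrivial element's fixed points -/
theorem swap_or_fix {a b : Ω} (hab : a ≠ b) {x g : G} (hx : x ∈ St2 G a b) (hx1 : x ≠ 1)
    (h : g * x * g⁻¹ ∈ St2 G a b) : g ∈ St2 G a b ∨ (g • a = b ∧ g • b = a) := by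
  have h1 := Z.fix_cases hab h (by simpa using hx1) (conj_smul_eq_iff.2 hx.1)
  have h2 := Z.fix_cases hab h (by simpa using hx1) (conj_smul_eq_iff.2 hx.2)
  have h3 : g • a ≠ g • b := fun e => hab (smul_left_cancel g e)
  rw [mem_St2]
  grind

variable [Finite G]

theorem exists_ker (a : Ω) : ∃ K : Subgroup G,
    (∀ g, g ∈ K ↔ g • a = a ∧ (g = 1 ∨ ∀ c, g • c = c → c = a)) ∧
      ∀ b, b ≠ a → ∀ g ∈ stabilizer G a, ∃ u ∈ K, ∃ h ∈ St2 G a b, g = u * h := by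
  obtain ⟨b, hb⟩ := Z.exists_ne a
  obtain ⟨N, hN, h1, h2⟩ := Char.frobenius_kernel ((St2 G a b).subgroupOf (stabilizer G a))
    (fun g hg h hh hgh => by
      by_contra hc
      rcases Z.swap_or_fix hb.symm hh (fun e => hc (Subtype.ext e)) hgh with e | e
      · exact hg e
      · exact hb (e.1.symm.trans g.2))
  have key : ∀ g, g ∈ N.map (stabilizer G a).subtype ↔
      g • a = a ∧ (g = 1 ∨ ∀ c, g • c = c → c = a) := by
    intro g
    constructor
    · rintro ⟨g, hg, rfl⟩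
      refine ⟨g.2, ((h1 g).1 hg).imp (fun e => by simp [e]) fun e c hc => ?_⟩
      by_contra hca
      obtain ⟨k, k1, k2⟩ := Z.tr2 (Ne.symm hca) hb.symm
      refine e ⟨k, k1⟩ ⟨?_, ?_⟩
      · have := conj_smul_eq_iff (g := k).2 g.2
        rwa [k1] at this
      · have := conj_smul_eq_iff (g := k).2 hc
        rwa [k2] at this
    · rintro ⟨h3, h4⟩
      refine ⟨⟨g, h3⟩, (h1 _).2 (h4.imp (fun e => Subtype.ext e) fun e k hk => ?_), rfl⟩
      have := e _ (conj_smul_fix.1 hk.2)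
      rw [← smul_eq_iff_inv] at this
      exact hb (this.symm.trans k.2)
  refine ⟨_, key, fun c hc g hg => ?_⟩
  obtain ⟨k, k1, k2⟩ := Z.tr2 hb.symm hc.symm
  have hk : k⁻¹ * g * k ∈ stabilizer G a :=
    mul_mem (mul_mem (inv_mem (show k ∈ stabilizer G a from k1)) hg) k1
  obtain ⟨⟨⟨u, hu⟩, ⟨h, hh⟩⟩, e⟩ := h2.2 ⟨_, hk⟩
  refine ⟨k * u * k⁻¹, ⟨⟨k, k1⟩ * u * ⟨k, k1⟩⁻¹, hN.conj_mem _ hu _, rfl⟩, k * h * k⁻¹, ?_, ?_⟩
  · have := conj_mem_cj (g := k).2 (show (h : G) ∈ St2 G a b from hh)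
    rwa [cj_St2, k1, k2] at this
  · have : (u : G) * h = k⁻¹ * g * k := congrArg Subtype.val e
    calc g = k * (k⁻¹ * g * k) * k⁻¹ := by group
      _ = _ := by rw [← this]; group

theorem mem_zk {a : Ω} {g : G} : g ∈ zk G a ↔ g • a = a ∧ (g = 1 ∨ ∀ c, g • c = c → c = a) := by
  obtain ⟨K, h, -⟩ := Z.exists_ker a
  refine ⟨fun hg => (h g).1 ((closure_le K).2 (fun x hx => (h x).2 ⟨hx.1, Or.inr hx.2⟩) hg), ?_⟩
  rintro ⟨h1, rfl | h2⟩
  exacts [one_mem _, subset_closure ⟨h1, h2⟩]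

theorem exists_mul {a b : Ω} (hab : a ≠ b) {g : G} (hg : g • a = a) :
    ∃ u ∈ zk G a, ∃ h ∈ St2 G a b, g = u * h := by
  obtain ⟨K, h, h'⟩ := Z.exists_ker a
  obtain ⟨u, hu, e⟩ := h' b hab.symm g hg
  exact ⟨u, Z.mem_zk.2 ((h u).1 hu), e⟩

theorem zk_fix {a : Ω} {u : G} (hu : u ∈ zk G a) : u • a = a := (Z.mem_zk.1 hu).1

theorem zk_le (a : Ω) : zk G a ≤ stabilizer G a := fun _ hu => Z.zk_fix hu

theorem zk_free {a c : Ω} {u : G} (hu : u ∈ zk G a) (hc : c ≠ a) (h : u • c = c) : u = 1 :=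
  (Z.mem_zk.1 hu).2.resolve_right fun e => hc (e c h)

theorem zk_inj {a c : Ω} {u v : G} (hu : u ∈ zk G a) (hv : v ∈ zk G a) (hc : c ≠ a)
    (h : u • c = v • c) : u = v := by
  rw [← inv_mul_eq_one]
  exact Z.zk_free (mul_mem (inv_mem hu) hv) hc (by rw [mul_smul, ← h, inv_smul_smul])

theorem zk_trans {a b c : Ω} (hb : b ≠ a) (hc : c ≠ a) : ∃ u ∈ zk G a, u • b = c := by
  obtain ⟨g, h1, h2⟩ := Z.tr2 hb.symm hc.symm
  obtain ⟨u, hu, h, hh, rfl⟩ := Z.exists_mul hb.symm h1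
  exact ⟨u, hu, by rw [← h2, mul_smul, hh.2]⟩

theorem zk_smul_ne {a c : Ω} {u : G} (hu : u ∈ zk G a) (hc : c ≠ a) : u • c ≠ a := fun e =>
  hc (smul_left_cancel u (e.trans (Z.zk_fix hu).symm))

theorem cj_zk (g : G) (a : Ω) : cj g (zk G a) = zk G (g • a) := by
  ext x
  rw [mem_cj, Z.mem_zk, Z.mem_zk]
  refine and_congr (by simp [mul_smul, inv_smul_eq_iff]) (or_congr Core.inv_mul_mul_eq_one_iff ⟨fun h c hc => ?_,
    fun h c hc => ?_⟩)
  · rw [← h (g⁻¹ • c) (by simp [mul_smul, hc]), smul_inv_smul]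
  · exact smul_left_cancel g (h _ (by simpa [mul_smul, inv_smul_eq_iff] using hc))

theorem conj_mem_zk {a : Ω} {g u : G} (hu : u ∈ zk G a) : g * u * g⁻¹ ∈ zk G (g • a) := by
  rw [← Z.cj_zk, conj_mem_cj]; exact hu

theorem conj_mem_zk' {a : Ω} {g u : G} (hg : g • a = a) (hu : u ∈ zk G a) :
    g * u * g⁻¹ ∈ zk G a := by
  have := Z.conj_mem_zk (g := g) hu
  rwa [hg] at this

theorem stab_le_norm (a : Ω) : stabilizer G a ≤ normalizer (zk G a : Set G) := fun g hg =>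
  cj_eq_self_iff.1 (by rw [Z.cj_zk, hg])

theorem St2_le_norm (a b : Ω) : St2 G a b ≤ normalizer (zk G a : Set G) :=
  inf_le_left.trans (Z.stab_le_norm a)

theorem eq_of_mem_zk {a b : Ω} {u : G} (hu1 : u ≠ 1) (ha : u ∈ zk G a) (hb : u • b = b) : b = a := by
  by_contra h
  exact hu1 (Z.zk_free ha h hb)

theorem fix_of_conj_mem {a : Ω} {g u : G} (hu : u ∈ zk G a) (hu1 : u ≠ 1)
    (h : (g * u * g⁻¹) • a = a) : g • a = a :=
  (Z.eq_of_mem_zk (by simpa using hu1) (Z.conj_mem_zk (g := g) hu) h).symm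

theorem fix_of_comm {a : Ω} {g u : G} (hu : u ∈ zk G a) (hu1 : u ≠ 1) (h : g * u = u * g) :
    g • a = a := Z.fix_of_conj_mem hu hu1 (by rw [h, mul_inv_cancel_right]; exact Z.zk_fix hu)

theorem mem_zk_of_comm {a : Ω} {g u : G} (hu : u ∈ zk G a) (hu1 : u ≠ 1) (h : g * u = u * g) :
    g ∈ zk G a := by
  have h1 := Z.fix_of_comm hu hu1 h
  refine Z.mem_zk.2 ⟨h1, or_iff_not_imp_right.2 fun hc => ?_⟩
  push Not at hc
  obtain ⟨c, hc, hca⟩ := hc
  refine Z.eq_one_of_St2 (c := u • c) hca.symm (Z.zk_smul_ne hu hca)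
    (fun e => hu1 (Z.zk_free hu hca e)) ⟨h1, hc⟩ ?_
  rw [← mul_smul, h, mul_smul, hc]

theorem eq_one_of_mem_zk_St2 {a b : Ω} (hab : a ≠ b) {u : G} (hu : u ∈ zk G a)
    (h : u ∈ St2 G a b) : u = 1 := Z.zk_free hu hab.symm h.2

theorem fpf {a b : Ω} (hab : a ≠ b) : ∀ h ∈ St2 G a b, h ≠ 1 → zk G a ⊓ centralizer {h} = ⊥ := by
  intro h hh h1
  refine (eq_bot_iff_forall _).2 fun u hu => ?_
  by_contra hu1
  exact h1 (Z.eq_one_of_mem_zk_St2 hab (Z.mem_zk_of_comm hu.1 hu1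
    (mem_centralizer_singleton_iff.1 hu.2).symm) hh)

theorem card_zk (a : Ω) : Nat.card (zk G a) + 1 = Nat.card Ω := by
  classical
  obtain ⟨b, hb⟩ := Z.exists_ne a
  rw [← Nat.card_congr (Equiv.optionSubtypeNe a), ← Finite.card_option]
  refine Nat.card_congr (Equiv.optionCongr (Equiv.ofBijective
    (fun u => ⟨u.1 • b, Z.zk_smul_ne u.2 hb⟩)
    ⟨fun u v e => Subtype.ext (Z.zk_inj u.2 v.2 hb (congrArg Subtype.val e)), fun c => ?_⟩))
  obtain ⟨u, hu, e⟩ := Z.zk_trans hb c.2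
  exact ⟨⟨u, hu⟩, Subtype.ext e⟩

theorem two_le_card_zk (a : Ω) : 2 ≤ Nat.card (zk G a) := by
  obtain ⟨b, hb⟩ := Z.exists_ne a
  obtain ⟨c, h1, h2⟩ := Z.three a b
  obtain ⟨u, hu, e⟩ := Z.zk_trans hb h1
  exact (one_lt_card_iff_ne_bot _).2 fun h => h2 (by
    rw [h, mem_bot] at hu; rw [← e, hu, one_smul])

theorem zk_ne_bot (a : Ω) : zk G a ≠ ⊥ := (one_lt_card_iff_ne_bot _).1 (Z.two_le_card_zk a)

theorem zk_sup {a b : Ω} (hab : a ≠ b) : St2 G a b ⊔ zk G a = stabilizer G a := by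
  refine le_antisymm (sup_le inf_le_left (Z.zk_le a)) fun g hg => ?_
  obtain ⟨u, hu, h, hh, rfl⟩ := Z.exists_mul hab hg
  exact mul_mem (mem_sup_right hu) (mem_sup_left hh)

theorem card_stab {a b : Ω} (hab : a ≠ b) :
    Nat.card (stabilizer G a) = Nat.card (St2 G a b) * Nat.card (zk G a) := by
  rw [← Z.zk_sup hab, card_sup_of_disjoint (Z.St2_le_norm a b)
    ((eq_bot_iff_forall _).2 fun u hu => Z.eq_one_of_mem_zk_St2 hab hu.2 hu.1)]

theorem index_stab (a : Ω) : (stabilizer G a).index = Nat.card (zk G a) + 1 := by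
  have : IsPretransitive G Ω := ⟨Z.tr1⟩
  rw [Z.card_zk, index_stabilizer_of_transitive]

theorem card_eq {a b : Ω} (hab : a ≠ b) :
    Nat.card G = Nat.card (St2 G a b) * Nat.card (zk G a) * (Nat.card (zk G a) + 1) := by
  rw [← Z.card_stab hab, ← Z.index_stab, card_mul_index]

theorem dvd_of_inv {a b : Ω} (hab : a ≠ b) {K : Subgroup G} (hK : K ≤ zk G a)
    (h : ∀ g ∈ St2 G a b, ∀ u ∈ K, g * u * g⁻¹ ∈ K) : Nat.card (St2 G a b) ∣ Nat.card K - 1 := by
  have := Core.card_dvd_of_free_conj (St2 G a b) ((K : Set G) \ {1})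
    (fun g hg u hu => ⟨h g hg u hu.1, by simpa using hu.2⟩) fun g hg u hu e => by
      by_contra h1
      have : u ∈ zk G a ⊓ centralizer {g} := ⟨hK hu.1, mem_centralizer_singleton_iff.2 (by
        rw [← mul_inv_eq_iff_eq_mul.1 e])⟩
      rw [Z.fpf hab g hg h1] at this
      exact hu.2 this
  rwa [Set.ncard_diff_singleton_of_mem (one_mem K), ← Nat.card_coe_set_eq] at this

theorem card_dvd {a b : Ω} (hab : a ≠ b) : Nat.card (St2 G a b) ∣ Nat.card (zk G a) - 1 :=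
  Z.dvd_of_inv hab le_rfl fun g hg u hu => Z.conj_mem_zk' hg.1 hu

theorem coprime {a b : Ω} (hab : a ≠ b) : (Nat.card (St2 G a b)).Coprime (Nat.card (zk G a)) :=
  Core.coprime_of_fpf (Z.St2_le_norm a b) (Z.fpf hab)

theorem eq_zk_of_card {a : Ω} {H : Subgroup G} (h1 : H ≤ stabilizer G a)
    (h2 : Nat.card H + 1 = Nat.card Ω) (h3 : ∀ u ∈ H, u ≠ 1 → ∀ c : Ω, u • c = c → c = a) :
    H = zk G a :=
  eq_of_le_of_card_ge (fun u hu => Z.mem_zk.2 ⟨h1 hu, or_iff_not_imp_left.2 (h3 u hu)⟩)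
    (by have := Z.card_zk a; omega)

theorem eq_zk_of_reg {a : Ω} {H : Subgroup G} (h1 : H ≤ stabilizer G a)
    (h2 : ∀ y z : Ω, y ≠ a → z ≠ a → ∃! u : H, (u : G) • y = z) : H = zk G a := by
  have h3 : H ≤ zk G a := fun u hu => Z.mem_zk.2 ⟨h1 hu, or_iff_not_imp_right.2 fun h => by
    push Not at h
    obtain ⟨c, hc, hca⟩ := h
    exact congrArg Subtype.val ((h2 c c hca hca).unique (y₁ := ⟨u, hu⟩) (y₂ := 1) hc (by simp))⟩
  refine le_antisymm h3 fun u hu => ?_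
  obtain ⟨b, hb⟩ := Z.exists_ne a
  obtain ⟨v, hv, -⟩ := h2 b (u • b) hb (Z.zk_smul_ne hu hb)
  rw [← Z.zk_inj (h3 v.2) hu hb hv]; exact v.2

theorem mem_zk_of_coprime {a b : Ω} (hab : a ≠ b) {g : G} (hg : g • a = a)
    (h : (orderOf g).Coprime (Nat.card (St2 G a b))) : g ∈ zk G a := by
  refine Z.mem_zk.2 ⟨hg, or_iff_not_imp_right.2 fun hc => ?_⟩
  push Not at hc
  obtain ⟨c, hc, hca⟩ := hc
  rw [Z.card_St2_eq hab hca.symm] at h
  exact orderOf_eq_one_iff.1 (h.eq_one_of_dvd (orderOf_dvd_card_of_mem (H := St2 G a c) ⟨hg, hc⟩))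

/-! ### involutions -/

theorem inv_of_invol {a b : Ω} (hab : a ≠ b) {z : G} (hz : z ∈ St2 G a b) (h2 : orderOf z = 2) :
    (∀ u ∈ zk G a, z * u * z⁻¹ = u⁻¹) ∧ IsMulCommutative (zk G a) :=
  Core.inv_of_fpf_involution (Z.St2_le_norm a b hz) (sq_of_ord2 h2)
    (Z.fpf hab z hz (ne_one_of_ord2 h2))

theorem invol_unique {a b : Ω} (hab : a ≠ b) {z w : G} (hz : z ∈ St2 G a b) (h2 : orderOf z = 2)
    (hw : w ∈ St2 G a b) (h3 : orderOf w = 2) : z = w :=
  Core.fpf_unique_involution (Z.St2_le_norm a b) (Z.zk_ne_bot a) (Z.fpf hab) hw hz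
    (ne_one_of_ord2 h3) (ne_one_of_ord2 h2) (sq_of_ord2 h3) (sq_of_ord2 h2)

theorem exists_swap_fix {a b c : Ω} (hab : a ≠ b) (he : Even (Nat.card (St2 G a b))) (hca : c ≠ a)
    (hcb : c ≠ b) : ∃ s : G, orderOf s = 2 ∧ s • a = b ∧ s • b = a ∧ s • c = c := by
  rw [Z.card_St2_eq hab hca] at he
  obtain ⟨z, hz, h2⟩ := exists_involution_mem he
  obtain ⟨u, hu, e⟩ := Z.zk_trans hca.symm hcb.symm
  have h1 : u * z * (u * z) = 1 := by
    have := (Z.inv_of_invol hca hz h2).1 u hu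
    rw [inv_of_ord2 h2] at this
    rw [show u * z * (u * z) = u * (z * u * z) by group, this, mul_inv_cancel]
  have h3 : (u * z) • a = b := by rw [mul_smul, hz.2, e]
  refine ⟨u * z, ord2_iff.2 ⟨h1, fun e => hab (by rw [← h3, e, one_smul])⟩, h3, ?_, ?_⟩
  · rw [← h3, ← mul_smul, h1, one_smul]
  · rw [mul_smul, hz.1, Z.zk_fix hu]

omit Z [Finite G] in
theorem swap_conj {a b : Ω} {s h : G} (h1 : s • a = b) (h2 : s • b = a) (hh : h ∈ St2 G a b) :
    s * h * s⁻¹ ∈ St2 G a b := by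
  have := conj_mem_cj (g := s).2 hh
  rwa [cj_St2, h1, h2, St2_comm] at this

omit Z [Finite G] in
theorem swap_mul_swap {a b : Ω} {s t : G} (h1 : s • a = b) (h2 : s • b = a) (h3 : t • a = b)
    (h4 : t • b = a) : s * t ∈ St2 G a b := by
  simp [mem_St2, mul_smul, *]

omit Z [Finite G] in
theorem swap_mul_inv {a b : Ω} {s t : G} (h1 : s • a = b) (h2 : s • b = a) (h3 : t • a = b)
    (h4 : t • b = a) : s * t⁻¹ ∈ St2 G a b :=
  swap_mul_swap h1 h2 (smul_eq_iff_inv.1 h4) (smul_eq_iff_inv.1 h3)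

theorem exists_swap {a b : Ω} (hab : a ≠ b) : ∃ s : G, orderOf s = 2 ∧ s • a = b ∧ s • b = a := by
  rcases Nat.even_or_odd (Nat.card (St2 G a b)) with he | he
  · obtain ⟨c, h1, h2⟩ := Z.three a b
    obtain ⟨s, hs⟩ := Z.exists_swap_fix hab he h1 h2
    exact ⟨s, hs.1, hs.2.1, hs.2.2.1⟩
  obtain ⟨s, h1, h2⟩ := Z.tr2 hab hab.symm
  have hn : ∀ h ∈ St2 G a b, s * h * s⁻¹ ∈ St2 G a b := fun h hh => swap_conj h1 h2 hh
  have hs : s ∉ St2 G a b := fun h => hab (h.1.symm.trans h1)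
  obtain ⟨t, ht, t2⟩ := exists_involution_mem (H := St2 G a b ⊔ zpowers s) (by
    rw [card_sup_zpowers hn (swap_mul_swap h1 h2 h1 h2) hs]; exact even_two_mul _)
  rcases (mem_sup_zpowers_iff hn (swap_mul_swap h1 h2 h1 h2)).1 ht with e | e
  · exact absurd t2 (odd_card_iff.1 he t e)
  · refine ⟨t, t2, ?_, ?_⟩
    · rw [← e.2, mul_smul, smul_eq_iff_inv.1 h1]
    · rw [← e.1, mul_smul, smul_eq_iff_inv.1 h2]

theorem ncard_swap {a b : Ω} (hab : a ≠ b) :
    {s : G | s • a = b ∧ s • b = a}.ncard = Nat.card (St2 G a b) := by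
  obtain ⟨s, h1, h2⟩ := Z.tr2 hab hab.symm
  rw [← Nat.card_coe_set_eq]
  refine Nat.card_congr ⟨fun t => ⟨t * s⁻¹, swap_mul_inv t.2.1 t.2.2 h1 h2⟩,
    fun h => ⟨h * s, by rw [mul_smul, h1, h.2.2], by rw [mul_smul, h2, h.2.1]⟩, fun t => ?_,
    fun h => ?_⟩ <;> simp

theorem large_of_even' {a b : Ω} (hab : a ≠ b) (he : Even (Nat.card (St2 G a b))) :
    Nat.card (zk G a) - 1 ≤ 2 * {s : G | (s • a = b ∧ s • b = a) ∧ orderOf s = 2}.ncard := by
  classical
  have : Finite Ω := Nat.finite_of_card_ne_zero (by rw [← Z.card_zk a]; omega)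
  have := Fintype.ofFinite Ω
  have := Fintype.ofFinite G
  choose! f hf using fun c (hc : c ≠ a ∧ c ≠ b) => Z.exists_swap_fix hab he hc.1 hc.2
  have h1 := Finset.card_le_mul_card_image_of_maps_to (f := f)
    (s := (Finset.univ.erase a).erase b) 
    (t := Finset.univ.filter fun s : G => (s • a = b ∧ s • b = a) ∧ orderOf s = 2)
    (fun c hc => by
      simp only [Finset.mem_erase] at hc
      simp [hf c ⟨hc.2.1, hc.1⟩]) 2 fun s _ => by
      by_contra h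
      obtain ⟨x, hx, y, hy, z, hz, h1, h2, h3⟩ := Finset.two_lt_card.1 (not_le.1 h)
      simp only [Finset.mem_filter, Finset.mem_erase] at hx hy hz
      have e1 := hf x ⟨hx.1.2.1, hx.1.1⟩
      have e2 := hf y ⟨hy.1.2.1, hy.1.1⟩
      have e3 := hf z ⟨hz.1.2.1, hz.1.1⟩
      rw [hx.2] at e1; rw [hy.2] at e2; rw [hz.2] at e3
      exact ne_one_of_ord2 e1.1 (Z.fix3 s h1 h3 h2 e1.2.2.2 e2.2.2.2 e3.2.2.2)
  rw [Finset.card_erase_of_mem (by simp [hab.symm]), Finset.card_erase_of_mem (by simp),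
    Finset.card_univ, ← Nat.card_eq_fintype_card, ← Z.card_zk a, ← Set.ncard_coe_finset,
    Finset.coe_filter] at h1
  simp only [Finset.mem_univ, true_and] at h1
  omega

theorem large_of_even {a b : Ω} (hab : a ≠ b) (he : Even (Nat.card (St2 G a b))) :
    Nat.card (zk G a) - 1 ≤ 2 * Nat.card (St2 G a b) := by
  refine (Z.large_of_even' hab he).trans (Nat.mul_le_mul_left _ ?_)
  rw [← Z.ncard_swap hab]
  exact Set.ncard_le_ncard fun s hs => hs.1

theorem swap_ord_of_small {a b : Ω} (hab : a ≠ b) (he : Even (Nat.card (St2 G a b)))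
    (hd : 2 * Nat.card (St2 G a b) ≤ Nat.card (zk G a) - 1) {s : G} (h1 : s • a = b)
    (h2 : s • b = a) : orderOf s = 2 := by
  have h3 := Z.large_of_even' hab he
  have h4 := Set.eq_of_subset_of_ncard_le (s := {s : G | (s • a = b ∧ s • b = a) ∧ orderOf s = 2})
    (t := {s : G | s • a = b ∧ s • b = a}) (fun s hs => hs.1) (by rw [Z.ncard_swap hab]; omega)
  exact (h4.symm.subset ⟨h1, h2⟩).2

theorem eq_of_large {a b : Ω} (hab : a ≠ b) (hd : Nat.card (zk G a) - 1 ≤ 2 * Nat.card (St2 G a b))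
    {K : Subgroup G} (hK : K ≤ zk G a) (h : ∀ g ∈ St2 G a b, ∀ u ∈ K, g * u * g⁻¹ ∈ K) :
    K = ⊥ ∨ K = zk G a := by
  refine or_iff_not_imp_left.2 fun h1 => eq_of_le_of_card_ge hK ?_
  obtain ⟨k, hk⟩ := Z.dvd_of_inv hab hK h
  obtain ⟨l, hl⟩ := card_dvd_of_le hK
  have h2 := (one_lt_card_iff_ne_bot _).2 h1
  have h3 := Z.two_le_card_zk a
  set e := Nat.card (St2 G a b)
  set m := Nat.card K
  by_contra h4
  have h5 : 2 ≤ l := by
    rcases l with _ | _ | l <;> omega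
  have h6 : e ≤ m - 1 := by rw [hk]; exact Nat.le_mul_of_pos_right _ (by
    rcases k with _ | k <;> omega)
  have : m * 2 ≤ m * l := Nat.mul_le_mul_left _ h5
  omega

theorem elem_of_large {a b : Ω} (hab : a ≠ b)
    (hd : Nat.card (zk G a) - 1 ≤ 2 * Nat.card (St2 G a b)) :
    IsMulCommutative (zk G a) ∧ ∃ p f : ℕ, p.Prime ∧ (∀ u ∈ zk G a, u ^ p = 1) ∧
      Nat.card (zk G a) = p ^ f := by
  classical
  have key : ∀ S : Finset ℕ, (∀ p ∈ S, p.Prime ∧ p ∣ Nat.card (zk G a)) → S.card ≤ 2 := by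
    intro S hS
    have := Fintype.ofFinite G
    let T : ℕ → Finset G := fun p => Finset.univ.filter fun u => u ∈ zk G a ∧ orderOf u = p
    have h1 : ∀ p ∈ S, Nat.card (St2 G a b) ≤ (T p).card := by
      intro p hp
      obtain ⟨x, hx, ho⟩ := exists_mem_orderOf_eq_prime (hS p hp).1 (hS p hp).2
      have := Core.card_dvd_of_free_conj (St2 G a b) (T p : Set G)
        (fun g hg u hu => by
          simp only [T, Finset.coe_filter, Finset.mem_univ, true_and, Set.mem_setOf_eq] at hu ⊢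
          exact ⟨Z.conj_mem_zk' hg.1 hu.1, by rw [orderOf_conj', hu.2]⟩)
        fun g hg u hu e => by
          simp only [T, Finset.coe_filter, Finset.mem_univ, true_and, Set.mem_setOf_eq] at hu
          refine Z.eq_one_of_mem_zk_St2 hab (Z.mem_zk_of_comm hu.1 ?_ (mul_inv_eq_iff_eq_mul.1 e)) hg
          rintro rfl
          exact (hS p hp).1.one_lt.ne (by simpa using hu.2)
      rw [Set.ncard_coe_finset] at this
      exact Nat.le_of_dvd (Finset.card_pos.2 ⟨x, by simp [T, hx, ho]⟩) this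
    have h2 : (S.biUnion T).card ≤ Nat.card (zk G a) - 1 := by
      rw [card_subgroup_eq_filter, ← Finset.card_erase_of_mem (a := (1 : G)) (by simp)]
      refine Finset.card_le_card fun u hu => ?_
      obtain ⟨p, hp, hu⟩ := Finset.mem_biUnion.1 hu
      simp only [T, Finset.mem_filter, Finset.mem_univ, true_and] at hu
      simp only [Finset.mem_erase, Finset.mem_filter, Finset.mem_univ, true_and, hu.1, and_true]
      rintro rfl
      exact (hS p hp).1.one_lt.ne (by simpa using hu.2)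
    rw [Finset.card_biUnion fun p _ q _ h => Finset.disjoint_left.2 fun u h1 h2 => h
      ((Finset.mem_filter.1 h1).2.2.symm.trans (Finset.mem_filter.1 h2).2.2)] at h2
    have h3 := Finset.card_nsmul_le_sum S _ _ h1
    exact Nat.le_of_mul_le_mul_right ((h3.trans h2).trans hd) Nat.card_pos
  have h0 : Nat.card (zk G a) ≠ 0 := Nat.card_pos.ne'
  have h1 := key _ fun p hp => ⟨Nat.prime_of_mem_primeFactors (n := Nat.card (zk G a)) hp,
    Nat.dvd_of_mem_primeFactors hp⟩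
  obtain ⟨p, q, hp, hq, hpq⟩ : ∃ p q : ℕ, p.Prime ∧ q.Prime ∧
      (Nat.card (zk G a)).primeFactors ⊆ {p, q} := by
    obtain ⟨p, hp⟩ : (Nat.card (zk G a)).primeFactors.Nonempty :=
      Nat.nonempty_primeFactors.2 (Z.two_le_card_zk a)
    by_cases h : ∃ q ∈ (Nat.card (zk G a)).primeFactors, q ≠ p
    · obtain ⟨q, hq, hne⟩ := h
      refine ⟨p, q, Nat.prime_of_mem_primeFactors hp, Nat.prime_of_mem_primeFactors hq,
        (Finset.eq_of_subset_of_card_le (by intro r hr; simp at hr; rcases hr with rfl | rfl <;>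
          assumption) (by rwa [Finset.card_pair hne.symm])).symm.subset⟩
    · push Not at h
      exact ⟨p, p, Nat.prime_of_mem_primeFactors hp, Nat.prime_of_mem_primeFactors hp,
        fun r hr => by simp [h r hr]⟩
  have hs : Group.IsSolvable (zk G a) := Char.isSolvable_of_card_dvd_pow_mul_pow
    (a := Nat.card (zk G a)) (b := Nat.card (zk G a)) hp hq _ (by
      rw [← mul_pow]
      refine (Nat.dvd_pow_self_iff h0 (mul_ne_zero hp.ne_zero hq.ne_zero)).2 ?_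
      rwa [Nat.primeFactors_mul hp.ne_zero hq.ne_zero, hp.primeFactors, hq.primeFactors,
        ← Finset.insert_eq])
  obtain ⟨W, r, hr, h2, h3, h4, h5, h6⟩ := Core.exists_invariant_abelian (Z.St2_le_norm a b)
    (Z.coprime hab) (Or.inr hs) (Z.zk_ne_bot a)
  obtain rfl := (Z.eq_of_large hab hd h3 fun g hg u hu =>
    conj_mem_of_mem_normalizer (h6 hg) hu).resolve_left h4
  have := Fact.mk hr
  obtain ⟨f, hf⟩ := h2.exists_card_eq
  refine ⟨h5, r, f, hr, ?_, hf⟩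
  let K : Subgroup G :=
    { carrier := {u | u ∈ zk G a ∧ u ^ r = 1}
      one_mem' := ⟨one_mem _, one_pow _⟩
      mul_mem' := fun {u v} hu hv => ⟨mul_mem hu.1 hv.1, by
        rw [Commute.mul_pow (comm_of_mem h5 hu.1 hv.1), hu.2, hv.2, one_mul]⟩
      inv_mem' := fun {u} hu => ⟨inv_mem hu.1, by rw [inv_pow, hu.2, inv_one]⟩ }
  have h7 := (Z.eq_of_large hab hd (K := K) (fun u hu => hu.1) fun g hg u hu =>
    ⟨Z.conj_mem_zk' hg.1 hu.1, by rw [conj_pow, hu.2]; simp⟩).resolve_left fun e => by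
      obtain ⟨x, hx, ho⟩ := exists_mem_orderOf_eq_prime (H := zk G a) hr (by
        rw [hf]; refine dvd_pow_self _ ?_
        rintro rfl
        have := Z.two_le_card_zk a
        rw [hf] at this
        simp at this)
      have : x ∈ K := ⟨hx, by rw [← ho, pow_orderOf_eq_one]⟩
      rw [e, mem_bot] at this
      exact hr.one_lt.ne (by simpa [this] using ho)
  intro u hu
  rw [← h7] at hu
  exact hu.2

end Z0

end Cfsg.Agent.Inv
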