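import Mathlib

/-! Integer lemmas for the exclusion of Suzuki 2-groups of order `q ^ 3` in Zassenhaus groups. -/

set_option autoImplicit false
set_option linter.unusedVariables false

namespace Cfsg.Agent.Inv

open Finset

theorem cube_arith {q a u : ℤ} {k : ℕ} (hk : q = 2 ^ k) (hq : 4 ≤ q) (ha : 0 ≤ a) (h1 : Odd a)
    (h2 : Odd u) (h3 : u ^ 2 ≤ q) (h4 : 0 < a * (q ^ 2 + q + 1) + u * q)
    (h5 : a * (q ^ 2 + q + 1) + u * q ∣ (q ^ 3 + 1) * q ^ 3) : False := by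
  have q2 : Even q := by
    rw [hk]; exact (Int.even_pow.2 ⟨even_two, by rintro rfl; simp at hk; omega⟩)
  have o1 : Odd (q ^ 2 + q + 1) := by rw [sq]; exact ((q2.mul_left q).add q2).add_one
  have o2 : Odd (a * (q ^ 2 + q + 1) + u * q) := (h1.mul o1).add_even (q2.mul_left u)
  obtain ⟨E, hE⟩ := IsCoprime.dvd_of_dvd_mul_right (by
    nth_rw 4 [hk]; rw [← pow_mul]
    exact IsCoprime.pow_right (Int.isCoprime_two_right.2 o2)) h5
  have E0 : 0 < E := (pos_iff_pos_of_mul_pos (hE ▸ by positivity)).1 h4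
  have oE : Odd E := by
    have : Odd (q ^ 3 + 1) := (Int.even_pow.2 ⟨q2, by omega⟩).add_one
    rw [hE] at this; exact (Int.odd_mul.1 this).2
  have a1 : 1 ≤ a := by obtain ⟨m, rfl⟩ := h1; omega
  obtain ⟨j, hj⟩ : ∃ j, a * E = 1 + j * q :=
    ⟨q ^ 2 - (a * (q + 1) + u) * E, by linear_combination -hE⟩
  have e : u * E = q ^ 2 - q - 1 - j * (q ^ 2 + q + 1) := mul_left_cancel₀ (a := q) (by omega) (by
    linear_combination -hE - (q ^ 2 + q + 1) * hj)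
  have j0 : 0 ≤ j := by
    by_contra h
    nlinarith [mul_pos (show 0 < a by omega) E0]
  have j2 : Even j := by
    have o3 := h2.mul oE
    rw [e, show q ^ 2 - q - 1 - j * (q ^ 2 + q + 1) = q ^ 2 + q + 1 - (j * (q ^ 2 + q + 1) + 2 * (q + 1))
      by ring, Int.odd_sub] at o3
    have := (Int.even_add.1 (o3.1 o1)).2 (even_two_mul _)
    exact (Int.even_mul.1 this).resolve_right (Int.not_even_iff_odd.2 o1)
  rcases eq_or_ne j 0 with rfl | j1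
  · obtain rfl : E = 1 := Int.eq_one_of_mul_eq_one_left E0.le (by simpa using hj)
    have : q + 1 ≤ u := by nlinarith
    nlinarith
  · have j3 : 2 ≤ j := by obtain ⟨m, rfl⟩ := j2; omega
    have h6 : q * a * E < 2 * -u * E := by
      rw [mul_assoc, hj, mul_assoc, neg_mul, e]; nlinarith [mul_nonneg (sub_nonneg.2 j3) (sq_nonneg q)]
    have h7 : q * a < 2 * -u := lt_of_mul_lt_mul_right h6 E0.le
    have h8 : q < 2 * -u := (le_mul_of_one_le_right (by omega) a1).trans_lt h7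
    nlinarith

theorem cube_aux {q d n R : ℤ} (h0 : 0 ≤ q) (h1 : d ≤ q) (h2 : 1 ≤ n) (h3 : 0 ≤ R)
    (h : 1 + d ^ 2 = (n - d) * (n - d) + q * (n * n) + R) : n = 1 := by
  by_contra h4
  have h5 : 2 ≤ n := by omega
  nlinarith [mul_nonneg (mul_nonneg h0 (sub_nonneg.2 h5)) (show 0 ≤ n by omega),
    mul_nonneg (sub_nonneg.2 h1) (show 0 ≤ n by omega)]

theorem cube_char {I J : Type*} [Fintype I] [Fintype J] [DecidableEq I] [DecidableEq J] {q ε : ℤ}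
    {k : ℕ} (hk : q = 2 ^ k) (hq : 4 ≤ q) (M : I → J → ℤ) (d : J → ℤ) (D : I → ℤ) (S : Finset J)
    (X : J → I) (hε : ε = 1 ∨ ε = -1) (M0 : ∀ ψ φ, 0 ≤ M ψ φ)
    (gram : ∀ φ φ', ∑ ψ, M ψ φ * M ψ φ' = (if φ = φ' then 1 else 0) + (q - 1) * d φ * d φ')
    (deg : ∀ φ, ∑ ψ, M ψ φ * D ψ = (q - 1) * d φ * (q ^ 3 + 1))
    (d1 : ∀ φ ∈ S, d φ = 1) (cS : (S.card : ℤ) = q + 1) (d2 : ∑ φ ∈ Sᶜ, d φ ^ 2 = q ^ 2)
    (d3 : ∀ φ, ∃ j : ℕ, d φ = 2 ^ j) (hX : Set.InjOn X S)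
    (exc : ∀ φ ∈ S, ∀ φ' ∈ S, ∀ ψ, M ψ φ - M ψ φ' =
      ε * ((if ψ = X φ then 1 else 0) - if ψ = X φ' then 1 else 0))
    (D0 : ∀ ψ, 0 < D ψ) (D1 : ∀ ψ, D ψ ∣ (q - 1) * ((q ^ 3 + 1) * q ^ 3))
    (TO : ∀ ψ, D ψ = ∑ φ, M ψ φ * ((q - 1) * d φ) ∨ ∀ φ φ', M ψ φ * d φ' = M ψ φ' * d φ)
    (ker : ∀ ψ, (∀ φ ∉ S, M ψ φ = 0) → ∀ φ, M ψ φ = 0) : False := by
  have q2 : Even q := by
    rw [hk]; exact (Int.even_pow.2 ⟨even_two, by rintro rfl; simp at hk; omega⟩)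
  have A : ∀ (f : I → ℤ), ∀ φ ∈ S, ∀ φ' ∈ S, ∑ ψ, M ψ φ * f ψ - ∑ ψ, M ψ φ' * f ψ =
      ε * (f (X φ) - f (X φ')) := fun f φ h φ' h' => by
    simp only [← sum_sub_distrib, ← sub_mul, exc φ h φ' h', mul_assoc, ← mul_sum]
    simp [sub_mul, sum_sub_distrib]
  have ε0 : ε ≠ 0 := by rcases hε with rfl | rfl <;> simp
  have B : ∀ (f : I → ℤ) (c : ℤ), ∀ χ ∈ S, (∀ φ ∈ S, φ ≠ χ → f (X φ) = c) →
      ∑ ψ, f ψ = f (X χ) + q * c + ∑ ψ ∈ (S.image X)ᶜ, f ψ := fun f c χ hχ h => by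
    rw [← sum_add_sum_compl (S.image X), sum_image hX, ← add_sum_erase _ _ hχ,
      sum_congr rfl fun φ hφ => h φ (mem_erase.1 hφ).2 (mem_erase.1 hφ).1, sum_const, nsmul_eq_mul,
      cast_card_erase_of_mem hχ, cS, add_sub_cancel_right]
  have two : ∀ χ ∈ S, ∃ φ ∈ S, φ ≠ χ := fun χ _ => exists_mem_ne (by omega) χ
  have hD : ∀ φ ∈ S, ∀ φ' ∈ S, D (X φ) = D (X φ') := fun φ h φ' h' => by
    have := A D φ h φ' h'
    rw [deg, deg, d1 φ h, d1 φ' h', sub_self] at this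
    exact sub_eq_zero.1 ((mul_eq_zero.1 this.symm).resolve_left ε0)
  have hM : ∀ j, ∀ φ ∈ S, ∀ φ' ∈ S, ε * (M (X φ) j - M (X φ') j) =
      (if φ = j then 1 else 0) - if φ' = j then 1 else 0 := fun j φ h φ' h' => by
    rw [← A (M · j) φ h φ' h', gram, gram, d1 φ h, d1 φ' h']; ring
  have hM' : ∀ j, ∀ φ ∈ S, ∀ φ' ∈ S, φ ≠ j → φ' ≠ j → M (X φ) j = M (X φ') j :=
    fun j φ h φ' h' a b => by
      have := hM j φ h φ' h'
      rw [if_neg a, if_neg b, sub_self] at this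
      exact sub_eq_zero.1 ((mul_eq_zero.1 this).resolve_left ε0)
  have zero : ∀ f : I → ℤ, ∑ ψ ∈ (S.image X)ᶜ, f ψ * f ψ ≤ 0 →
      ∑ ψ ∈ (S.image X)ᶜ, f ψ * D ψ = 0 := fun f h => sum_eq_zero fun ψ hψ => by
    rw [mul_self_eq_zero.1 ((sum_eq_zero_iff_of_nonneg fun _ _ => mul_self_nonneg _).1
      (le_antisymm h (sum_nonneg fun _ _ => mul_self_nonneg _)) ψ hψ), zero_mul]
  obtain ⟨χ, hχ⟩ : S.Nonempty := card_pos.1 (by omega)
  obtain ⟨φ₀, h₀, n₀⟩ := two χ hχ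
  have c0 : M (X φ₀) χ = 0 ∧ M (X χ) χ = 1 := by
    have h1 := hM χ χ hχ φ₀ h₀
    have h2 := B (fun ψ => M ψ χ * M ψ χ) (M (X φ₀) χ * M (X φ₀) χ) χ hχ fun φ h n => by
      rw [hM' χ φ h φ₀ h₀ n n₀]
    have h3 := B (fun ψ => M ψ χ * D ψ) (M (X φ₀) χ * D (X χ)) χ hχ fun φ h n => by
      rw [hM' χ φ h φ₀ h₀ n n₀, hD φ h χ hχ]
    have h4 := zero (M · χ)
    have h5 : 0 ≤ ∑ ψ ∈ (S.image X)ᶜ, M ψ χ * M ψ χ := sum_nonneg fun _ _ => mul_self_nonneg _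
    rw [gram, if_pos rfl, d1 χ hχ] at h2
    rw [deg, d1 χ hχ] at h3
    rw [if_pos rfl, if_neg n₀] at h1
    have m1 := M0 (X φ₀) χ
    have m2 := M0 (X χ) χ
    generalize M (X φ₀) χ = c at *
    generalize M (X χ) χ = c' at *
    have c1 : c = 0 := by
      by_contra h
      have h6 : q ≤ q * (c * c) := le_mul_of_one_le_right (by omega) (by
        have : 1 ≤ c := by omega
        nlinarith)
      obtain rfl : c' = 0 := by nlinarith
      rw [h4 (by linarith)] at h3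
      have o : Odd ((q - 1) * 1 * (q ^ 3 + 1)) :=
        ((q2.sub_odd odd_one).mul odd_one).mul (Int.even_pow.2 ⟨q2, by omega⟩).add_one
      rw [h3, zero_mul, zero_add, add_zero] at o
      exact Int.not_even_iff_odd.2 o (q2.mul_right _)
    subst c1
    rcases hε with rfl | rfl <;> omega
  have c1 : ∀ φ ∈ S, φ ≠ χ → M (X φ) χ = 0 := fun φ h n => (hM' χ φ h φ₀ h₀ n n₀).trans c0.1
  obtain ⟨j, hj, n0⟩ : ∃ j ∉ S, M (X χ) j ≠ 0 := by
    by_contra! h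
    exact one_ne_zero (c0.2.symm.trans (ker _ h χ))
  have hn : ∀ φ ∈ S, M (X φ) j = M (X χ) j := fun φ h =>
    hM' j φ h χ hχ (fun e => hj (e ▸ h)) fun e => hj (e ▸ hχ)
  have jχ : j ≠ χ := fun e => hj (e ▸ hχ)
  have n1 := M0 (X χ) j
  have dpos : ∀ φ, 0 < d φ := fun φ => by obtain ⟨i, e⟩ := d3 φ; rw [e]; positivity
  have dq : d j ^ 2 ≤ q ^ 2 := d2 ▸ single_le_sum (f := fun φ => d φ ^ 2) (fun _ _ => sq_nonneg _)
    (mem_compl.2 hj)
  set β := fun ψ => M ψ j - d j * M ψ χ with hβ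
  have b1 := B (fun ψ => β ψ * β ψ) (M (X χ) j * M (X χ) j) χ hχ fun φ h n => by
    simp [β, c1 φ h n, hn φ h]
  have b2 := B (fun ψ => β ψ * D ψ) (M (X χ) j * D (X χ)) χ hχ fun φ h n => by
    simp [β, c1 φ h n, hn φ h, hD φ h χ hχ]
  have b3 := B (fun ψ => β ψ * M ψ χ) 0 χ hχ fun φ h n => by simp [c1 φ h n]
  have b4 := zero β
  have b5 : 0 ≤ ∑ ψ ∈ (S.image X)ᶜ, β ψ * β ψ := sum_nonneg fun _ _ => mul_self_nonneg _
  have e1 : ∑ ψ, β ψ * β ψ = 1 + d j ^ 2 := by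
    have : ∀ ψ, β ψ * β ψ = M ψ j * M ψ j - 2 * d j * (M ψ j * M ψ χ) + d j ^ 2 * (M ψ χ * M ψ χ) :=
      fun ψ => by simp only [β]; ring
    simp only [this, sum_add_distrib, sum_sub_distrib, ← mul_sum, gram, if_pos, if_neg jχ, d1 χ hχ]
    ring
  have e2 : ∑ ψ, β ψ * D ψ = 0 := by
    simp only [β, sub_mul, sum_sub_distrib, mul_assoc, ← mul_sum, deg, d1 χ hχ]; ring
  have e3 : ∑ ψ, β ψ * M ψ χ = -d j := by
    simp only [β, sub_mul, sum_sub_distrib, mul_assoc, ← mul_sum, gram, if_pos, if_neg jχ, d1 χ hχ]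
    ring
  have e4 : β (X χ) = M (X χ) j - d j := by simp [β, c0.2]
  rw [e1, e4] at b1
  rw [e2, e4] at b2
  rw [e3, e4, c0.2] at b3
  have n2 : 1 ≤ M (X χ) j := by omega
  generalize M (X χ) j = n at *
  have dq' : d j ≤ q := by nlinarith [dpos j]
  obtain rfl : n = 1 := cube_aux (by omega) dq' n2 b5 b1
  have dj : d j = q := by
    by_contra h
    have h1 : 2 * d j ≤ q := by
      obtain ⟨i, e⟩ := d3 j
      have h2 : d j < q := lt_of_le_of_ne dq' h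
      rw [e, hk] at h2 ⊢
      rw [← pow_succ']
      exact pow_le_pow_right₀ one_le_two ((pow_lt_pow_iff_right₀ one_lt_two).1 h2)
    rw [b4 (by nlinarith)] at b2
    nlinarith [D0 (X χ)]
  rw [dj] at b1 b3
  have only : ∀ φ ∉ S, φ = j := fun φ h => by_contra fun n => by
    have := sum_le_sum_of_subset_of_nonneg (f := fun φ => d φ ^ 2) (s := {φ, j}) (t := Sᶜ)
      (by simp [insert_subset_iff, h, hj]) fun _ _ _ => sq_nonneg _
    rw [sum_pair n, d2, dj] at this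
    nlinarith [dpos φ]
  obtain ⟨ψ, hψ, o⟩ : ∃ ψ ∈ (S.image X)ᶜ, Odd (β ψ * M ψ χ) := by
    by_contra! h
    have := even_sum (s := (S.image X)ᶜ) (fun ψ => β ψ * M ψ χ) fun ψ hψ => Int.not_odd_iff_even.1 (h ψ hψ)
    rw [show ∑ ψ ∈ (S.image X)ᶜ, β ψ * M ψ χ = -1 by linarith] at this
    simp at this
  rw [Int.odd_mul] at o
  have u2 : β ψ ^ 2 ≤ q := by
    have := single_le_sum (f := fun ψ => β ψ * β ψ) (fun _ _ => mul_self_nonneg _) hψ
    nlinarith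
  rcases TO ψ with h | h
  · have h1 : ∀ φ ∈ S, M ψ φ = M ψ χ := fun φ hφ => by
      have := exc φ hφ χ hχ ψ
      rw [if_neg fun e => mem_compl.1 hψ (mem_image.2 ⟨φ, hφ, e.symm⟩),
        if_neg fun e => mem_compl.1 hψ (mem_image.2 ⟨χ, hχ, e.symm⟩)] at this
      linarith
    rw [← sum_add_sum_compl S, sum_congr rfl fun φ hφ => by rw [h1 φ hφ, d1 φ hφ], sum_const,
      nsmul_eq_mul, cS, sum_eq_single_of_mem j (mem_compl.2 hj)
        fun φ hφ n => absurd (only φ (mem_compl.1 hφ)) n, dj] at h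
    have h2 : D ψ = (q - 1) * (M ψ χ * (q ^ 2 + q + 1) + β ψ * q) := by
      rw [h]; simp only [β, dj]; ring
    refine cube_arith hk hq (M0 ψ χ) o.2 o.1 u2 ((pos_iff_pos_of_mul_pos (h2 ▸ D0 ψ)).1
      (show 0 < q - 1 by omega)) (Int.dvd_of_mul_dvd_mul_left (a := q - 1) (by omega) (h2 ▸ D1 ψ))
  · have := h j χ
    rw [show β ψ = 0 by simp only [β]; rw [d1 χ hχ] at this; linarith] at o
    simp at o

end Cfsg.Agent.Inv
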