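import Cfsg.Agent.Inv.Zas8
import Cfsg.Agent.Inv.Zas9
import Cfsg.Agent.Char.PF1

/-! Zassenhaus groups: the kernel is not a Suzuki 2-group of order `q ^ 3`. -/

set_option autoImplicit false
set_option linter.unusedVariables false
set_option linter.unusedSectionVars false

namespace Cfsg.Agent.Inv

open Subgroup MulAction Cfsg.Agent.PLoc Cfsg.Agent.Char
open scoped ComplexConjugate

variable {G Ω : Type*} [Group G] [MulAction G Ω] [Fintype G]

namespace Z0

variable (Z : Z0 G Ω) {a b : Ω} [Fintype (stabilizer G a)] [Fintype (zk' G a)]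
include Z

local notation "𝓝" => stabilizer G a

theorem gram (hab : a ≠ b) {φ θ : 𝓝 → ℂ} [(zk' G a).Normal] (hφ : φ ∈ inducedIrrAbove (zk' G a) ⊥)
    (hθ : θ ∈ inducedIrrAbove (zk' G a) ⊥) : classInner (indFun 𝓝 φ) (indFun 𝓝 θ) =
      classInner φ θ + φ 1 * θ 1 / Nat.card (St2 G a b) := by
  classical
  have h1 := isCharacter_of_mem_inducedIrrAbove hθ
  rw [classInner_indFun_left _ _ (isClassFunction_indFun 𝓝 θ), classInner_def,
    Finset.sum_congr rfl (g := fun x => φ x * conj (θ x) +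
      if x = 1 then (Nat.card (zk G a) * (φ 1 * θ 1) : ℂ) else 0) fun x _ => by
        by_cases h4 : x = 1
        · simp only [h4, OneMemClass.coe_one, indFun_one, Z.index_stab, if_true, map_mul,
            map_natCast, h1.conj_apply_one]
          push_cast; ring
        by_cases h5 : x ∈ zk' G a
        · rw [indFun_apply_TI (T := zk G a) (Z.ti a) h1.isClassFunction
            (fun x => apply_eq_zero_of_mem_inducedIrrAbove hθ) x h5 h4, if_neg h4, add_zero]
        · simp [apply_eq_zero_of_mem_inducedIrrAbove hφ h5, h4],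
    Finset.sum_add_distrib, mul_add, ← classInner_def, Finset.sum_ite_eq', if_pos (Finset.mem_univ _),
    Z.card_stab hab]
  have := card_ne_zero (zk G a)
  have := card_ne_zero (St2 G a b)
  push_cast; field_simp

theorem const_of_lin (hI : InvE G Ω) (hab : a ≠ b) (ho : Odd (Nat.card (St2 G a b))) {ψ : G → ℂ}
    (hψ : IsIrrCharacter G ψ) {μ : 𝓝 → ℂ} (h1 : IsIrrCharacter 𝓝 μ)
    (h3 : ∀ k ∈ zk' G a, μ k = μ 1) (h : classInner (fun x : 𝓝 => ψ x) μ ≠ 0) :
    ∃ c, ∀ k ∈ zk' G a, k ≠ 1 → ψ k = c := by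
  classical
  have h2 := Z.lin_of_ker hI hab h1 h3
  rw [h2] at h3
  have h4 : ∀ k ∈ zk' G a, k ≠ 1 → indFun 𝓝 μ k = 1 := fun k hk n => by
    rw [Z.ind_apply hI h1.isCharacter h2 h3, h3 k hk, if_neg n, if_pos hk]; simp
  rw [← classInner_indFun_right _ _ hψ.isClassFunction] at h
  by_cases h5 : μ = fun _ => 1
  · by_cases h6 : ψ = fun _ => 1
    · exact ⟨1, fun k _ _ => by rw [h6]⟩
    have e1 : classInner (indFun 𝓝 μ) (fun _ => 1) = 1 := by
      rw [classInner_indFun_left _ _ (isClassFunction_const 1), ← h5, h1.classInner_self]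
    have e2 := (h1.isCharacter.indFun.sub_irr isIrrCharacter_one (by simp [e1])).isIrr_of_classInner_eq_one (by
      rw [classInner_sub_left, classInner_sub_right, classInner_sub_right, ← conj_classInner _ (fun _ => 1),
        e1, isIrrCharacter_one.classInner_self, Z.inner_ind_ind hI h1.isCharacter h2 h3 h2 h3,
        show (fun g => conj (μ g)) = μ by simp [h5], h1.classInner_self]
      simp)
    refine ⟨0, fun k hk n => ?_⟩
    rw [hψ.eq_of_classInner_ne_zero e2 (by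
      rwa [classInner_sub_right, hψ.classInner_of_ne isIrrCharacter_one h6, sub_zero]), Pi.sub_apply,
      h4 k hk n, sub_self]
  · exact ⟨1, fun k hk n => by
      rw [hψ.eq_of_classInner_ne_zero (Z.ind_irr hI hab ho h1.isCharacter h2 h3 h5) h, h4 k hk n]⟩

theorem not_cube [IsSimpleGroup G] (hab : a ≠ b) {k : ℕ} (hk : 2 ≤ k)
    (h1 : Nat.card (zk G a) = (2 ^ k) ^ 3) (h2 : Nat.card (St2 G a b) + 1 = 2 ^ k) {Y : Subgroup 𝓝}
    [Y.Normal] (h3 : Y ≤ zk' G a) (h4 : Nat.card Y = 2 ^ k) (h5 : ⁅zk' G a, zk' G a⁆ ≤ Y) : False := by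
  classical
  have := Z.zk'_normal a
  have q4 : 4 ≤ 2 ^ k := Nat.pow_le_pow_right two_pos hk
  have ho : Odd (Nat.card (St2 G a b)) := Z.odd_St2_of_even hab (by
    rw [h1, ← pow_mul]; exact Nat.even_pow.2 ⟨even_two, by omega⟩)
  have hI := Z.invE_of_simple hab ho
  set K := zk' G a with hK
  set e := Nat.card (St2 G a b) with he
  have eq : (e : ℤ) = 2 ^ k - 1 := by rw [eq_sub_iff_add_eq]; exact_mod_cast h2
  have ec : (e : ℂ) = 2 ^ k - 1 := by rw [eq_sub_iff_add_eq]; exact_mod_cast h2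
  have er : (e : ℝ) = 2 ^ k - 1 := by rw [eq_sub_iff_add_eq]; exact_mod_cast h2
  have e0 : (e : ℂ) ≠ 0 := card_ne_zero _
  have e0' : (e : ℝ) ≠ 0 := by exact_mod_cast e0
  have hKi : K.index = e := Z.index_zk' hab
  have hKc : Nat.card K = (2 ^ k) ^ 3 := (Z.card_zk' a).trans h1
  have hD : DegIso (inducedIrrAbove K ⊥) (indLin 𝓝) := degIso_indLin_seqInd (Z.ti a) ⊥
  have hirr : ∀ {A}, ∀ φ ∈ inducedIrrAbove K A, IsIrrCharacter 𝓝 φ := fun φ =>
    isIrr_of_mem_inducedIrrAbove (Z.cent_zk' a)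
  have hS' := inducedIrrAbove_bot_eq (Z.cent_zk' a)
  have sub : inducedIrrAbove K Y ⊆ inducedIrrAbove K ⊥ := inducedIrrAbove_anti bot_le
  have deg1 : ∀ φ ∈ inducedIrrAbove K Y, φ 1 = e := fun φ h => hKi ▸ degree_eq_of_commutator_le h5 h
  obtain ⟨ν, hν⟩ := (hD.mono sub).coh_of_irr hirr fun φ h ψ h' => by rw [deg1 φ h, deg1 ψ h']
  obtain ⟨ε, hε, hχ⟩ := (hD.mono sub).exists_sign hν hirr
  have εε : ε * ε = 1 := by rcases hε with rfl | rfl <;> simp
  let J := seqInd K ⊥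
  have hJ := fun φ : J => mem_seqInd.1 φ.2
  choose M hM using fun (ψ : IrrCharacter G) (φ : J) =>
    (ψ.2.isCharacter.restrict 𝓝).classInner_nat (hD.char _ (hJ φ))
  have hM' : ∀ ψ φ, classInner (indFun 𝓝 φ.1) ψ.1 = M ψ φ := fun ψ φ => by
    rw [(hD.char _ (hJ φ)).indFun.classInner_comm ψ.2.isCharacter,
      classInner_indFun_right _ _ ψ.2.isClassFunction, hM]
  have hd : ∀ φ : J, ∃ j : ℕ, φ.1 1 = e * (2 ^ j : ℕ) := fun φ => by
    obtain ⟨θ, t1, -, -, t2⟩ := mem_inducedIrrAbove.1 (hJ φ)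
    obtain ⟨d, -, t3⟩ := t1.exists_nat
    have := t1.degree_dvd_card t3
    rw [hKc, ← pow_mul] at this
    obtain ⟨j, -, rfl⟩ := (Nat.dvd_prime_pow Nat.prime_two).1 this
    exact ⟨j, by rw [t2, indFun_one, hKi, t3]⟩
  choose j hj using hd
  choose D D0 hD' using fun ψ : IrrCharacter G => ψ.2.exists_nat
  let S : Finset J := Finset.univ.filter fun φ => φ.1 ∈ inducedIrrAbove K Y
  have hS : ∀ φ, φ ∈ S ↔ φ.1 ∈ inducedIrrAbove K Y := fun φ => by simp [S]
  let X : J → IrrCharacter G := fun φ => if h : φ.1 ∈ inducedIrrAbove K Y then ⟨ε • ν φ, hχ _ h⟩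
    else irrOne G
  have hX : ∀ φ ∈ S, (X φ : G → ℂ) = ε • ν φ := fun φ h => by simp only [X, dif_pos ((hS φ).1 h)]
  obtain ⟨ε', hε', εe⟩ : ∃ ε' : ℤ, (ε' = 1 ∨ ε' = -1) ∧ ε = ε' := by
    rcases hε with rfl | rfl
    exacts [⟨1, Or.inl rfl, by simp⟩, ⟨-1, Or.inr rfl, by simp⟩]
  have d1 : ∀ φ ∈ S, 2 ^ j φ = 1 := fun φ h => by
    have := (hj φ).symm.trans (deg1 _ ((hS φ).1 h))
    exact_mod_cast (mul_eq_left₀ e0).1 this
  have s1 : ∑ φ ∈ S, (φ.1 1).re ^ 2 = e * ((2 ^ k) ^ 2 - 1 : ℝ) := by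
    have h6 : Y.relIndex K = (2 ^ k) ^ 2 := Nat.eq_of_mul_eq_mul_left (Nat.two_pow_pos k) (by
      rw [← h4, ← card_subgroupOf_of_le h3, relIndex, card_mul_index, hKc,
        card_subgroupOf_of_le h3, h4]; ring)
    have := sum_seqInd_sq_of_irr (K := K) (A := Y) hirr
    rw [hKi, h6] at this
    push_cast at this
    rw [← this]
    exact Finset.sum_bij (fun φ _ => φ.1) (fun φ h => mem_seqInd.2 ((hS φ).1 h))
      (fun _ _ _ _ => Subtype.ext) (fun φ h => ⟨⟨φ, mem_seqInd.2 (sub (mem_seqInd.1 h))⟩,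
        (hS _).2 (mem_seqInd.1 h), rfl⟩) fun _ _ => rfl
  have s2 : ∑ φ : J, (φ.1 1).re ^ 2 = e * ((2 ^ k) ^ 3 - 1 : ℝ) := by
    rw [Finset.sum_coe_sort J fun φ => (φ 1).re ^ 2, sum_seqInd_sq_of_irr hirr, relIndex_bot_left, hKi,
      hKc]
    push_cast; rfl
  have re : ∀ φ : J, (φ.1 1).re ^ 2 = e ^ 2 * (2 ^ j φ) ^ 2 := fun φ => by
    rw [hj, ← Nat.cast_mul, Complex.natCast_re]; push_cast; ring
  refine cube_char (q := 2 ^ k) (k := k) rfl (by exact_mod_cast q4) (fun ψ φ => M ψ φ)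
    (fun φ => 2 ^ j φ) (fun ψ => D ψ) S X hε' (fun _ _ => Nat.cast_nonneg _) (fun φ φ' => ?_)
    (fun φ => ?_) (fun φ h => by exact_mod_cast d1 φ h) ?_ ?_ (fun φ => ⟨_, rfl⟩) (fun φ h φ' h' e1 => ?_)
    (fun φ h φ' h' ψ => ?_) (fun ψ => by exact_mod_cast D0 ψ) (fun ψ => ?_) (fun ψ => ?_) fun ψ h φ => ?_
  · have := (isClassFunction_indFun 𝓝 φ.1).classInner_eq_sum_irr (indFun 𝓝 φ'.1)
    rw [Z.gram hab (hJ φ) (hJ φ'), (hirr _ (hJ φ)).classInner_eq (hirr _ (hJ φ')), hj, hj] at this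
    simp only [hM', map_natCast, Subtype.val_inj, ← he] at this
    apply Int.cast_injective (α := ℂ)
    push_cast at this ⊢
    rw [← this, ← ec]; field_simp
  · have := (isClassFunction_indFun 𝓝 φ.1).apply_eq_sum_irr 1
    rw [indFun_one, Z.index_stab, h1, hj] at this
    simp only [hM', hD'] at this
    apply Int.cast_injective (α := ℂ)
    push_cast at this ⊢
    rw [← this, ← ec]; ring
  · rw [Finset.sum_congr rfl fun φ h => by rw [deg1 _ ((hS φ).1 h)], Finset.sum_const, nsmul_eq_mul,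
      Complex.natCast_re] at s1
    apply Int.cast_injective (α := ℝ)
    push_cast
    refine mul_left_cancel₀ (pow_ne_zero 2 e0') ?_
    rw [mul_comm, s1]; rw [er]; ring
  · rw [← Finset.sum_add_sum_compl S, s1] at s2
    simp only [re, ← Finset.mul_sum] at s2
    apply Int.cast_injective (α := ℝ)
    push_cast
    refine mul_left_cancel₀ (pow_ne_zero 2 e0') ?_
    rw [eq_sub_of_add_eq' s2, er]; ring
  · by_contra n
    have := (X φ).2.classInner_self
    nth_rw 2 [e1] at this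
    rw [hX φ h, hX φ' h', classInner_smul_left, classInner_smul_right,
      hν.inner _ ((hS _).1 h) _ ((hS _).1 h'), hD.orth _ (hJ φ) _ (hJ φ') fun e => n (Subtype.ext e)]
      at this
    simp at this
  · have e1 := hν.agree _ (sub_mem_span1 ((hS _).1 h) ((hS _).1 h')
      (by rw [deg1 _ ((hS _).1 h), deg1 _ ((hS _).1 h')])).2
    have e2 : ∀ φ ∈ S, classInner (ν φ) ψ.1 = ε * if ψ = X φ then 1 else 0 := fun φ h => by
      rw [if_congr eq_comm rfl rfl, ← irr_classInner, hX φ h, classInner_smul_left, ← mul_assoc, εε,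
        one_mul]
    have := congrArg (classInner · ψ.1) e1
    simp only [map_sub, classInner_sub_left, indLin_apply, hM', e2 φ h, e2 φ' h'] at this
    apply Int.cast_injective (α := ℂ)
    push_cast
    rw [← this, εe, mul_sub]
  · have := ψ.2.degree_dvd_card (hD' ψ)
    rw [Z.card_eq hab, h1, ← he] at this
    rw [← eq, mul_comm (_ + 1), ← mul_assoc]
    exact_mod_cast this
  · by_cases h : ∀ μ : IrrCharacter 𝓝, μ.1 ∉ J → classInner (fun x : 𝓝 => ψ.1 x) μ = 0
    · left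
      have := (ψ.2.isClassFunction.restrict 𝓝).apply_eq_sum_irr 1
      rw [OneMemClass.coe_one, hD', ← Finset.sum_subset (Finset.subset_univ (Finset.univ.filter
        fun μ : IrrCharacter 𝓝 => μ.1 ∈ J)) fun μ _ hμ => by rw [h μ (by simpa using hμ), zero_mul],
        Finset.sum_bij (s := Finset.univ.filter fun μ : IrrCharacter 𝓝 => μ.1 ∈ J)
          (f := fun μ => classInner (fun x : 𝓝 => ψ.1 x) μ * μ.1 1) (t := Finset.univ) (g := fun φ : J => (M ψ φ * (e * (2 ^ j φ : ℕ)) : ℂ))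
          (fun μ hμ => ⟨μ.1, (Finset.mem_filter.1 hμ).2⟩) (fun _ _ => Finset.mem_univ _)
          (fun _ _ _ _ e => Subtype.ext (congrArg (fun φ : J => φ.1) e))
          (fun φ _ => ⟨⟨φ.1, hirr _ (hJ φ)⟩, by simp, rfl⟩) fun μ hμ => by rw [← hM, ← hj]] at this
      apply Int.cast_injective (α := ℂ)
      push_cast at this ⊢
      rw [this, ec]
    · right
      push Not at h
      obtain ⟨μ, m1, m2⟩ := h
      obtain ⟨c, hc⟩ := Z.const_of_lin hI hab ho ψ.2 μ.2 (fun k hk => not_not.1 fun e => m1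
        (mem_seqInd.2 (by rw [hS']; exact ⟨μ.2, k, hk, e⟩))) m2
      intro φ φ'
      have := classInner_eq_of_const (f := fun x : 𝓝 => ψ.1 x) hc
        (α := ((2 ^ j φ' : ℕ) : ℂ) • φ.1 - ((2 ^ j φ : ℕ) : ℂ) • φ'.1)
        (fun x hx => by simp [apply_eq_zero_of_mem_inducedIrrAbove (hJ φ) hx,
          apply_eq_zero_of_mem_inducedIrrAbove (hJ φ') hx]) (by simp [hj]; ring)
      simp only [classInner_sub_right, classInner_smul_right, hM, map_natCast,
        classInner_eq_zero_comm.1 (classInner_one_of_mem_inducedIrrAbove (hJ _))] at this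
      apply Int.cast_injective (α := ℂ)
      push_cast at this ⊢
      linear_combination this
  · obtain ⟨y, hy, y1⟩ := exists_ne_one (H := Y) (by rintro rfl; rw [card_bot] at h4; omega)
    have h6 : ψ.1 = fun _ => 1 := by
      by_contra h2
      refine y1 (Subtype.ext ((eq_bot_iff_forall _).1 (ψ.2.charKer_eq_bot_of_simple h2) y
        (ψ.2.isCharacter.mem_charKer.2 ?_)))
      have h4 := (ψ.2.isClassFunction.restrict 𝓝).apply_eq_sum_irr
      refine (h4 y).trans (Eq.trans (Finset.sum_congr rfl fun μ _ => ?_) (h4 1).symm)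
      by_cases h7 : μ.1 ∈ J
      · by_cases h8 : μ.1 ∈ inducedIrrAbove K Y
        · obtain ⟨θ, -, -, t1, t2⟩ := mem_inducedIrrAbove.1 h8
          rw [t2, indFun_apply_eq_of_ker h3 t1 hy]
        · rw [show classInner _ _ = _ from hM ψ ⟨_, h7⟩,
            show M ψ ⟨_, h7⟩ = 0 by exact_mod_cast h ⟨_, h7⟩ (mt (hS _).1 h8)]
          simp
      · rw [show μ.1 y = μ.1 1 from
          not_not.1 fun e => h7 (mem_seqInd.2 (by rw [hS']; exact ⟨μ.2, y, h3 hy, e⟩))]
    have := hM ψ φ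
    rw [h6, classInner_eq_zero_comm.1 (classInner_one_of_mem_inducedIrrAbove (hJ _))] at this
    exact_mod_cast this.symm

end Z0

end Cfsg.Agent.Inv
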