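import Cfsg.Agent.Inv.Zas6
import Cfsg.Prelude.Def_Perm

/-! Regular normal subgroups, degree `p + 1`, the structure equation. -/

set_option autoImplicit false
set_option linter.unusedVariables false
set_option linter.unusedSectionVars false

namespace Cfsg.Agent.Inv

open Subgroup MulAction Cfsg.Agent.PLoc Cfsg.Agent.Class
open scoped MatrixGroups IsMulCommutative

variable {G Ω : Type*} [Group G] [MulAction G Ω] [Finite G]

theorem comm_of_isConj {N : Subgroup G} [hN : N.Normal]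
    (h : ∀ x ∈ N, ∀ y ∈ N, x ≠ 1 → y ≠ 1 → IsConj x y) : IsMulCommutative N := by
  by_cases h1 : N = ⊥
  · subst h1; infer_instance
  obtain ⟨p, hp, hd⟩ := Nat.exists_prime_and_dvd (mt card_eq_one.1 h1)
  have := Fact.mk hp
  obtain ⟨x, hx, xp⟩ := exists_mem_orderOf_eq_prime hp hd
  have x1 : x ≠ 1 := by rintro rfl; exact hp.one_lt.ne (by simpa using xp)
  have hP : IsPGroup p N := fun y => ⟨1, by
    by_cases e : y = 1
    · simp [e]
    obtain ⟨g, hg⟩ := isConj_iff.1 (h x hx y y.2 x1 fun e' => e (Subtype.ext e'))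
    refine Subtype.ext ?_
    rw [pow_one, coe_pow, ← hg, conj_pow, ← xp, pow_orderOf_eq_one]; simp⟩
  have := (nontrivial_iff_ne_bot N).2 h1
  obtain ⟨z, hz, z1⟩ := exists_ne_one ((nontrivial_iff_ne_bot _).1 hP.center_nontrivial)
  refine ⟨⟨fun w y => Subtype.ext ?_⟩⟩
  by_cases e : y = 1
  · simp [e]
  obtain ⟨g, hg⟩ := isConj_iff.1 (h z z.2 y y.2 (fun e' => z1 (Subtype.ext e'))
    fun e' => e (Subtype.ext e'))
  have := congrArg Subtype.val (mem_center_iff.1 hz ⟨g⁻¹ * w * g, hN.conj_mem' _ w.2 g⟩)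
  simp only [coe_mul] at this ⊢
  rw [← hg]
  calc (w : G) * (g * z * g⁻¹) = g * (g⁻¹ * w * g * z) * g⁻¹ := by group
    _ = _ := by rw [this]; group

/-- a regular normal subgroup -/
structure RegN (Ω : Type*) [MulAction G Ω] (N : Subgroup G) : Prop where
  normal : N.Normal
  tr : ∀ a b : Ω, ∃ g ∈ N, g • a = b
  free : ∀ g ∈ N, ∀ c : Ω, g • c = c → g = 1

namespace RegN

variable {N : Subgroup G} (R : RegN Ω N)
include R

theorem inj {x y : G} (hx : x ∈ N) (hy : y ∈ N) {a : Ω} (h : x • a = y • a) : x = y := by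
  rw [← inv_mul_eq_one]
  exact R.free _ (mul_mem (inv_mem hx) hy) a (by rw [mul_smul, ← h, inv_smul_smul])

theorem conj_eq {u x y : G} {a : Ω} (hu : u • a = a) (hx : x ∈ N) (hy : y ∈ N)
    (h : u • x • a = y • a) : u * x * u⁻¹ = y :=
  R.inj (R.normal.conj_mem _ hx u) hy (by rw [mul_smul, mul_smul, smul_eq_iff_inv.1 hu, h])

theorem ne {x : G} (hx : x ∈ N) (h : x ≠ 1) (a : Ω) : x • a ≠ a := fun e => h (R.free x hx a e)

theorem card (a : Ω) : Nat.card N = Nat.card Ω :=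
  Nat.card_eq_of_bijective (fun x : N => (x : G) • a) ⟨fun x y h => Subtype.ext (R.inj x.2 y.2 h),
    fun b => let ⟨g, h1, h2⟩ := R.tr a b; ⟨⟨g, h1⟩, h2⟩⟩

variable (Z : Z0 G Ω) {a b : Ω}
include Z

theorem conj_zk (a : Ω) {x y : G} (hx : x ∈ N) (hy : y ∈ N) (h1 : x ≠ 1) (h2 : y ≠ 1) :
    ∃ u ∈ zk G a, u * x * u⁻¹ = y := by
  obtain ⟨u, hu, e⟩ := Z.zk_trans (R.ne hx h1 a) (R.ne hy h2 a)
  exact ⟨u, hu, R.conj_eq (Z.zk_fix hu) hx hy e⟩

theorem comm (a : Ω) : IsMulCommutative N :=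
  have := R.normal
  comm_of_isConj fun x hx y hy h1 h2 =>
    let ⟨u, _, e⟩ := R.conj_zk Z a hx hy h1 h2; isConj_iff.2 ⟨u, e⟩

theorem fpf (a : Ω) : ∀ u ∈ zk G a, u ≠ 1 → N ⊓ centralizer {u} = ⊥ := fun u hu h1 =>
  eq_bot_iff.2 fun x hx => R.free x hx.1 a
    (Z.fix_of_comm hu h1 (mem_centralizer_singleton_iff.1 hx.2))

theorem affine (hab : a ≠ b) (hc : IsMulCommutative (zk G a)) :
    ∃ (F : Type) (_ : Field F) (_ : Fintype F) (J : F ≃ Ω), J 0 = a ∧ J 1 = b ∧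
      ∀ g : G, ∃ (c d : F) (τ : F ≃+* F), c ≠ 0 ∧ ∀ x, g • J x = J (c * τ x + d) := by
  have := R.normal
  obtain ⟨v, hv, va⟩ := R.tr a b
  obtain ⟨F, _, _, e, C, e1⟩ := exists_Crd (R.comm Z a) hc (le_normalizer_of_normal)
    (fun U hU h => or_iff_not_imp_left.2 fun h1 => le_antisymm hU fun y hy => by
      obtain ⟨x, hx, x1⟩ := exists_ne_one h1
      by_cases y1 : y = 1
      · exact y1 ▸ one_mem U
      obtain ⟨u, hu, e⟩ := R.conj_zk Z a (hU hx) hy x1 y1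
      exact e ▸ h u hu x hx) hv (by rintro rfl; exact hab (by rw [← va, one_smul]))
  refine ⟨F, inferInstance, inferInstance, Equiv.ofBijective (fun x => e x • a)
    ⟨fun x y h => C.inj (R.inj (C.mem x) (C.mem y) h), fun c => ?_⟩, ?_, ?_, fun g => ?_⟩
  · obtain ⟨g, h1, h2⟩ := R.tr a c
    obtain ⟨x, rfl⟩ := C.surj g h1
    exact ⟨x, h2⟩
  · change e 0 • a = a
    rw [C.zero, one_smul]
  · change e 1 • a = b
    rw [e1, va]
  obtain ⟨n, h1, h2⟩ := R.tr a (g • a)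
  obtain ⟨d, rfl⟩ := C.surj n h1
  have h3 : ((e d)⁻¹ * g) • a = a := by rw [mul_smul, ← h2, inv_smul_smul]
  obtain ⟨c, τ, h4, h5⟩ := C.semilin (t := (e d)⁻¹ * g) (le_normalizer_of_normal (mem_top _))
    (Z.stab_le_norm a h3)
  refine ⟨c, d, τ, h4, fun x => ?_⟩
  change g • e x • a = e _ • a
  rw [add_comm, C.add, ← h5, mul_smul, mul_smul, smul_eq_iff_inv.1 h3]
  simp [mul_smul]

theorem card_eq_two_pow (hab : a ≠ b) (hc : IsMulCommutative (zk G a)) {h : G}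
    (hh : h ∈ St2 G a b) (h1 : h ≠ 1) : Nat.card Ω = 2 ^ orderOf h := by
  classical
  obtain ⟨F, _, _, J, rfl, rfl, H⟩ := R.affine Z hab hc
  obtain ⟨c, d, τ, -, H⟩ := H h
  have d0 : d = 0 := by simpa [hh.1.symm ▸ H 0] using J.injective (hh.1.symm.trans (H 0)).symm
  have c1 : c = 1 := by simpa [d0] using J.injective (hh.2.symm.trans (H 1)).symm
  simp only [d0, c1, one_mul, add_zero] at H
  have Hk : ∀ (k : ℕ) x, h ^ k • J x = J ((τ ^ k) x) := fun k => by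
    induction k with
    | zero => simp
    | succ k ih => intro x; rw [pow_succ, mul_smul, H, ih, pow_succ]; rfl
  rw [← Nat.card_congr J, card_eq_pow_orderOf τ]
  congr 1
  · rw [Nat.card_eq_two_iff]
    refine ⟨⟨0, by simp⟩, ⟨1, by simp⟩, by simp, Set.eq_univ_of_forall fun x => ?_⟩
    rcases Z.fix_cases hab hh h1 ((H x).trans (congrArg J x.2)) with e | e
    · exact Or.inl (Subtype.ext (J.injective e))
    · exact Or.inr (Subtype.ext (J.injective e))
  · refine orderOf_eq_orderOf_iff.2 fun k => ⟨fun e => Z.faithful (J 0) fun y => ?_, fun e => ?_⟩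
    · obtain ⟨y, rfl⟩ := J.surjective y
      rw [Hk, e]; rfl
    · exact RingEquiv.ext fun x => J.injective (by rw [← Hk, e, one_smul]; rfl)

theorem zk_cyclic (hab : a ≠ b) (h : St2 G a b ≠ ⊥) : IsCyclic (zk G a) := by
  have := Fintype.ofFinite G
  have := R.normal
  have := Z.isNilpotent_zk hab h
  obtain ⟨h, hh, h1⟩ := exists_ne_one h
  obtain ⟨v, hv, va⟩ := R.tr a b
  have v1 : v ≠ 1 := by rintro rfl; exact hab (by rw [← va, one_smul])
  have h2 : h * v = v * h :=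
    mul_inv_eq_iff_eq_mul.1 (R.conj_eq hh.1 hv hv (by rw [va]; exact hh.2))
  have h3 : v * v = 1 := by
    rcases Z.fix_cases hab hh h1 (c := v • b) (by rw [← mul_smul, h2, mul_smul, hh.2]) with e | e
    · exact R.free _ (mul_mem hv hv) a (by rw [mul_smul, va, e])
    · exact absurd e (R.ne hv v1 b)
  have h4 : 2 ∣ Nat.card N := ord2_iff.2 ⟨h3, v1⟩ ▸ orderOf_dvd_card_of_mem hv
  rw [R.card a, ← Z.card_zk a] at h4
  have := Core.isZGroup_of_fpf_of_odd (A := zk G a) le_normalizer_of_normal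
    (fun e => v1 (by simpa [e] using hv)) (R.fpf Z a) (by omega)
  infer_instance

end RegN

theorem Z0.exists_regN (Z : Z0 G Ω) {a b : Ω} (hab : a ≠ b) (h : St2 G a b = ⊥) :
    ∃ N : Subgroup G, RegN Ω N := by
  obtain ⟨N, h1, h2, h3⟩ := Char.frobenius_kernel (stabilizer G a) fun g hg x hx hgx => by
    have h4 : a ≠ g⁻¹ • a := fun e => hg (smul_eq_iff_inv.2 e.symm)
    have := card_eq_one.1 ((Z.card_St2_eq h4 hab).trans (card_eq_one.2 h))
    exact (eq_bot_iff_forall _).1 this x ⟨hx, conj_smul_fix.1 hgx⟩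
  have key : ∀ c, ∃ g ∈ N, g • a = c := fun c => by
    obtain ⟨g, hg⟩ := Z.tr1 a c
    obtain ⟨⟨n, s⟩, e⟩ := h3.2 g
    exact ⟨n, n.2, by rw [← hg, ← e, mul_smul, show (s : G) • a = a from s.2]⟩
  refine ⟨N, h1, fun c d => ?_, fun g hg c hc => ((h2 g).1 hg).resolve_right fun e => ?_⟩
  · obtain ⟨x, hx, rfl⟩ := key c
    obtain ⟨y, hy, rfl⟩ := key d
    exact ⟨y * x⁻¹, mul_mem hy (inv_mem hx), by simp [mul_smul]⟩
  · obtain ⟨x, hx⟩ := Z.tr1 c a
    exact e x (conj_smul_fix.2 (by rwa [smul_eq_iff_inv.1 hx]))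

theorem Z0.zas_or_regN (Z : Z0 G Ω) {a b : Ω} (hab : a ≠ b) :
    IsZassenhausGroup G Ω ∨ ∃ N : Subgroup G, RegN Ω N := by
  by_cases h : St2 G a b = ⊥
  · exact Or.inr (Z.exists_regN hab h)
  refine or_iff_not_imp_right.2 fun h1 => ⟨⟨fun {g k} e => ?_⟩,
    is_two_pretransitive_iff.2 Z.tr2, fun g a b c => Z.fix3 g, ?_, fun N h2 h3 => ?_⟩
  · rw [← inv_mul_eq_one]
    exact Z.faithful a fun x => by rw [mul_smul, ← e, inv_smul_smul]
  · obtain ⟨g, h2, h3⟩ := exists_ne_one h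
    exact ⟨g, h3, a, b, hab, h2⟩
  · by_contra h4
    push Not at h4
    refine h1 ⟨N, h2, fun c d => ?_, fun g hg c hc => ?_⟩
    · obtain ⟨g, hg⟩ := h3.1 c d
      exact ⟨g, g.2, hg⟩
    · exact congrArg Subtype.val ((eq_bot_iff_forall _).1 (h4 c) ⟨g, hg⟩ hc)

theorem Z0.prime_degree (Z : Z0 G Ω) {a b : Ω} (hab : a ≠ b) {p : ℕ} (hp : p.Prime)
    (hK : Nat.card (zk G a) = p) :
    (Nat.card (St2 G a b) + 1 = p ∧ Nonempty (G ≃* PGL(2, ZMod p))) ∨
    (2 * Nat.card (St2 G a b) + 1 = p ∧ Nonempty (G ≃* PSL(2, ZMod p))) ∨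
    ∃ q : ℕ, q.Prime ∧ p + 1 = 2 ^ q ∧ (Nat.card (St2 G a b) = 1 ∨ Nat.card (St2 G a b) = q) ∧
      (∃ N : Subgroup G, RegN Ω N) ∧ ∃ J : GaloisField 2 q ≃ Ω, ∀ g : G,
        ∃ (c d : GaloisField 2 q) (τ : GaloisField 2 q ≃+* GaloisField 2 q), c ≠ 0 ∧
          ∀ x, g • J x = J (c * τ x + d) := by
  have := Fact.mk hp
  have := Z.finite a
  have hc : IsCyclic (zk G a) := isCyclic_of_prime_card hK
  have hc' : IsMulCommutative (zk G a) := inferInstance
  have pgl : ∀ {F : Type} [Field F] [Fintype F], Fintype.card F = Nat.card (zk G a) →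
      Nonempty (G ≃* PGL(2, F)) → Nonempty (G ≃* PGL(2, ZMod p)) := fun h ⟨f⟩ =>
    ⟨f.trans (pglCongr (ZMod.ringEquivOfPrime _ hp (h.trans hK))).symm⟩
  by_cases p2 : p = 2
  · have h1 : Nat.card (St2 G a b) = 1 := by simpa [hK, p2] using Z.card_dvd hab
    obtain ⟨s, s1, s2⟩ := Z.tr2 hab hab.symm
    obtain ⟨F, _, _, h2, h3⟩ := Z.pgl_of_invE hab (Z.invE_of hab s1 s2 fun x hx => by
      rw [(eq_bot_iff_forall _).1 (card_eq_one.1 h1) x hx]; simp) (by omega)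
    exact Or.inl ⟨by omega, pgl h2 h3⟩
  rcases Z.zas_or_regN hab with hZ | ⟨N, R⟩
  · rcases zas_comm hZ hab hc' with h | ⟨h, F, _, _, h2, ⟨f⟩⟩
    · obtain ⟨F, _, _, h2, h3⟩ := Z.pgl_of_odd hab ((Z.tr3_iff_card hab).2 h) hp p2 odd_one
        (by rw [hK, pow_one])
      exact Or.inl ⟨hK ▸ h, pgl h2 h3⟩
    · exact Or.inr (Or.inl ⟨hK ▸ h,
        ⟨f.trans (pslCongr (ZMod.ringEquivOfPrime _ hp (h2.trans hK))).symm⟩⟩)
  obtain ⟨F, _, _, J, -, -, H⟩ := R.affine Z hab hc'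
  have hF : Fintype.card F = p + 1 := by
    rw [← Nat.card_eq_fintype_card, Nat.card_congr J, ← Z.card_zk a, hK]
  obtain ⟨r, _, q, hr, hq⟩ := FiniteField.card' F
  have r2 : r = 2 := by
    have : 2 ∣ r ^ (q : ℕ) := by rw [← hq, hF]; exact (hp.odd_of_ne_two p2).add_one.two_dvd
    exact ((Nat.prime_dvd_prime_iff_eq Nat.prime_two hr).1 (Nat.prime_two.dvd_of_dvd_pow this)).symm
  subst r2
  have h1 : p + 1 = 2 ^ (q : ℕ) := hF.symm.trans hq
  have h2 : (q : ℕ).Prime := (Nat.prime_of_pow_sub_one_prime (a := 2)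
    (fun e => by rw [e] at h1; have := hp.two_le; omega) (by rwa [← h1, Nat.add_sub_cancel])).2
  have := Fintype.ofFinite (GaloisField 2 q)
  have φ : F ≃+* GaloisField 2 q := FiniteField.ringEquivOfCardEq (by
    rw [hq, ← Nat.card_eq_fintype_card, GaloisField.card 2 q q.ne_zero])
  refine Or.inr (Or.inr ⟨q, h2, h1, or_iff_not_imp_left.2 fun h3 => ?_, ⟨N, R⟩,
    φ.symm.toEquiv.trans J, fun g => ?_⟩)
  · obtain ⟨u, hu, u1⟩ := exists_ne_one (Z.zk_ne_bot a)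
    have h4 : IsCyclic (St2 G a b) := Z.isCyclic_of_comm hab le_rfl ⟨⟨fun x y => Subtype.ext (by
      refine commutatorElement_eq_one_iff_mul_comm.1 (Z.eq_one_of_mem_zk_St2 hab ?_
        (mul_mem (mul_mem (mul_mem x.2 y.2) (inv_mem x.2)) (inv_mem y.2)))
      exact Z.mem_zk_of_comm hu u1 (comm_le_cent_of_isCyclic hc (commutator_mem_commutator
        (Z.St2_le_norm a b x.2) (Z.St2_le_norm a b y.2)) u hu).symm)⟩⟩
    obtain ⟨g, hg⟩ := h4.exists_ofOrder_eq_natCard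
    have := R.card_eq_two_pow Z hab hc' g.2 fun e => h3 (by
      rw [← hg, ← orderOf_coe, e, orderOf_one])
    rw [orderOf_coe, hg, ← Z.card_zk a, hK, h1] at this
    exact (Nat.pow_right_injective le_rfl this).symm
  · obtain ⟨c, d, τ, h3, h4⟩ := H g
    exact ⟨φ c, φ d, (φ.symm.trans τ).trans φ, by simpa using h3, fun x => by simp [h4]⟩

theorem z0_of_prime_degree {p d : ℕ} (hp : p.Prime) (hΩ : Nat.card Ω = p + 1)
    (hf : ∀ g : G, (∀ c : Ω, g • c = c) → g = 1) [IsPretransitive G Ω]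
    (hG : Nat.card G = (p + 1) * p * d) (hd : d < p) : Z0 G Ω := by
  classical
  have := Fact.mk hp
  have : Finite Ω := Nat.finite_of_card_ne_zero (by omega)
  have := Fintype.ofFinite Ω
  have d0 : d ≠ 0 := by rintro rfl; exact Nat.card_pos.ne' hG
  have key : ∀ a : Ω, ∃ P : Subgroup G, (∀ x ∈ P, x • a = a) ∧ Nat.card P = p ∧
      (∀ g : G, g • a = a → ∀ x ∈ P, g * x * g⁻¹ ∈ P) ∧
      ∀ b c, b ≠ a → c ≠ a → ∃! x : P, (x : G) • b = c := fun a => by
    have h1 : Nat.card (stabilizer G a) = p * d := by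
      have := (stabilizer G a).index_mul_card
      rw [index_stabilizer_of_transitive, hΩ, hG, mul_assoc] at this
      exact Nat.eq_of_mul_eq_mul_left (by omega) this
    obtain ⟨P⟩ : Nonempty (Sylow p (stabilizer G a)) := inferInstance
    have h2 : Nat.card P = p := by
      rw [P.card_eq_multiplicity, h1, Nat.factorization_mul hp.ne_zero d0, Finsupp.add_apply,
        hp.factorization_self, Nat.factorization_eq_zero_of_lt hd, pow_one]
    have h3 : P.index = d := by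
      have := P.index_mul_card
      rw [h1, h2, mul_comm] at this
      exact Nat.eq_of_mul_eq_mul_left hp.pos this
    have h4 : Nat.card (Sylow p (stabilizer G a)) = 1 :=
      (card_sylow_modEq_one p _).eq_of_lt_of_lt
        ((Nat.le_of_dvd (by omega) (h3 ▸ P.card_dvd_index)).trans_lt hd) hp.one_lt
    have := (Nat.card_eq_one_iff_unique.1 h4).1
    have h5 := P.normal_of_subsingleton
    have h6 : Nat.card (P.map (stabilizer G a).subtype) = p := by
      rw [card_map_of_injective (subtype_injective _), h2]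
    have h7 : ∀ x ∈ P.map (stabilizer G a).subtype, x • a = a := by
      rintro _ ⟨x, -, rfl⟩; exact x.2
    refine ⟨_, h7, h6, ?_, ?_⟩
    · rintro g hg _ ⟨x, hx, rfl⟩
      exact ⟨_, h5.conj_mem x hx ⟨g, hg⟩, rfl⟩
    generalize P.map (stabilizer G a).subtype = Q at h6 h7
    have h8 : ∀ x : Q, x ≠ 1 → ∀ b, (x : G) • b = b → b = a := fun x hx b hb => by
      by_contra hba
      have h9 := card_fixedBy_modEq (Ω := Ω) (p := p) (g := (x : G)) (by
        rw [← h6, ← coe_pow, pow_card_eq_one', coe_one])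
      have h10 : 2 ≤ Nat.card (fixedBy Ω (x : G)) := by
        exact Finite.one_lt_card_iff_nontrivial.2 ⟨⟨b, hb⟩, ⟨a, h7 _ x.2⟩,
          fun e => hba (congrArg Subtype.val e)⟩
      have h11 : Nat.card (fixedBy Ω (x : G)) < p + 1 := by
        rw [← hΩ]
        obtain ⟨c, hc⟩ := not_forall.1 (mt (hf x) fun e => hx (Subtype.ext e))
        exact Finite.card_subtype_lt hc
      have h12 := (Nat.modEq_iff_dvd' h11.le).1 (hΩ ▸ h9).symm
      have := Nat.le_of_dvd (by omega) h12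
      omega
    intro b c hb hc
    let f : Q → {c // c ≠ a} := fun x => ⟨(x : G) • b, fun e => hb (by
      rw [smul_eq_iff_inv] at e
      exact e.symm.trans (h7 _ (inv_mem x.2)))⟩
    have hf : Function.Bijective f := (Nat.bijective_iff_injective_and_card f).2 ⟨fun x y e => by
      rw [← inv_mul_eq_one]
      by_contra h9
      refine hb (h8 _ h9 b ?_)
      rw [coe_mul, mul_smul, ← show (x : G) • b = (y : G) • b from congrArg Subtype.val e]
      simp, by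
      rw [h6, Nat.card_eq_fintype_card, Fintype.card_subtype_compl, ← Nat.card_eq_fintype_card, hΩ]
      simp⟩
    simpa [f, Subtype.ext_iff (p := (· ≠ a))] using hf.existsUnique ⟨c, hc⟩
  refine ⟨fun {a b c e} h1 h2 => ?_, fun g a b c h1 h2 h3 ga gb gc => hf g fun y => ?_, fun a b =>
    exists_ne_ne (by rw [← Nat.card_eq_fintype_card, hΩ]; exact hp.two_le.trans_lt (by omega)) a b⟩
  · obtain ⟨g, rfl⟩ := exists_smul_eq G a c
    obtain ⟨P, h3, -, -, h4⟩ := key (g • a)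
    obtain ⟨x, hx, -⟩ := h4 (g • b) e (fun e => h1 (smul_left_cancel g e).symm) h2.symm
    exact ⟨x * g, by rw [mul_smul, h3 _ x.2], by rw [mul_smul, hx]⟩
  · obtain ⟨P, h4, h5, h6, h7⟩ := key a
    obtain ⟨x, hx, hx'⟩ := h7 b c h1.symm h3.symm
    have h8 : g * x * g⁻¹ = x := congrArg Subtype.val (hx' ⟨_, h6 g ga _ x.2⟩ (by
      simp only [mul_smul, smul_eq_iff_inv.1 gb, hx, gc]))
    by_cases h9 : y = a
    · rw [h9, ga]
    obtain ⟨z, rfl, -⟩ := h7 b y h1.symm h9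
    obtain ⟨k, rfl⟩ := mem_zpowers_of_prime_card h5 (g := x) (g' := z) (by
      rintro rfl; exact h2 (by simpa using hx))
    have : g * ((x : G) ^ k) = (x : G) ^ k * g :=
      ((commute_iff_eq _ _).2 (mul_inv_eq_iff_eq_mul.1 h8)).zpow_right k
    simp only [coe_zpow]
    rw [← mul_smul, this, mul_smul, gb]

theorem s0732 {α : Type*} [Fintype α] [DecidableEq α] {p d : ℕ} (hp : p.Prime) (hα : Fintype.card α = p + 1) (G : Subgroup (Equiv.Perm α)) [MulAction.IsPretransitive G α] (hG : Nat.card G = (p + 1) * p * d) (hd : d < p) : (d = p - 1 ∧ Nonempty (G ≃* Matrix.ProjGenLinGroup (Fin 2) (ZMod p))) ∨ (2 * d = p - 1 ∧ Nonempty (G ≃* Matrix.ProjectiveSpecialLinearGroup (Fin 2) (ZMod p))) ∨ (∃ q : ℕ, q.Prime ∧ p + 1 = 2 ^ q ∧ (d = 1 ∨ d = q) ∧ ∃ e : α ≃ GaloisField 2 q, ∀ g : G, (e.symm.trans (((g : Equiv.Perm α)).trans e)) ∈ Cfsg.semiaffineGroup (GaloisField 2 q)) := by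
  rw [← Nat.card_eq_fintype_card] at hα
  have Z : Z0 G α := z0_of_prime_degree hp hα (fun g h => Subtype.ext (Equiv.ext h)) hG hd
  obtain ⟨a⟩ : Nonempty α := (Nat.card_ne_zero.1 (by omega)).1
  obtain ⟨b, hb⟩ := Z.exists_ne a
  have hK : Nat.card (zk G a) = p := by have := Z.card_zk a; omega
  have hd : Nat.card (St2 G a b) = d := by
    have := Z.card_eq hb.symm
    rw [hG, hK] at this
    exact Nat.eq_of_mul_eq_mul_left (mul_pos p.add_one_pos hp.pos) (by rw [this]; ring)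
  rcases Z.prime_degree hb.symm hp hK with h | h | ⟨q, h1, h2, h3, -, J, h⟩
  · exact Or.inl ⟨by omega, h.2⟩
  · exact Or.inr (Or.inl ⟨by omega, h.2⟩)
  refine Or.inr (Or.inr ⟨q, h1, h2, hd ▸ h3, J.symm, fun g => ?_⟩)
  obtain ⟨c, d, τ, h4, h5⟩ := h g
  exact ⟨Units.mk0 c h4, d, τ, fun x => J.symm_apply_eq.2 (h5 x)⟩

theorem s0341 {G Ω : Type*} [Group G]
    [MulAction G Ω] [Fintype Ω] [FaithfulSMul G Ω] (h2 : MulAction.IsMultiplyPretransitive G Ω 2)
    (h3 : ∀ g : G, ∀ a b c : Ω, a ≠ b → b ≠ c → a ≠ c → g • a = a → g • b = b → g • c = c → g = 1)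
    (hfix : ∃ g : G, g ≠ 1 ∧ ∃ a b : Ω, a ≠ b ∧ g • a = a ∧ g • b = b)
    (N : Subgroup G) [N.Normal] (hNt : MulAction.IsPretransitive N Ω)
    (hNr : ∀ a : Ω, MulAction.stabilizer N a = ⊥) :
    ∃ p : ℕ, p.Prime ∧ Fintype.card Ω = 2 ^ p := by
  have := finite_of_faithful (G := G) (Ω := Ω) ‹_›
  have Z := z0_of ‹_› h2 h3 hfix
  obtain ⟨g, g1, a, b, hab, hg⟩ := hfix
  have R : RegN Ω N := ⟨‹_›, fun c d => let ⟨g, hg⟩ := hNt.1 c d; ⟨g, g.2, hg⟩, fun g hg c hc =>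
    congrArg Subtype.val ((eq_bot_iff_forall _).1 (hNr c) ⟨g, hg⟩ hc)⟩
  have h1 : St2 G a b ≠ ⊥ := fun e => g1 ((eq_bot_iff_forall _).1 e g hg)
  have := R.zk_cyclic Z hab h1
  obtain ⟨p, hp, hd⟩ := Nat.exists_prime_and_dvd (mt card_eq_one.1 h1)
  obtain ⟨x, hx, xp⟩ := exists_mem_orderOf_eq_prime hp hd
  refine ⟨p, hp, ?_⟩
  rw [← Nat.card_eq_fintype_card, ← xp]
  exact R.card_eq_two_pow Z hab inferInstance hx
    (by rintro rfl; exact hp.one_lt.ne (by simpa using xp))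

theorem s1167 {G Ω : Type*} [Group G] [Finite G] [MulAction G Ω] [Finite Ω]
    (hZ : Cfsg.IsZassenhausGroup G Ω) [IsSimpleGroup G] {a : Ω}
    (U : Subgroup G) (hUle : U ≤ MulAction.stabilizer G a)
    (hUn : ∀ h ∈ MulAction.stabilizer G a, ∀ u ∈ U, h * u * h⁻¹ ∈ U)
    (hreg : ∀ c d : Ω, c ≠ a → d ≠ a → ∃! u : U, (u : G) • c = d)
    (hU2 : IsPGroup 2 U) (hUab : ∀ u ∈ U, ∀ u' ∈ U, u * u' = u' * u)
    (v : G) (hv1 : v ≠ 1) (hv2 : v * v = 1) (hva : v • a ≠ a) :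
    ∃! u₀ : G, u₀ ∈ U ∧ u₀ ≠ 1 ∧ v * u₀ * v = u₀ * v * u₀ := by
  have Z := hZ.z0
  obtain rfl := Z.eq_zk_of_reg hUle hreg
  have hev : Even (Nat.card (zk G a)) := by
    obtain ⟨m, hm⟩ := IsPGroup.iff_card.1 hU2
    have := Z.two_le_card_zk a
    rw [hm] at this ⊢
    exact (Nat.even_pow' (by rintro rfl; simp at this)).2 even_two
  have hsq : ∀ u ∈ zk G a, u * u = 1 := by
    rcases feit_zas hZ hva.symm with h | ⟨p, -, -, h, -⟩
    · obtain ⟨-, p, f, hp, h1, h2⟩ := Z.elem_of_large hva.symm h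
      rw [h2] at hev
      obtain rfl := hp.even_iff.1 (Nat.even_pow.1 hev).1
      exact fun u hu => by rw [← sq, h1 u hu]
    · exact absurd ⟨⟨fun x y => Subtype.ext (hUab _ x.2 _ y.2)⟩⟩ h
  obtain ⟨c, hc⟩ := Z.exists_fix_of_even hev hv2
  have hvc := Z.mem_zk_of_invol hva.symm (Z.odd_St2_of_even hva.symm hev) (ord2_iff.2 ⟨hv2, hv1⟩) hc
  have vv : ∀ x : Ω, v • v • x = x := fun x => by rw [← mul_smul, hv2, one_smul]
  have ca : c ≠ a := by rintro rfl; exact hva hc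
  have cb : c ≠ v • a := by rintro rfl; exact hva ((vv a).symm.trans hc).symm
  obtain ⟨u, hu, e⟩ := Z.zk_trans hva ca
  have uc : u • c = v • a := by rw [← e, ← mul_smul, hsq u hu, one_smul]
  refine ⟨u, ⟨hu, by rintro rfl; exact cb (by simpa using e.symm), Z.eq_of_three hva.symm ca cb
    ?_ ?_ ?_⟩, fun w ⟨hw, w1, h⟩ => Z.zk_inj hw hu hva (e ▸ Z.eq_of_mem_zk hv1 hvc ?_)⟩
  · simp only [mul_smul, e, hc, Z.zk_fix hu]
  · simp only [mul_smul, e, hc, vv, uc, Z.zk_fix hu]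
  · simp only [mul_smul, e, hc, vv, uc, Z.zk_fix hu]
  · have := congrArg (· • v • a) h
    simp only [mul_smul, vv, Z.zk_fix hw] at this
    rw [eq_comm, smul_eq_iff_inv, inv_eq_of_mul_eq_one_right (hsq w hw)] at this
    exact this.symm

end Cfsg.Agent.Inv
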