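import Cfsg.Agent.Inv.R1c
import Cfsg.Agent.Inv.Zas10
import Cfsg.Agent.Inv.Zas7
import Cfsg.Agent.Inv.BR1

/-! Simple Zassenhaus groups: the Suzuki case and the classification. -/

set_option autoImplicit false
set_option linter.unusedVariables false
set_option linter.unusedSectionVars false

namespace Cfsg.Agent.Inv

open Subgroup MulAction Cfsg.Agent.PLoc
open scoped Pointwise commutatorElement MatrixGroups

variable {G Ω : Type*} [Group G] [MulAction G Ω] [Finite G]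

theorem Z0.r1 (Z : Z0 G Ω) (h2 : IsMultiplyPretransitive G Ω 2) {a : Ω} {t : G} (ht : orderOf t = 2)
    (hta : t • a ≠ a) (he : Even (Nat.card (zk G a))) : R1 G Ω a t (zk G a) where
  two_transitive := h2
  mul_self := (ord2_iff.1 ht).1
  ne_one := (ord2_iff.1 ht).2
  not_mem := hta
  le := Z.zk_le a
  conj_mem := fun h hh x hx => Z.conj_mem_zk' hh hx
  inf_eq_bot := (eq_bot_iff_forall _).2 fun u hu => Z.zk_free hu.1 hta hu.2
  sup_eq := by rw [sup_comm]; exact Z.zk_sup hta.symm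
  even_card := he
  odd_card := Z.odd_St2_of_even hta.symm he

theorem four_of_card {P : Subgroup G} (hP : IsPGroup 2 P) (h : 2 ≤ {t ∈ P | orderOf t = 2}.ncard) :
    Four G := by
  obtain ⟨x, hx, y, hy, xy⟩ := (Set.one_lt_ncard (Set.toFinite _)).1 h
  have : Nontrivial P := ⟨⟨x, hx.1⟩, 1, fun e => (ord2_iff.1 hx.2).2 (congrArg Subtype.val e)⟩
  have := hP.center_nontrivial
  obtain ⟨⟨z, hz⟩, z1⟩ := exists_ne (1 : center P)
  obtain ⟨k, k1, k2⟩ := exists_invol_pow hP (x := z) (by simpa using z1)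
  have c : ∀ w ∈ P, ((z ^ k : P) : G) * w = w * (z ^ k : P) := fun w hw =>
    (congrArg Subtype.val (mem_center_iff.1 (pow_mem hz k) ⟨w, hw⟩)).symm
  have k3 : ((z ^ k : P) : G) ≠ 1 := fun e => k1 (Subtype.ext e)
  have k4 : ((z ^ k : P) : G) * (z ^ k : P) = 1 := congrArg Subtype.val k2
  by_cases e : ((z ^ k : P) : G) = x
  · exact ⟨_, y, k3, (ord2_iff.1 hy.2).2, e ▸ xy, k4, (ord2_iff.1 hy.2).1, c y hy.1⟩
  · exact ⟨_, x, k3, (ord2_iff.1 hx.2).2, e, k4, (ord2_iff.1 hx.2).1, c x hx.1⟩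

theorem suz_arith {q : ℕ} (h4 : 4 ≤ q) (he : Even q) : ¬ q + 1 ∣ (q - 1) * q ^ 2 * (q ^ 2 + 1) := by
  intro h
  obtain ⟨m, rfl⟩ : ∃ m, q = m + 1 := ⟨q - 1, by omega⟩
  have h1 : ((m + 1 + 1 : ℕ) : ℤ) ∣ 4 := by
    have := Int.natCast_dvd_natCast.2 h
    push_cast at this ⊢
    have e : (4 : ℤ) = (m + 1 + 1) * ((m:ℤ) ^ 4 + 2 * m ^ 3 + 3 * m ^ 2 + 2) - m * (m + 1) ^ 2 * ((m + 1) ^ 2 + 1) := by
      ring
    rw [e]
    exact dvd_sub (dvd_mul_right _ _) this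
  have := Int.le_of_dvd (by norm_num) h1
  omega

theorem zas_suz [Finite Ω] (hZ : IsZassenhausGroup G Ω) [IsSimpleGroup G] {a b : Ω} (hab : a ≠ b)
    (hU : IsPGroup 2 (zk G a)) (hn : ¬ IsMulCommutative (zk G a)) :
    ∃ n, Odd n ∧ 1 < n ∧ Nat.card (zk G a) = (2 ^ n) ^ 2 ∧ Nat.card (St2 G a b) + 1 = 2 ^ n ∧
      IsSuzukiTwoGroup (zk G a) ∧ Nat.card (center (zk G a)) = 2 ^ n := by
  have Z := hZ.z0
  have hev : Even (Nat.card (zk G a)) := by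
    obtain ⟨m, hm⟩ := IsPGroup.iff_card.1 hU
    have := Z.two_le_card_zk a
    rw [hm] at this ⊢
    exact (Nat.even_pow' (by rintro rfl; simp at this)).2 even_two
  obtain ⟨t, t2, rfl, -⟩ := Z.exists_swap hab
  have S := Z.r1 hZ.2.1 t2 hab.symm hev
  have h2 : Four G := four_of_card hU (by
    have := Z.card_invol_zk hab hev a
    rw [show {t ∈ zk G a | orderOf t = 2} = {t : G | orderOf t = 2 ∧ t • a = a} from
      Set.ext fun x => ⟨fun h => ⟨h.2, Z.zk_fix h.1⟩, fun h => ⟨S.inv_Q (ord2_iff.1 h.1).1 h.2, h.1⟩⟩]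
    exact le_of_le_of_eq ((St2 G a (t • a)).one_lt_card_iff_ne_bot.2 (hZ.St2_ne_bot hab)) this.symm)
  have hK : S.K h2 = St2 G a (t • a) := le_antisymm (S.K_le h2) fun x hx =>
    ⟨hx, Z.invE_of_even hev hab rfl (S.tt a) x hx⟩
  obtain ⟨n, n2, hq⟩ := S.card_Q0 h2
  have h3 := S.card_K' h2
  rw [hK, hq] at h3
  have h4 : Nat.card (zk G a) = (2 ^ n) ^ 2 := by
    refine (hq ▸ S.suz_card h2 hU hn).resolve_right fun h => ?_
    have := Fintype.ofFinite G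
    have := Fintype.ofFinite (stabilizer G a)
    have := Fintype.ofFinite (zk' G a)
    have : ((S.Q0 h2).subgroupOf (stabilizer G a)).Normal :=
      (normal_subgroupOf_iff_le_normalizer ((S.Q0_le h2).trans S.le)).2 (S.Q0_norm h2)
    refine Z.not_cube hab n2 h h3 (Y := (S.Q0 h2).subgroupOf _) (fun x hx => S.Q0_le h2 hx) ?_
      (commutator_le.2 fun x hx y hy => S.suz_comm h2 hU hn hx hy)
    rw [← hq, Nat.card_congr (subgroupOfEquivOfLe ((S.Q0_le h2).trans S.le)).toEquiv]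
  refine ⟨n, Nat.not_even_iff_odd.1 fun ⟨m, hm⟩ => ?_, n2, h4, h3, S.suzuki h2 hU hn,
    (S.card_center h2 hU hn).trans hq⟩
  have h5 : 3 ∣ Nat.card (St2 G a (t • a)) := by
    have : 2 ^ n ≡ 1 [MOD 3] := by
      rw [hm, ← two_mul, pow_mul]; exact (Nat.ModEq.pow m (show 2 ^ 2 ≡ 1 [MOD 3] by decide)).trans (by simp; rfl)
    rw [← h3, Nat.ModEq] at this; omega
  have : Fact (Nat.Prime 3) := ⟨Nat.prime_three⟩
  obtain ⟨k, hk⟩ := exists_prime_orderOf_dvd_card' 3 h5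
  obtain ⟨s, s1, s2, s3⟩ := S.three k.2 (hK.ge k.2).2 (by rw [orderOf_coe, hk])
  obtain ⟨M, -, -, -, -, h6⟩ := S.delta h2 s1 s2 ⟨s2, (ord2_iff.1 s1).1⟩ s3
  have h7 := ((card_orbit_dvd M a).trans (card_subgroup_dvd_card M))
  rw [h6, Z.card_eq hab, h4, hq, show Nat.card (St2 G a (t • a)) = 2 ^ n - 1 by omega] at h7
  exact suz_arith (hq ▸ S.four_le h2) ((Nat.even_pow' (by omega)).2 even_two) h7

theorem zas_isSuzuki [Finite Ω] (hZ : IsZassenhausGroup G Ω) [hs : IsSimpleGroup G] {a : Ω}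
    (hU : IsPGroup 2 (zk G a)) (hn : ¬ IsMulCommutative (zk G a)) : IsSuzuki G := by
  obtain ⟨b, hb⟩ := hZ.z0.exists_ne a
  obtain ⟨n, ⟨m, rfl⟩, n1, h1, h2, -⟩ := zas_suz hZ hb.symm hU hn
  refine ⟨hs, m, by omega, ?_⟩
  rw [hZ.z0.card_eq hb.symm, h1, ← h2, Nat.add_sub_cancel]; ring

theorem s0347 {G Ω : Type*} [Group G] [Finite G] [MulAction G Ω] [Finite Ω]
    (hZ : Cfsg.IsZassenhausGroup G Ω) [IsSimpleGroup G]
    (x : Ω) (U : Subgroup G) (hUle : U ≤ MulAction.stabilizer G x) (hUn : (U.subgroupOf (MulAction.stabilizer G x)).Normal)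
    (hU2 : IsPGroup 2 U) (hUna : ∃ u v : U, u * v ≠ v * u)
    (hreg : ∀ y z : Ω, y ≠ x → z ≠ x → ∃! u : U, (u : G) • y = z) :
    Cfsg.IsSuzuki G := by
  obtain rfl := hZ.z0.eq_zk_of_reg hUle hreg
  obtain ⟨u, v, h⟩ := hUna
  exact zas_isSuzuki hZ hU2 fun hc => h (hc.1.1 u v)

theorem s1147 {G Ω : Type*} [Group G] [Finite G] [MulAction G Ω] [Finite Ω]
    (hZ : Cfsg.IsZassenhausGroup G Ω) [IsSimpleGroup G] {a b : Ω} (hab : a ≠ b)
    (U : Subgroup G) (hUle : U ≤ MulAction.stabilizer G a)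
    (hUn : ∀ h ∈ MulAction.stabilizer G a, ∀ u ∈ U, h * u * h⁻¹ ∈ U)
    (hreg : ∀ c d : Ω, c ≠ a → d ≠ a → ∃! u : U, (u : G) • c = d)
    (hU2 : IsPGroup 2 U) (hUna : ∃ u ∈ U, ∃ v ∈ U, u * v ≠ v * u) :
    ∃ n : ℕ, Odd n ∧ 1 < n ∧ Nat.card Ω = 2 ^ (2 * n) + 1 ∧
      IsCyclic ↥(MulAction.stabilizer G a ⊓ MulAction.stabilizer G b) ∧
      Nat.card ↥(MulAction.stabilizer G a ⊓ MulAction.stabilizer G b) = 2 ^ n - 1 ∧
      ∃ (F : Type) (_ : Field F) (_ : Fintype F) (φ : F ≃+* F), Fintype.card F = 2 ^ n ∧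
        Nonempty (U ≃* Cfsg.suzukiTypeA F (φ : F →+* F)) := by
  obtain rfl := hZ.z0.eq_zk_of_reg hUle hreg
  obtain ⟨u, hu, v, hv, h⟩ := hUna
  obtain ⟨n, n1, n2, h1, h2, h3, h4⟩ := zas_suz hZ hab hU2 fun hc =>
    h (congrArg Subtype.val (hc.1.1 ⟨u, hu⟩ ⟨v, hv⟩))
  obtain ⟨F, _, _, φ, h5, -, -, h6⟩ := s1139 h3 (by rw [h1, h4])
  refine ⟨n, n1, n2, by rw [← hZ.z0.card_zk a, h1, ← pow_mul, mul_comm], (s0345 hZ hab).1,
    by rw [← h2]; rfl, F, inferInstance, inferInstance, φ, h5.trans h4, h6⟩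

theorem s0340 {G Ω : Type*} [Group G] [Finite G] [MulAction G Ω]
    [Finite Ω] (hZ : Cfsg.IsZassenhausGroup G Ω) [IsSimpleGroup G] :
    (∃ (F : Type) (_ : Field F) (_ : Fintype F), Nonempty (G ≃* Matrix.ProjectiveSpecialLinearGroup (Fin 2) F)) ∨ Cfsg.IsSuzuki G := by
  have Z := hZ.z0
  obtain ⟨-, -, a, b, hab, -⟩ := hZ.2.2.2.1
  rcases (Nat.card (St2 G a b)).even_or_odd with he | ho
  · obtain ⟨F, _, _, -, e⟩ := s0344 hZ hab he
    exact Or.inl ⟨F, inferInstance, inferInstance, e⟩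
  rcases feit_two hZ hab ho with h | ⟨h1, h2, -⟩
  · rcases zas_comm hZ hab (Z.elem_of_large hab h).1 with h3 | ⟨-, F, _, _, -, e⟩
    · obtain ⟨F, _, _, hF, ⟨e⟩⟩ := Z.pgl_of_invE hab (Z.invE_simple hab) h3
      obtain ⟨e'⟩ := psl_of_pgl (F := F) (by rw [hF, ← h3]; exact ho.add_one)
      exact Or.inl ⟨F, inferInstance, inferInstance, ⟨e.trans e'.symm⟩⟩
    · exact Or.inl ⟨F, inferInstance, inferInstance, e⟩
  · exact Or.inr (zas_isSuzuki hZ h1 h2)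

end Cfsg.Agent.Inv
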