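import Cfsg.Agent.Inv.Zas1
import Cfsg.Agent.Inv.Two

/-! Zassenhaus groups: elementary results. -/

set_option autoImplicit false
set_option linter.unusedVariables false
set_option linter.unusedSectionVars false

namespace Cfsg.Agent.Inv

open Subgroup MulAction Cfsg.Agent.PLoc

variable {G Ω : Type*} [Group G] [MulAction G Ω]

theorem card_fixedBy_modEq [Finite Ω] {p : ℕ} [Fact p.Prime] {g : G} (h : g ^ p = 1) :
    Nat.card Ω ≡ Nat.card (fixedBy Ω g) [MOD p] := by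
  have h1 := (isPGroup_zpowers (p := p) (k := 1) (x := g) (by rwa [pow_one])).card_modEq_card_fixedPoints Ω
  convert h1 using 3
  ext x
  simp only [mem_fixedBy, mem_fixedPoints]
  exact ⟨fun e y => (zpowers_le (H := stabilizer G x)).2 e y.2, fun e => e ⟨g, mem_zpowers g⟩⟩

theorem _root_.Cfsg.IsZassenhausGroup.St2_ne_bot (h : IsZassenhausGroup G Ω) {a b : Ω}
    (hab : a ≠ b) : St2 G a b ≠ ⊥ := by
  obtain ⟨g, hg, c, d, hcd, h1, h2⟩ := h.2.2.2.1
  obtain ⟨k, -, -, e⟩ := h.z0.cj_St2_eq hcd hab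
  rw [← e, Ne, cj_eq_bot_iff, eq_bot_iff_forall]
  exact fun e => hg (e g ⟨h1, h2⟩)

theorem exists_ne_one {H : Subgroup G} (h : H ≠ ⊥) : ∃ x ∈ H, x ≠ 1 := by
  by_contra hc
  push Not at hc
  exact h ((eq_bot_iff_forall _).2 hc)

/-- every element interchanging two points inverts their stabilizer -/
def InvE (G Ω : Type*) [Group G] [MulAction G Ω] : Prop :=
  ∀ ⦃a b : Ω⦄, a ≠ b → ∀ ⦃s : G⦄, s • a = b → s • b = a → ∀ h ∈ St2 G a b, s * h * s⁻¹ = h⁻¹

theorem comm_of_inverts {H : Subgroup G} {s : G} (h : ∀ x ∈ H, s * x * s⁻¹ = x⁻¹) :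
    IsMulCommutative H := isMulCommutative_of_forall fun x hx y hy => by
  have := h _ (mul_mem hx hy)
  rw [show s * (x * y) * s⁻¹ = (s * x * s⁻¹) * (s * y * s⁻¹) by group, h x hx, h y hy,
    ← mul_inv_rev, inv_inj] at this
  exact this.symm

theorem card_dvd_of_free [Finite Ω] (S : Subgroup G) (h : ∀ g ∈ S, ∀ c : Ω, g • c = c → g = 1) :
    Nat.card S ∣ Nat.card Ω := by
  rw [Nat.card_congr (selfEquivOrbitsQuotientProd (G := S) (X := Ω) fun c =>
    (eq_bot_iff_forall _).2 fun g hg => Subtype.ext (h g g.2 c hg)), Nat.card_prod]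
  exact dvd_mul_left _ _

namespace Z0

variable (Z : Z0 G Ω)
include Z

theorem card_fixedBy_le [Finite Ω] {g : G} (hg : g ≠ 1) : Nat.card (fixedBy Ω g) ≤ 2 := by
  by_contra h
  rw [Nat.card_coe_set_eq, not_le, Set.two_lt_ncard] at h
  obtain ⟨x, hx, y, hy, z, hz, h1, h2, h3⟩ := h
  exact hg (Z.fix3 g h1 h3 h2 hx hy hz)

theorem mem_norm_St2 {a b : Ω} (hab : a ≠ b) {X : Subgroup G} (hX : X ≤ St2 G a b) (h1 : X ≠ ⊥)
    {g : G} (hg : g ∈ normalizer (X : Set G)) : g ∈ St2 G a b ∨ (g • a = b ∧ g • b = a) := by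
  obtain ⟨x, hx, hx1⟩ := exists_ne_one h1
  exact Z.swap_or_fix hab (hX hx) hx1 (hX (conj_mem_of_mem_normalizer hg hx))

theorem normal_trans (N : Subgroup G) [hN : N.Normal] (h : N ≠ ⊥) (a b : Ω) :
    ∃ g ∈ N, g • a = b := by
  by_cases hab : a = b
  · exact ⟨1, one_mem _, by rw [one_smul, hab]⟩
  obtain ⟨n, hn, h1⟩ := exists_ne_one h
  obtain ⟨x, hx⟩ := not_forall.1 (mt (Z.faithful a) h1)
  obtain ⟨g, h2, h3⟩ := Z.tr2 (Ne.symm hx) hab
  exact ⟨g * n * g⁻¹, hN.conj_mem n hn g, by rw [← h2, ← h3, conj_smul_eq_iff]⟩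

variable [Finite G]

theorem finite (a : Ω) : Finite Ω :=
  Nat.finite_of_card_ne_zero (by rw [← Z.card_zk a]; omega)

theorem card_zk_eq (a b : Ω) : Nat.card (zk G a) = Nat.card (zk G b) := by
  have := Z.card_zk a
  have := Z.card_zk b
  omega

theorem swap_mem_norm {a b : Ω} {s : G} (h1 : s • a = b) (h2 : s • b = a) :
    s ∈ normalizer (St2 G a b : Set G) :=
  mem_normalizer_of_conj_mem fun h hh => swap_conj h1 h2 hh

theorem invE_of {a b : Ω} (hab : a ≠ b) {s : G} (h1 : s • a = b) (h2 : s • b = a)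
    (h : ∀ x ∈ St2 G a b, s * x * s⁻¹ = x⁻¹) : InvE G Ω := by
  intro c d hcd t t1 t2 x hx
  obtain ⟨g, rfl, rfl, e⟩ := Z.cj_St2_eq hab hcd
  rw [← e, mem_cj] at hx
  have h3 : (g⁻¹ * t * g) * s⁻¹ ∈ St2 G a b :=
    swap_mul_inv (by simp [mul_smul, t1]) (by simp [mul_smul, t2]) h1 h2
  have h4 := comm_of_mem (comm_of_inverts h) h3 (inv_mem hx)
  rw [← h _ hx] at h4
  have h5 := h _ hx
  calc t * x * t⁻¹ = g * (g⁻¹ * t * g * s⁻¹ * (s * (g⁻¹ * x * g) * s⁻¹) * (g⁻¹ * t * g * s⁻¹)⁻¹) * g⁻¹ := by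
        group
    _ = x⁻¹ := by rw [h4, h5]; group

theorem isCyclic_of_comm {a b : Ω} (hab : a ≠ b) {X : Subgroup G} (hX : X ≤ St2 G a b)
    (h : IsMulCommutative X) : IsCyclic X :=
  Core.isCyclic_of_fpf_of_comm h (hX.trans (Z.St2_le_norm a b)) (Z.zk_ne_bot a)
    fun x hx => Z.fpf hab x (hX hx)

theorem comm_of_invE (h : InvE G Ω) {a b : Ω} (hab : a ≠ b) : IsMulCommutative (St2 G a b) := by
  obtain ⟨s, h1, h2⟩ := Z.tr2 hab hab.symm
  exact comm_of_inverts (h hab h1 h2)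

theorem odd_St2_of_even {a b : Ω} (hab : a ≠ b) (h : Even (Nat.card (zk G a))) :
    Odd (Nat.card (St2 G a b)) :=
  Nat.coprime_two_right.1 ((Z.coprime hab).coprime_dvd_right h.two_dvd)

theorem exists_fix_of_even {a : Ω} (h : Even (Nat.card (zk G a))) {s : G} (hs : s * s = 1) :
    ∃ c : Ω, s • c = c := by
  have := Z.finite a
  have h1 := card_fixedBy_modEq (Ω := Ω) (p := 2) (g := s) (by rw [pow_two, hs])
  rw [← Z.card_zk a] at h1
  have : Nat.card (fixedBy Ω s) ≠ 0 := fun e => by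
    rw [e, Nat.ModEq] at h1
    rw [Nat.even_iff] at h
    omega
  obtain ⟨c, hc⟩ := (Nat.card_ne_zero.1 this).1
  exact ⟨c, hc⟩

theorem mem_zk_of_invol {a b : Ω} (hab : a ≠ b) (h : Odd (Nat.card (St2 G a b))) {s : G}
    (hs : orderOf s = 2) {c : Ω} (hc : s • c = c) : s ∈ zk G c := by
  obtain ⟨d, hd⟩ := Z.exists_ne c
  refine Z.mem_zk_of_coprime hd.symm hc ?_
  rw [hs, ← Z.card_St2_eq hab hd.symm]
  exact Nat.coprime_two_left.2 h

theorem invE_of_even {a : Ω} (h : Even (Nat.card (zk G a))) : InvE G Ω := by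
  obtain ⟨b, hb⟩ := Z.exists_ne a
  obtain ⟨s, h1, h2, h3⟩ := Z.exists_swap hb.symm
  obtain ⟨c, hc⟩ := Z.exists_fix_of_even h (sq_of_ord2 h1)
  have h4 := Z.mem_zk_of_invol hb.symm (Z.odd_St2_of_even hb.symm h) h1 hc
  refine Z.invE_of hb.symm h2 h3 (Core.inv_of_fpf_involution (Z.swap_mem_norm h2 h3)
    (sq_of_ord2 h1) ((eq_bot_iff_forall _).2 fun x hx => ?_)).1
  refine Z.eq_one_of_St2 hb.symm (c := c) ?_ ?_ hx.1 (Z.fix_of_comm h4 (ne_one_of_ord2 h1)
    (mem_centralizer_singleton_iff.1 hx.2))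
  · rintro rfl; exact hb (h2.symm.trans hc)
  · rintro rfl; exact hb (hc.symm.trans h3)

theorem zk_le_of_mem {N : Subgroup G} [hN : N.Normal] {a b : Ω} (hab : a ≠ b) {x : G} (hx : x ∈ N)
    (h1 : x ∈ St2 G a b) (h2 : x ≠ 1) : zk G a ≤ N := by
  let f : zk G a → zk G a := fun u => ⟨(u : G)⁻¹ * (x * u * x⁻¹),
    mul_mem (inv_mem u.2) (Z.conj_mem_zk' h1.1 u.2)⟩
  have hf : Function.Injective f := fun u v e => by
    have e1 : (u : G)⁻¹ * (x * u * x⁻¹) = (v : G)⁻¹ * (x * v * x⁻¹) := congrArg Subtype.val e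
    have : (v : G) * (u : G)⁻¹ ∈ zk G a ⊓ centralizer {x} := mem_inf.2 ⟨mul_mem v.2 (inv_mem u.2),
      mem_centralizer_singleton_iff.2 (by
        calc (v : G) * (u : G)⁻¹ * x = v * ((u : G)⁻¹ * (x * u * x⁻¹)) * x * (u : G)⁻¹ := by group
          _ = _ := by rw [e1]; group)⟩
    rw [Z.fpf hab x h1 h2, mem_bot, mul_inv_eq_one] at this
    exact Subtype.ext this.symm
  intro u hu
  obtain ⟨v, hv⟩ := Finite.surjective_of_injective hf ⟨u, hu⟩
  have e : (v : G)⁻¹ * (x * v * x⁻¹) = u := congrArg Subtype.val hv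
  rw [← e, show (v : G)⁻¹ * (x * v * x⁻¹) = ((v : G)⁻¹ * x * (v : G)⁻¹⁻¹) * x⁻¹ by group]
  exact mul_mem (hN.conj_mem x hx _) (inv_mem hx)

theorem eq_top_of_St2_le {N : Subgroup G} [N.Normal] (h : N ≠ ⊥) {a b : Ω} (hab : a ≠ b)
    (h1 : zk G a ≤ N) (h2 : St2 G a b ≤ N) : N = ⊤ := by
  refine eq_top_iff.2 fun g _ => ?_
  obtain ⟨n, hn, e⟩ := Z.normal_trans N h a (g • a)
  have : n⁻¹ * g ∈ St2 G a b ⊔ zk G a := by
    rw [Z.zk_sup hab, mem_stabilizer_iff, mul_smul, ← e, inv_smul_smul]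
  simpa using mul_mem hn (sup_le h2 h1 this)

theorem z0_subgroup {N : Subgroup G} (h1 : ∀ a : Ω, zk G a ≤ N) : Z0 N Ω := by
  refine ⟨fun {a b c d} hab hcd => ?_, fun g a b c h1 h2 h3 e1 e2 e3 =>
    Subtype.ext (Z.fix3 g h1 h2 h3 e1 e2 e3), Z.three⟩
  obtain ⟨x, x1, x2⟩ := Z.three a c
  obtain ⟨u, hu, e⟩ := Z.zk_trans x1.symm x2.symm
  obtain ⟨v, hv, e'⟩ := Z.zk_trans (a := c) (b := u • b) (c := d)
    (fun h => hab (smul_left_cancel u (e.trans h.symm))) hcd.symm
  exact ⟨⟨v * u, mul_mem (h1 _ hv) (h1 _ hu)⟩, by simp [mul_smul, e, Z.zk_fix hv],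
    by simp [mul_smul, e']⟩

theorem index_coprime {a b : Ω} (hab : a ≠ b) (h : Odd (Nat.card (St2 G a b))) :
    (Nat.card (St2 G a b)).Coprime (St2 G a b).index := by
  have h1 := Z.card_eq hab
  rw [← card_mul_index (St2 G a b), mul_assoc] at h1
  rw [Nat.eq_of_mul_eq_mul_left Nat.card_pos h1]
  refine (Z.coprime hab).mul_right ?_
  obtain ⟨k, hk⟩ := Z.card_dvd hab
  have h2 := Z.two_le_card_zk a
  rw [show Nat.card (zk G a) + 1 = 2 + Nat.card (St2 G a b) * k by omega,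
    Nat.coprime_add_mul_left_right]
  exact Nat.coprime_two_right.2 h

theorem invE_of_odd {a b : Ω} (hab : a ≠ b) (h : Odd (Nat.card (St2 G a b)))
    (hn : ∀ q : ℕ, q.Prime → q ∣ Nat.card (St2 G a b) → ¬ NPC q (⊤ : Subgroup G)) : InvE G Ω := by
  obtain ⟨s, s2, h1, h2⟩ := Z.exists_swap hab
  refine Z.invE_of hab h1 h2 (Core.inv_of_fpf_involution (Z.swap_mem_norm h1 h2)
    (sq_of_ord2 s2) ?_).1
  by_contra hc
  have hc1 : Nat.card ↥(St2 G a b ⊓ centralizer {s}) ≠ 1 := fun e => hc (card_eq_one.1 e)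
  set q := (Nat.card ↥(St2 G a b ⊓ centralizer {s})).minFac with hq
  have hqp : q.Prime := Nat.minFac_prime hc1
  have := Fact.mk hqp
  obtain ⟨x, ⟨hx, hxs⟩, xq⟩ := exists_mem_orderOf_eq_prime hqp (Nat.minFac_dvd _)
  have hqd : q ∣ Nat.card (St2 G a b) := xq ▸ orderOf_dvd_card_of_mem hx
  have hq2 : q ≠ 2 := by
    rintro e
    rw [e] at hqd
    exact (Nat.not_even_iff_odd.2 h) (even_iff_two_dvd.2 hqd)
  have hX : zpowers x ≤ St2 G a b := zpowers_le.2 hx
  have hX1 : zpowers x ≠ ⊥ := by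
    rw [Ne, zpowers_eq_bot]; rintro rfl; exact hqp.one_lt.ne (by simpa using xq)
  have hsx : s * x = x * s := (mem_centralizer_singleton_iff.1 hxs).symm
  have hsN : s ∈ centralizer (zpowers x : Set G) := by
    rw [centralizer_zpowers, mem_centralizer_singleton_iff, hsx]
  have key0 : ∀ y ∈ St2 G a b, s * y = y * s → y ∈ normalizer (zpowers x : Set G) →
      y ∈ centralizer (zpowers x : Set G) := by
    intro y hy hys hyN
    by_contra hyC
    let φ := (zpowers x).normalizerMonoidHom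
    have e1 : orderOf (φ ⟨y, hyN⟩) ≠ 1 := by
      rw [Ne, orderOf_eq_one_iff, ← MonoidHom.mem_ker, normalizerMonoidHom_ker]
      exact hyC
    have e2 : orderOf (φ ⟨y, hyN⟩) ∣ q - 1 := by
      have := orderOf_dvd_natCard (φ ⟨y, hyN⟩)
      rwa [IsCyclic.card_mulAut, Nat.card_zpowers, xq, Nat.totient_prime hqp] at this
    have e3 : orderOf (φ ⟨y, hyN⟩) ∣ Nat.card ↥(St2 G a b ⊓ centralizer {s}) :=
      (orderOf_map_dvd φ _).trans (by
        rw [← Subgroup.orderOf_coe]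
        exact orderOf_dvd_card_of_mem ⟨hy, mem_centralizer_singleton_iff.2 hys.symm⟩)
    have e4 := Nat.minFac_le_of_dvd (Nat.minFac_prime e1).two_le ((Nat.minFac_dvd _).trans e3)
    have e5 := Nat.le_of_dvd (by have := hqp.two_le; omega) ((Nat.minFac_dvd _).trans e2)
    have := hqp.two_le
    omega
  have key1 : ∀ g ∈ St2 G a b, g ∈ normalizer (zpowers x : Set G) →
      g ∈ centralizer (zpowers x : Set G) := by
    intro g hg hgN
    have hw : g⁻¹ * (s * g * s⁻¹) ∈ St2 G a b := mul_mem (inv_mem hg) (swap_conj h1 h2 hg)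
    have hwC : g⁻¹ * (s * g * s⁻¹) ∈ centralizer (zpowers x : Set G) := by
      have := conj_mem_of_mem_normalizer' (normalizer_le_normalizer_centralizer _ hgN) hsN
      simpa [mul_assoc] using mul_mem this (inv_mem hsN)
    set w := g⁻¹ * (s * g * s⁻¹) with hwd
    have hsw : s * w * s⁻¹ = w⁻¹ := by
      calc s * w * s⁻¹ = s * g⁻¹ * s⁻¹ * (s * s) * g * (s * s)⁻¹ := by rw [hwd]; group
        _ = _ := by rw [sq_of_ord2 s2, hwd]; group
    obtain ⟨m, hm⟩ := odd_orderOf_of_mem h hw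
    have hv : w ^ (m + 1) * w ^ (m + 1) = w := by
      rw [← pow_add, show m + 1 + (m + 1) = 2 * m + 1 + 1 by ring, pow_succ, ← hm,
        pow_orderOf_eq_one, one_mul]
    have hy := key0 (g * w ^ (m + 1)) (mul_mem hg (pow_mem hw _)) (by
      rw [← mul_inv_eq_iff_eq_mul]
      calc s * (g * w ^ (m + 1)) * s⁻¹ = g * w * (s * w ^ (m + 1) * s⁻¹) := by rw [hwd]; group
        _ = _ := by
          rw [conj_pow_inv hsw]
          nth_rewrite 1 [← hv]
          group) (mul_mem hgN (centralizer_le_normalizer _ (pow_mem hwC _)))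
    simpa using mul_mem hy (inv_mem (pow_mem hwC (m + 1)))
  have key2 : normalizer (zpowers x : Set G) ≤ centralizer (zpowers x : Set G) := fun g hg => by
    rcases Z.mem_norm_St2 hab hX hX1 hg with e | e
    · exact key1 g e hg
    · simpa using mul_mem (key1 _ (swap_mul_inv e.1 e.2 h1 h2)
        (mul_mem hg (inv_mem (centralizer_le_normalizer _ hsN)))) hsN
  obtain ⟨P, hP, hxP⟩ := exists_isSylowOf_ge (p := q)
    (isPGroup_zpowers (k := 1) (by rw [pow_one, ← xq, pow_orderOf_eq_one])) hX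
  have hPc : IsCyclic P := Core.isCyclic_of_fpf_of_odd (Z.St2_le_norm a b) (Z.zk_ne_bot a)
    (Z.fpf hab) hq2 hP.isP hP.le
  have hP' : IsSylowOf q P ⊤ := ⟨le_top, hP.isP, by
    rw [relIndex_top_right, ← relIndex_mul_index hP.le]
    exact fun e => (hqp.dvd_mul.1 e).elim hP.3 fun e =>
      hqp.one_lt.ne' (Nat.eq_one_of_dvd_coprimes (Z.index_coprime hab h) hqd e)⟩
  refine hn q hqp hqd (hP'.npc_of_frobenius fun Q hQ hQ1 g _ hg hgc => ?_)
  have hQp := hP.isP.to_le hQ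
  have hQc : IsCyclic Q := isCyclic_of_le hQ
  have hxQ : zpowers x ≤ Q := Core.le_of_card_dvd_of_isCyclic hPc hxP hQ (by
    obtain ⟨k, hk⟩ := hQp.exists_card_eq
    rw [Nat.card_zpowers, xq, hk]
    refine dvd_pow_self _ ?_
    rintro rfl
    exact hQ1 (card_eq_one.1 hk))
  refine Core.le_centralizer_of_prime_order (A := zpowers g) hQc.isMulCommutative (zpowers_le.2 hg)
    (by rw [Nat.card_zpowers]; exact coprime_card_of_isPGroup hQp hgc) (fun v hv ho => ?_)
    (mem_zpowers g)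
  obtain ⟨k, hk⟩ := IsPGroup_orderOf hQp hv
  have h3 : v ∈ zpowers x := Core.mem_of_pow_card_eq_one_of_isCyclic hQc hxQ hv (by
    rw [Nat.card_zpowers, xq, ← orderOf_dvd_iff_pow_eq_one,
      (Nat.prime_dvd_prime_iff_eq ho hqp).1 (ho.dvd_of_dvd_pow hk.dvd)])
  rw [centralizer_zpowers, mem_centralizer_singleton_iff]
  exact key2 (Core.normalizer_le_normalizer_of_isCyclic hQc hxQ hg) v h3

theorem not_npc_of_simple [IsSimpleGroup G] (a : Ω) {q : ℕ} (hq : q.Prime) (h : q ∣ Nat.card G) :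
    ¬ NPC q (⊤ : Subgroup G) := by
  have := Fact.mk hq
  intro hc
  rw [npc_iff_coprime] at hc
  rcases IsSimpleGroup.eq_bot_or_eq_top_of_normal (pResOf q (⊤ : Subgroup G)) inferInstance with e | e
  · obtain ⟨k, hk⟩ := (isPGroup_top_iff.1 (pResOf_eq_bot_iff.1 e)).exists_card_eq
    obtain ⟨b, hb⟩ := Z.exists_ne a
    have h1 := Z.card_eq hb.symm
    have h2 := Z.two_le_card_zk a
    have key : ∀ m, m ∣ Nat.card G → m ≠ 1 → q ∣ m := fun m hm h1 => by
      rw [hk, Nat.dvd_prime_pow hq] at hm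
      obtain ⟨i, -, rfl⟩ := hm
      exact dvd_pow_self _ (by rintro rfl; simp at h1)
    have h3 := key (Nat.card (zk G a)) (h1 ▸ (dvd_mul_left _ _).mul_right _) (by omega)
    have h4 := key (Nat.card (zk G a) + 1) (h1 ▸ dvd_mul_left _ _) (by omega)
    exact hq.one_lt.ne' (Nat.dvd_one.1 ((Nat.dvd_add_right h3).1 h4))
  · rw [e, card_top] at hc
    exact hq.one_lt.ne' (hc.symm.eq_one_of_dvd h)

theorem invE_of_simple [IsSimpleGroup G] {a b : Ω} (hab : a ≠ b)
    (h : Odd (Nat.card (St2 G a b))) : InvE G Ω :=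
  Z.invE_of_odd hab h fun q hq hd => Z.not_npc_of_simple a hq (hd.trans (card_subgroup_dvd_card _))

theorem swap_ord (hI : InvE G Ω) {a b : Ω} (hab : a ≠ b) (h : Odd (Nat.card (St2 G a b))) {s : G}
    (h1 : s • a = b) (h2 : s • b = a) : orderOf s = 2 := by
  have h3 := swap_mul_swap h1 h2 h1 h2
  have h4 := hI hab h1 h2 _ h3
  refine ord2_iff.2 ⟨eq_one_of_odd_of_sq (odd_orderOf_of_mem h h3) ?_,
    fun e => hab (by rw [← h1, e, one_smul])⟩
  rw [← eq_inv_iff_mul_eq_one, ← h4]; group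

theorem isConj_of_swap (hI : InvE G Ω) {a b : Ω} (hab : a ≠ b) (h : Odd (Nat.card (St2 G a b)))
    {s t : G} (h1 : s • a = b) (h2 : s • b = a) (h3 : t • a = b) (h4 : t • b = a) : IsConj s t := by
  refine isConj_of_odd (sq_of_ord2 (Z.swap_ord hI hab h h1 h2))
    (sq_of_ord2 (Z.swap_ord hI hab h h3 h4)) (odd_orderOf_of_mem h (swap_mul_swap h1 h2 h3 h4))

theorem isConj_invol (hI : InvE G Ω) {a b : Ω} (hab : a ≠ b) (h : Odd (Nat.card (St2 G a b)))
    {s t : G} (hs : orderOf s = 2) (ht : orderOf t = 2) : IsConj s t := by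
  have key : ∀ s : G, orderOf s = 2 → ∃ t : G, IsConj s t ∧ t • a = b ∧ t • b = a := by
    intro s hs
    obtain ⟨x, hx⟩ := not_forall.1 (mt (Z.faithful a) (ne_one_of_ord2 hs))
    obtain ⟨g, h2, h3⟩ := Z.tr2 (Ne.symm hx) hab
    refine ⟨g * s * g⁻¹, isConj_conj g s, by rw [← h2, ← h3, conj_smul_eq_iff], ?_⟩
    rw [← h2, ← h3, conj_smul_eq_iff, ← mul_smul, sq_of_ord2 hs, one_smul]
  obtain ⟨s', h1, h2, h3⟩ := key s hs
  obtain ⟨t', h4, h5, h6⟩ := key t ht
  exact h1.trans ((Z.isConj_of_swap hI hab h h2 h3 h5 h6).trans h4.symm)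

open Finset in
theorem card_invol_move (hI : InvE G Ω) {a b : Ω} (hab : a ≠ b)
    (h : Odd (Nat.card (St2 G a b))) (c : Ω) :
    Nat.card {t : G // orderOf t = 2 ∧ t • c ≠ c} = Nat.card (St2 G a b) * Nat.card (zk G a) := by
  classical
  have := Z.finite a
  have := Fintype.ofFinite Ω
  have := Fintype.ofFinite G
  rw [card_subtype_eq_filter, card_eq_sum_card_fiberwise (f := fun t : G => t • c)
    (t := univ.erase c) (fun t ht => by simpa using (mem_filter.1 ht).2.2),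
    sum_congr rfl (g := fun _ => Nat.card (St2 G a b)) fun d hd => ?_, sum_const,
    card_erase_of_mem (mem_univ _), card_univ, ← Nat.card_eq_fintype_card, ← Z.card_zk a,
    smul_eq_mul, mul_comm, Nat.add_sub_cancel]
  have hcd : c ≠ d := (mem_erase.1 hd).1.symm
  rw [Z.card_St2_eq hab hcd] at h ⊢
  rw [← Z.ncard_swap hcd, ← Set.ncard_coe_finset]
  congr 1
  ext t
  simp only [coe_filter, mem_filter, mem_univ, true_and, Set.mem_setOf_eq]
  exact ⟨fun e => ⟨e.2, by rw [← e.2, ← mul_smul, sq_of_ord2 e.1.1, one_smul]⟩,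
    fun e => ⟨⟨Z.swap_ord hI hcd h e.1 e.2, by rw [e.1]; exact hcd.symm⟩, e.1⟩⟩

theorem not_fix_of_odd {a b : Ω} (hab : a ≠ b) (h : Odd (Nat.card (St2 G a b)))
    (h2 : Odd (Nat.card (zk G a))) {t : G} (ht : orderOf t = 2) (c : Ω) : t • c ≠ c := fun e =>
  odd_card_iff.1 (Z.card_zk_eq a c ▸ h2) t (Z.mem_zk_of_invol hab h ht e) ht

theorem card_invol_odd (hI : InvE G Ω) {a b : Ω} (hab : a ≠ b) (h : Odd (Nat.card (St2 G a b)))
    (h2 : Odd (Nat.card (zk G a))) :
    Nat.card {t : G // orderOf t = 2} = Nat.card (St2 G a b) * Nat.card (zk G a) := by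
  rw [← Z.card_invol_move hI hab h a]
  exact Nat.card_congr (Equiv.subtypeEquivRight fun t =>
    ⟨fun e => ⟨e, Z.not_fix_of_odd hab h h2 e a⟩, fun e => e.1⟩)

open Finset in
theorem card_invol_even {a b : Ω} (hab : a ≠ b) (h2 : Even (Nat.card (zk G a))) :
    Nat.card {t : G // orderOf t = 2} = Nat.card (St2 G a b) * (Nat.card (zk G a) + 1) := by
  classical
  have := Z.finite a
  have := Fintype.ofFinite Ω
  have := Fintype.ofFinite G
  have h := Z.odd_St2_of_even hab h2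
  have h3 := card_mul_eq_card_mul (s := univ.filter fun t : G => orderOf t = 2) (t := univ)
    (fun (t : G) (c : Ω) => t • c ≠ c) (m := Nat.card (zk G a))
    (n := Nat.card (St2 G a b) * Nat.card (zk G a)) (fun t ht => by
      have ht := (mem_filter.1 ht).2
      obtain ⟨c, hc⟩ := Z.exists_fix_of_even h2 (sq_of_ord2 ht)
      have h4 := Z.mem_zk_of_invol hab h ht hc
      rw [show bipartiteAbove (fun (t : G) (c : Ω) => t • c ≠ c) univ t = univ.erase c by
        ext d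
        simp only [mem_bipartiteAbove, mem_univ, true_and, mem_erase, and_true]
        exact ⟨fun e e' => e (e' ▸ hc), fun e e' => e (Z.eq_of_mem_zk (ne_one_of_ord2 ht) h4 e')⟩,
        card_erase_of_mem (mem_univ _), card_univ, ← Nat.card_eq_fintype_card, ← Z.card_zk a,
        Nat.add_sub_cancel])
    fun c _ => by
      rw [← Z.card_invol_move (Z.invE_of_even h2) hab h c, card_subtype_eq_filter, bipartiteBelow,
        filter_filter]
  rw [card_univ, ← Nat.card_eq_fintype_card, ← Z.card_zk a, ← card_subtype_eq_filter] at h3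
  refine Nat.eq_of_mul_eq_mul_right (Nat.card_pos (α := zk G a)) ?_
  rw [h3]; ring

theorem centralizer_invol {a : Ω} {j : G} (hj : j ∈ zk G a) (h2 : orderOf j = 2) :
    centralizer {j} = zk G a := by
  obtain ⟨b, hb⟩ := Z.exists_ne a
  have he := even_card_of_mem h2 hj
  refine eq_of_le_of_card_ge (fun g hg => Z.mem_zk_of_comm hj (ne_one_of_ord2 h2)
    (mem_centralizer_singleton_iff.1 hg)) (le_of_eq ?_)
  have h3 := card_centralizer_mul_card_class j
  rw [Nat.card_congr (Equiv.subtypeEquivRight (q := fun t => orderOf t = 2) fun t =>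
    ⟨fun e => (orderOf_isConj e).symm.trans h2, fun e => Z.isConj_invol (Z.invE_of_even he) hb.symm
      (Z.odd_St2_of_even hb.symm he) h2 e⟩), Z.card_invol_even hb.symm he, Z.card_eq hb.symm] at h3
  refine Nat.eq_of_mul_eq_mul_right (Nat.mul_pos (Nat.card_pos (α := St2 G a b))
    (Nat.add_one_pos (Nat.card (zk G a)))) ?_
  rw [h3]; ring

theorem card_invol_zk {a b : Ω} (hab : a ≠ b) (h2 : Even (Nat.card (zk G a))) (c : Ω) :
    Nat.card {t : G // orderOf t = 2 ∧ t • c = c} = Nat.card (St2 G a b) := by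
  classical
  have := Fintype.ofFinite G
  have h1 := Z.card_invol_move (Z.invE_of_even h2) hab (Z.odd_St2_of_even hab h2) c
  have h3 := Z.card_invol_even hab h2
  rw [card_subtype_eq_filter] at h1 h3 ⊢
  rw [← Finset.card_filter_add_card_filter_not (fun t : G => t • c = c), Finset.filter_filter,
    Finset.filter_filter, h1] at h3
  rw [mul_add, mul_one, add_comm] at h3
  exact Nat.add_left_cancel h3

theorem fix_of_mul_mem {a b : Ω} (hab : a ≠ b) (h : Odd (Nat.card (St2 G a b))) {x y : G}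
    (hx : orderOf x = 2) (hy : orderOf y = 2) {c : Ω} (hu : x * y ∈ zk G c) (h1 : x * y ≠ 1) :
    x ∈ zk G c ∧ y ∈ zk G c := by
  have h2 : x ∈ zk G c := Z.mem_zk_of_invol hab h hx (Z.fix_of_conj_mem hu h1 (by
    rw [inverts_left (sq_of_ord2 hx) (sq_of_ord2 hy)]; exact Z.zk_fix (inv_mem hu)))
  exact ⟨h2, by simpa using mul_mem (inv_mem h2) hu⟩

open Finset in
theorem le_card_classes (hI : InvE G Ω) {a b : Ω} (hab : a ≠ b) (h : Odd (Nat.card (St2 G a b))) :
    Nat.card (St2 G a b) ≤ Nat.card {C : ConjClasses G // ∀ g : G, ConjClasses.mk g = C → g ∉ zk G a} := by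
  classical
  have := Fintype.ofFinite G
  set I := univ.filter fun t : G => orderOf t = 2 with hId
  set T := univ.filter fun C : ConjClasses G => ∀ g : G, ConjClasses.mk g = C → g ∉ zk G a
  set P := (I ×ˢ I).filter fun p => ConjClasses.mk (p.1 * p.2) ∈ T
  have h1 : P.card ≤ Nat.card G * T.card := card_le_mul_card_image_of_maps_to
    (f := fun p : G × G => ConjClasses.mk (p.1 * p.2)) (fun p hp => (mem_filter.1 hp).2) _
    fun C _ => by
      obtain ⟨x, rfl⟩ := ConjClasses.mk_surjective C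
      rw [← card_centralizer_mul_card_class x, card_subtype_eq_filter (fun g => IsConj x g)]
      refine card_le_mul_card_image_of_maps_to (f := fun p : G × G => p.1 * p.2)
        (fun p hp => mem_filter.2 ⟨mem_univ _,
          (ConjClasses.mk_eq_mk_iff_isConj.1 (mem_filter.1 hp).2).symm⟩) _ fun y hy => ?_
      rw [card_centralizer_of_isConj (mem_filter.1 hy).2]
      refine le_trans ?_ (s0238 y).1
      rw [card_subtype_eq_filter]
      refine card_le_card fun p hp => ?_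
      simp only [P, I, mem_filter, mem_product, mem_univ, true_and] at hp ⊢
      exact ⟨hp.1.1.1.1, hp.1.1.1.2, hp.2⟩
  have h2 : ∀ m, (∀ x ∈ I, ((I.filter fun y => y = x ∨ ∃ c : Ω, x ∈ zk G c ∧ y ∈ zk G c)).card ≤ m) →
      I.card * (I.card - m) ≤ P.card := by
    intro m hm
    rw [card_eq_sum_card_fiberwise (f := Prod.fst) (t := I) (s := P)
      fun p hp => (mem_product.1 (mem_filter.1 hp).1).1, ← smul_eq_mul]
    refine card_nsmul_le_sum _ _ _ fun x hx => ?_
    have h3 := card_filter_add_card_filter_not (s := I)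
      (fun y => y = x ∨ ∃ c : Ω, x ∈ zk G c ∧ y ∈ zk G c)
    have h4 := hm x hx
    refine le_trans (b := (I.filter fun y => ¬ (y = x ∨ ∃ c : Ω, x ∈ zk G c ∧ y ∈ zk G c)).card)
      (by omega) (card_le_card_of_injOn (fun y => (x, y)) (fun y hy => ?_)
      fun y _ z _ e => (Prod.ext_iff.1 e).2)
    simp only [P, T, I, coe_filter, mem_filter, mem_product, mem_univ, true_and, Set.mem_setOf_eq,
      and_true] at hx hy ⊢
    refine ⟨⟨hx, hy.1⟩, fun g e hg => hy.2 ?_⟩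
    obtain ⟨k, hk⟩ := isConj_iff.1 (ConjClasses.mk_eq_mk_iff_isConj.1 e)
    by_cases h5 : x * y = 1
    · exact Or.inl (by rw [← inv_of_ord2 hx, eq_inv_of_mul_eq_one_right h5])
    · exact Or.inr ⟨_, Z.fix_of_mul_mem hab h hx hy.1 (hk ▸ Z.conj_mem_zk hg) h5⟩
  rw [card_subtype_eq_filter fun C : ConjClasses G => ∀ g : G, ConjClasses.mk g = C → g ∉ zk G a]
  change _ ≤ T.card
  have h0 := Z.card_eq hab
  have hd := Nat.le_of_dvd (by have := Z.two_le_card_zk a; omega) (Z.card_dvd hab)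
  have he := Nat.card_pos (α := St2 G a b)
  have hn := Z.two_le_card_zk a
  rcases Nat.even_or_odd (Nat.card (zk G a)) with h3 | h3
  · have h4 := (h2 (Nat.card (St2 G a b)) fun x hx => by
      have hx := (mem_filter.1 hx).2
      obtain ⟨c, hc⟩ := Z.exists_fix_of_even h3 (sq_of_ord2 hx)
      rw [← Z.card_invol_zk hab h3 c, card_subtype_eq_filter]
      refine card_le_card fun y hy => ?_
      simp only [I, mem_filter, mem_univ, true_and] at hy ⊢
      refine ⟨hy.1, ?_⟩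
      rcases hy.2 with rfl | ⟨d, d1, d2⟩
      · exact hc
      · rw [Z.eq_of_mem_zk (ne_one_of_ord2 hx) d1 hc]; exact Z.zk_fix d2).trans h1
    rw [hId, ← card_subtype_eq_filter, Z.card_invol_even hab h3, mul_add, mul_one,
      Nat.add_sub_cancel] at h4
    refine Nat.le_of_mul_le_mul_left (le_trans (le_of_eq ?_) h4) Nat.card_pos
    rw [h0]; ring
  · have h4 := (h2 1 fun x hx => card_le_one.2 fun y hy z hz => by
      have key : ∀ y, (y = x ∨ ∃ c : Ω, x ∈ zk G c ∧ y ∈ zk G c) → y = x := fun y hy =>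
        hy.resolve_right fun ⟨c, h1, _⟩ =>
          Z.not_fix_of_odd hab h h3 (mem_filter.1 hx).2 c (Z.zk_fix h1)
      rw [key y (mem_filter.1 hy).2, key z (mem_filter.1 hz).2]).trans h1
    rw [hId, ← card_subtype_eq_filter, Z.card_invol_odd hI hab h h3, h0, mul_assoc _ (_ + 1)] at h4
    have h5 := Nat.le_of_mul_le_mul_left h4 (Nat.mul_pos he (by omega))
    by_contra hc
    have h6 : T.card + 1 ≤ Nat.card (St2 G a b) := by omega
    have h7 := Nat.mul_le_mul_left (Nat.card (zk G a) + 1) h6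
    have h8 : 1 ≤ Nat.card (St2 G a b) * Nat.card (zk G a) := Nat.mul_pos he (by omega)
    zify [h8] at h5 h7 hd hn
    have : (Nat.card (St2 G a b) : ℤ) + 1 ≤ Nat.card (zk G a) := by omega
    nlinarith

open Finset in
theorem card_fpf {a b : Ω} (hab : a ≠ b) :
    2 * Nat.card {g : G // ∀ c : Ω, g • c ≠ c} + Nat.card (zk G a) * (Nat.card (zk G a) - 1) =
      Nat.card G := by
  classical
  have := Z.finite a
  have := Fintype.ofFinite Ω
  have := Fintype.ofFinite G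
  let F : G → Finset Ω := fun g => univ.filter fun c => g • c = c
  have hc : Fintype.card Ω = Nat.card (zk G a) + 1 := by rw [Z.card_zk, Nat.card_eq_fintype_card]
  have h1 : ∑ g, (F g).card = Nat.card G := by
    rw [show ∑ g, (F g).card = _ from
      sum_card_bipartiteAbove_eq_sum_card_bipartiteBelow (fun (g : G) (c : Ω) => g • c = c),
      sum_congr rfl (g := fun _ => Nat.card (St2 G a b) * Nat.card (zk G a)) fun c _ => ?_,
      sum_const, card_univ, hc, Z.card_eq hab, smul_eq_mul, mul_comm]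
    obtain ⟨d, hd⟩ := Z.exists_ne c
    rw [Z.card_St2_eq hab hd.symm, Z.card_zk_eq a c, ← Z.card_stab hd.symm, card_subgroup_eq_filter]
    rfl
  have h2 : ∑ g, (F g).offDiag.card = Nat.card G := by
    rw [sum_congr rfl (g := fun g => (bipartiteAbove (fun (g : G) (c : Ω × Ω) =>
      g • c.1 = c.1 ∧ g • c.2 = c.2) univ.offDiag g).card) fun g _ => by
        congr 1; ext c; simp [F, bipartiteAbove, and_comm, and_left_comm],
      sum_card_bipartiteAbove_eq_sum_card_bipartiteBelow,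
      sum_congr rfl (g := fun _ => Nat.card (St2 G a b)) fun c hc => ?_,
      sum_const, offDiag_card, card_univ, hc, Z.card_eq hab, smul_eq_mul, Nat.mul_add_one,
      Nat.add_sub_cancel]
    · ring
    · rw [Z.card_St2_eq hab (mem_offDiag.1 hc).2.2, card_subgroup_eq_filter]
      congr 1; ext g; simp [mem_St2]
  have h3 : ∀ g : G, 2 * (if ∀ c : Ω, g • c ≠ c then 1 else 0) + 2 * (F g).card +
      (if g = 1 then Nat.card (zk G a) * (Nat.card (zk G a) - 1) else 0) = (F g).offDiag.card + 2 := by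
    intro g
    have e1 : (∀ c : Ω, g • c ≠ c) ↔ (F g).card = 0 := by simp [F, filter_eq_empty_iff]
    simp only [e1, offDiag_card]
    by_cases hg : g = 1
    · have : (F g).card = Nat.card (zk G a) + 1 := by simp [F, hg, hc]
      have hn := Z.two_le_card_zk a
      rw [this, if_pos hg, if_neg (by omega)]
      zify [show 1 ≤ Nat.card (zk G a) by omega, Nat.le_mul_self (Nat.card (zk G a) + 1)]
      ring
    · have := Z.card_fixedBy_le hg
      rw [show Nat.card (fixedBy Ω g) = (F g).card from card_subtype_eq_filter _] at this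
      rw [if_neg hg]
      generalize (F g).card = k at this ⊢
      interval_cases k <;> simp
  have h4 := sum_congr (rfl : (univ : Finset G) = univ) fun g _ => h3 g
  simp only [sum_add_distrib, ← mul_sum, h1, h2, sum_ite_eq', mem_univ, if_true, sum_const,
    card_univ, smul_eq_mul, ← Nat.card_eq_fintype_card, ← card_filter] at h4
  rw [card_subtype_eq_filter]
  omega

theorem card_centralizer_dvd (hI : InvE G Ω) {a b : Ω} (hab : a ≠ b)
    (h : Odd (Nat.card (St2 G a b))) {x : G} (hx : ∀ c : Ω, x • c ≠ c) :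
    Nat.card (centralizer ({x} : Set G)) ∣ Nat.card (zk G a) + 1 := by
  rw [Z.card_zk]
  have := Z.finite a
  have h1 := card_dvd_of_free (centralizer ({x} : Set G)) (Ω := Ω) fun y hy c hc => by
    by_contra h1
    have e := mem_centralizer_singleton_iff.1 hy
    have h2 : y • x • c = x • c := by rw [← mul_smul, e, mul_smul, hc]
    have h3 : y • x • x • c = x • x • c := by rw [← mul_smul, e, mul_smul, h2]
    have h4 : y ∈ St2 G c (x • c) := ⟨hc, h2⟩
    have h5 := (Z.fix_cases (hx c).symm h4 h1 h3).resolve_right (hx _)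
    have h6 := hI (hx c).symm rfl h5 y h4
    rw [← e, mul_inv_cancel_right, eq_inv_iff_mul_eq_one] at h6
    exact h1 (eq_one_of_odd_of_sq (odd_orderOf_of_mem (Z.card_St2_eq hab (hx c).symm ▸ h) h4) h6)
  exact h1

end Z0

theorem _root_.Cfsg.IsZassenhausGroup.exists_mem [Finite G] (hZ : IsZassenhausGroup G Ω)
    (N : Subgroup G) [hN : N.Normal] (h : N ≠ ⊥) {a b : Ω} (hab : a ≠ b) :
    ∃ x ∈ N, x ∈ St2 G a b ∧ x ≠ 1 := by
  have Z := hZ.z0
  by_contra hc
  push Not at hc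
  have hc' : ∀ x ∈ N, ∀ c d : Ω, c ≠ d → x • c = c → x • d = d → x = 1 := by
    intro x hx c d hcd h1 h2
    obtain ⟨g, -, -, e⟩ := Z.cj_St2_eq hcd hab
    simpa using hc _ (hN.conj_mem x hx g) (e ▸ conj_mem_cj.2 ⟨h1, h2⟩)
  obtain ⟨K, hK, h1, h2⟩ := Char.frobenius_kernel ((stabilizer G a).subgroupOf N)
    (fun g hg x hx hgx => Subtype.ext (hc' x x.2 a ((g : G)⁻¹ • a)
      (fun e => hg (smul_eq_iff_inv.2 e.symm)) hx (conj_smul_fix.1 hgx)))
  have h3 : ∀ x, x ∈ K.map N.subtype ↔ x ∈ N ∧ (x = 1 ∨ ∀ c : Ω, x • c ≠ c) := by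
    intro x
    constructor
    · rintro ⟨x, hx, rfl⟩
      refine ⟨x.2, ((h1 x).1 hx).imp (fun e => by simp [e]) fun e c hc => ?_⟩
      obtain ⟨g, hg, rfl⟩ := Z.normal_trans N h a c
      exact e ⟨g, hg⟩⁻¹ (conj_smul_fix.2 (by simpa using hc))
    · rintro ⟨hx, e⟩
      exact ⟨⟨x, hx⟩, (h1 _).2 (e.imp (fun e => Subtype.ext e) fun e g hg =>
        e _ (conj_smul_fix.1 hg)), rfl⟩
  obtain ⟨c, hc⟩ := hZ.2.2.2.2 (K.map N.subtype) ⟨fun x hx g => by
      rw [h3] at hx ⊢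
      exact ⟨hN.conj_mem x hx.1 g, hx.2.imp (fun e => by simp [e]) fun e c hc =>
        e _ (conj_smul_fix.1 hc)⟩⟩ (by
    refine IsPretransitive.of_orbit (x₀ := a) fun c => ?_
    obtain ⟨g, hg, rfl⟩ := Z.normal_trans N h a c
    obtain ⟨⟨⟨u, hu⟩, ⟨v, hv⟩⟩, e⟩ := h2.2 ⟨g, hg⟩
    have e1 : (u : G) * v = g := congrArg Subtype.val e
    refine ⟨⟨u, u, hu, rfl⟩, ?_⟩
    change (u : G) • a = g • a
    rw [← e1, mul_smul, show (v : G) • a = a from hv])
  obtain ⟨x, hx, hx1⟩ := exists_ne_one hc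
  exact ((h3 x).1 x.2).2.elim (fun e => hx1 (Subtype.ext e)) fun e => e c hx

theorem _root_.Cfsg.IsZassenhausGroup.zk_le [Finite G] (hZ : IsZassenhausGroup G Ω)
    (N : Subgroup G) [hN : N.Normal] (h : N ≠ ⊥) (a : Ω) : zk G a ≤ N := by
  obtain ⟨b, hb⟩ := hZ.z0.exists_ne a
  obtain ⟨x, h1, h2, h3⟩ := hZ.exists_mem N h hb.symm
  exact hZ.z0.zk_le_of_mem hb.symm h1 h2 h3

theorem s0878 {G Ω : Type*} [Group G] [Finite G] [MulAction G Ω] [Fintype Ω] (hZ : Cfsg.IsZassenhausGroup G Ω) (a : Ω) (H : Subgroup G) (hHa : H ≤ MulAction.stabilizer G a) (hHcard : Nat.card H + 1 = Fintype.card Ω) (hHfix : ∀ u ∈ H, u ≠ 1 → ∀ c : Ω, u • c = c → c = a) : (∀ g : G, g ∉ MulAction.stabilizer G a → ∀ u ∈ H, g * u * g⁻¹ ∈ H → u = 1) ∧ Subgroup.normalizer (H : Set G) = MulAction.stabilizer G a := by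
  have Z := hZ.z0
  obtain rfl := Z.eq_zk_of_card hHa (by rwa [Nat.card_eq_fintype_card (α := Ω)]) hHfix
  refine ⟨fun g hg u hu h => ?_, le_antisymm (fun g hg => ?_) (Z.stab_le_norm a)⟩
  · by_contra h1
    exact hg (Z.fix_of_conj_mem hu h1 (Z.zk_fix h))
  · obtain ⟨u, hu, h1⟩ := exists_ne_one (Z.zk_ne_bot a)
    exact Z.fix_of_conj_mem hu h1 (Z.zk_fix (conj_mem_of_mem_normalizer hg hu))

theorem s0879 {G Ω : Type*} [Group G] [Finite G] [MulAction G Ω] [Fintype Ω] (hZ : Cfsg.IsZassenhausGroup G Ω) {a b : Ω} (hab : a ≠ b) : (∀ g : G, g ∉ Subgroup.normalizer ((MulAction.stabilizer G a ⊓ MulAction.stabilizer G b : Subgroup G) : Set G) → ∀ x ∈ (MulAction.stabilizer G a ⊓ MulAction.stabilizer G b : Subgroup G), g * x * g⁻¹ ∈ (MulAction.stabilizer G a ⊓ MulAction.stabilizer G b : Subgroup G) → x = 1) ∧ ((MulAction.stabilizer G a ⊓ MulAction.stabilizer G b : Subgroup G).subgroupOf (Subgroup.normalizer ((MulAction.stabilizer G a ⊓ MulAction.stabilizer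 G b : Subgroup G) : Set G))).index = 2 := by
  have Z := hZ.z0
  refine ⟨fun g hg x hx h => ?_, ?_⟩
  · by_contra h1
    rcases Z.swap_or_fix hab hx h1 h with e | e
    exacts [hg (le_normalizer e), hg (Z.swap_mem_norm e.1 e.2)]
  · obtain ⟨s, h1, h2⟩ := Z.tr2 hab hab.symm
    have hn : ∀ h ∈ St2 G a b, s * h * s⁻¹ ∈ St2 G a b := fun h hh => Z0.swap_conj h1 h2 hh
    have h3 := Z0.swap_mul_swap h1 h2 h1 h2
    refine relIndex_eq_two_of_card le_normalizer ?_
    rw [← card_sup_zpowers hn h3 fun h => hab (h.1.symm.trans h1)]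
    congr 2
    refine le_antisymm (fun g hg => (mem_sup_zpowers_iff hn h3).2 ?_)
      (sup_le le_normalizer (zpowers_le.2 (Z.swap_mem_norm h1 h2)))
    exact (Z.mem_norm_St2 hab le_rfl (hZ.St2_ne_bot hab) hg).imp_right fun e =>
      Z0.swap_mul_inv e.1 e.2 h1 h2

theorem s0740 {G Ω : Type*} [Group G] [Finite G] [MulAction G Ω] [Fintype Ω] (hZ : Cfsg.IsZassenhausGroup G Ω) {a b : Ω} (hab : a ≠ b) : (∃ s : G, orderOf s = 2 ∧ s • a = b ∧ s • b = a) ∧ (∀ s : G, orderOf s = 2 → s • a = b → s • b = a → (Odd (Fintype.card Ω) → Nat.card (MulAction.fixedBy Ω s) = 1) ∧ (Even (Fintype.card Ω) → Nat.card (MulAction.fixedBy Ω s) = 0 ∨ Nat.card (MulAction.fixedBy Ω s) = 2)) ∧ (Even (Fintype.card Ω) → Even (Nat.card ↥(MulAction.stabilizer G a ⊓ MulAction.stabilizer G b)) → ∃ s : G, orderOf s = 2 ∧ s • a = b ∧ s • b = a ∧ Nat.card (MulAction.fixedBy Ω s) = 2) := by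
  have Z := hZ.z0
  have key : ∀ s : G, orderOf s = 2 → Nat.card (fixedBy Ω s) ≤ 2 ∧
      Fintype.card Ω % 2 = Nat.card (fixedBy Ω s) % 2 := fun s hs =>
    ⟨Z.card_fixedBy_le (ne_one_of_ord2 hs), Nat.card_eq_fintype_card (α := Ω) ▸
      card_fixedBy_modEq (by rw [← hs, pow_orderOf_eq_one])⟩
  refine ⟨Z.exists_swap hab, fun s hs _ _ => ⟨fun h => ?_, fun h => ?_⟩, fun h he => ?_⟩
  · have := key s hs
    rw [Nat.odd_iff] at h; omega
  · have := key s hs
    rw [Nat.even_iff] at h; omega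
  · obtain ⟨c, h1, h2⟩ := Z.three a b
    obtain ⟨s, s1, s2, s3, s4⟩ := Z.exists_swap_fix hab he h1 h2
    have := key s s1
    have : Nat.card (fixedBy Ω s) ≠ 0 := Nat.card_ne_zero.2 ⟨⟨⟨c, s4⟩⟩, inferInstance⟩
    rw [Nat.even_iff] at h
    exact ⟨s, s1, s2, s3, by omega⟩

theorem s0741 {G Ω : Type*} [Group G] [Finite G] [MulAction G Ω] [Fintype Ω] (hZ : Cfsg.IsZassenhausGroup G Ω) {a b : Ω} (hab : a ≠ b) (heven : Even (Nat.card ↥(MulAction.stabilizer G a ⊓ MulAction.stabilizer G b))) : Fintype.card Ω - 2 ≤ 2 * Nat.card ↥(MulAction.stabilizer G a ⊓ MulAction.stabilizer G b) := by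
  have := hZ.z0.large_of_even hab heven
  rw [← Nat.card_eq_fintype_card, ← hZ.z0.card_zk a]
  exact this

theorem s0738 {G Ω : Type*} [Group G] [Finite G] [MulAction G Ω] [Fintype Ω] (hZ : Cfsg.IsZassenhausGroup G Ω) {a b : Ω} (hab : a ≠ b) (hd : Fintype.card Ω - 2 ≤ 2 * Nat.card ↥(MulAction.stabilizer G a ⊓ MulAction.stabilizer G b)) (F : Subgroup G) (hFle : F ≤ MulAction.stabilizer G a) (hFn : (F.subgroupOf (MulAction.stabilizer G a)).Normal) (hreg : ∀ y z : Ω, y ≠ a → z ≠ a → ∃! u : F, (u : G) • y = z) : IsMulCommutative F ∧ ∃ p f : ℕ, p.Prime ∧ (∀ u ∈ F, u ^ p = 1) ∧ Fintype.card Ω = p ^ f + 1 := by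
  have Z := hZ.z0
  obtain rfl := Z.eq_zk_of_reg hFle hreg
  rw [← Nat.card_eq_fintype_card, ← Z.card_zk a] at hd ⊢
  obtain ⟨h1, p, f, h2, h3, h4⟩ := Z.elem_of_large hab hd
  exact ⟨h1, p, f, h2, h3, by rw [h4]⟩

theorem s0339 {G Ω : Type*} [Group G] [MulAction G Ω] [Finite Ω]
    (hZ : Cfsg.IsZassenhausGroup G Ω) (N : Subgroup G) [N.Normal] (hN : N ≠ ⊥) :
    Cfsg.IsZassenhausGroup N Ω := by
  have := finite_of_faithful hZ.1
  have := hZ.1
  have Z := hZ.z0
  have Z' := Z.z0_subgroup (hZ.zk_le N hN)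
  obtain ⟨-, -, a, b, hab, -⟩ := hZ.2.2.2.1
  refine ⟨inferInstance, is_two_pretransitive_iff.2 Z'.tr2, fun g a b c => Z'.fix3 g, ?_,
    fun K hK hT => ?_⟩
  · obtain ⟨x, h1, h2, h3⟩ := hZ.exists_mem N hN hab
    exact ⟨⟨x, h1⟩, fun e => h3 (congrArg Subtype.val e), a, b, hab, h2⟩
  by_contra hc
  push Not at hc
  have h1 : zk G a ≤ normalizer (K.map N.subtype : Set G) :=
    (hZ.zk_le N hN a).trans (le_normalizer_map_subtype K)
  have h2 : normalClosure (zk G a : Set G) ≤ K.map N.subtype ⊔ zk G a := by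
    refine (closure_le _).2 fun x hx => ?_
    obtain ⟨u, hu, e⟩ := Group.mem_conjugatesOfSet_iff.1 hx
    obtain ⟨g, rfl⟩ := isConj_iff.1 e
    obtain ⟨k, hk⟩ := hT.exists_smul_eq a (g • a)
    have h3 := Z.conj_mem_zk (g := g) hu
    have hk' : ((k : N) : G) • a = g • a := hk
    rw [← hk', ← Z.cj_zk] at h3
    have h4 : ((k : N) : G) ∈ K.map N.subtype := mem_map_of_mem N.subtype k.2
    exact cj_le_of_mem (H := zk G a) (K := K.map N.subtype ⊔ zk G a) le_sup_right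
      (mem_sup_left h4) h3
  obtain ⟨x, h3, h4, h5⟩ := hZ.exists_mem (normalClosure (zk G a : Set G))
    (fun e => Z.zk_ne_bot a (eq_bot_iff.2 (e ▸ subset_normalClosure))) hab
  obtain ⟨_, ⟨k, hk, rfl⟩, u, hu, rfl⟩ := (mem_sup_of_le_normalizer_left h1).1 (h2 h3)
  have h6 : (⟨k, hk⟩ : K) ∈ stabilizer K a := by
    have := (mem_St2.1 h4).1
    rwa [mul_smul, Z.zk_fix hu] at this
  rw [hc a, mem_bot] at h6
  obtain rfl : k = 1 := congrArg Subtype.val h6
  exact h5 (Z.eq_one_of_mem_zk_St2 hab (by simpa using hu) h4)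

theorem s0338 {G Ω : Type*} [Group G] [MulAction G Ω] [Fintype Ω]
    (hZ : Cfsg.IsZassenhausGroup G Ω) (hodd : Odd (Fintype.card Ω)) : IsSimpleGroup G := by
  have := finite_of_faithful hZ.1
  have Z := hZ.z0
  obtain ⟨g, hg, a, b, hab, -⟩ := hZ.2.2.2.1
  have : Nontrivial G := ⟨g, 1, hg⟩
  have he : Even (Nat.card (zk G a)) := by
    rwa [← Nat.card_eq_fintype_card, ← Z.card_zk a, Nat.odd_add_one, Nat.not_odd_iff_even] at hodd
  refine ⟨fun N hN => or_iff_not_imp_left.2 fun h => Z.eq_top_of_St2_le h hab (hZ.zk_le N h a)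
    fun x hx => ?_⟩
  obtain ⟨s, h1, h2, h3⟩ := Z.exists_swap hab
  obtain ⟨c, hc⟩ := Z.exists_fix_of_even he (sq_of_ord2 h1)
  have ho := Z.odd_St2_of_even hab he
  have h4 := hZ.zk_le N h c (Z.mem_zk_of_invol hab ho h1 hc)
  refine mem_of_pow_mem_of_coprime (n := 2) ?_ (Nat.coprime_two_right.2 (odd_orderOf_of_mem ho hx))
  have h5 := mul_mem (hN.conj_mem s h4 x) (inv_mem h4)
  rwa [mul_assoc, mul_assoc, ← mul_assoc s, Z.invE_of_even he hab h2 h3 _ (inv_mem hx), inv_inv,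
    ← pow_two] at h5

theorem s0739 {G Ω : Type*} [Group G] [Finite G] [MulAction G Ω] [Fintype Ω] (hZ : Cfsg.IsZassenhausGroup G Ω) {a b : Ω} (hab : a ≠ b) (hodd : Odd (Nat.card ↥(MulAction.stabilizer G a ⊓ MulAction.stabilizer G b))) (hnil : ∀ q : ℕ, q.Prime → q ∣ Nat.card ↥(MulAction.stabilizer G a ⊓ MulAction.stabilizer G b) → ¬ ∃ N : Subgroup G, N.Normal ∧ N.index = q ^ (Nat.card G).factorization q) : IsCyclic ↥(MulAction.stabilizer G a ⊓ MulAction.stabilizer G b) ∧ Subgroup.centralizer ((MulAction.stabilizer G a ⊓ MulAction.stabilizer G b : Subgroup G) : Set G) = MulAction.stabilizer G a ⊓ MulAction.stabilizer G b ∧ ∀ s : G, s • a = b → s • b = a → ∀ h ∈ MulAction.stabilizer G a ⊓ MulAction.stabilizer G b, s * h * s⁻¹ = h⁻¹ := by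
  have Z := hZ.z0
  have hI := Z.invE_of_odd hab hodd fun q hq hd hc => by
    have := Fact.mk hq
    obtain ⟨P⟩ := (inferInstance : Nonempty (Sylow q G))
    exact hnil q hq hd ⟨_, inferInstance, by
      rw [(isComplement'_pResidual hc P).symm.index_eq_card, P.card_eq_multiplicity]⟩
  have hc := Z.comm_of_invE hI hab
  refine ⟨Z.isCyclic_of_comm hab le_rfl hc, le_antisymm (fun g hg => ?_) (le_centralizer _),
    fun s => hI hab (s := s)⟩
  refine (Z.mem_norm_St2 hab le_rfl (hZ.St2_ne_bot hab)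
    (centralizer_le_normalizer _ hg)).resolve_right fun e => ?_
  obtain ⟨x, hx, h1⟩ := exists_ne_one (hZ.St2_ne_bot hab)
  have := hI hab e.1 e.2 x hx
  rw [← hg x hx, mul_inv_cancel_right, eq_inv_iff_mul_eq_one] at this
  exact h1 (eq_one_of_odd_of_sq (odd_orderOf_of_mem hodd hx) this)

theorem s0880 {G Ω : Type*} [Group G] [Finite G] [MulAction G Ω] [Fintype Ω] (hZ : Cfsg.IsZassenhausGroup G Ω) {a b : Ω} (hab : a ≠ b) [IsSimpleGroup G] (hodd : Odd (Nat.card ↥(MulAction.stabilizer G a ⊓ MulAction.stabilizer G b : Subgroup G))) (hlt : Nat.card ↥(MulAction.stabilizer G a ⊓ MulAction.stabilizer G b : Subgroup G) < Fintype.card Ω - 2) : ∃ x y : G, (∀ c : Ω, x • c ≠ c) ∧ (∀ c : Ω, y • c ≠ c) ∧ ¬ IsConj x y := by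
  have Z := hZ.z0
  have hI := Z.invE_of_simple hab hodd
  have h1 := Z.card_fpf hab
  have h2 := Z.card_eq hab
  have h3 := Z.two_le_card_zk a
  have h4 := (one_lt_card_iff_ne_bot _).2 (hZ.St2_ne_bot hab)
  by_contra hc
  push Not at hc
  set n := Nat.card (zk G a)
  set e := Nat.card (St2 G a b)
  obtain ⟨x, hx⟩ : Nonempty {g : G // ∀ c : Ω, g • c ≠ c} := by
    refine (Nat.card_ne_zero.1 fun h => ?_).1
    rw [h, h2] at h1
    zify [show 1 ≤ n by omega] at h1 h3 h4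
    nlinarith
  have h5 := card_centralizer_mul_card_class x
  rw [Nat.card_congr (Equiv.subtypeEquivRight (q := fun g => ∀ c : Ω, g • c ≠ c) fun g =>
    ⟨fun e => by
      obtain ⟨k, rfl⟩ := isConj_iff.1 e
      exact fun c hc => hx _ (conj_smul_fix.1 hc), fun e => hc x g hx e⟩)] at h5
  obtain ⟨k, hk⟩ := Z.card_centralizer_dvd hI hab hodd hx
  set c := Nat.card (centralizer ({x} : Set G))
  set m := Nat.card {g : G // ∀ c : Ω, g • c ≠ c}
  have hc0 : 0 < c := Nat.card_pos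
  have h6 : m = e * n * k := Nat.eq_of_mul_eq_mul_left hc0 (by rw [h5, h2, hk]; ring)
  rw [h6, h2] at h1
  have h7 : 2 * (e * k) + (n - 1) = e * (n + 1) :=
    Nat.eq_of_mul_eq_mul_left (show 0 < n by omega) (by linarith)
  have h8 : k ∣ 2 := by
    have : k ∣ n - 1 := (Nat.dvd_add_right ((dvd_mul_left k e).mul_left 2)).1
      (h7 ▸ hk ▸ (dvd_mul_left k c).mul_left e)
    exact (Nat.dvd_add_right this).1 (by
      rw [show n - 1 + 2 = n + 1 by omega, hk]; exact dvd_mul_left _ _)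
  rw [← Nat.card_eq_fintype_card, ← Z.card_zk a] at hlt
  zify [show 1 ≤ n by omega] at h7 h3 h4
  have h9 : (e : ℤ) < n - 1 := by omega
  rcases (Nat.dvd_prime Nat.prime_two).1 h8 with rfl | rfl
  · push_cast at h7
    nlinarith [mul_pos (sub_pos.2 h4) (show (0 : ℤ) < n - 1 by omega)]
  · have : ((e : ℤ) - 1) * (n - 3) = 2 := by push_cast at h7; linarith
    obtain ⟨r, hr⟩ := hodd
    have h10 : (3 : ℤ) ≤ e := by omega
    nlinarith

theorem s0882 {G Ω : Type*} [Group G] [Finite G] [MulAction G Ω] [Fintype Ω] (hZ : Cfsg.IsZassenhausGroup G Ω) {a b : Ω} (hab : a ≠ b) [IsSimpleGroup G] (h e : ℕ) (hh : Fintype.card Ω = h + 1) (he : Nat.card ↥(MulAction.stabilizer G a ⊓ MulAction.stabilizer G b : Subgroup G) = e) (hodd : Odd e) (hlt : 2 * e < h - 1) : (∀ x y : G, orderOf x = 2 → orderOf y = 2 → IsConj x y) ∧ Nat.card {x : G // orderOf x = 2} = (if Even h then e * (h + 1) else e * h) := by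
  have Z := hZ.z0
  subst he
  have hI := Z.invE_of_simple hab hodd
  obtain rfl : h = Nat.card (zk G a) := by
    have := Z.card_zk a
    rw [Nat.card_eq_fintype_card (α := Ω)] at this
    omega
  refine ⟨fun x y => Z.isConj_invol hI hab hodd, ?_⟩
  split_ifs with h1
  exacts [Z.card_invol_even hab h1, Z.card_invol_odd hI hab hodd (Nat.not_even_iff_odd.1 h1)]

theorem s0883 {G Ω : Type*} [Group G] [Finite G] [MulAction G Ω] [Fintype Ω] (hZ : Cfsg.IsZassenhausGroup G Ω) {a b : Ω} (hab : a ≠ b) [IsSimpleGroup G] (h e : ℕ) (hh : Fintype.card Ω = h + 1) (he : Nat.card ↥(MulAction.stabilizer G a ⊓ MulAction.stabilizer G b : Subgroup G) = e) (hodd : Odd e) (hlt : 2 * e < h - 1) (H : Subgroup G) (hHa : H ≤ MulAction.stabilizer G a) (hHcard : Nat.card H + 1 = Fintype.card Ω) (hHfix : ∀ u ∈ H, u ≠ 1 → ∀ c : Ω, u • c = c → c = a) (u : G) (hu : u ∈ H) (hu1 : u ≠ 1) (x y : G) (hx : orderOf x = 2) (hy : orderOf y = 2) (hxy : x * y = u) : orderOf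 u = 2 := by
  have Z := hZ.z0
  subst he hxy
  obtain rfl := Z.eq_zk_of_card hHa (by rwa [Nat.card_eq_fintype_card (α := Ω)]) hHfix
  obtain ⟨h1, h2⟩ := Z.fix_of_mul_mem hab hodd hx hy hu hu1
  rw [← Z.centralizer_invol h2 hy, mem_centralizer_singleton_iff] at h1
  refine ord2_iff.2 ⟨?_, hu1⟩
  rw [mul_assoc, ← mul_assoc y, ← h1, mul_assoc, sq_of_ord2 hy, mul_one, sq_of_ord2 hx]

theorem s0884 {G Ω : Type*} [Group G] [Finite G] [MulAction G Ω] [Fintype Ω] (hZ : Cfsg.IsZassenhausGroup G Ω) {a b : Ω} (hab : a ≠ b) [IsSimpleGroup G] (h e : ℕ) (hh : Fintype.card Ω = h + 1) (he : Nat.card ↥(MulAction.stabilizer G a ⊓ MulAction.stabilizer G b : Subgroup G) = e) (hodd : Odd e) (hlt : 2 * e < h - 1) (H : Subgroup G) (hHa : H ≤ MulAction.stabilizer G a) (hHcard : Nat.card H + 1 = Fintype.card Ω) (hHfix : ∀ u ∈ H, u ≠ 1 → ∀ c : Ω, u • c = c → c = a) : e ≤ Nat.card {C : ConjClasses G // ∀ g : G, ConjClasses.mk g = C → g ∉ H} := by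
  have Z := hZ.z0
  subst he
  obtain rfl := Z.eq_zk_of_card hHa (by rwa [Nat.card_eq_fintype_card (α := Ω)]) hHfix
  exact Z.le_card_classes (Z.invE_of_simple hab hodd) hab hodd

end Cfsg.Agent.Inv
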