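import Cfsg.Agent.Inv.Zas3

/-! Recognition of `PGL₂` and `PSL₂` among Zassenhaus groups. -/

set_option autoImplicit false
set_option linter.unusedVariables false
set_option linter.unusedSectionVars false

namespace Cfsg.Agent.Inv

open Subgroup MulAction Cfsg.Agent.PLoc
open scoped MatrixGroups IsMulCommutative

theorem sigma_eq {F : Type*} [Field F] (h2 : (2 : F) ≠ 0) {Q : F → Prop} (q1 : Q 1)
    (qm : ∀ x y, x ≠ 0 → y ≠ 0 → (Q (x * y) ↔ (Q x ↔ Q y))) {σ : F → F}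
    (s0 : ∀ x, x ≠ 0 → σ x ≠ 0) (s1 : ∀ c x, Q c → c ≠ 0 → x ≠ 0 → c * σ (c * x) = σ x)
    (s2 : ∀ x, x ≠ 0 → σ (σ x) = x) {μ : F} (b1 : σ 1 + μ * σ (-σ (-1)) = 0)
    (b2 : ∀ x, x ≠ 0 → x ≠ σ (-1) → σ (1 + σ x) = σ 1 + μ * σ (x - σ (-1)))
    (hμ : Q μ ∨ σ (-1) = -σ 1) {x : F} (hx : x ≠ 0) : σ x = σ 1 / x := by
  have hQ : ∀ y, y ≠ 0 → Q y → σ y = σ 1 / y := fun y hy h => by
    have := s1 y 1 h hy one_ne_zero
    rw [mul_one] at this
    rw [← this]; field_simp
  by_cases hq : Q x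
  · exact hQ x hx hq
  set α := σ 1 with hα
  set γ := x * σ x with hγ
  have α0 : α ≠ 0 := s0 1 one_ne_zero
  have γ0 : γ ≠ 0 := mul_ne_zero hx (s0 x hx)
  have m0 : (-1 : F) ≠ 0 := neg_ne_zero.2 one_ne_zero
  have hN : ∀ y, y ≠ 0 → ¬ Q y → σ y = γ / y := fun y hy h => by
    have e : Q (y / x) := by
      have := qm (y / x) x (div_ne_zero hy hx) hx
      rw [div_mul_cancel₀ _ hx] at this
      tauto
    have := s1 _ x e (div_ne_zero hy hx) hx
    rw [div_mul_cancel₀ _ hx] at this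
    rw [hγ, ← this]; field_simp
  suffices γ = α by rw [← this, hγ]; field_simp
  by_cases qα : Q α
  swap
  · have := hN α α0 qα
    rw [hα, s2 1 one_ne_zero, eq_div_iff α0, one_mul] at this
    exact this.symm
  have qγ : Q γ := by
    rw [hγ, qm _ _ hx (s0 x hx)]
    refine ⟨fun h => absurd h hq, fun h => absurd ?_ hq⟩
    have e := hQ _ (s0 x hx) h
    rw [s2 x hx, eq_div_iff (s0 x hx)] at e
    exact ((qm _ _ hx (s0 x hx)).1 (e ▸ qα)).2 h
  by_cases qn : Q (-1)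
  swap
  · have e1 := hN _ m0 qn
    rcases hμ with h | h
    · rw [e1, div_neg, div_one, neg_neg, hQ γ γ0 qγ] at b1
      have e2 : μ = -1 * γ := by
        field_simp at b1
        exact mul_left_cancel₀ α0 (by linear_combination b1)
      rw [e2, qm _ _ m0 γ0] at h
      tauto
    · rw [e1, div_neg, div_one, neg_inj] at h
      exact h
  have e1 : σ (-1) = -α := by rw [hQ _ m0 qn, div_neg, div_one]
  have e2 : μ = -α := by
    rw [e1, neg_neg, hα, s2 1 one_ne_zero] at b1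
    linear_combination b1
  have key : ∀ y, y ≠ 0 → ¬ Q y → γ = α ∨ y ^ 2 + α * y + α * γ = 0 := by
    intro y hy h
    have n1 : ∀ c, c ≠ 0 → Q c → y + c ≠ 0 := fun c hc qc e => h (by
      rw [eq_neg_of_add_eq_zero_left e, ← neg_one_mul, qm _ _ m0 hc]; tauto)
    have a1 := n1 α α0 qα
    have a2 := n1 γ γ0 qγ
    have a3 : 1 + γ / y ≠ 0 := by
      rw [show 1 + γ / y = (y + γ) / y by field_simp]; exact div_ne_zero a2 hy
    have := b2 y hy (by rw [e1]; exact fun e => a1 (by rw [e, neg_add_cancel]))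
    rw [e1, e2, sub_neg_eq_add, hN y hy h] at this
    have c1 : ∀ z, z ≠ 0 → σ z = α / z ∨ σ z = γ / z := fun z hz =>
      (em (Q z)).imp (hQ z hz) (hN z hz)
    have a4 : y + γ = y * (1 + γ / y) := by field_simp
    rcases c1 _ a3 with f1 | f1 <;> rcases c1 _ a1 with f2 | f2 <;> rw [f1, f2] at this <;>
      field_simp at this
    · left
      apply mul_left_cancel₀ hy
      linear_combination -this
    · left
      apply mul_left_cancel₀ γ0
      linear_combination this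
    · left
      apply mul_left_cancel₀ (mul_ne_zero hy hy)
      linear_combination this
    · rw [← sub_eq_zero, ← mul_eq_zero]
      linear_combination this
  have qx : ¬ Q (-x) := by rw [← neg_one_mul, qm _ _ m0 hx]; tauto
  refine (key x hx hq).elim id fun f1 => (key _ (neg_ne_zero.2 hx) qx).elim id fun f2 => ?_
  exact absurd (by linear_combination f1 - f2) (mul_ne_zero h2 (mul_ne_zero α0 hx))

theorem succ_sq_sub_one (m : ℕ) : (m + 1) ^ 2 - 1 = m * (m + 2) :=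
  Nat.sub_eq_of_eq_add (by ring)

variable {G Ω : Type*} [Group G] [MulAction G Ω] [Finite G]

namespace Z0

variable (Z : Z0 G Ω) {a b : Ω} (hab : a ≠ b)
include Z hab

theorem dvd_of_inv' {X K : Subgroup G} (hX : X ≤ St2 G a b) (hK : K ≤ zk G a)
    (h : ∀ g ∈ X, ∀ u ∈ K, g * u * g⁻¹ ∈ K) : Nat.card X ∣ Nat.card K - 1 := by
  have := Core.card_dvd_of_free_conj X ((K : Set G) \ {1})
    (fun g hg u hu => ⟨h g hg u hu.1, by simpa using hu.2⟩) fun g hg u hu e => by
      by_contra h1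
      have : u ∈ zk G a ⊓ centralizer {g} := ⟨hK hu.1, mem_centralizer_singleton_iff.2 (by
        rw [← mul_inv_eq_iff_eq_mul.1 e])⟩
      rw [Z.fpf hab g (hX hg) h1] at this
      exact hu.2 this
  rwa [Set.ncard_diff_singleton_of_mem (one_mem K), ← Nat.card_coe_set_eq] at this

theorem eq_of_large' {X K : Subgroup G} (hX : X ≤ St2 G a b)
    (hd : Nat.card (zk G a) - 1 ≤ 2 * Nat.card X) (hK : K ≤ zk G a)
    (h : ∀ g ∈ X, ∀ u ∈ K, g * u * g⁻¹ ∈ K) : K = ⊥ ∨ K = zk G a := by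
  refine or_iff_not_imp_left.2 fun h1 => eq_of_le_of_card_ge hK ?_
  obtain ⟨k, hk⟩ := Z.dvd_of_inv' hab hX hK h
  obtain ⟨l, hl⟩ := card_dvd_of_le hK
  have h2 := (one_lt_card_iff_ne_bot _).2 h1
  have h3 := Z.two_le_card_zk a
  set e := Nat.card X
  set m := Nat.card K
  by_contra h4
  have h5 : 2 ≤ l := by
    rcases l with _ | _ | l <;> omega
  have h6 : e ≤ m - 1 := by rw [hk]; exact Nat.le_mul_of_pos_right _ (by
    rcases k with _ | k <;> omega)
  have : m * 2 ≤ m * l := Nat.mul_le_mul_left _ h5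
  omega

theorem exists_crd {X : Subgroup G} (hX : X ≤ St2 G a b) (hc : IsMulCommutative X)
    (hd : Nat.card (zk G a) - 1 ≤ 2 * Nat.card X) :
    ∃ (F : Type) (_ : Field F) (_ : Fintype F) (e : F → G), Crd (zk G a) X e ∧
      Fintype.card F = Nat.card (zk G a) := by
  obtain ⟨v, hv, hv1⟩ := exists_ne_one (Z.zk_ne_bot a)
  obtain ⟨F, _, _, e, C, -⟩ := exists_Crd (Z.elem_of_large hab
    (hd.trans (Nat.mul_le_mul_left _ (card_le_of_le hX)))).1 hc (hX.trans (Z.St2_le_norm a b))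
    (fun U hU h => Z.eq_of_large' hab hX hd hU h) hv hv1
  exact ⟨F, _, _, e, C, by rw [C.card, Nat.card_eq_fintype_card]⟩

variable {S : Subgroup G} {F : Type} [Field F] {e : F → G} (C : Crd (zk G a) S e)
include C

theorem exists_lam {T : Subgroup G} (hT : T ≤ St2 G a b)
    (hl : ∀ h ∈ T, ∃ c, ∀ x, h * e x * h⁻¹ = e (c * x)) :
    ∃ l : T →* Fˣ, Function.Injective l ∧ ∀ (h : T) x, h * e x * (h : G)⁻¹ = e (l h * x) := by
  choose c hc using fun h : T => hl h h.2
  let f : T →* F :=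
    { toFun := c
      map_one' := C.inj (by simpa using (hc 1 1).symm)
      map_mul' := fun s t => C.inj (by
        rw [← mul_one (c (s * t)), ← hc, ← mul_one (c t), ← hc, ← hc]
        simp [mul_assoc]) }
  refine ⟨f.toHomUnits, (injective_iff_map_eq_one _).2 fun h e1 => Subtype.ext ?_, hc⟩
  by_contra h1
  have e2 := hc h 1
  rw [show c h = 1 from congrArg Units.val e1, one_mul, mul_inv_eq_iff_eq_mul] at e2
  have : e 1 ∈ zk G a ⊓ centralizer {(h : G)} :=
    ⟨C.mem 1, mem_centralizer_singleton_iff.2 e2.symm⟩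
  rw [Z.fpf hab _ (hT h.2) h1, mem_bot, C.eq_one] at this
  exact one_ne_zero this

theorem comm_of_lin {T : Subgroup G} (hT : T ≤ St2 G a b)
    (hl : ∀ h ∈ T, ∃ c, ∀ x, h * e x * h⁻¹ = e (c * x)) : IsMulCommutative T := by
  obtain ⟨l, h1, -⟩ := Z.exists_lam hab C hT hl
  exact ⟨⟨fun x y => h1 (by rw [map_mul, map_mul, mul_comm])⟩⟩

theorem scal_ne {h : G} {c : F} (hc : ∀ x, h * e x * h⁻¹ = e (c * x)) : c ≠ 0 := by
  rintro rfl
  have := hc 1
  rw [zero_mul, C.zero, conj_eq_one_iff, C.eq_one] at this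
  exact one_ne_zero this

theorem pgl_core [Fintype F] (hl : ∀ h ∈ St2 G a b, ∃ c, ∀ x, h * e x * h⁻¹ = e (c * x))
    (he : Nat.card (St2 G a b) + 1 = Nat.card (zk G a)) {s : G} (s1 : s • a = b) (s2 : s • b = a)
    {α : F} (hα : α ≠ 0) (s3 : ∀ x, x ≠ 0 → s • e x • b = e (α / x) • b) :
    Nonempty (G ≃* PGL(2, F)) := by
  obtain ⟨f⟩ := Z.equiv_pgl_sub hab C ⊤ (fun _ => mem_top _) (fun h hh => by
    obtain ⟨c, hc⟩ := hl h hh
    exact ⟨c, Z.scal_ne hab C hc, hc, mem_top _⟩) s1 s2 hα s3 (mem_top _) (by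
      rw [card_top, Class.card_PGL2, Z.card_eq hab, ← Nat.card_eq_fintype_card, ← C.card, ← he]
      rw [succ_sq_sub_one]
      ring)
  exact ⟨f.trans topEquiv⟩

theorem sigma_of_half [Fintype F] (hl : ∀ h ∈ St2 G a b, ∃ c, ∀ x, h * e x * h⁻¹ = e (c * x))
    {N : Subgroup G} (hN : N ≤ St2 G a b) (hd : 2 * Nat.card N + 1 = Nat.card (zk G a)) {s : G}
    (s1 : s • a = b) (s2 : s • b = a) (hs : s * s = 1) (hi : ∀ h ∈ N, s * h * s⁻¹ = h⁻¹)
    (h : N = St2 G a b ∨ Even (Nat.card (St2 G a b))) :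
    ∃ α, α ≠ 0 ∧ (∀ x, x ≠ 0 → s • e x • b = e (α / x) • b) ∧
      ∃ h ∈ St2 G a b, ∀ x, h * e x * h⁻¹ = e (-α * x) := by
  classical
  obtain ⟨l, l1, l2⟩ := Z.exists_lam hab C hN fun h hh => hl h (hN hh)
  obtain ⟨σ, hσ⟩ := Z.exists_sigma hab C s1 s2
  obtain ⟨k, hk, μ, b0, b1, b2⟩ := Z.bruhat hab C s1 s2 hs hσ hl
  have hF : Fintype.card F = 2 * Nat.card N + 1 := by
    rw [hd, C.card, Nat.card_eq_fintype_card]
  have hi2 : l.range.index = 2 := by
    have := l.range.index_mul_card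
    rw [← Nat.card_congr (MonoidHom.ofInjective l1).toEquiv, Nat.card_eq_fintype_card (α := Fˣ),
      Fintype.card_units, hF, add_tsub_cancel_right] at this
    exact Nat.eq_of_mul_eq_mul_right Nat.card_pos this
  have h2 : (2 : F) ≠ 0 := fun e => by
    have := FiniteField.even_card_of_char_two (F := F) (CharP.ringChar_of_prime_eq_zero
      Nat.prime_two (by exact_mod_cast e))
    omega
  have hσσ := fun x hx => Z.sigma_sigma hab C hs hσ (x := x) hx
  have key : ∀ x, x ≠ 0 → σ x = σ 1 / x := fun x hx =>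
    sigma_eq h2 (Q := fun x => ∃ u ∈ l.range, (u : F) = x) ⟨1, one_mem _, rfl⟩ (fun x y hx hy => by
      have := mul_mem_iff_of_index_two hi2 (a := Units.mk0 x hx) (b := Units.mk0 y hy)
      have e1 : ∀ z (hz : z ≠ 0), (∃ u ∈ l.range, (u : F) = z) ↔ Units.mk0 z hz ∈ l.range :=
        fun z hz => ⟨fun ⟨u, hu, e⟩ => by rwa [show Units.mk0 z hz = u from Units.ext e.symm],
          fun h => ⟨_, h, rfl⟩⟩
      rw [e1 _ hx, e1 _ hy, e1 _ (mul_ne_zero hx hy), ← this, Units.mk0_mul])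
      (fun x hx => (hσ x hx).1) (by
        rintro _ x ⟨_, ⟨h, rfl⟩, rfl⟩ - hx
        exact (Z.sigma_smul hab C hσ (hN h.2) (hi h h.2) (l2 h) hx).2) hσσ b1 b2
      (h.imp (fun h : N = St2 G a b => ⟨l ⟨k, h ▸ hk⟩, ⟨_, rfl⟩, by
        simpa using C.inj ((l2 ⟨k, h ▸ hk⟩ 1).symm.trans (b0 1))⟩) fun h => by
        obtain ⟨z, hz, z2⟩ := exists_mem_orderOf_eq_prime Nat.prime_two h.two_dvd
        have := (Z.sigma_smul hab C hσ hz (c := -1) (by
          rw [Z.invol_unique hab (swap_conj s1 s2 hz) (by rw [orderOf_conj', z2]) hz z2,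
            inv_eq_of_mul_eq_one_left (sq_of_ord2 z2)])
          (fun x => by rw [(Z.inv_of_invol hab hz z2).1 _ (C.mem x), neg_one_mul, C.neg])
          one_ne_zero).2
        rw [mul_one] at this
        linear_combination -this) hx
  have α0 := (hσ 1 one_ne_zero).1
  refine ⟨σ 1, α0, fun x hx => by rw [(hσ x hx).2, key x hx], k, hk, ?_⟩
  rw [key _ (neg_ne_zero.2 one_ne_zero), div_neg, div_one, neg_neg, hσσ 1 one_ne_zero] at b1
  rwa [show -σ 1 = μ by linear_combination -b1]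

omit C in
theorem pgl_of_invE (hI : InvE G Ω) (he : Nat.card (St2 G a b) + 1 = Nat.card (zk G a)) :
    ∃ (F : Type) (_ : Field F) (_ : Fintype F), Fintype.card F = Nat.card (zk G a) ∧
      Nonempty (G ≃* PGL(2, F)) := by
  classical
  obtain ⟨F, _, _, e, C, hF⟩ := Z.exists_crd hab le_rfl (Z.comm_of_invE hI hab) (by omega)
  obtain ⟨s, -, s1, s2⟩ := Z.exists_swap hab
  obtain ⟨l, l1, l2⟩ := Z.exists_lam hab C le_rfl C.smul
  obtain ⟨σ, hσ⟩ := Z.exists_sigma hab C s1 s2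
  have l3 := ((Nat.bijective_iff_injective_and_card l).2 ⟨l1, by
    rw [Nat.card_eq_fintype_card (α := Fˣ), Fintype.card_units]; omega⟩).2
  refine ⟨F, _, _, hF, Z.pgl_core hab C C.smul he s1 s2 (hσ 1 one_ne_zero).1 fun x hx => ?_⟩
  obtain ⟨h, hh⟩ := l3 (Units.mk0 x hx)
  have := (Z.sigma_smul hab C hσ h.2 (hI hab s1 s2 h h.2) (l2 h) one_ne_zero).2
  rw [hh, Units.val_mk0, mul_one] at this
  rw [(hσ x hx).2, ← this, mul_div_cancel_left₀ _ hx]

omit C in
theorem psl_of_half (hI : InvE G Ω) (he : 2 * Nat.card (St2 G a b) + 1 = Nat.card (zk G a)) :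
    ∃ (F : Type) (_ : Field F) (_ : Fintype F), Fintype.card F = Nat.card (zk G a) ∧
      Nonempty (G ≃* PSL(2, F)) := by
  classical
  obtain ⟨F, _, _, e, C, hF⟩ := Z.exists_crd hab le_rfl (Z.comm_of_invE hI hab) (by omega)
  obtain ⟨s, hs, s1, s2⟩ := Z.exists_swap hab
  obtain ⟨α, α0, s3, k, hk, s4⟩ := Z.sigma_of_half hab C C.smul le_rfl he s1 s2 (sq_of_ord2 hs)
    (hI hab s1 s2) (Or.inl rfl)
  obtain ⟨l, l1, l2⟩ := Z.exists_lam hab C le_rfl C.smul
  have h2 : ringChar F ≠ 2 := fun e => by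
    have := FiniteField.even_card_of_char_two e
    omega
  have sq : ∀ h : St2 G a b, ∃ u : F, u ^ 2 = l h := fun h => by
    obtain ⟨u, hu⟩ := (FiniteField.isSquare_iff h2 (l h).ne_zero).2 (by
      rw [show Fintype.card F / 2 = Nat.card (St2 G a b) by omega, ← Units.val_pow_eq_pow_val,
        ← map_pow, pow_card_eq_one', map_one, Units.val_one])
    exact ⟨u, by rw [hu, sq]⟩
  obtain ⟨f⟩ := Z.equiv_pgl_sub hab C (Matrix.ProjectiveSpecialLinearGroup.toPGL).range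
    (fun _ => Class.mem_range_toPGL.2 ⟨1, by simp [Matrix.det_fin_two_of]⟩)
    (fun h hh => ⟨l ⟨h, hh⟩, Units.ne_zero _, l2 ⟨h, hh⟩, Class.mem_range_toPGL.2 (by
      simpa [Matrix.det_fin_two_of] using sq ⟨h, hh⟩)⟩) s1 s2 α0 s3
    (Class.mem_range_toPGL.2 (by
      have := C.inj ((l2 ⟨k, hk⟩ 1).symm.trans (s4 1))
      rw [mul_one, mul_one] at this
      simpa [Matrix.det_fin_two_of, ← this] using sq ⟨k, hk⟩)) (by
      rw [← Nat.card_congr (MonoidHom.ofInjective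
        Matrix.ProjectiveSpecialLinearGroup.toPGL_injective).toEquiv]
      have := Class.card_PSL2 (F := F)
      rw [hF, ← he, add_tsub_cancel_right, Nat.gcd_mul_right_right, succ_sq_sub_one] at this
      refine Nat.eq_of_mul_eq_mul_left two_pos ?_
      rw [this, Z.card_eq hab, ← he]; ring)
  exact ⟨F, _, _, hF, ⟨f.trans (MonoidHom.ofInjective
    Matrix.ProjectiveSpecialLinearGroup.toPGL_injective).symm⟩⟩

end Z0

end Cfsg.Agent.Inv
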