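import Cfsg.Agent.Inv.Zas5
import Cfsg.Agent.Char.Coh3
import Cfsg.Agent.Core.ThompsonFPF

/-! Characters of Zassenhaus groups: Feit's inequality. -/

set_option autoImplicit false
set_option linter.unusedVariables false
set_option linter.unusedSectionVars false

namespace Cfsg.Agent.Inv

open Subgroup MulAction Cfsg.Agent.PLoc Cfsg.Agent.Char
open scoped MatrixGroups IsMulCommutative ComplexConjugate

variable {G Ω : Type*} [Group G] [MulAction G Ω] [Fintype G]

/-- the kernel inside the stabilizer -/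
abbrev zk' (G : Type*) {Ω : Type*} [Group G] [MulAction G Ω] (a : Ω) :
    Subgroup (stabilizer G a) := (zk G a).subgroupOf (stabilizer G a)

theorem card_le_classes {N K : Subgroup G} [(K.subgroupOf N).Normal] [Fintype N] (hK : K ≤ N)
    (hTI : ∀ g, g ∉ N → ∀ k ∈ K, g * k * g⁻¹ ∈ K → k = 1) :
    (seqInd (K.subgroupOf N) ⊥).card ≤
      Nat.card {C : ConjClasses G // ∃ u ∈ K, u ≠ 1 ∧ ConjClasses.mk u = C} := by
  classical
  have hD := degIso_indLin_seqInd hTI ⊥
  have := Fintype.ofFinite {C : ConjClasses G // ∃ u ∈ K, u ≠ 1 ∧ ConjClasses.mk u = C}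
  choose u h1 h2 h3 using
    fun C : {C : ConjClasses G // ∃ u ∈ K, u ≠ 1 ∧ ConjClasses.mk u = C} => C.2
  have hl : LinearIndependent ℂ fun (θ : seqInd (K.subgroupOf N) ⊥) C => θ.1 ⟨u C, hK (h1 C)⟩ := by
    rw [Fintype.linearIndependent_iff]
    intro g hg θ
    set f : N → ℂ := ∑ φ : seqInd (K.subgroupOf N) ⊥, g φ • φ.1 with hf
    have f0 : IsClassFunction N f := isClassFunction_sum _ _ fun φ _ =>
      (hD.char _ (mem_seqInd.1 φ.2)).isClassFunction.smul _
    have f1 : ∀ x, x ≠ 1 → f x = 0 := fun x hx => by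
      by_cases h : (x : G) ∈ K
      · have hx' : (x : G) ≠ 1 := fun e => hx (Subtype.ext e)
        obtain ⟨y, hy⟩ := isConj_iff.1 (ConjClasses.mk_eq_mk_iff_isConj.1
          (h3 ⟨_, x, h, hx', rfl⟩).symm)
        have hyN : y ∈ N := by_contra fun e => hx' (hTI y e x h (hy ▸ h1 _))
        rw [← f0 x ⟨y, hyN⟩, show (⟨y, hyN⟩ * x * ⟨y, hyN⟩⁻¹ : N) = ⟨_, hK (h1 _)⟩ from
          Subtype.ext hy]
        simpa [hf] using congrFun hg ⟨_, x, h, hx', rfl⟩
      · simp [hf, fun φ : seqInd (K.subgroupOf N) ⊥ =>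
          apply_eq_zero_of_mem_inducedIrrAbove (mem_seqInd.1 φ.2) (x := x) h]
    have f2 : classInner f (fun _ => 1) = 0 := by
      rw [hf, classInner_sum_left]
      exact Finset.sum_eq_zero fun φ _ => by
        rw [classInner_smul_left, classInner_one_of_mem_inducedIrrAbove (mem_seqInd.1 φ.2), mul_zero]
    rw [classInner_one_right, Finset.sum_eq_single 1 (fun x _ => f1 x) (by simp), mul_eq_zero,
      inv_eq_zero] at f2
    have f3 : f = 0 := funext fun x => by
      by_cases h : x = 1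
      · rw [h]; exact f2.resolve_left (card_ne_zero N)
      · exact f1 x h
    have f4 : classInner f θ.1 = 0 := by rw [f3, classInner_zero_left]
    rw [hf, classInner_sum_left, Finset.sum_eq_single θ (fun φ _ h => by
      rw [classInner_smul_left, hD.orth _ (mem_seqInd.1 φ.2) _ (mem_seqInd.1 θ.2)
        fun e => h (Subtype.ext e), mul_zero]) (by simp), classInner_smul_left, mul_eq_zero,
      classInner_self_eq_zero] at f4
    exact f4.resolve_right (hD.ne_zero _ (mem_seqInd.1 θ.2))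
  simpa [Nat.card_eq_fintype_card] using hl.fintype_card_le_finrank

theorem card_classes_split (K : Subgroup G) :
    Nat.card {C : ConjClasses G // ∀ g : G, ConjClasses.mk g = C → g ∉ K} +
      Nat.card {C : ConjClasses G // ∃ u ∈ K, u ≠ 1 ∧ ConjClasses.mk u = C} + 1 ≤
      Nat.card (ConjClasses G) := by
  classical
  have := Fintype.ofFinite (ConjClasses G)
  rw [card_subtype_eq_filter, card_subtype_eq_filter, ← Finset.card_union_of_disjoint,
    ← Finset.card_insert_of_notMem (a := ConjClasses.mk 1), Nat.card_eq_fintype_card]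
  · exact Finset.card_le_univ _
  · simp only [Finset.mem_union, Finset.mem_filter, Finset.mem_univ, true_and, not_or]
    exact ⟨fun h => h 1 rfl (one_mem K), fun ⟨u, _, h1, h2⟩ =>
      h1 (isConj_one_left.1 (ConjClasses.mk_eq_mk_iff_isConj.1 h2))⟩
  · rw [Finset.disjoint_filter]
    exact fun C _ h ⟨u, h1, _, h2⟩ => h u h2 h1

/-- the exceptional case of Feit's theorem -/
def Feit (K : Type*) [Group K] (e : ℕ) : Prop :=
  ∃ p : ℕ, p.Prime ∧ IsPGroup p K ∧ ¬ IsMulCommutative K ∧ (commutator K).index ≤ 4 * e ^ 2 + 1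

theorem Feit.congr {K L : Type*} [Group K] [Group L] {e : ℕ} (f : K ≃* L) (h : Feit K e) :
    Feit L e := by
  obtain ⟨p, hp, h1, h2, h3⟩ := h
  refine ⟨p, hp, h1.of_equiv f, fun h => h2 ⟨⟨fun x y => f.injective ?_⟩⟩, ?_⟩
  · rw [map_mul, map_mul, h.is_comm.comm]
  · exact (Nat.card_congr f.abelianizationCongr.toEquiv).symm.le.trans h3

theorem Feit.mono {K : Type*} [Group K] {e e' : ℕ} (h : Feit K e) (he : e ≤ e') : Feit K e' := by
  obtain ⟨p, hp, h1, h2, h3⟩ := h
  exact ⟨p, hp, h1, h2, h3.trans (by gcongr)⟩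

omit [Fintype G] in
theorem commutator_eq_subgroupOf (K : Subgroup G) : commutator K = ⁅K, K⁆.subgroupOf K := by
  rw [← map_subtype_commutator, subgroupOf, comap_map_eq_self_of_injective K.subtype_injective]

namespace Z0

variable (Z : Z0 G Ω) {a b : Ω}
include Z

theorem zk'_normal (a : Ω) : (zk' G a).Normal :=
  normal_subgroupOf_of_le_normalizer (Z.stab_le_norm a)

theorem ti (a : Ω) : ∀ g, g ∉ stabilizer G a → ∀ k ∈ zk G a, g * k * g⁻¹ ∈ zk G a → k = 1 :=
  fun g hg k hk h => by_contra fun h1 => hg (Z.fix_of_conj_mem hk h1 (Z.zk_fix h))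

theorem cent_zk' (a : Ω) : ∀ k ∈ zk' G a, k ≠ 1 → centralizer {k} ≤ zk' G a :=
  centralizer_le_subgroupOf fun k hk h g hg =>
    Z.mem_zk_of_comm hk h (mem_centralizer_singleton_iff.1 hg.2)

theorem card_zk' (a : Ω) : Nat.card (zk' G a) = Nat.card (zk G a) :=
  card_subgroupOf_of_le (Z.zk_le a)

theorem index_zk' (hab : a ≠ b) : (zk' G a).index = Nat.card (St2 G a b) := by
  have := (zk' G a).index_mul_card
  rw [Z.card_stab hab, Z.card_zk'] at this
  exact Nat.eq_of_mul_eq_mul_right Nat.card_pos this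

theorem ind_apply (hI : InvE G Ω) {μ : stabilizer G a → ℂ} (h1 : IsCharacter _ μ) (h2 : μ 1 = 1)
    (h3 : ∀ k ∈ zk' G a, μ k = 1) (g : stabilizer G a) [Decidable (g = 1)] [Decidable (g ∈ zk' G a)] :
    indFun (stabilizer G a) μ g = μ g + conj (μ g) +
      ((if g = 1 then (Nat.card (zk G a) : ℂ) else 0) - if g ∈ zk' G a then 1 else 0) := by
  classical
  by_cases hg1 : g = 1
  · subst hg1
    simp only [OneMemClass.coe_one, indFun_one, Z.index_stab, h2, one_mem, if_true]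
    simp; ring
  by_cases hg : g ∈ zk' G a
  · rw [indFun_apply_eq_of_forall h1.isClassFunction g fun x hx => extendByZero_of_not_mem _ _
      fun h => hx (Z.fix_of_conj_mem hg (fun e => hg1 (Subtype.ext e)) h)]
    simp [hg1, hg, h3 g hg]
  obtain ⟨c, hc, hca⟩ : ∃ c, (g : G) • c = c ∧ c ≠ a := by
    by_contra h
    push Not at h
    exact hg (Z.mem_zk.2 ⟨g.2, Or.inr h⟩)
  obtain ⟨s, -, s1, s2⟩ := Z.exists_swap hca.symm
  have hs := hI hca.symm s1 s2 g ⟨g.2, hc⟩
  have key : ∀ x : G, extendByZero _ μ (x * g * x⁻¹) = (if x ∈ stabilizer G a then μ g else 0) +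
      if x * s⁻¹ ∈ stabilizer G a then conj (μ g) else 0 := fun x => by
    by_cases h4 : x ∈ stabilizer G a
    · rw [extendByZero_conj_mem _ h1.isClassFunction h4, extendByZero_coe, if_pos h4, if_neg,
        add_zero]
      intro h5
      have h6 : s • a = a := by simpa [mul_smul] using mul_mem (inv_mem h4) h5
      exact hca.symm (s1.symm.trans h6).symm
    by_cases h5 : x * s⁻¹ ∈ stabilizer G a
    · rw [if_neg h4, if_pos h5, zero_add, ← h1.apply_inv, ← extendByZero_coe _ μ g⁻¹,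
        ← extendByZero_conj_mem _ h1.isClassFunction h5 (g⁻¹ : stabilizer G a),
        InvMemClass.coe_inv, ← hs]
      congr 1; group
    rw [if_neg h4, if_neg h5, add_zero, extendByZero_of_not_mem]
    intro h6
    rcases Z.fix_cases hca.symm ⟨g.2, hc⟩ (fun e => hg1 (Subtype.ext e)) (conj_smul_fix.1 h6)
      with e | e
    · exact h4 (smul_eq_iff_inv.2 e)
    · exact h5 (by rw [mem_stabilizer_iff, mul_smul, smul_eq_iff_inv.1 s2, smul_eq_iff_inv, e])
  rw [indFun_apply', Finset.sum_congr rfl fun x _ => key x, Finset.sum_add_distrib,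
    show ∑ x : G, (if x * s⁻¹ ∈ stabilizer G a then conj (μ g) else 0) = _ from
      Equiv.sum_comp (Equiv.mulRight s⁻¹) fun x => if x ∈ stabilizer G a then conj (μ g) else 0]
  simp only [Finset.sum_ite, Finset.sum_const_zero, add_zero, Finset.sum_const, nsmul_eq_mul,
    ← card_subgroup_eq_filter, hg1, hg, if_false, sub_zero]
  have := card_ne_zero (stabilizer G a)
  field_simp

variable [Fintype (stabilizer G a)] [Fintype (zk' G a)]

theorem inner_ind (hI : InvE G Ω) {μ : stabilizer G a → ℂ} (h1 : IsCharacter _ μ) (h2 : μ 1 = 1)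
    (h3 : ∀ k ∈ zk' G a, μ k = 1) (θ : stabilizer G a → ℂ) :
    classInner (fun g : stabilizer G a => indFun (stabilizer G a) μ g) θ =
      classInner μ θ + classInner (fun g => conj (μ g)) θ + (Nat.card (stabilizer G a) : ℂ)⁻¹ *
        (Nat.card (zk G a) * conj (θ 1) - ∑ k : zk' G a, conj (θ k)) := by
  classical
  simp only [classInner_def, Z.ind_apply hI h1 h2 h3, add_mul, sub_mul, Finset.sum_add_distrib,
    Finset.sum_sub_distrib, mul_add, ite_mul, zero_mul, one_mul, Finset.sum_ite_eq',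
    Finset.mem_univ, if_true]
  rw [← Finset.sum_filter, Finset.sum_subtype (p := (· ∈ zk' G a))
    (Finset.univ.filter (· ∈ zk' G a)) (by simp)]

theorem inner_ind_ind (hI : InvE G Ω) {μ ν : stabilizer G a → ℂ} (h1 : IsCharacter _ μ)
    (h2 : μ 1 = 1) (h3 : ∀ k ∈ zk' G a, μ k = 1) (h4 : ν 1 = 1) (h5 : ∀ k ∈ zk' G a, ν k = 1) :
    classInner (indFun (stabilizer G a) μ) (indFun (stabilizer G a) ν) =
      classInner μ ν + classInner (fun g => conj (μ g)) ν := by
  rw [classInner_indFun_right _ _ (isClassFunction_indFun _ _), Z.inner_ind hI h1 h2 h3,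
    Finset.sum_congr rfl fun k _ => by rw [h5 k k.2]]
  simp [h4, ← Nat.card_eq_fintype_card, Z.card_zk']

theorem conj_ne (hab : a ≠ b) (ho : Odd (Nat.card (St2 G a b))) {μ : stabilizer G a → ℂ}
    (h1 : IsCharacter _ μ) (h2 : μ 1 = 1) (h3 : ∀ k ∈ zk' G a, μ k = 1) (h4 : μ ≠ fun _ => 1) :
    (fun g => conj (μ g)) ≠ μ := fun e => h4 (funext fun g => by
  have := Z.zk'_normal a
  obtain ⟨l, rfl⟩ := h1.exists_hom h2
  have e1 : (l (g ^ _) : ℂ) = 1 := h3 _ ((zk' G a).pow_index_mem g)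
  have e2 := hom_mul_conj l g
  obtain ⟨m, hm⟩ := ho
  rw [show conj (l g : ℂ) = l g from congrFun e g] at e2
  rwa [map_pow, Units.val_pow_eq_pow_val, Z.index_zk' hab, hm, pow_succ, pow_mul, sq, e2, one_pow,
    one_mul] at e1)

theorem ind_irr (hI : InvE G Ω) (hab : a ≠ b) (ho : Odd (Nat.card (St2 G a b)))
    {μ : stabilizer G a → ℂ} (h1 : IsCharacter _ μ) (h2 : μ 1 = 1) (h3 : ∀ k ∈ zk' G a, μ k = 1)
    (h4 : μ ≠ fun _ => 1) : IsIrrCharacter G (indFun (stabilizer G a) μ) :=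
  h1.indFun.isIrr_of_classInner_eq_one (by
    rw [Z.inner_ind_ind hI h1 h2 h3 h2 h3, (h1.isIrr_of_one h2).classInner_self,
      (h1.isIrr_of_one h2).conj.classInner_of_ne (h1.isIrr_of_one h2)
        (Z.conj_ne hab ho h1 h2 h3 h4), add_zero])

theorem lin_of_ker (hI : InvE G Ω) (hab : a ≠ b) {μ : stabilizer G a → ℂ} (h1 : IsIrrCharacter _ μ)
    (h3 : ∀ k ∈ zk' G a, μ k = μ 1) : μ 1 = 1 := by
  have := Z.zk'_normal a
  obtain ⟨χ, h4, h5⟩ := h1.exists_quotient _ h3
  rw [← h5]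
  refine h4.one_eq_one_of_comm fun x y => ?_
  have key : ∀ x : stabilizer G a ⧸ zk' G a, ∃ h : stabilizer G a, (h : G) ∈ St2 G a b ∧
      x = h := fun x => by
    obtain ⟨x, rfl⟩ := QuotientGroup.mk_surjective x
    obtain ⟨u, hu, h, hh, e⟩ := Z.exists_mul hab x.2
    refine ⟨⟨h, hh.1⟩, hh, ?_⟩
    rw [show x = ⟨u, Z.zk_le a hu⟩ * ⟨h, hh.1⟩ from Subtype.ext e, QuotientGroup.mk_mul,
      (QuotientGroup.eq_one_iff (⟨u, Z.zk_le a hu⟩ : stabilizer G a)).2 hu, one_mul]
  obtain ⟨x, hx, rfl⟩ := key x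
  obtain ⟨y, hy, rfl⟩ := key y
  rw [← QuotientGroup.mk_mul, ← QuotientGroup.mk_mul]
  exact congrArg _ (Subtype.ext (comm_of_mem (Z.comm_of_invE hI hab) hx hy))

local notation "𝓝" => stabilizer G a

theorem large_of_coh [IsSimpleGroup G] (hab : a ≠ b) (ho : Odd (Nat.card (St2 G a b)))
    (h1 : St2 G a b ≠ ⊥) (hK' : ¬ zk' G a ≤ ⁅zk' G a, zk' G a⁆ ⊔ ⊥)
    (hc : Coh (inducedIrrAbove (zk' G a) ⊥) (indLin (stabilizer G a))) :
    Nat.card (zk G a) - 1 ≤ 2 * Nat.card (St2 G a b) := by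
  classical
  by_contra hlt
  have := Z.zk'_normal a
  have hI := Z.invE_of_simple hab ho
  set K := zk' G a with hK
  set S := inducedIrrAbove K ⊥ with hS
  set e := Nat.card (St2 G a b) with he
  set n := Nat.card (zk G a) with hn
  have hD : DegIso S (indLin 𝓝) := degIso_indLin_seqInd (Z.ti a) ⊥
  have hirr : ∀ φ ∈ S, IsIrrCharacter 𝓝 φ := fun φ => isIrr_of_mem_inducedIrrAbove (Z.cent_zk' a)
  have hS' := inducedIrrAbove_bot_eq (Z.cent_zk' a)
  obtain ⟨ν, hν⟩ := hc
  obtain ⟨ε, hε, hχ⟩ := hD.exists_sign hν hirr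
  obtain ⟨θ, hθ, θ1⟩ := exists_mem_inducedIrrAbove_of_not_le hK'
  rw [Z.index_zk' hab, ← he] at θ1
  have e0 : (e : ℂ) ≠ 0 := card_ne_zero _
  have εε : ε * ε = 1 := by rcases hε with rfl | rfl <;> simp
  have εc : conj ε = ε := by rcases hε with rfl | rfl <;> simp
  have hm := fun φ (hφ : φ ∈ S) => smul_sub_smul_mem_span1 hφ hθ (hD.char _ hφ) (hD.char _ hθ)
  have c1 := fun φ (hφ : φ ∈ S) => (hD.char _ hφ).conj_apply_one
  -- restriction relation
  have R : ∀ ψ, IsClassFunction G ψ → ∀ φ ∈ S,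
      e * classInner (fun x : 𝓝 => ψ x) φ - φ 1 * classInner (fun x : 𝓝 => ψ x) θ =
        e * classInner ψ (ν φ) - φ 1 * classInner ψ (ν θ) := fun ψ hψ φ hφ => by
    have := classInner_indFun_right 𝓝 (θ 1 • φ - φ 1 • θ) hψ
    rw [← indLin_apply, ← hν.agree _ (hm φ hφ).2, map_sub, map_smul, map_smul] at this
    simp only [classInner_sub_right, classInner_smul_right, c1 φ hφ, θ1, map_natCast] at this
    exact this.symm
  choose! B hB using fun ψ : IrrCharacter G =>
    (ψ.2.isCharacter.restrict 𝓝).classInner_nat (hD.char _ hθ)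
  have hB2 : ∑ ψ, B ψ ^ 2 = e + 1 := by
    have h2 := (isClassFunction_indFun 𝓝 θ).classInner_eq_sum_irr (indFun 𝓝 θ)
    have h3 : ∀ ψ : IrrCharacter G, classInner (indFun 𝓝 θ) ψ = B ψ := fun ψ => by
      rw [(hD.char _ hθ).indFun.classInner_comm ψ.2.isCharacter,
        classInner_indFun_right _ _ ψ.2.isClassFunction, hB]
    simp only [h3, map_natCast] at h2
    rw [classInner_indFun_left _ _ (isClassFunction_indFun 𝓝 θ), classInner_def,
      Finset.sum_congr rfl (g := fun x => θ x * conj (θ x) + if x = 1 then (n * e * e : ℂ) else 0)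
        fun x _ => by
          by_cases h4 : x = 1
          · simp only [h4, OneMemClass.coe_one, indFun_one, θ1, Z.index_stab, ← hn, if_true, map_mul,
              map_natCast]
            push_cast; ring
          by_cases h5 : x ∈ K
          · rw [indFun_apply_TI (T := zk G a) (Z.ti a) (hD.char _ hθ).isClassFunction
              (fun x => apply_eq_zero_of_mem_inducedIrrAbove hθ) x h5 h4, if_neg h4, add_zero]
          · simp [apply_eq_zero_of_mem_inducedIrrAbove hθ h5, h4],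
      Finset.sum_add_distrib, mul_add, ← classInner_def, (hirr _ hθ).classInner_self,
      Finset.sum_ite_eq', if_pos (Finset.mem_univ _), Z.card_stab hab] at h2
    have n0 : (n : ℂ) ≠ 0 := card_ne_zero _
    have : ((∑ ψ, B ψ ^ 2 : ℕ) : ℂ) = (e + 1 : ℕ) := by
      push_cast at h2 ⊢
      simp only [sq, ← h2, ← he, ← hn]
      field_simp; ring
    exact_mod_cast this
  let X : seqInd K ⊥ → IrrCharacter G := fun φ => ⟨ε • ν φ, hχ _ (mem_seqInd.1 φ.2)⟩
  have hX : ∀ φ, ∀ φ' ∈ S, classInner (X φ : G → ℂ) (ν φ') = ε * classInner φ.1 φ' :=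
    fun φ φ' h => by rw [classInner_smul_left, hν.inner _ (mem_seqInd.1 φ.2) _ h]
  have Xi : Function.Injective X := fun φ φ' h => Subtype.ext (by
    by_contra h2
    have := hX φ _ (mem_seqInd.1 φ'.2)
    rw [h, hX _ _ (mem_seqInd.1 φ'.2), (hirr _ (mem_seqInd.1 φ'.2)).classInner_self,
      hD.orth _ (mem_seqInd.1 φ.2) _ (mem_seqInd.1 φ'.2) h2] at this
    rcases hε with rfl | rfl <;> simp at this)
  have ker : ∀ ψ : IrrCharacter G, (∀ φ ∈ S, classInner (fun x : 𝓝 => (ψ : G → ℂ) x) φ = 0) →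
      ψ = irrOne G := fun ψ h => by
    by_contra h2
    obtain ⟨u, hu, hu1⟩ := exists_ne_one (Z.zk_ne_bot a)
    have h3 := ψ.2.charKer_eq_bot_of_simple fun e => h2 (Subtype.ext e)
    refine hu1 ((eq_bot_iff_forall _).1 h3 u (ψ.2.isCharacter.mem_charKer.2 ?_))
    have h4 := (ψ.2.isClassFunction.restrict 𝓝).apply_eq_sum_irr
    refine (h4 ⟨u, Z.zk_le a hu⟩).trans (Eq.trans (Finset.sum_congr rfl fun φ _ => ?_) (h4 1).symm)
    by_cases h5 : (φ : 𝓝 → ℂ) ∈ S
    · rw [h _ h5, zero_mul, zero_mul]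
    · rw [hS, hS'] at h5
      rw [not_not.1 fun e => h5 ⟨φ.2, _, hu, e⟩]
  have hB1 : ∀ ψ : IrrCharacter G, ψ ∉ Finset.univ.image X → ψ ≠ irrOne G → 1 ≤ B ψ ^ 2 := by
    intro ψ h2 h3
    have h4 : ∀ φ ∈ S, classInner (ψ : G → ℂ) (ν φ) = 0 := fun φ hφ => by
      have := ψ.2.classInner_of_ne (X ⟨φ, mem_seqInd.2 hφ⟩).2 fun e =>
        h2 (Finset.mem_image.2 ⟨_, Finset.mem_univ _, Subtype.ext e.symm⟩)
      rw [classInner_smul_right, mul_eq_zero, εc] at this
      exact this.resolve_left (left_ne_zero_of_mul_eq_one εε)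
    refine Nat.one_le_iff_ne_zero.2 (pow_ne_zero _ fun h5 => h3 (ker ψ fun φ hφ => ?_))
    have := R _ ψ.2.isClassFunction φ hφ
    rw [h4 φ hφ, h4 θ hθ, hB, h5] at this
    simpa [e0] using this
  have hsum : ∑ φ, B (X φ) ^ 2 ≤ 1 := by
    have h2 := card_classes_split (zk G a)
    have h3 := Z.le_card_classes hI hab ho
    have h4 := card_le_classes (Z.zk_le a) (Z.ti a)
    rw [← card_irr_eq_card_conjClasses, Nat.card_eq_fintype_card (α := IrrCharacter G)] at h2
    have h5 := Finset.card_nsmul_le_sum ((Finset.univ.image X)ᶜ.erase (irrOne G)) _ _ fun ψ hψ =>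
      hB1 ψ (Finset.mem_compl.1 (Finset.mem_erase.1 hψ).2) (Finset.mem_erase.1 hψ).1
    have h6 := Finset.sum_le_sum_of_subset (f := fun ψ => B ψ ^ 2)
      (Finset.erase_subset (irrOne G) (Finset.univ.image X)ᶜ)
    have h7 := Finset.pred_card_le_card_erase (s := (Finset.univ.image X)ᶜ) (a := irrOne G)
    rw [← Finset.sum_add_sum_compl (Finset.univ.image X),
      Finset.sum_image fun x _ y _ h => Xi h] at hB2
    rw [Finset.card_compl, Finset.card_image_of_injective _ Xi, Finset.card_univ,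
      Fintype.card_coe] at h7
    rw [smul_eq_mul, mul_one] at h5
    change (seqInd K ⊥).card ≤ _ at h4
    omega
  have hS2 : ∑ φ ∈ seqInd K ⊥, (φ 1).re ^ 2 = e * (n - 1 : ℝ) := by
    rw [sum_seqInd_sq_of_irr hirr, relIndex_bot_left, Z.index_zk' hab, Z.card_zk']
  let θ' : seqInd K ⊥ := ⟨θ, mem_seqInd.2 hθ⟩
  have R' : ∀ φ : seqInd K ⊥, φ ≠ θ' → (e * B (X φ) : ℂ) = φ.1 1 * (B (X θ') - ε) := by
    intro φ h
    have hφ := mem_seqInd.1 φ.2
    have h2 := classInner_indFun_TI (T := zk G a) (Z.ti a) (ψ := θ 1 • φ.1 - φ.1 1 • θ)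
      (hD.char _ hθ).isClassFunction
      (fun x hx => by simp [apply_eq_zero_of_mem_inducedIrrAbove hθ hx,
        apply_eq_zero_of_mem_inducedIrrAbove hφ hx])
      (fun x => apply_eq_zero_of_mem_inducedIrrAbove hθ) (by simp [mul_comm])
    have h3 : ∀ φ : seqInd K ⊥, classInner (ν φ) (indFun 𝓝 θ) = ε * B (X φ) := fun φ => by
      rw [← hB, ← classInner_indFun_right _ _ (X φ).2.isClassFunction, classInner_smul_left,
        ← mul_assoc, εε, one_mul]
    rw [← indLin_apply, ← hν.agree _ (hm φ hφ).2, map_sub, map_smul, map_smul] at h2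
    simp only [classInner_sub_left, classInner_smul_left, h3, show classInner (ν θ) _ = _ from h3 θ', θ1,
      (hirr _ hθ).classInner_self, hD.orth _ hφ _ hθ fun e => h (Subtype.ext e)] at h2
    linear_combination ε * h2 - (e * B (X φ) - φ.1 1 * B (X θ')) * εε
  have hlt' : (2 * e : ℝ) < n - 1 := by
    have : 2 * e + 1 < n := by omega
    have : ((2 * e + 1 : ℕ) : ℝ) < n := by exact_mod_cast this
    push_cast at this; linarith
  have epos : (0 : ℝ) < e := by exact_mod_cast Nat.card_pos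
  have hsplit : ∑ φ ∈ Finset.univ.erase θ', (φ.1 1).re ^ 2 = e * (n - 1 : ℝ) - e ^ 2 := by
    rw [← hS2, ← Finset.sum_coe_sort (seqInd K ⊥), ← Finset.add_sum_erase _ _ (Finset.mem_univ θ')]
    simp [θ', θ1]
  have ha0 : (B (X θ') : ℂ) = ε := by
    by_contra h2
    obtain ⟨z, hz⟩ : ∃ z : ℤ, (B (X θ') - ε : ℂ) = z := by
      rcases hε with rfl | rfl
      · exact ⟨B (X θ') - 1, by simp⟩
      · exact ⟨B (X θ') + 1, by simp⟩
    have z1 : (1 : ℝ) ≤ z ^ 2 := by
      have : z ≠ 0 := fun h => h2 (sub_eq_zero.1 (by rw [hz, h, Int.cast_zero]))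
      exact_mod_cast (sq_pos_of_ne_zero this : (0 : ℤ) < z ^ 2)
    have h3 : ∑ φ ∈ Finset.univ.erase θ', (φ.1 1).re ^ 2 ≤
        ∑ φ ∈ Finset.univ.erase θ', (e : ℝ) ^ 2 * (B (X φ) ^ 2 : ℕ) :=
      Finset.sum_le_sum fun φ hφ => by
        have := congrArg Complex.re (R' φ (Finset.mem_erase.1 hφ).1)
        rw [hz, ← c1 _ (mem_seqInd.1 φ.2), ← Complex.ofReal_intCast, Complex.re_mul_ofReal,
          Complex.conj_re, ← Nat.cast_mul, Complex.natCast_re] at this
        push_cast at this ⊢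
        rw [← mul_pow, this, mul_pow]
        nlinarith [sq_nonneg (φ.1 1).re]
    rw [hsplit, ← Finset.mul_sum, ← Nat.cast_sum] at h3
    have h4 : ((∑ φ ∈ Finset.univ.erase θ', B (X φ) ^ 2 : ℕ) : ℝ) ≤ 1 := by
      exact_mod_cast (Finset.sum_le_sum_of_subset (Finset.erase_subset _ _)).trans hsum
    nlinarith
  have ε1 : ε = 1 := hε.resolve_right fun h => by
    rw [h] at ha0
    have : ((B (X θ') : ℤ) : ℂ) = (-1 : ℤ) := by simpa using ha0
    have := Int.cast_injective this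
    omega
  obtain ⟨χ, hχ', χθ, χφ⟩ : ∃ χ, IsIrrCharacter G χ ∧ classInner (fun x : 𝓝 => χ x) θ = 1 ∧
      ∀ φ ∈ S, φ ≠ θ → classInner (fun x : 𝓝 => χ x) φ = 0 := by
    refine ⟨X θ', (X θ').2, (hB _).trans (ha0.trans ε1), fun φ hφ h => ?_⟩
    have := R _ (X θ').2.isClassFunction φ hφ
    rw [hX _ _ hφ, hX _ _ hθ, hB, ha0, (hirr _ hθ).classInner_self, hD.orth _ hθ _ hφ h.symm]
      at this
    simpa [e0] using this
  obtain ⟨φ₁, hφ₁, φ₁θ⟩ : ∃ φ ∈ S, φ ≠ θ := by
    obtain ⟨φ, h2, ψ, h3, h4⟩ := exists_ne_of_card_ne hirr hK' (by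
      rw [relIndex_bot_left, Z.index_zk' hab, Z.card_zk', ← he, ← hn]; omega)
    by_cases h5 : φ = θ
    · exact ⟨ψ, h3, h5 ▸ h4.symm⟩
    · exact ⟨φ, h2, h5⟩
  have lin : ∀ μ, IsIrrCharacter 𝓝 μ → μ ∉ S → μ 1 = 1 ∧ ∀ k ∈ K, μ k = 1 := fun μ h2 h3 => by
    have h4 : ∀ k ∈ K, μ k = μ 1 := fun k hk => not_not.1 fun e => h3 (by
      rw [hS, hS']; exact ⟨h2, k, hk, e⟩)
    have h5 := Z.lin_of_ker hI hab h2 h4
    exact ⟨h5, fun k hk => (h4 k hk).trans h5⟩
  have hne : ∀ μ, IsIrrCharacter 𝓝 μ → μ ∉ S →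
      classInner (fun g : 𝓝 => indFun 𝓝 μ g) φ₁ ≠ 0 := fun μ h2 h3 => by
    have h4 : ∑ k : K, conj (φ₁ k) = 0 := by
      have := classInner_one_of_mem_inducedIrrAbove hφ₁
      rw [classInner_one_right, mul_eq_zero, inv_eq_zero, or_iff_right (card_ne_zero _),
        ← Finset.sum_subset (Finset.subset_univ (Finset.univ.filter (· ∈ K))) fun x _ hx =>
          apply_eq_zero_of_mem_inducedIrrAbove hφ₁ (by simpa using hx),
        Finset.sum_subtype (p := (· ∈ K)) _ (by simp)] at this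
      rw [← map_sum, this, map_zero]
    rw [Z.inner_ind hI h2.isCharacter (lin μ h2 h3).1 (lin μ h2 h3).2, h4, sub_zero,
      h2.classInner_of_ne (hirr _ hφ₁) fun e => h3 (e ▸ hφ₁),
      h2.conj.classInner_of_ne (hirr _ hφ₁) fun e => h3 (by
        have := conjFun_mem_inducedIrrAbove hφ₁
        rw [← e] at this
        convert this using 1
        exact funext fun g => (Complex.conj_conj _).symm), c1 _ hφ₁, add_zero, zero_add]
    exact mul_ne_zero (inv_ne_zero (card_ne_zero _))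
      (mul_ne_zero (card_ne_zero _) (hirr _ hφ₁).one_ne_zero)
  have one1 : (fun _ => 1 : 𝓝 → ℂ) ∉ S := fun h => by
    simpa using (classInner_one_of_mem_inducedIrrAbove h).symm.trans
      (isIrrCharacter_one (G := 𝓝)).classInner_self
  have χN : (fun x : 𝓝 => χ x) = θ := by
    have := (hχ'.isClassFunction.restrict 𝓝).eq_smul_of_unique (hirr _ hθ) fun μ h2 h3 => by
      by_contra h4
      have h5 : μ ∉ S := fun h => h3 (χφ μ h h4)
      rw [← classInner_indFun_right _ _ hχ'.isClassFunction] at h3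
      by_cases h6 : μ = fun _ => 1
      · subst h6
        have h7 : classInner (indFun 𝓝 fun _ => 1) (fun _ => 1) = 1 := by
          rw [classInner_indFun_left _ _ (isClassFunction_const 1)]
          exact (isIrrCharacter_one (G := 𝓝)).classInner_self
        have h8 : IsIrrCharacter G (indFun 𝓝 (fun _ => 1) - fun _ => 1) :=
          (h2.isCharacter.indFun.sub_irr isIrrCharacter_one (by simp [h7])).isIrr_of_classInner_eq_one (by
            rw [classInner_sub_left, classInner_sub_right, classInner_sub_right, h7,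
              isIrrCharacter_one.isCharacter.classInner_comm h2.isCharacter.indFun, h7,
              Z.inner_ind_ind hI h2.isCharacter rfl (fun _ _ => rfl) rfl fun _ _ => rfl]
            simp only [map_one, isIrrCharacter_one.classInner_self]; ring)
        have h9 : χ ≠ fun _ => 1 := fun e => by
          rw [e, isIrrCharacter_one.classInner_of_ne (hirr _ hθ) fun e => one1 (e ▸ hθ)] at χθ
          simp at χθ
        have h10 : χ = indFun 𝓝 (fun _ => 1) - fun _ => 1 := by_contra fun e => h3 (by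
          have := hχ'.classInner_of_ne h8 e
          rwa [classInner_sub_right, hχ'.classInner_of_ne isIrrCharacter_one h9, sub_zero] at this)
        have h11 := χφ _ hφ₁ φ₁θ
        rw [show (fun x : 𝓝 => χ x) = (fun x : 𝓝 => indFun 𝓝 (fun _ => 1) x) - fun _ => 1 by
          rw [h10]; rfl, classInner_sub_left,
          isIrrCharacter_one.classInner_of_ne (hirr _ hφ₁) fun e => one1 (e ▸ hφ₁), sub_zero] at h11
        exact hne _ h2 h5 h11
      · have h7 : χ = indFun 𝓝 μ := by_contra fun e => h3 (hχ'.classInner_of_ne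
          (Z.ind_irr hI hab ho h2.isCharacter (lin μ h2 h5).1 (lin μ h2 h5).2 h6) e)
        exact hne _ h2 h5 (h7 ▸ χφ _ hφ₁ φ₁θ)
    rwa [χθ, one_smul] at this
  -- the final degree count
  set T := irrSet 𝓝 (fun χ => χ ≠ (fun _ => 1) ∧ ∀ n ∈ K, χ n = χ 1) with hT
  have hT1 : ∀ μ ∈ T, IsIrrCharacter 𝓝 μ ∧ μ ≠ (fun _ => 1) ∧ μ 1 = 1 ∧ ∀ k ∈ K, μ k = 1 :=
    fun μ h => by
      obtain ⟨h2, h3, h4⟩ := mem_irrSet.1 h
      have h5 := Z.lin_of_ker hI hab h2 h4
      exact ⟨h2, h3, h5, fun k hk => (h4 k hk).trans h5⟩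
  have hT2 : (T.card : ℝ) = e - 1 := by
    have := sum_irrSet_ker_sq' K
    rw [Finset.sum_congr rfl (g := fun _ => 1) fun μ h => by simp [(hT1 μ h).2.2.1],
      Z.index_zk' hab, Finset.sum_const, nsmul_eq_mul, mul_one] at this
    exact this
  let Y : T → IrrCharacter G := fun μ => ⟨indFun 𝓝 μ, Z.ind_irr hI hab ho (hT1 _ μ.2).1.isCharacter
    (hT1 _ μ.2).2.2.1 (hT1 _ μ.2).2.2.2 (hT1 _ μ.2).2.1⟩
  have hY : T.card ≤ 2 * (Finset.univ.image Y).card := by
    rw [← Fintype.card_coe, ← Finset.card_univ]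
    refine Finset.card_le_mul_card_image _ _ fun ψ hψ => ?_
    obtain ⟨μ, -, rfl⟩ := Finset.mem_image.1 hψ
    refine (Finset.card_le_card_of_injOn (t := {μ.1, fun g => conj (μ.1 g)}) Subtype.val
      (fun μ' h => ?_) Subtype.val_injective.injOn).trans Finset.card_le_two
    have h2 := (Y μ).2.classInner_self
    have h3 : indFun 𝓝 μ' = indFun 𝓝 μ := congrArg Subtype.val (Finset.mem_filter.1 h).2
    change classInner (indFun 𝓝 μ) (indFun 𝓝 μ) = 1 at h2
    nth_rw 2 [← h3] at h2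
    rw [Z.inner_ind_ind hI (hT1 _ μ.2).1.isCharacter (hT1 _ μ.2).2.2.1 (hT1 _ μ.2).2.2.2
      (hT1 _ μ'.2).2.2.1 (hT1 _ μ'.2).2.2.2] at h2
    by_contra h4
    simp only [Finset.coe_insert, Finset.coe_singleton, Set.mem_insert_iff, Set.mem_singleton_iff,
      not_or] at h4
    rw [(hT1 _ μ.2).1.classInner_of_ne (hT1 _ μ'.2).1 (Ne.symm h4.1),
      (hT1 _ μ.2).1.conj.classInner_of_ne (hT1 _ μ'.2).1 (Ne.symm h4.2)] at h2
    simp at h2
  have hc : IsCharacter G (χ * fun g => conj (χ g)) := hχ'.isCharacter.mul hχ'.isCharacter.conj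
  have hin : ∀ μ : 𝓝 → ℂ, (∀ k ∈ K, μ k = 1) →
      classInner (fun x : 𝓝 => (χ * fun g => conj (χ g)) x) μ = 1 := fun μ h => by
    rw [← (hirr _ hθ).classInner_self, classInner_def, classInner_def]
    refine congrArg _ (Finset.sum_congr rfl fun x _ => ?_)
    rw [Pi.mul_apply, show χ x = θ x from congrFun χN x]
    by_cases h2 : x ∈ K
    · rw [h x h2, map_one, mul_one]
    · simp [apply_eq_zero_of_mem_inducedIrrAbove hθ h2]
  obtain ⟨m, hm1, -⟩ := hc.exists_mult
  have hdeg := congrArg Complex.re (hc.isClassFunction.apply_eq_sum_irr 1)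
  have χ1 : χ 1 = e := (congrFun χN 1).trans θ1
  rw [Complex.re_sum] at hdeg
  have hY1 : irrOne G ∉ Finset.univ.image Y := fun h => by
    obtain ⟨μ, -, h2⟩ := Finset.mem_image.1 h
    have := congrFun (congrArg Subtype.val h2) 1
    change indFun 𝓝 μ 1 = 1 at this
    rw [indFun_one, (hT1 _ μ.2).2.2.1, mul_one, Z.index_stab] at this
    have h3 : n + 1 = 1 := by exact_mod_cast this
    omega
  have hle := Finset.sum_le_sum_of_subset_of_nonneg
    (f := fun ψ : IrrCharacter G => (classInner (χ * fun g => conj (χ g)) ψ * (ψ : G → ℂ) 1).re)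
    (Finset.subset_univ (insert (irrOne G) (Finset.univ.image Y))) fun ψ _ _ => by
      rw [hm1, ← Complex.ofReal_natCast, Complex.re_ofReal_mul]
      exact mul_nonneg (Nat.cast_nonneg _) ψ.2.isCharacter.re_one_nonneg
  rw [← hdeg, Finset.sum_insert hY1, Finset.sum_congr rfl (g := fun _ => (n + 1 : ℝ)) fun ψ h => by
    obtain ⟨μ, -, rfl⟩ := Finset.mem_image.1 h
    change (classInner _ (indFun 𝓝 μ) * indFun 𝓝 μ 1).re = _
    rw [classInner_indFun_right _ _ hc.isClassFunction, hin _ (hT1 _ μ.2).2.2.2, indFun_one,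
      (hT1 _ μ.2).2.2.1, Z.index_stab]
    simp [hn]] at hle
  have h11 : classInner (χ * fun g => conj (χ g)) (irrOne G : G → ℂ) = 1 := by
    rw [← hχ'.classInner_self, classInner_def, classInner_def]
    simp [irrOne]
  rw [h11, Finset.sum_const, nsmul_eq_mul, Pi.mul_apply, χ1] at hle
  have hY' : (T.card : ℝ) ≤ 2 * (Finset.univ.image Y).card := by exact_mod_cast hY
  have e1 : (1 : ℝ) < e := by exact_mod_cast (one_lt_card_iff_ne_bot _).2 h1
  simp only [irrOne, one_mul, Complex.one_re, map_natCast, ← Nat.cast_mul, Complex.natCast_re] at hle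
  push_cast at hle
  nlinarith

omit [Fintype (stabilizer G a)] [Fintype (zk' G a)] in
theorem isNilpotent_zk (hab : a ≠ b) (h1 : St2 G a b ≠ ⊥) : Group.IsNilpotent (zk G a) := by
  obtain ⟨r, hr, hr'⟩ := Nat.exists_prime_and_dvd (mt card_eq_one.1 h1)
  have := Fact.mk hr
  obtain ⟨g, hg⟩ := exists_prime_orderOf_dvd_card' (G := St2 G a b) r hr'
  rw [← orderOf_coe] at hg
  exact Core.isNilpotent_of_fpf_prime (r := g) (Z.St2_le_norm a b g.2) (hg ▸ hr)
    (Z.fpf hab _ g.2 fun e => hr.one_lt.ne' (by rw [← hg, e, orderOf_one]))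

omit [Fintype (stabilizer G a)] [Fintype (zk' G a)] in
theorem feit_simple [IsSimpleGroup G] (hab : a ≠ b) (h1 : St2 G a b ≠ ⊥) :
    Nat.card (zk G a) - 1 ≤ 2 * Nat.card (St2 G a b) ∨ Feit (zk G a) (Nat.card (St2 G a b)) := by
  classical
  rcases Nat.even_or_odd (Nat.card (St2 G a b)) with ho | ho
  · exact Or.inl (Z.large_of_even hab ho)
  have := Z.zk'_normal a
  have := Fintype.ofFinite (stabilizer G a)
  have := Fintype.ofFinite (zk' G a)
  have e := subgroupOfEquivOfLe (Z.zk_le a)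
  have hn : Group.IsNilpotent (zk' G a) :=
    have := Z.isNilpotent_zk hab h1
    Group.nilpotent_of_mulEquiv e.symm
  have hK1 : zk' G a ≠ ⊥ := fun h => Z.zk_ne_bot a (card_eq_one.1 (by rw [← Z.card_zk', h, card_bot]))
  have hK2 : zk' G a ≠ ⊤ := fun h => h1 (card_eq_one.1 (by rw [← Z.index_zk' hab, h, index_top]))
  rcases ((degIso_indLin_seqInd (Z.ti a) ⊥).preCoh fun φ =>
    isIrr_of_mem_inducedIrrAbove (Z.cent_zk' a)).feit hn hK1 hK2 (Z.cent_zk' a) with
    h | ⟨p, hp, ⟨m, h2⟩, h3, h4⟩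
  · exact Or.inl (Z.large_of_coh hab ho h1
      (not_le_commutator_sup_of_solvable inferInstance (mt le_bot_iff.1 hK1)) h)
  refine Or.inr (Feit.congr e ⟨p, hp, IsPGroup.of_card h2, fun h => h3 ?_, ?_⟩)
  · exact eq_bot_iff.2 (commutator_le.2 fun x hx y hy =>
      commutatorElement_eq_one_iff_mul_comm.2 (comm_of_mem h hx hy))
  · rwa [← Z.index_zk' hab, commutator_eq_subgroupOf]

end Z0

omit [Fintype G] in
/-- the kernel of a normal subgroup -/
theorem zk_sub [Finite G] (Z : Z0 G Ω) {N : Subgroup G} (h : ∀ a : Ω, zk G a ≤ N) (a : Ω) :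
    zk N a = (zk G a).subgroupOf N := by
  ext x
  rw [(Z.z0_subgroup h).mem_zk, mem_subgroupOf, Z.mem_zk, Subtype.ext_iff]
  rfl

omit [Fintype G] in
theorem card_St2_sub [Finite G] (N : Subgroup G) (a b : Ω) :
    Nat.card (St2 N a b) = Nat.card ↥(St2 G a b ⊓ N) := by
  rw [← card_subgroupOf_of_le (inf_le_right : St2 G a b ⊓ N ≤ N), inf_subgroupOf_right]
  rfl

universe u in
theorem feit_zas {G : Type u} [Group G] [MulAction G Ω] [Finite G] [Finite Ω]
    (hZ : IsZassenhausGroup G Ω) {a b : Ω} (hab : a ≠ b) :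
    Nat.card (zk G a) - 1 ≤ 2 * Nat.card (St2 G a b) ∨ Feit (zk G a) (Nat.card (St2 G a b)) := by
  induction' hn : Nat.card G using Nat.strong_induction_on with n ih generalizing G
  have Z := hZ.z0
  have := Fintype.ofFinite G
  by_cases hG : IsSimpleGroup G
  · exact Z.feit_simple hab (hZ.St2_ne_bot hab)
  obtain ⟨N, h1, h2, h3⟩ : ∃ N : Subgroup G, N.Normal ∧ N ≠ ⊥ ∧ N ≠ ⊤ := by
    by_contra h
    push Not at h
    have := (nontrivial_iff_ne_bot _).2 (Z.zk_ne_bot a)
    have := (zk G a).subtype_injective.nontrivial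
    exact hG ⟨fun N hN => or_iff_not_imp_left.2 (h N hN)⟩
  have h4 := hZ.zk_le N h2
  have h5 : Nat.card (St2 N a b) ≤ Nat.card (St2 G a b) := by
    rw [card_St2_sub]; exact card_le_of_le inf_le_left
  rcases ih _ (hn ▸ card_lt_of_ne_top h3) (s0339 hZ N h2) rfl with h | h
  · rw [zk_sub Z h4, card_subgroupOf_of_le (h4 a)] at h
    omega
  · rw [zk_sub Z h4] at h
    exact Or.inr ((h.congr (subgroupOfEquivOfLe (h4 a))).mono h5)

omit [Fintype G] in
theorem simple_of_half [Finite G] [Finite Ω] (hZ : IsZassenhausGroup G Ω) {a b : Ω} (hab : a ≠ b)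
    (hc : IsMulCommutative (zk G a)) (h : 2 * Nat.card (St2 G a b) + 1 = Nat.card (zk G a)) :
    IsSimpleGroup G := by
  have Z := hZ.z0
  have := (nontrivial_iff_ne_bot _).2 (Z.zk_ne_bot a)
  have := (zk G a).subtype_injective.nontrivial
  refine ⟨fun N hN => or_iff_not_imp_left.2 fun h2 => ?_⟩
  have h4 := hZ.zk_le N h2
  rcases feit_zas (s0339 hZ N h2) hab with h3 | ⟨p, -, -, h3, -⟩
  · rw [zk_sub Z h4, card_subgroupOf_of_le (h4 a), card_St2_sub] at h3
    refine Z.eq_top_of_St2_le h2 hab (h4 a) (inf_eq_left.1 ?_)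
    exact eq_of_le_of_card_ge inf_le_left (by omega)
  · rw [zk_sub Z h4] at h3
    exact absurd ⟨⟨fun x y => Subtype.ext (Subtype.ext (comm_of_mem hc x.2 y.2))⟩⟩ h3

omit [Fintype G] in
theorem zas_comm [Finite G] [Finite Ω] (hZ : IsZassenhausGroup G Ω) {a b : Ω} (hab : a ≠ b)
    (hc : IsMulCommutative (zk G a)) : Nat.card (St2 G a b) + 1 = Nat.card (zk G a) ∨
      2 * Nat.card (St2 G a b) + 1 = Nat.card (zk G a) ∧
      ∃ (F : Type) (_ : Field F) (_ : Fintype F), Fintype.card F = Nat.card (zk G a) ∧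
        Nonempty (G ≃* PSL(2, F)) := by
  have Z := hZ.z0
  rcases feit_zas hZ hab with h | ⟨p, -, -, h, -⟩
  · refine (Z.half_or_full hab h).symm.imp_right fun h => ⟨h, ?_⟩
    have := simple_of_half hZ hab hc h
    exact Z.psl_of_half hab (Z.invE_simple hab) h
  · exact absurd hc h

theorem s0731 {G Ω : Type*} [Group G] [Finite G] [MulAction G Ω] [Finite Ω] (hZ : Cfsg.IsZassenhausGroup G Ω) (x : Ω) (F : Subgroup G) (hFle : F ≤ MulAction.stabilizer G x) (hFn : (F.subgroupOf (MulAction.stabilizer G x)).Normal) (hFab : IsMulCommutative F) (hreg : ∀ y z : Ω, y ≠ x → z ≠ x → ∃! u : F, (u : G) • y = z) : (MulAction.IsMultiplyPretransitive G Ω 3 ∧ ∀ t : Fin 3 ↪ Ω, MulAction.stabilizer G t = ⊥) ∨ ∃ (K : Type) (_ : Field K) (_ : Fintype K), ringChar K ≠ 2 ∧ Nonempty (G ≃* Matrix.ProjectiveSpecialLinearGroup (Fin 2) K) := by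
  have Z := hZ.z0
  obtain rfl := Z.eq_zk_of_reg hFle hreg
  obtain ⟨b, hb⟩ := Z.exists_ne x
  rcases zas_comm hZ hb.symm hFab with h | ⟨h, K, _, _, h1, h2⟩
  · exact Or.inl ⟨tr3_iff.1 ((Z.tr3_iff_card hb.symm).2 h), Z.sharp⟩
  · refine Or.inr ⟨K, _, ‹_›, fun h3 => ?_, h2⟩
    have := FiniteField.even_card_of_char_two h3
    omega

theorem s0346 {G Ω : Type*} [Group G] [Finite G] [MulAction G Ω] [Fintype Ω]
    (hZ : Cfsg.IsZassenhausGroup G Ω) [IsSimpleGroup G] :
    IsPrimePow (Fintype.card Ω - 1) := by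
  have Z := hZ.z0
  obtain ⟨-, -, -, ⟨g, -, a, b, hab, -⟩, -⟩ := id hZ
  rw [← Nat.card_eq_fintype_card, ← Z.card_zk a, Nat.add_sub_cancel]
  have h2 := Z.two_le_card_zk a
  obtain ⟨p, f, hp, h⟩ : ∃ p f : ℕ, p.Prime ∧ Nat.card (zk G a) = p ^ f := by
    rcases feit_zas hZ hab with h | ⟨p, hp, h, -⟩
    · obtain ⟨-, p, f, hp, -, h⟩ := Z.elem_of_large hab h
      exact ⟨p, f, hp, h⟩
    · have := Fact.mk hp
      obtain ⟨f, h⟩ := IsPGroup.iff_card.1 h
      exact ⟨p, f, hp, h⟩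
  exact ⟨p, f, hp.prime, Nat.pos_of_ne_zero (by rintro rfl; simp [h] at h2), h.symm⟩

theorem s0881 {G Ω : Type*} [Group G] [Fintype G] [MulAction G Ω] [Fintype Ω] (hZ : Cfsg.IsZassenhausGroup G Ω) {a b : Ω} (hab : a ≠ b) [IsSimpleGroup G] (hodd : Odd (Nat.card ↥(MulAction.stabilizer G a ⊓ MulAction.stabilizer G b : Subgroup G))) (hlt : Nat.card ↥(MulAction.stabilizer G a ⊓ MulAction.stabilizer G b : Subgroup G) < Fintype.card Ω - 2) (H : Subgroup G) (hHa : H ≤ MulAction.stabilizer G a) (hHcard : Nat.card H + 1 = Fintype.card Ω) (hHfix : ∀ u ∈ H, u ≠ 1 → ∀ c : Ω, u • c = c → c = a) (μ : MulAction.stabilizer G a → ℂ) (hμ : Cfsg.IsCharacter (MulAction.stabilizer G a) μ ∧ μ 1 = 1) (hμH : ∀ u : MulAction.stabilizer G a, (u : G) ∈ H → μ u = 1) (hμne : μ ≠ fun _ => 1) : Cfsg.IsIrrCharacter G (Cfsg.indFun (MulAction.stabilizer G a) μ) ∧ ∀ u ∈ H, u ≠ 1 → Cfsg.indFun (MulAction.stabilizer G a) μ u = 1 := by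
  classical
  have Z := hZ.z0
  obtain rfl := Z.eq_zk_of_card hHa (hHcard.trans Nat.card_eq_fintype_card.symm) hHfix
  have := Fintype.ofFinite (stabilizer G a)
  have := Fintype.ofFinite (zk' G a)
  have hI := Z.invE_of_simple hab hodd
  refine ⟨Z.ind_irr hI hab hodd hμ.1 hμ.2 hμH hμne, fun u hu h => ?_⟩
  have := Z.ind_apply hI hμ.1 hμ.2 hμH ⟨u, hHa hu⟩
  rw [if_neg fun e => h (congrArg Subtype.val e), if_pos (by exact hu), hμH _ hu] at this
  simpa using this

end Cfsg.Agent.Inv
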