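import Cfsg.Agent.Inv.Zas7
import Cfsg.Agent.Char.Sibley

/-! Zassenhaus groups with odd two-point stabilizers: the kernel is a 2-group or small. -/

set_option autoImplicit false
set_option linter.unusedVariables false
set_option linter.unusedSectionVars false

namespace Cfsg.Agent.Inv

open Subgroup MulAction Cfsg.Agent.PLoc Cfsg.Agent.Char
open scoped MatrixGroups IsMulCommutative ComplexConjugate

variable {G Ω : Type*} [Group G] [MulAction G Ω]

theorem Z0.large_of_odd [Finite G] (Z : Z0 G Ω) {a b : Ω} [IsSimpleGroup G] (hab : a ≠ b)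
    (h1 : St2 G a b ≠ ⊥) (ho : Odd (Nat.card (St2 G a b))) (h2 : Odd (Nat.card (zk G a))) :
    Nat.card (zk G a) - 1 ≤ 2 * Nat.card (St2 G a b) := by
  classical
  have := Fintype.ofFinite G
  have := Z.zk'_normal a
  have := Fintype.ofFinite (stabilizer G a)
  have := Fintype.ofFinite (zk' G a)
  have e := subgroupOfEquivOfLe (Z.zk_le a)
  have hn : Group.IsNilpotent (zk' G a) :=
    have := Z.isNilpotent_zk hab h1
    Group.nilpotent_of_mulEquiv e.symm
  have hK1 : zk' G a ≠ ⊥ := fun h => Z.zk_ne_bot a (card_eq_one.1 (by rw [← Z.card_zk', h, card_bot]))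
  refine Z.large_of_coh hab ho h1
    (not_le_commutator_sup_of_solvable inferInstance (mt le_bot_iff.1 hK1))
    (sibley_frobenius (fun _ _ _ _ => rfl) (by rw [Z.card_stab hab]; exact ho.mul h2)
      (fun g hg x hx y hy e => Subtype.ext (Z.ti a g hg x hx (e ▸ hy))) hn (Z.cent_zk' a))

universe u in
theorem large_of_odd {G : Type u} [Group G] [MulAction G Ω] [Finite G] [Finite Ω]
    (hZ : IsZassenhausGroup G Ω) {a b : Ω} (hab : a ≠ b) (ho : Odd (Nat.card (St2 G a b)))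
    (h2 : Odd (Nat.card (zk G a))) : Nat.card (zk G a) - 1 ≤ 2 * Nat.card (St2 G a b) := by
  induction' hn : Nat.card G using Nat.strong_induction_on with n ih generalizing G
  have Z := hZ.z0
  by_cases hG : IsSimpleGroup G
  · exact Z.large_of_odd hab (hZ.St2_ne_bot hab) ho h2
  obtain ⟨N, h1, h2', h3⟩ : ∃ N : Subgroup G, N.Normal ∧ N ≠ ⊥ ∧ N ≠ ⊤ := by
    by_contra h
    push Not at h
    have := (nontrivial_iff_ne_bot _).2 (Z.zk_ne_bot a)
    have := (zk G a).subtype_injective.nontrivial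
    exact hG ⟨fun N hN => or_iff_not_imp_left.2 (h N hN)⟩
  have h4 := hZ.zk_le N h2'
  have h5 : Nat.card (St2 N a b) ∣ Nat.card (St2 G a b) := by
    rw [card_St2_sub]; exact card_dvd_of_le inf_le_left
  have h := ih _ (hn ▸ card_lt_of_ne_top h3) (s0339 hZ N h2') (ho.of_dvd_nat h5)
    (by rwa [zk_sub Z h4, card_subgroupOf_of_le (h4 a)]) rfl
  rw [zk_sub Z h4, card_subgroupOf_of_le (h4 a)] at h
  have := Nat.le_of_dvd Nat.card_pos h5
  omega

theorem feit_two [Finite G] [Finite Ω] (hZ : IsZassenhausGroup G Ω) {a b : Ω} (hab : a ≠ b)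
    (ho : Odd (Nat.card (St2 G a b))) : Nat.card (zk G a) - 1 ≤ 2 * Nat.card (St2 G a b) ∨
      (IsPGroup 2 (zk G a) ∧ ¬ IsMulCommutative (zk G a) ∧
        (commutator (zk G a)).index ≤ 4 * Nat.card (St2 G a b) ^ 2 + 1) := by
  rcases Nat.even_or_odd (Nat.card (zk G a)) with h2 | h2
  · refine (feit_zas hZ hab).imp_right fun ⟨p, hp, h3, h4⟩ => ⟨?_, h4⟩
    have := Fact.mk hp
    obtain ⟨k, hk⟩ := h3.exists_card_eq
    rw [hk] at h2
    rwa [(hp.even_iff).1 (Nat.even_pow.1 h2).1] at h3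
  · exact Or.inl (large_of_odd hZ hab ho h2)

theorem s0885 {G Ω : Type*} [Group G] [Finite G] [MulAction G Ω] [Fintype Ω] (hZ : Cfsg.IsZassenhausGroup G Ω) {a b : Ω} (hab : a ≠ b) (h e : ℕ) (hh : Fintype.card Ω = h + 1) (he : Nat.card ↥(MulAction.stabilizer G a ⊓ MulAction.stabilizer G b : Subgroup G) = e) (hodd : Odd e) (H : Subgroup G) (hHa : H ≤ MulAction.stabilizer G a) (hHcard : Nat.card H + 1 = Fintype.card Ω) (hHfix : ∀ u ∈ H, u ≠ 1 → ∀ c : Ω, u • c = c → c = a) : h - 1 ≤ 2 * e ∨ (IsPGroup 2 H ∧ (∃ u v : H, u * v ≠ v * u) ∧ (commutator H).index ≤ 4 * e ^ 2 + 1) := by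
  have Z := hZ.z0
  obtain rfl := Z.eq_zk_of_card hHa (by rwa [Nat.card_eq_fintype_card (α := Ω)]) hHfix
  obtain rfl : h = Nat.card (zk G a) := by omega
  subst he
  refine (feit_two hZ hab hodd).imp_right fun ⟨h1, h2, h3⟩ => ⟨h1, ?_, h3⟩
  by_contra h4
  push Not at h4
  exact h2 ⟨⟨h4⟩⟩

end Cfsg.Agent.Inv
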